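import Cfsg.Statements.S5966
import Cfsg.Agent.EqLemmas
import Cfsg.Agent.Lib.PrimeOrderElt.Subfield

set_option autoImplicit false
open scoped MatrixGroups
open Cfsg

namespace Cfsg.Agent.S5966

open Cfsg.Agent.PrimeOrderElt Module

variable {F : Type*} [Field F]

/-- The model matrix with all Jordan blocks of size two. -/
abbrev J0 (R : Type*) [CommRing R] {m n : ℕ} (e : Fin m ⊕ Fin m ≃ Fin n) : Matrix (Fin n) (Fin n) R :=
  Matrix.reindexAlgEquiv ℕ R e (Matrix.fromBlocks 0 1 0 0)

theorem J0_map {m n : ℕ} (e : Fin m ⊕ Fin m ≃ Fin n) {K : Subfield F} :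
    (J0 K e).map K.subtype = J0 F e := by
  ext a b
  rw [Matrix.map_apply]
  simp only [J0, Matrix.coe_reindexAlgEquiv, Matrix.reindex_apply, Matrix.submatrix_apply]
  rcases e.symm a with i | i <;> rcases e.symm b with j | j <;>
    simp [Matrix.one_apply, apply_ite (K.subtype)]

theorem J0_sq {m n : ℕ} (e : Fin m ⊕ Fin m ≃ Fin n) : J0 F e * J0 F e = 0 := by
  rw [J0, ← map_mul, Matrix.fromBlocks_multiply]
  simp

theorem J0_ker {m n : ℕ} (e : Fin m ⊕ Fin m ≃ Fin n) (v : Fin n → F) (hv : (J0 F e).mulVec v = 0) :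
    ∃ w, (J0 F e).mulVec w = v := by
  have hv' : ∀ i : Fin m, v (e (Sum.inr i)) = 0 := fun i => by
    have := congrFun hv (e (Sum.inl i))
    simpa [J0, Matrix.submatrix_mulVec_equiv, Matrix.fromBlocks_mulVec] using this
  refine ⟨fun a => Sum.elim (fun _ => 0) (fun i => v (e (Sum.inl i))) (e.symm a), funext fun a => ?_⟩
  obtain ⟨s, rfl⟩ := e.surjective a
  rcases s with i | i
  · simp [J0, Matrix.submatrix_mulVec_equiv, Matrix.fromBlocks_mulVec, Function.comp_def]
  · simp [J0, Matrix.submatrix_mulVec_equiv, Matrix.fromBlocks_mulVec, Function.comp_def, hv' i]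

/-- The centraliser of the model has square determinants. -/
theorem det_of_commute {m n : ℕ} (e : Fin m ⊕ Fin m ≃ Fin n) (T : Matrix (Fin n) (Fin n) F)
    (h : T * J0 F e = J0 F e * T) : IsSquare T.det := by
  obtain ⟨T', rfl⟩ := (Matrix.reindexAlgEquiv ℕ F e).surjective T
  rw [J0, ← map_mul, ← map_mul] at h
  have h' := (Matrix.reindexAlgEquiv ℕ F e).injective h
  obtain ⟨A, B, C, D, rfl⟩ : ∃ A B C D, Matrix.fromBlocks A B C D = T' :=
    ⟨_, _, _, _, Matrix.fromBlocks_toBlocks T'⟩
  simp only [Matrix.fromBlocks_multiply, mul_zero, zero_mul, mul_one, one_mul, add_zero, zero_add,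
    Matrix.fromBlocks_inj] at h'
  obtain ⟨h1, h2, -, -⟩ := h'
  rw [Matrix.det_reindexAlgEquiv, ← h1, Matrix.det_fromBlocks_zero₂₁, h2]
  exact ⟨_, rfl⟩

/-- Square zero with kernel in the image is conjugate to the model. -/
theorem exists_conj_model {m n : ℕ} (e : Fin m ⊕ Fin m ≃ Fin n) (N : Matrix (Fin n) (Fin n) F)
    (h2 : N * N = 0) (hk : ∀ v, N.mulVec v = 0 → ∃ w, N.mulVec w = v) :
    ∃ Q : Matrix (Fin n) (Fin n) F, Q.det ≠ 0 ∧ N * Q = Q * J0 F e := by
  classical
  set g : Module.End F (Fin n → F) := Matrix.toLin' N with hg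
  have hgg : ∀ v, g (g v) = 0 := fun v => by
    show N.mulVec (N.mulVec v) = 0
    rw [Matrix.mulVec_mulVec, h2, Matrix.zero_mulVec]
  have hkr : LinearMap.ker g = LinearMap.range g :=
    le_antisymm (fun v hv => hk v hv) (by rintro _ ⟨w, rfl⟩; exact hgg w)
  obtain ⟨X, hX⟩ := Submodule.exists_isCompl (LinearMap.ker g)
  have hnm : n = m + m := by simpa using (Fintype.card_congr e).symm
  have hXd : finrank F X = m := by
    have h1 := LinearMap.finrank_range_add_finrank_ker g
    have h3 := Submodule.finrank_add_eq_of_isCompl hX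
    rw [Module.finrank_fin_fun] at h1 h3
    rw [← hkr] at h1
    omega
  let bX := Module.finBasisOfFinrankEq F X hXd
  let q : Fin m ⊕ Fin m → (Fin n → F) := Sum.elim (fun i => g (bX i)) (fun i => (bX i : Fin n → F))
  have hind : LinearIndependent F q := by
    rw [Fintype.linearIndependent_iff]
    intro c hc
    simp only [Fintype.sum_sum_type, q, Sum.elim_inl, Sum.elim_inr] at hc
    have h1 := congrArg g hc
    simp only [map_add, map_sum, map_smul, hgg, smul_zero, Finset.sum_const_zero, zero_add, map_zero] at h1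
    have hzero : ∀ d : Fin m → F, g (∑ i, d i • (bX i : Fin n → F)) = 0 → ∀ i, d i = 0 := by
      intro d hd
      have hmem : ∑ i, d i • (bX i : Fin n → F) ∈ LinearMap.ker g ⊓ X :=
        ⟨hd, X.sum_mem fun i _ => X.smul_mem _ (bX i).2⟩
      rw [hX.inf_eq_bot, Submodule.mem_bot] at hmem
      refine Fintype.linearIndependent_iff.mp bX.linearIndependent d (Subtype.ext ?_)
      simpa using hmem
    have hr : ∀ i, c (Sum.inr i) = 0 := hzero _ (by simpa [map_sum, map_smul] using h1)
    simp only [hr, zero_smul, Finset.sum_const_zero, add_zero] at hc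
    have hl : ∀ i, c (Sum.inl i) = 0 := hzero _ (by simpa [map_sum, map_smul] using hc)
    rintro (i | i)
    exacts [hl i, hr i]
  let Q : Matrix (Fin n) (Fin n) F := Matrix.of fun a b => q (e.symm b) a
  refine ⟨Q, ?_, ?_⟩
  · intro h0
    have hu : LinearIndependent F Q.col := hind.comp _ e.symm.injective
    exact (Matrix.isUnit_iff_isUnit_det Q).mp (Matrix.linearIndependent_cols_iff_isUnit.mp hu) |>.ne_zero h0
  · refine Matrix.ext_of_mulVec_single fun b => ?_
    rw [← Matrix.mulVec_mulVec, ← Matrix.mulVec_mulVec]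
    obtain ⟨s, rfl⟩ := e.surjective b
    have hQ : ∀ t, Q.mulVec (Pi.single (e t) 1) = q t := fun t => by
      ext a; simp [Q, Matrix.mulVec_single_one, Matrix.col_apply]
    rcases s with i | i
    · rw [hQ]
      have : (J0 F e).mulVec (Pi.single (e (Sum.inl i)) 1) = 0 := by
        ext a
        obtain ⟨t, rfl⟩ := e.surjective a
        rcases t with j | j <;> simp [J0, Matrix.mulVec_single_one, Matrix.col_apply]
      rw [this, Matrix.mulVec_zero]
      exact hgg _
    · rw [hQ]
      have : (J0 F e).mulVec (Pi.single (e (Sum.inr i)) 1) = Pi.single (e (Sum.inl i)) 1 := by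
        ext a
        obtain ⟨t, rfl⟩ := e.surjective a
        rcases t with j | j <;> simp [J0, Matrix.mulVec_single_one, Matrix.col_apply, Pi.single_apply, Matrix.one_apply]
      rw [this, hQ]
      rfl

variable [Fintype F]

/-- Powers `(q - 1)/2` of elements of the subfield. -/
theorem subfield_euler [CharP F 3] {F₀ : Subfield F} {k q₀ : ℕ} (hF₀ : Nat.card ↥F₀ = q₀)
    (hqk : Fintype.card F = q₀ ^ k) (d : F) (hd : d ∈ F₀) (hd0 : d ≠ 0) :
    ∃ u : F, (u = 1 ∨ u = -1) ∧ d ^ (Fintype.card F / 2) = u ^ k ∧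
      ((¬ ∃ s ∈ F₀, s * s = d) → u = -1) := by
  classical
  letI : Fintype F₀ := Fintype.ofFinite F₀
  rw [Nat.card_eq_fintype_card] at hF₀
  have h2F : ringChar F ≠ 2 := by rw [ringChar.eq F 3]; omega
  have h20 : ringChar F₀ ≠ 2 := by rw [ringChar.eq F₀ 3]; omega
  have hodd : q₀ % 2 = 1 := hF₀ ▸ FiniteField.odd_card_of_char_ne_two h20
  set d' : F₀ := ⟨d, hd⟩
  have hd'0 : d' ≠ 0 := fun h => hd0 (congrArg Subtype.val h)
  refine ⟨((d' ^ (q₀ / 2) : F₀) : F), ?_, ?_, ?_⟩
  · have h := FiniteField.pow_dichotomy h20 hd'0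
    rw [hF₀] at h
    exact h.imp (fun h => by rw [h]; rfl) (fun h => by rw [h]; rfl)
  · have hS : ∀ k : ℕ, ∃ S, q₀ ^ k / 2 = q₀ / 2 * S ∧ S % 2 = k % 2 ∧ q₀ ^ k % 2 = 1 := by
      intro k
      induction k with
      | zero => exact ⟨0, by simp, rfl, rfl⟩
      | succ k ih =>
        obtain ⟨S, hS, hpar, ho⟩ := ih
        obtain ⟨a, ha⟩ : ∃ a, q₀ = 2 * a + 1 := ⟨q₀ / 2, by omega⟩
        refine ⟨S * q₀ + 1, ?_, ?_, ?_⟩
        · rw [pow_succ]
          have hS' : q₀ ^ k = 2 * (q₀ / 2 * S) + 1 := by omega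
          rw [hS', ha, show (2 * a + 1) / 2 = a by omega]
          have : (2 * (a * S) + 1) * (2 * a + 1) = 2 * (a * (S * (2 * a + 1) + 1)) + 1 := by ring
          omega
        · rw [Nat.add_mod, Nat.mul_mod, hodd, Nat.mul_one, Nat.mod_mod, hpar]; omega
        · rw [pow_succ, Nat.mul_mod, ho, hodd]
    obtain ⟨S, hS, hpar, -⟩ := hS k
    rw [hqk, hS, pow_mul, SubmonoidClass.coe_pow]
    have hu := FiniteField.pow_dichotomy h20 hd'0
    rw [hF₀] at hu
    rcases hu with hu | hu
    · have : d ^ (q₀ / 2) = 1 := congrArg Subtype.val hu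
      rw [this, one_pow, one_pow]
    · have : d ^ (q₀ / 2) = -1 := congrArg Subtype.val hu
      rw [this, neg_one_pow_eq_pow_mod_two, hpar, ← neg_one_pow_eq_pow_mod_two]
  · intro hns
    have hu := FiniteField.pow_dichotomy h20 hd'0
    rw [hF₀] at hu
    rcases hu with hu | hu
    · refine absurd ?_ hns
      obtain ⟨s, hs⟩ := (FiniteField.isSquare_iff h20 hd'0).mpr (by rw [hF₀]; exact hu)
      exact ⟨s.1, s.2, (congrArg Subtype.val hs).symm⟩
    · rw [hu]; rfl

theorem cube_root [CharP F 3] (a : F) : ∃ b : F, b ^ 3 = a := by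
  have : Fact (Nat.Prime 3) := ⟨Nat.prime_three⟩
  exact exists_root (r := 3) (by rw [← pow_one (Fintype.card F)]; exact not_dvd_pow_sub_one Nat.one_pos) a


set_option maxHeartbeats 1600000 in
/-- Elements of order 3 of PSL_n(q) in characteristic 3 and subfield subgroups. Here `T = PSL_n(F)` for a field `F` with `q` elements, `q` a power of 3 (`n ≥ 2`, `(n, q) ≠ (2, 2), (2, 3)`), `F₀` is the subfield with `q₀` elements where `q = q₀^k` for a prime `k`, and `H` is the subgroup of matrices of determinant 1 lying in the subfield group of `F₀` (invertible matrices over `F₀` times scalars) — a maximal subgroup of type GL_n(q₀) (the case `n = 2`, `q₀ = 2` is excluded); Ω is the set of `T`-conjugates of `H` (cosets of `H`), so an element of `T` of prime order `r` (a matrix `x` of determinant 1 with `x^r` scalar, `x` not scalar) fixes a point of Ω when some conjugate of `x` by a matrix of determinant 1 lies in `H`. Suppose 3 divides the index of `H`. Then every element of `T` of order 3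 is conjugate in `T` into `H` if and only if `n` is odd, or `n` is even and `k > 2`. -/
theorem result {F : Type*} [Field F] [Fintype F] [CharP F 3] {q : ℕ} (hq : Fintype.card F = q)
    (n : ℕ) (hn : 2 ≤ n) (hT : (n, q) ≠ (2, 3))
    (F₀ : Subfield F) (k q₀ : ℕ) (hk : k.Prime) (hF₀ : Nat.card ↥F₀ = q₀) (hqk : q = q₀ ^ k) (hC5 : ¬ (n = 2 ∧ q₀ = 2)) (hΩ : 3 ∣ ((Cfsg.Geo.subfieldSubgroup F₀ 1).comap (Matrix.SpecialLinearGroup.toGL : Matrix.SpecialLinearGroup (Fin n) F →* GL (Fin n) F)).index) :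
    (∀ x : Matrix.SpecialLinearGroup (Fin n) F,
      (∃ z : F, ((x ^ 3 : Matrix.SpecialLinearGroup (Fin n) F) : Matrix (Fin n) (Fin n) F) = z • (1 : Matrix (Fin n) (Fin n) F)) →
      (∀ z : F, (x : Matrix (Fin n) (Fin n) F) ≠ z • (1 : Matrix (Fin n) (Fin n) F)) →
      ∃ P : Matrix.SpecialLinearGroup (Fin n) F, P⁻¹ * x * P ∈ ((Cfsg.Geo.subfieldSubgroup F₀ 1).comap (Matrix.SpecialLinearGroup.toGL : Matrix.SpecialLinearGroup (Fin n) F →* GL (Fin n) F))) ↔
    (Odd n ∨ (Even n ∧ 2 < k)) := by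
  classical
  have : Fact (Nat.Prime 3) := ⟨Nat.prime_three⟩
  subst hq
  have h2F : ringChar F ≠ 2 := by rw [ringChar.eq F 3]; omega
  have hne : Nonempty (Fin n) := ⟨⟨0, by omega⟩⟩
  constructor
  · intro h
    by_contra hcon
    push Not at hcon
    have hne' : Even n := Nat.not_odd_iff_even.mp hcon.1
    obtain rfl : k = 2 := le_antisymm (hcon.2 hne') hk.two_le
    obtain ⟨m, hm⟩ := hne'
    let e : Fin m ⊕ Fin m ≃ Fin n := finSumFinEquiv.trans (finCongr hm.symm)
    obtain ⟨d, hd⟩ := FiniteField.exists_nonsquare h2F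
    have hd0 : d ≠ 0 := fun h0 => hd (by rw [h0]; exact IsSquare.zero)
    let D : Matrix (Fin n) (Fin n) F := Matrix.diagonal (Function.update 1 ⟨0, by omega⟩ d)
    let D' : Matrix (Fin n) (Fin n) F := Matrix.diagonal (Function.update 1 ⟨0, by omega⟩ d⁻¹)
    have hDdet : D.det = d := by
      rw [Matrix.det_diagonal, Finset.prod_update_of_mem (Finset.mem_univ _)]; simp
    have hDD' : D * D' = 1 := by
      rw [Matrix.diagonal_mul_diagonal, ← Matrix.diagonal_one]
      congr 1
      ext a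
      by_cases ha : a = ⟨0, by omega⟩
      · subst ha; simp [hd0]
      · simp [Function.update_of_ne ha]
    have hD'D : D' * D = 1 := mul_eq_one_comm.mp hDD'
    set N : Matrix (Fin n) (Fin n) F := D * J0 F e * D' with hN
    have hN2 : N * N = 0 := by
      calc N * N = D * (J0 F e * (D' * D) * J0 F e) * D' := by rw [hN]; noncomm_ring
        _ = 0 := by rw [hD'D, mul_one, J0_sq, mul_zero, zero_mul]
    have : CharP (Matrix (Fin n) (Fin n) F) 3 := inferInstance
    have hcube : (N + 1) ^ 3 = 1 := by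
      rw [add_pow_char_of_commute 3 (Commute.one_right N), one_pow, show N ^ 3 = N * N * N by rw [pow_succ, pow_two],
        hN2, zero_mul, zero_add]
    have hdetx : (N + 1).det = 1 := eq_one_of_pow_char (p := 3) (by rw [← Matrix.det_pow, hcube, Matrix.det_one])
    let x : Matrix.SpecialLinearGroup (Fin n) F := ⟨N + 1, hdetx⟩
    have hxp : ((x ^ 3 : Matrix.SpecialLinearGroup (Fin n) F) : Matrix (Fin n) (Fin n) F) = (1 : F) • 1 := by
      rw [Matrix.SpecialLinearGroup.coe_pow, one_smul]; exact hcube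
    have hns : ∀ z : F, (x : Matrix (Fin n) (Fin n) F) ≠ z • 1 := by
      intro z hz
      have h1 : N = (z - 1) • (1 : Matrix (Fin n) (Fin n) F) := by
        rw [sub_smul, one_smul, ← hz]; exact (add_sub_cancel_right N 1).symm
      have h2 : J0 F e = (z - 1) • (1 : Matrix (Fin n) (Fin n) F) := by
        calc J0 F e = (D' * D) * J0 F e * (D' * D) := by rw [hD'D, one_mul, mul_one]
          _ = D' * N * D := by rw [hN]; noncomm_ring
          _ = _ := by rw [h1, Matrix.mul_smul, mul_one, Matrix.smul_mul, hD'D]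
      have hm0 : 0 < m := by omega
      have := congr_fun (congr_fun h2 (e (Sum.inl ⟨0, hm0⟩))) (e (Sum.inr ⟨0, hm0⟩))
      simp [J0] at this
    obtain ⟨P, hP⟩ := h x ⟨1, hxp⟩ hns
    rw [Subgroup.mem_comap, mem_subfieldSubgroup_one] at hP
    obtain ⟨g, c, hg⟩ := hP
    have hgx : ((P⁻¹ : Matrix.SpecialLinearGroup (Fin n) F) : Matrix (Fin n) (Fin n) F) * (N + 1) * P =
        (c : F) • (g : Matrix (Fin n) (Fin n) F₀).map F₀.subtype := hg
    set Pi' : Matrix (Fin n) (Fin n) F := ((P⁻¹ : Matrix.SpecialLinearGroup (Fin n) F) : Matrix (Fin n) (Fin n) F)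
    set Pm : Matrix (Fin n) (Fin n) F := (P : Matrix (Fin n) (Fin n) F)
    have hPP' : Pi' * Pm = 1 := by
      rw [← Matrix.SpecialLinearGroup.coe_mul, inv_mul_cancel, Matrix.SpecialLinearGroup.coe_one]
    have hP'P : Pm * Pi' = 1 := mul_eq_one_comm.mp hPP'
    -- the scalar lies in the subfield
    have hc : (c : F) ∈ F₀ := by
      have h3 : ((c : F) • (g : Matrix (Fin n) (Fin n) F₀).map F₀.subtype) ^ 3 = 1 := by
        rw [← hgx]
        calc (Pi' * (N + 1) * Pm) ^ 3 = Pi' * ((N + 1) * (Pm * Pi') * (N + 1) * (Pm * Pi') * (N + 1)) * Pm := by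
              noncomm_ring
          _ = 1 := by
              rw [hP'P, mul_one, mul_one, show (N + 1) * (N + 1) * (N + 1) = (N + 1) ^ 3 by rw [pow_succ, pow_two],
                hcube, mul_one, hPP']
      rw [smul_pow, ← Matrix.map_pow, ] at h3
      have h4 := congr_fun (congr_fun h3 ⟨0, by omega⟩) ⟨0, by omega⟩
      rw [Matrix.smul_apply, Matrix.map_apply, smul_eq_mul, Matrix.one_apply_eq] at h4
      have hc3 : (c : F) ^ 3 ∈ F₀ := by
        rw [eq_inv_of_mul_eq_one_left h4]
        exact F₀.inv_mem (SetLike.coe_mem _)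
      letI : Fintype F₀ := Fintype.ofFinite F₀
      obtain ⟨b, hb⟩ := cube_root (F := F₀) ⟨_, hc3⟩
      have hb' : (b : F) ^ 3 = (c : F) ^ 3 := congrArg Subtype.val hb
      have : ((c : F) - b) ^ 3 = 0 := by rw [sub_pow_char, hb', sub_self]
      rw [sub_eq_zero.mp (pow_eq_zero_iff (by omega) |>.mp this)]
      exact b.2
    set N₁ : Matrix (Fin n) (Fin n) F₀ := (⟨c, hc⟩ : F₀) • (g : Matrix (Fin n) (Fin n) F₀) - 1 with hN₁
    have hN₁map : N₁.map F₀.subtype = Pi' * N * Pm := by
      rw [hN₁, Matrix.map_sub _ (map_sub _), Matrix.map_one _ (map_zero _) (map_one _),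
        Matrix.map_smul' _ _ _ (map_mul _)]
      show (c : F) • (g : Matrix (Fin n) (Fin n) F₀).map F₀.subtype - 1 = _
      rw [← hgx, mul_add, add_mul, mul_one, hPP', add_sub_cancel_right]
    have hN₁sq : N₁ * N₁ = 0 := by
      refine Matrix.map_injective Subtype.val_injective ?_
      show (N₁ * N₁).map F₀.subtype = (0 : Matrix (Fin n) (Fin n) F₀).map F₀.subtype
      rw [Matrix.map_mul, hN₁map, Matrix.map_zero _ (map_zero _)]
      calc Pi' * N * Pm * (Pi' * N * Pm) = Pi' * (N * (Pm * Pi') * N) * Pm := by noncomm_ring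
        _ = 0 := by rw [hP'P, mul_one, hN2, mul_zero, zero_mul]
    obtain ⟨π, hπ⟩ := LinearMap.exists_leftInverse_of_injective (Algebra.linearMap F₀ F)
      (LinearMap.ker_eq_bot.mpr (algebraMap F₀ F).injective)
    have hπ' : ∀ a : F₀, π (a : F) = a := fun a => LinearMap.congr_fun hπ a
    have hN₁k : ∀ v, N₁.mulVec v = 0 → ∃ w, N₁.mulVec w = v := by
      intro v hv
      set v' : Fin n → F := fun a => (v a : F)
      have hv' : (N₁.map F₀.subtype).mulVec v' = 0 := by
        ext a
        have := congrArg F₀.subtype (congrFun hv a)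
        rw [RingHom.map_mulVec] at this
        exact this.trans (map_zero _)
      rw [hN₁map] at hv'
      have hz : (J0 F e).mulVec (D'.mulVec (Pm.mulVec v')) = 0 := by
        have h1 := congrArg (fun u => D'.mulVec (Pm.mulVec u)) hv'
        simp only [Matrix.mulVec_zero, Matrix.mulVec_mulVec] at h1
        rw [Matrix.mulVec_mulVec, Matrix.mulVec_mulVec, ← h1]
        congr 1
        calc J0 F e * D' * Pm = (D' * D) * J0 F e * D' * Pm := by rw [hD'D]; noncomm_ring
          _ = D' * ((Pm * Pi') * N * Pm) := by rw [hP'P, hN]; noncomm_ring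
          _ = D' * (Pm * (Pi' * N * Pm)) := by noncomm_ring
      obtain ⟨w, hw⟩ := J0_ker e _ hz
      set w' : Fin n → F := Pi'.mulVec (D.mulVec w)
      have hw' : (N₁.map F₀.subtype).mulVec w' = v' := by
        have h1 := congrArg (fun u => Pi'.mulVec (D.mulVec u)) hw
        simp only [Matrix.mulVec_mulVec] at h1
        rw [hN₁map, Matrix.mulVec_mulVec, Matrix.mulVec_mulVec]
        rw [show Pi' * (D * (D' * Pm)) = 1 by
          calc Pi' * (D * (D' * Pm)) = Pi' * (D * D') * Pm := by noncomm_ring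
            _ = 1 := by rw [hDD', mul_one, hPP'], Matrix.one_mulVec] at h1
        rw [← h1]
        congr 1
        calc Pi' * N * Pm * Pi' * D = Pi' * D * J0 F e * (D' * (Pm * Pi') * D) := by rw [hN]; noncomm_ring
          _ = _ := by rw [hP'P, mul_one, hD'D, mul_one, Matrix.mul_assoc]
      refine ⟨fun a => π (w' a), funext fun a => ?_⟩
      have := congrArg π (congrFun hw' a)
      rw [hπ'] at this
      rw [← this, Matrix.mulVec, Matrix.mulVec, dotProduct, dotProduct, map_sum]
      exact Finset.sum_congr rfl fun b _ => by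
        rw [Matrix.map_apply]
        exact (map_smul π (N₁ a b) (w' b)).symm
    obtain ⟨Q, hQ0, hQ⟩ := exists_conj_model e N₁ hN₁sq hN₁k
    set Q' : Matrix (Fin n) (Fin n) F := Q.map F₀.subtype with hQ'
    have hQJ : Pi' * N * Pm * Q' = Q' * J0 F e := by
      rw [← hN₁map, hQ', ← Matrix.map_mul, hQ, Matrix.map_mul, J0_map]
    have hcomm : (D' * Pm * Q') * J0 F e = J0 F e * (D' * Pm * Q') := by
      calc (D' * Pm * Q') * J0 F e = D' * (Pm * (Q' * J0 F e)) := by noncomm_ring
        _ = D' * ((Pm * Pi') * N * Pm * Q') := by rw [← hQJ]; noncomm_ring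
        _ = (D' * D) * J0 F e * (D' * Pm * Q') := by rw [hP'P, hN]; noncomm_ring
        _ = _ := by rw [hD'D, one_mul]
    have hsq := det_of_commute e _ hcomm
    have hdQ : Q'.det = (Q.det : F) := (RingHom.map_det F₀.subtype Q).symm
    have hD'det : D'.det = d⁻¹ := by
      rw [Matrix.det_diagonal, Finset.prod_update_of_mem (Finset.mem_univ _)]; simp
    rw [Matrix.det_mul, Matrix.det_mul, hD'det, show Pm.det = 1 from P.2, mul_one, hdQ] at hsq
    have hQ0' : (Q.det : F) ≠ 0 := fun h0 => hQ0 (Subtype.ext h0)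
    obtain ⟨u, hu1, hu2, -⟩ := subfield_euler hF₀ hqk (Q.det : F) (SetLike.coe_mem _) hQ0'
    have hu : (Q.det : F) ^ (Fintype.card F / 2) = 1 := by
      rw [hu2]; rcases hu1 with rfl | rfl <;> norm_num
    have hQsq : IsSquare (Q.det : F) := (FiniteField.isSquare_iff h2F hQ0').mpr hu
    refine hd ?_
    rw [show d = (Q.det : F) / (d⁻¹ * (Q.det : F)) by field_simp]
    exact hQsq.div hsq
  · intro hnk x hxp _
    obtain ⟨ζ, hζ⟩ := exists_nilpotent (p := 3) (by omega) x hxp
    set g : Module.End F (Fin n → F) := Matrix.toLin' (x : Matrix (Fin n) (Fin n) F) with hg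
    have hζ0 : ζ ≠ 0 := by
      intro h0
      rw [h0, zero_smul, sub_zero] at hζ
      have h1 := congrArg LinearMap.det hζ
      rw [map_pow, hg, LinearMap.det_toLin', Matrix.SpecialLinearGroup.det_coe, one_pow] at h1
      rw [show (0 : Module.End F (Fin n → F)) = (0 : F) • LinearMap.id by rw [zero_smul], LinearMap.det_smul,
        Module.finrank_fin_fun, zero_pow (by omega), zero_mul] at h1
      exact one_ne_zero h1
    set N : Module.End F (Fin n → F) := ζ⁻¹ • g - 1 with hN
    have hgN : g - ζ • 1 = ζ • N := by rw [hN, smul_sub, smul_smul, mul_inv_cancel₀ hζ0, one_smul]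
    have hNp : N ^ 3 = 0 := by
      rw [hgN, _root_.smul_pow] at hζ
      exact (smul_eq_zero.mp hζ).resolve_left (pow_ne_zero 3 hζ0)
    obtain ⟨μ, hμ, hsum, -, hsub⟩ := exists_jordan (W := ⊤) le_top (p := 3) (N := N) (fun v _ => by rw [hNp]; rfl)
    rw [finrank_top, Module.finrank_fin_fun] at hsum
    obtain ⟨b, hb⟩ := exists_jordan_basis (N := N) (p := 3) (n := n) (Module.finrank_fin_fun F) hNp
    let Qm : Matrix (Fin n) (Fin n) F := Matrix.of fun a i => b i a
    have hQcol : ∀ i, Qm.mulVec (Pi.single i 1) = b i := fun i => by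
      ext a; simp [Qm, Matrix.mulVec_single_one, Matrix.col_apply]
    have hQdet : Qm.det ≠ 0 := ((Matrix.isUnit_iff_isUnit_det Qm).mp
      (Matrix.linearIndependent_cols_iff_isUnit.mp (b.linearIndependent : LinearIndependent F Qm.col))).ne_zero
    let M₀ : Matrix (Fin n) (Fin n) F₀ := Matrix.of fun a i => if N (b i) ≠ 0 ∧ N (b i) = b a then 1 else 0
    have hM : ∀ i, N (b i) = Qm.mulVec ((M₀.map F₀.subtype).mulVec (Pi.single i 1)) := by
      intro i
      rcases hb i with h | ⟨j, h⟩
      · have : (M₀.map F₀.subtype).mulVec (Pi.single i 1) = 0 := by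
          ext a; simp [M₀, Matrix.mulVec_single_one, Matrix.col_apply, h]
        rw [this, Matrix.mulVec_zero, h]
      · have h0 : b j ≠ 0 := b.ne_zero j
        have : (M₀.map F₀.subtype).mulVec (Pi.single i 1) = Pi.single j 1 := by
          ext a
          by_cases ha : a = j
          · subst ha; simp [M₀, Matrix.mulVec_single_one, Matrix.col_apply, h, h0]
          · have : ¬ b j = b a := fun e => ha (b.injective e).symm
            simp [M₀, Matrix.mulVec_single_one, Matrix.col_apply, h, this, ha, Pi.single_eq_of_ne]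
        rw [this, hQcol, h]
    have hxQ : (x : Matrix (Fin n) (Fin n) F) * Qm = Qm * ((ζ • (1 + M₀.map F₀.subtype)) : Matrix (Fin n) (Fin n) F) := by
      refine Matrix.ext_of_mulVec_single fun i => ?_
      rw [← Matrix.mulVec_mulVec, ← Matrix.mulVec_mulVec, hQcol, Matrix.smul_mulVec, Matrix.mulVec_smul,
        Matrix.add_mulVec, Matrix.one_mulVec, Matrix.mulVec_add, hQcol, ← hM, ← Matrix.toLin'_apply]
      have : g (b i) = ζ • (b i + N (b i)) := by
        rw [hN, LinearMap.sub_apply, LinearMap.smul_apply, Module.End.one_apply, add_sub_cancel, smul_smul,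
          mul_inv_cancel₀ hζ0, one_smul]
      exact this
    -- the determinant is corrected by a centralising element and a subfield element
    set a := (Qm.det)⁻¹ with ha
    obtain ⟨C, d₀, hC, hd₀, hd₀0, hCd⟩ : ∃ (C : Module.End F (Fin n → F)) (d₀ : F),
        Commute C g ∧ d₀ ∈ F₀ ∧ d₀ ≠ 0 ∧ LinearMap.det C * d₀ = a := by
      have key : ∀ ν ≤ μ, ∀ c : F, ∃ C : Module.End F (Fin n → F), Commute C g ∧ LinearMap.det C = c ^ ν.sum := by
        intro ν hν c
        obtain ⟨U, U', hU, hU', hi, hs, hd⟩ := hsub ν hν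
        have hinv : ∀ W, Inv N W → Inv g W := fun W hW => by
          have hW' : Inv (ζ • N) W := (invariant_iff_smul N hζ0 W).mpr hW
          rw [← hgN] at hW'
          exact (inv_sub_smul g ζ W).mp hW'
        obtain ⟨C, hC, hCd⟩ := exists_commuting_det (hinv U hU) (hinv U' hU') (IsCompl.of_eq hi hs) c
        exact ⟨C, hC, hCd.trans (by rw [hd])⟩
      by_cases hodd : ∃ e ∈ μ, e = 1 ∨ e = 3
      · obtain ⟨e, he, he'⟩ := hodd
        obtain ⟨c, hc⟩ : ∃ c : F, c ^ e = a := by
          rcases he' with rfl | rfl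
          · exact ⟨a, pow_one a⟩
          · exact cube_root a
        obtain ⟨C, hC, hCd⟩ := key {e} (Multiset.singleton_le.mpr he) c
        exact ⟨C, 1, hC, F₀.one_mem, one_ne_zero, by rw [hCd, Multiset.sum_singleton, hc, mul_one]⟩
      · push Not at hodd
        have h2 : ∀ e ∈ μ, e = 2 := fun e he => by
          have := hμ e he; have := hodd e he; omega
        have hrep : μ = Multiset.replicate μ.card 2 := Multiset.eq_replicate_card.mpr h2
        have hne2 : 2 ∈ μ := by
          obtain ⟨e, he⟩ := Multiset.exists_mem_of_ne_zero (fun h0 : μ = 0 => by rw [h0] at hsum; simp at hsum; omega)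
          exact h2 e he ▸ he
        have hev : Even n := by
          rw [← hsum, hrep, Multiset.sum_replicate, smul_eq_mul]
          exact even_two.mul_left _
        have hkodd : k % 2 = 1 := by
          rcases hnk with h | ⟨-, h⟩
          · exact absurd hev (Nat.not_even_iff_odd.mpr h)
          · exact Nat.odd_iff.mp (hk.odd_of_ne_two h.ne')
        have ha0 : a ≠ 0 := inv_ne_zero hQdet
        obtain ⟨d₀, hd₀, hd₀0, hsq⟩ : ∃ d₀ : F, d₀ ∈ F₀ ∧ d₀ ≠ 0 ∧ IsSquare (a / d₀) := by
          by_cases hs : IsSquare a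
          · exact ⟨1, F₀.one_mem, one_ne_zero, by rwa [div_one]⟩
          · letI : Fintype F₀ := Fintype.ofFinite F₀
            obtain ⟨d, hd⟩ := FiniteField.exists_nonsquare (F := F₀) (by rw [ringChar.eq F₀ 3]; omega)
            have hd0 : (d : F) ≠ 0 := fun h0 => hd (by rw [Subtype.ext h0 (a2 := (0 : F₀))]; exact IsSquare.zero)
            refine ⟨d, d.2, hd0, (FiniteField.isSquare_iff h2F (div_ne_zero ha0 hd0)).mpr ?_⟩
            obtain ⟨u, -, hu2, hu3⟩ := subfield_euler hF₀ hqk (d : F) d.2 hd0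
            obtain rfl := hu3 (fun ⟨s, hs, he⟩ => hd ⟨⟨s, hs⟩, Subtype.ext he.symm⟩)
            have ha1 := (FiniteField.pow_dichotomy h2F ha0).resolve_left
              (fun h1 => hs ((FiniteField.isSquare_iff h2F ha0).mpr h1))
            rw [div_pow, ha1, hu2, neg_one_pow_eq_pow_mod_two, hkodd, pow_one, div_self (neg_ne_zero.mpr one_ne_zero)]
        obtain ⟨c, hc⟩ := hsq
        obtain ⟨C, hC, hCd⟩ := key {2} (Multiset.singleton_le.mpr hne2) c
        exact ⟨C, d₀, hC, hd₀, hd₀0, by rw [hCd, Multiset.sum_singleton, pow_two, ← hc, div_mul_cancel₀ _ hd₀0]⟩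
    set Cm : Matrix (Fin n) (Fin n) F := LinearMap.toMatrix' C with hCm
    have hCx : Cm * (x : Matrix (Fin n) (Fin n) F) = (x : Matrix (Fin n) (Fin n) F) * Cm := by
      refine Matrix.toLin'.injective ?_
      rw [Matrix.toLin'_mul, Matrix.toLin'_mul, hCm, Matrix.toLin'_toMatrix', ← hg]
      exact hC
    let E₀ : Matrix (Fin n) (Fin n) F₀ := Matrix.diagonal (Function.update 1 ⟨0, by omega⟩ ⟨d₀, hd₀⟩)
    have hE₀ : E₀.det = ⟨d₀, hd₀⟩ := by
      rw [Matrix.det_diagonal, Finset.prod_update_of_mem (Finset.mem_univ _)]; simp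
    set E : Matrix (Fin n) (Fin n) F := E₀.map F₀.subtype with hE
    have hEdet : E.det = d₀ := by
      rw [hE, ← RingHom.mapMatrix_apply, ← RingHom.map_det, hE₀]; rfl
    have hPdet : (Cm * Qm * E).det = 1 := by
      rw [Matrix.det_mul, Matrix.det_mul, hCm, LinearMap.det_toMatrix', hEdet, mul_right_comm, hCd, ha,
        inv_mul_cancel₀ hQdet]
    let P : Matrix.SpecialLinearGroup (Fin n) F := ⟨Cm * Qm * E, hPdet⟩
    refine ⟨P, ?_⟩
    rw [Subgroup.mem_comap, mem_subfieldSubgroup_one]
    have hEu : IsUnit E₀ := (Matrix.isUnit_iff_isUnit_det _).mpr (by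
      rw [hE₀, isUnit_iff_ne_zero]; exact fun h0 => hd₀0 (congrArg Subtype.val h0))
    have hMu : IsUnit (1 + M₀) := by
      rw [Matrix.isUnit_iff_isUnit_det, isUnit_iff_ne_zero]
      intro h0
      have h1 := congrArg Matrix.det hxQ
      rw [Matrix.det_mul, Matrix.SpecialLinearGroup.det_coe, one_mul, Matrix.det_mul, Matrix.det_smul,
        show (1 + M₀.map F₀.subtype) = F₀.subtype.mapMatrix (1 + M₀) by rw [map_add, map_one]; rfl,
        ← RingHom.map_det, h0, map_zero, mul_zero, mul_zero] at h1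
      exact hQdet h1
    refine ⟨hEu.unit⁻¹ * hMu.unit * hEu.unit, Units.mk0 ζ hζ0, ?_⟩
    have hinv : ((P⁻¹ : Matrix.SpecialLinearGroup (Fin n) F) : Matrix (Fin n) (Fin n) F) * (Cm * Qm * E) = 1 := by
      rw [show Cm * Qm * E = (P : Matrix (Fin n) (Fin n) F) from rfl, ← Matrix.SpecialLinearGroup.coe_mul,
        inv_mul_cancel, Matrix.SpecialLinearGroup.coe_one]
    show ((P⁻¹ : Matrix.SpecialLinearGroup (Fin n) F) : Matrix (Fin n) (Fin n) F) * x * (Cm * Qm * E) = _
    set Z := ((hEu.unit⁻¹ : GL (Fin n) F₀) : Matrix (Fin n) (Fin n) F₀).map F₀.subtype with hZ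
    have hEZ : E * Z = 1 := by
      rw [hE, hZ, ← Matrix.map_mul, show E₀ * ((hEu.unit⁻¹ : GL (Fin n) F₀) : Matrix (Fin n) (Fin n) F₀) = 1 from
        hEu.mul_val_inv, Matrix.map_one _ (map_zero _) (map_one _)]
    have key : (x : Matrix (Fin n) (Fin n) F) * (Cm * Qm * E) =
        (Cm * Qm * E) * (ζ • (Z * (1 + M₀.map F₀.subtype) * E)) := by
      calc (x : Matrix (Fin n) (Fin n) F) * (Cm * Qm * E) = ((x : Matrix (Fin n) (Fin n) F) * Cm) * Qm * E := by noncomm_ring
        _ = Cm * ((x : Matrix (Fin n) (Fin n) F) * Qm) * E := by rw [← hCx]; noncomm_ring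
        _ = Cm * Qm * ((E * Z) * (ζ • (1 + M₀.map F₀.subtype))) * E := by rw [hxQ, hEZ, one_mul]; noncomm_ring
        _ = _ := by simp only [Matrix.mul_smul, Matrix.smul_mul, Matrix.mul_assoc]
    rw [mul_assoc, key, ← mul_assoc, hinv, one_mul, Units.val_mk0, Units.val_mul, Units.val_mul, IsUnit.unit_spec,
      IsUnit.unit_spec, Matrix.map_mul, Matrix.map_mul, Matrix.map_add _ (map_add _),
      Matrix.map_one _ (map_zero _) (map_one _)]

end Cfsg.Agent.S5966
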