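import Cfsg.Statements.S5967
import Cfsg.Agent.EqLemmas
import Cfsg.Agent.Lib.Linear.SimPairs
import Cfsg.Agent.Lib.Linear.QuadExt

set_option autoImplicit false
open scoped MatrixGroups
open Cfsg

namespace Cfsg.Agent.S5967

open Matrix Cfsg.Agent.Linear

variable {F : Type*} [Field F] [Fintype F] {n : ℕ}

/-- `x² = c²` in characteristic two: pairs. -/
theorem pairs_char_two (he : Even n) (A : Matrix (Fin n) (Fin n) F) (c : F) (h2 : (2 : F) = 0)
    (hA : A * A = (c * c) • (1 : Matrix (Fin n) (Fin n) F)) (m : ℕ) (hnm : n = 2 * m) :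
    ∃ (e : Fin 2 × Fin m ≃ Fin n) (P : GL (Fin n) F) (M : Fin m → Matrix (Fin 2) (Fin 2) F),
      A = pairHom e P M ∧ ∀ i, (M i).det = c * c := by
  classical
  set g : Module.End F (Fin n → F) := Matrix.toLin' (A - c • 1) with hg
  have hN2 : (A - c • 1) * (A - c • 1) = 0 := by
    simp only [mul_sub, sub_mul, Matrix.mul_smul, Matrix.smul_mul, one_mul, mul_one, hA]
    match_scalars <;> first | linear_combination (c * c) * h2 | linear_combination (-c) * h2
  have hgg : ∀ v, g (g v) = 0 := fun v => by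
    simp only [hg, Matrix.toLin'_apply, Matrix.mulVec_mulVec, hN2, Matrix.zero_mulVec]
  have hAg : ∀ v, A *ᵥ v = c • v + g v := fun v => by
    simp [hg, Matrix.sub_mulVec, Matrix.smul_mulVec]
  obtain ⟨X, hX⟩ := Submodule.exists_isCompl (LinearMap.ker g)
  obtain ⟨Z, hZ⟩ := Submodule.exists_isCompl (LinearMap.range g)
  set Y : Submodule F (Fin n → F) := Z ⊓ LinearMap.ker g with hYdef
  have hrk : LinearMap.range g ≤ LinearMap.ker g := by rintro _ ⟨w, rfl⟩; exact hgg w
  have hYsup : LinearMap.range g ⊔ Y = LinearMap.ker g := by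
    rw [hYdef, ← sup_inf_assoc_of_le Z hrk, hZ.sup_eq_top, top_inf_eq]
  have hYinf : LinearMap.range g ⊓ Y = ⊥ := by
    rw [hYdef, ← inf_assoc, hZ.inf_eq_bot, bot_inf_eq]
  let bX := Module.finBasis F X
  let bY := Module.finBasis F Y
  have hdim : 2 * Module.finrank F X + Module.finrank F Y = n := by
    have h1 := Submodule.finrank_add_eq_of_isCompl hX
    have h4 := LinearMap.finrank_range_add_finrank_ker g
    have h5 := Submodule.finrank_sup_add_finrank_inf_eq (LinearMap.range g) Y
    rw [hYsup, hYinf, finrank_bot, add_zero] at h5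
    rw [Module.finrank_fin_fun] at h1 h4
    omega
  obtain ⟨k, hk⟩ : Even (Module.finrank F Y) := by
    rw [Nat.even_iff] at he ⊢; omega
  let r := Module.finrank F X
  let σ : Fin m ≃ Fin r ⊕ Fin k := (finCongr (by omega)).trans finSumFinEquiv.symm
  let e : Fin 2 × Fin m ≃ Fin n := finProdFinEquiv.trans (finCongr hnm.symm)
  let δ : Fin 2 × Fin k ≃ Fin (Module.finrank F Y) := finProdFinEquiv.trans (finCongr (by omega))
  let w : Fin 2 × Fin m → Fin n → F := fun t =>
    Sum.elim (fun i => if t.1 = 0 then (bX i : Fin n → F) else g (bX i)) (fun i => (bY (δ (t.1, i)) : Fin n → F)) (σ t.2)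
  have hXz : ∀ d : Fin r → F, g (∑ i, d i • (bX i : Fin n → F)) = 0 → ∀ i, d i = 0 := by
    intro d hd
    have hmem : ∑ i, d i • (bX i : Fin n → F) ∈ LinearMap.ker g ⊓ X :=
      ⟨hd, X.sum_mem fun i _ => X.smul_mem _ (bX i).2⟩
    rw [hX.inf_eq_bot, Submodule.mem_bot] at hmem
    refine Fintype.linearIndependent_iff.mp bX.linearIndependent d (Subtype.ext ?_)
    simpa using hmem
  have hind : LinearIndependent F w := by
    rw [Fintype.linearIndependent_iff]
    intro a ha
    rw [Fintype.sum_prod_type, Fin.sum_univ_two, ← σ.symm.sum_comp, ← σ.symm.sum_comp,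
      Fintype.sum_sum_type, Fintype.sum_sum_type] at ha
    simp only [w, Equiv.apply_symm_apply, Sum.elim_inl, Sum.elim_inr, if_true, one_ne_zero, if_false] at ha
    have hker : ∀ i, g (bY i : Fin n → F) = 0 := fun i => (bY i).2.2
    have h1 := congrArg g ha
    simp only [map_add, map_sum, map_smul, hgg, hker, smul_zero, Finset.sum_const_zero, add_zero, map_zero] at h1
    have hr0 : ∀ i, a (0, σ.symm (Sum.inl i)) = 0 := hXz _ (by simpa [map_sum, map_smul] using h1)
    simp only [hr0, zero_smul, Finset.sum_const_zero, zero_add] at ha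
    set y : Fin n → F := ∑ i, a (0, σ.symm (Sum.inr i)) • (bY (δ (0, i)) : Fin n → F) +
      ∑ i, a (1, σ.symm (Sum.inr i)) • (bY (δ (1, i)) : Fin n → F) with hy
    have hy2 : y = 0 := by
      have hyY : y ∈ Y := Y.add_mem (Y.sum_mem fun i _ => Y.smul_mem _ (bY _).2) (Y.sum_mem fun i _ => Y.smul_mem _ (bY _).2)
      have hyR : y ∈ LinearMap.range g := by
        refine ⟨-∑ i, a (1, σ.symm (Sum.inl i)) • (bX i : Fin n → F), ?_⟩
        rw [map_neg, map_sum, neg_eq_iff_add_eq_zero, hy]
        simp only [map_smul]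
        rw [← ha]; abel
      have h3 : y ∈ LinearMap.range g ⊓ Y := ⟨hyR, hyY⟩
      rwa [hYinf, Submodule.mem_bot] at h3
    have hr3 : ∀ t i, a (t, σ.symm (Sum.inr i)) = 0 := by
      have h3 : ∀ j, a ((δ.symm j).1, σ.symm (Sum.inr (δ.symm j).2)) = 0 := by
        refine Fintype.linearIndependent_iff.mp bY.linearIndependent _ (Subtype.ext ?_)
        rw [← δ.sum_comp, Fintype.sum_prod_type, Fin.sum_univ_two]
        simpa [hy] using hy2
      intro t i
      simpa using h3 (δ (t, i))
    simp only [hr3, zero_smul, Finset.sum_const_zero, zero_add, add_zero] at ha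
    have hr1 : ∀ i, a (1, σ.symm (Sum.inl i)) = 0 := hXz _ (by simpa [map_sum, map_smul] using ha)
    rintro ⟨t, j⟩
    obtain ⟨s, rfl⟩ := σ.symm.surjective j
    rcases s with i | i
    · fin_cases t
      · exact hr0 i
      · exact hr1 i
    · exact hr3 t i
  obtain ⟨P, hP⟩ := eq_pairHom_of_basis e A w hind
  refine ⟨e, P, fun j => Sum.elim (fun _ => !![c, 0; 1, c]) (fun _ => c • (1 : Matrix (Fin 2) (Fin 2) F)) (σ j),
    hP _ ?_, ?_⟩
  · rintro ⟨t, j⟩
    obtain ⟨s, rfl⟩ := σ.symm.surjective j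
    rw [hAg]
    rcases s with i | i
    · fin_cases t <;> simp [w, hgg]
    · have hker : g (bY (δ (t, i)) : Fin n → F) = 0 := (bY _).2.2
      fin_cases t <;> simp [w] at hker ⊢ <;> simp [hker]
  · intro j
    rcases hσ : σ j with i | i <;> simp [hσ, Matrix.det_fin_two, pow_two]

/-- `x² = c²` in odd characteristic with `c^n ≠ -1`: scalar blocks. -/
theorem pairs_square (he : Even n) (c : F) (hc : c ≠ 0) (h2 : (2 : F) ≠ 0) (hcn : c ^ n ≠ -1)
    (A : Matrix (Fin n) (Fin n) F) (hA : A.det = 1) (hA2 : A * A = (c * c) • (1 : Matrix (Fin n) (Fin n) F))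
    (m : ℕ) (hnm : n = 2 * m) :
    ∃ (e : Fin 2 × Fin m ≃ Fin n) (P : GL (Fin n) F) (s : Fin m → F),
      A = pairHom e P (fun i => s i • 1) ∧ ∀ i, s i * s i = c * c := by
  classical
  let Ep := Module.End.eigenspace (Matrix.toLin' A) c
  let Em := Module.End.eigenspace (Matrix.toLin' A) (-c)
  have hp : ∀ v, v ∈ Ep ↔ A *ᵥ v = c • v := fun v => by simp [Ep]
  have hm : ∀ v, v ∈ Em ↔ A *ᵥ v = (-c) • v := fun v => by simp [Em]
  have hAA : ∀ v, A *ᵥ (A *ᵥ v) = (c * c) • v := fun v => by
    rw [Matrix.mulVec_mulVec, hA2, Matrix.smul_mulVec, Matrix.one_mulVec]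
  have hcompl : IsCompl Ep Em := by
    refine ⟨?_, ?_⟩
    · rw [disjoint_iff_inf_le]
      rintro v ⟨h1, h3⟩
      have hv : (2 * c) • v = 0 := by
        have := ((hp v).1 h1).symm.trans ((hm v).1 h3)
        rw [neg_smul, eq_neg_iff_add_eq_zero, ← add_smul] at this
        rwa [two_mul]
      exact (smul_eq_zero.1 hv).resolve_left (mul_ne_zero h2 hc)
    · rw [codisjoint_iff_le_sup]
      intro v _
      rw [Submodule.mem_sup]
      refine ⟨(2 : F)⁻¹ • (v + c⁻¹ • (A *ᵥ v)), (hp _).2 ?_, (2 : F)⁻¹ • (v - c⁻¹ • (A *ᵥ v)), (hm _).2 ?_, ?_⟩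
      · rw [Matrix.mulVec_smul, Matrix.mulVec_add, Matrix.mulVec_smul, hAA]
        match_scalars <;> field_simp
      · rw [Matrix.mulVec_smul, Matrix.mulVec_sub, Matrix.mulVec_smul, hAA]
        match_scalars <;> field_simp
      · match_scalars <;> field_simp <;> ring
  have hsum := Submodule.finrank_add_eq_of_isCompl hcompl
  rw [Module.finrank_fin_fun] at hsum
  let B := ((Module.finBasis F Ep).prod (Module.finBasis F Em)).map (Submodule.prodEquivOfIsCompl _ _ hcompl)
  have hBl : ∀ i, A *ᵥ B (Sum.inl i) = c • B (Sum.inl i) := fun i => by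
    have : B (Sum.inl i) ∈ Ep := by simp [B]
    exact (hp _).1 this
  have hBr : ∀ i, A *ᵥ B (Sum.inr i) = (-c) • B (Sum.inr i) := fun i => by
    have : B (Sum.inr i) ∈ Em := by simp [B]
    exact (hm _).1 this
  have hn2 : Even (Module.finrank F Em) := by
    by_contra hodd
    rw [Nat.not_even_iff_odd] at hodd
    let ε := finSumFinEquiv.trans (finCongr hsum)
    let Q : Matrix (Fin n) (Fin n) F := Matrix.of fun r k => B (ε.symm k) r
    let d : Fin n → F := fun k => Sum.elim (fun _ => c) (fun _ => -c) (ε.symm k)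
    have hQ : Q.det ≠ 0 := by
      have hu : LinearIndependent F Q.col := B.linearIndependent.comp _ ε.symm.injective
      exact ((Matrix.isUnit_iff_isUnit_det Q).mp (Matrix.linearIndependent_cols_iff_isUnit.mp hu)).ne_zero
    have hAQ : A * Q = Q * Matrix.diagonal d := by
      ext r k
      obtain ⟨s, rfl⟩ := ε.surjective k
      rw [Matrix.mul_diagonal]
      have h1 : (A * Q) r (ε s) = (A *ᵥ B s) r := by simp [Matrix.mul_apply, Matrix.mulVec, dotProduct, Q]
      rw [h1]
      rcases s with i | i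
      · simp [hBl, Q, d, mul_comm]
      · simp [hBr, Q, d, mul_comm]
    have hdet := congrArg Matrix.det hAQ
    rw [Matrix.det_mul, Matrix.det_mul, hA, one_mul, Matrix.det_diagonal, ← ε.prod_comp,
      Fintype.prod_sum_type] at hdet
    simp only [d, Equiv.symm_apply_apply, Sum.elim_inl, Sum.elim_inr, Finset.prod_const, Finset.card_univ,
      Fintype.card_fin] at hdet
    have h1 := mul_left_cancel₀ hQ (by rw [← hdet, mul_one] : Q.det * (c ^ Module.finrank F Ep * (-c) ^ Module.finrank F Em) = Q.det * 1)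
    rw [hodd.neg_pow, mul_neg, ← pow_add, hsum] at h1
    exact hcn (by linear_combination -h1)
  obtain ⟨k₁, hk₁⟩ : Even (Module.finrank F Ep) := by
    rw [← hsum] at he
    exact (Nat.even_add.1 he).2 hn2
  obtain ⟨k₂, hk₂⟩ := hn2
  let σ : Fin m ≃ Fin k₁ ⊕ Fin k₂ := (finCongr (by omega)).trans finSumFinEquiv.symm
  let e₁ : Fin 2 × Fin k₁ ≃ Fin (Module.finrank F Ep) := finProdFinEquiv.trans (finCongr (by omega))
  let e₂ : Fin 2 × Fin k₂ ≃ Fin (Module.finrank F Em) := finProdFinEquiv.trans (finCongr (by omega))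
  let g : Fin 2 × Fin m ≃ Fin (Module.finrank F Ep) ⊕ Fin (Module.finrank F Em) :=
    (Equiv.prodCongr (Equiv.refl _) σ).trans ((Equiv.prodSumDistrib _ _ _).trans (Equiv.sumCongr e₁ e₂))
  let e : Fin 2 × Fin m ≃ Fin n := finProdFinEquiv.trans (finCongr hnm.symm)
  obtain ⟨P, hP⟩ := eq_pairHom_of_basis e A (fun k => B (g k)) (B.linearIndependent.comp _ g.injective)
  refine ⟨e, P, fun j => Sum.elim (fun _ => c) (fun _ => -c) (σ j), hP _ ?_, ?_⟩
  · rintro ⟨t, j⟩
    obtain ⟨i | i, rfl⟩ := σ.symm.surjective j <;> fin_cases t <;>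
      simp [g, Equiv.prodSumDistrib, hBl, hBr]
  · intro j
    rcases hσ : σ j with i | i <;> simp [hσ]


/-- Involutions of PSL_n(q) and the symplectic-type subgroups. Here `T = PSL_n(F)` for a field `F` with `q` elements, `n ≥ 4` even, `f` is a nondegenerate alternating form on `F^n`, and `H` is the subgroup of matrices of determinant 1 preserving `f` up to a scalar — a maximal subgroup of type Sp_n(q); Ω is the set of `T`-conjugates of `H` (cosets of `H`), so an element of `T` of prime order `r` (a matrix `x` of determinant 1 with `x^r` scalar, `x` not scalar) fixes a point of Ω when some conjugate of `x` by a matrix of determinant 1 preserves `f` up to a scalar. Suppose the index of `H` is even. Then every involution of `T` is conjugate in `T` into `H` if and only if `(q − 1)_2 ≤ (n)_2`. -/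
theorem result {F : Type*} [Field F] [Fintype F] {p : ℕ} [Fact p.Prime] [CharP F p] {q : ℕ} (hq : Fintype.card F = q)
    (n : ℕ) (hn : 4 ≤ n) (he : Even n) (f : (Fin n → F) → (Fin n → F) → F) (hf : Cfsg.Geo.IsSymplecticForm f)
    (hΩ : 2 ∣ ((Cfsg.Geo.similarityGroup f).comap (Matrix.SpecialLinearGroup.toGL : Matrix.SpecialLinearGroup (Fin n) F →* GL (Fin n) F)).index) :
    (∀ x : Matrix.SpecialLinearGroup (Fin n) F,
      (∃ z : F, ((x ^ 2 : Matrix.SpecialLinearGroup (Fin n) F) : Matrix (Fin n) (Fin n) F) = z • (1 : Matrix (Fin n) (Fin n) F)) →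
      (∀ z : F, (x : Matrix (Fin n) (Fin n) F) ≠ z • (1 : Matrix (Fin n) (Fin n) F)) →
      ∃ P : Matrix.SpecialLinearGroup (Fin n) F, P⁻¹ * x * P ∈ ((Cfsg.Geo.similarityGroup f).comap (Matrix.SpecialLinearGroup.toGL : Matrix.SpecialLinearGroup (Fin n) F →* GL (Fin n) F))) ↔
    padicValNat 2 (q - 1) ≤ padicValNat 2 n := by
  classical
  subst hq
  obtain ⟨m, hnm'⟩ := he
  have hnm : n = 2 * m := by omega
  have hm : 0 < m := by omega
  constructor
  · intro hall
    by_contra hlt
    push Not at hlt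
    have h2 : (2 : F) ≠ 0 := by
      intro h2
      have hr : ringChar F = 2 := by
        have : CharP F 2 := CharTwo.of_one_ne_zero_of_two_eq_zero one_ne_zero h2
        exact ringChar.eq F 2
      have h' := FiniteField.even_card_of_char_two hr
      have : padicValNat 2 (Fintype.card F - 1) = 0 := padicValNat.eq_zero_of_not_dvd (by
        have := Fintype.one_lt_card (α := F); omega)
      omega
    obtain ⟨c, hc⟩ := (exists_neg_one_pow_iff (by omega) h2).2 hlt
    have hc0 : c ≠ 0 := by
      rintro rfl; rw [zero_pow (by omega)] at hc; exact one_ne_zero (neg_eq_zero.1 hc.symm)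
    let i0 : Fin n := ⟨0, by omega⟩
    let i1 : Fin n := ⟨1, by omega⟩
    have h01 : i1 ≠ i0 := by simp [i0, i1, Fin.ext_iff]
    let d : Fin n → F := fun i => if i = i0 then -c else c
    have hd0 : d i0 = -c := by simp [d]
    have hd : ∀ k, k ≠ i0 → d k = c := fun k hk => by simp [d, hk]
    have hdet : (Matrix.diagonal d).det = 1 := by
      rw [Matrix.det_diagonal, ← Finset.mul_prod_erase _ _ (Finset.mem_univ i0),
        Finset.prod_congr rfl (fun i hi => if_neg (Finset.ne_of_mem_erase hi)), Finset.prod_const,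
        Finset.card_erase_of_mem (Finset.mem_univ _), Finset.card_univ, Fintype.card_fin]
      simp only [d, if_true]
      rw [neg_mul, ← pow_succ', show n - 1 + 1 = n by omega, hc, neg_neg]
    let x : Matrix.SpecialLinearGroup (Fin n) F := ⟨Matrix.diagonal d, hdet⟩
    have hxv : (x : Matrix (Fin n) (Fin n) F) = Matrix.diagonal d := rfl
    obtain ⟨Q, hQ⟩ := hall x ⟨c * c, by
      rw [Matrix.SpecialLinearGroup.coe_pow, hxv, pow_two, Matrix.diagonal_mul_diagonal,
        Matrix.smul_one_eq_diagonal]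
      congr 1
      funext i
      by_cases hi : i = i0 <;> simp [d, hi]⟩
      (fun z hz => by
        have e0 := congrFun (congrFun hz i0) i0
        have e1 := congrFun (congrFun hz i1) i1
        simp [hxv, hd0, hd i1 h01] at e0 e1
        rw [← e1, neg_eq_iff_add_eq_zero, ← two_mul, mul_eq_zero] at e0
        exact e0.elim h2 hc0)
    obtain ⟨μ, hμ⟩ := hQ
    -- transport the form along `Q⁻¹`
    set Qi : Matrix (Fin n) (Fin n) F := ((Q⁻¹ : Matrix.SpecialLinearGroup (Fin n) F) : Matrix (Fin n) (Fin n) F)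
    set B := toBilin hf.bilinear
    let g : (Fin n → F) → (Fin n → F) → F := fun u v => B (Qi *ᵥ u) (Qi *ᵥ v)
    have hxQ : ∀ u, Qi *ᵥ (Matrix.diagonal d *ᵥ u) =
        ((Matrix.SpecialLinearGroup.toGL (Q⁻¹ * x * Q) : GL (Fin n) F) : Matrix (Fin n) (Fin n) F) *ᵥ (Qi *ᵥ u) := by
      intro u
      show _ = ((Q⁻¹ * x * Q : Matrix.SpecialLinearGroup (Fin n) F) : Matrix (Fin n) (Fin n) F) *ᵥ _
      rw [Matrix.mulVec_mulVec, Matrix.mulVec_mulVec, ← Matrix.SpecialLinearGroup.coe_mul,
        mul_inv_cancel_right, Matrix.SpecialLinearGroup.coe_mul, hxv]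
    have hgμ : ∀ u v, g (Matrix.diagonal d *ᵥ u) (Matrix.diagonal d *ᵥ v) = (μ : F) * g u v := by
      intro u v
      show B _ _ = (μ : F) * B _ _
      rw [hxQ, hxQ]
      exact hμ _ _
    let ε : Fin n → Fin n → F := fun k l => g (Pi.single k 1) (Pi.single l 1)
    have hεd : ∀ k l, d k * d l * ε k l = (μ : F) * ε k l := by
      intro k l
      show d k * d l * g _ _ = (μ : F) * g _ _
      rw [← hgμ, show Matrix.diagonal d *ᵥ (Pi.single k 1) = d k • Pi.single k 1 by
          funext r; by_cases hr : r = k <;> simp [Matrix.mulVec_diagonal, hr],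
        show Matrix.diagonal d *ᵥ (Pi.single l 1) = d l • Pi.single l 1 by
          funext r; by_cases hr : r = l <;> simp [Matrix.mulVec_diagonal, hr]]
      simp only [g, Matrix.mulVec_smul, map_smul, LinearMap.smul_apply, smul_eq_mul]
      ring
    have hgnd : ∀ u : Fin n → F, (∀ l, g u (Pi.single l 1) = 0) → u = 0 := by
      intro u hu
      by_contra hne
      have hne' : Qi *ᵥ u ≠ 0 := by
        intro h
        apply hne
        have := congrArg (fun v => (Q : Matrix (Fin n) (Fin n) F) *ᵥ v) h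
        simpa [Qi, Matrix.mulVec_mulVec, ← Matrix.SpecialLinearGroup.coe_mul, -Matrix.SpecialLinearGroup.coe_inv] using this
      obtain ⟨y, hy⟩ := (hf.nondegenerate _ hne').2
      apply hy
      have hy' : y = Qi *ᵥ ((Q : Matrix (Fin n) (Fin n) F) *ᵥ y) := by
        rw [Matrix.mulVec_mulVec, ← Matrix.SpecialLinearGroup.coe_mul, inv_mul_cancel,
          Matrix.SpecialLinearGroup.coe_one, Matrix.one_mulVec]
      show B (Qi *ᵥ u) y = 0
      rw [hy', pi_eq_sum_univ' ((Q : Matrix (Fin n) (Fin n) F) *ᵥ y), Matrix.mulVec_sum, map_sum]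
      refine Finset.sum_eq_zero fun l _ => ?_
      rw [Matrix.mulVec_smul, map_smul]
      simp only [smul_eq_mul]
      exact mul_eq_zero_of_right _ (hu l)
    obtain ⟨k0, hk0⟩ : ∃ k, ε i0 k ≠ 0 := by
      by_contra h
      push Not at h
      simpa using hgnd (Pi.single i0 1) h
    have hk00 : k0 ≠ i0 := by
      rintro rfl
      exact hk0 (hf.alternating _)
    have hmu : (μ : F) = -(c * c) := by
      have := hεd i0 k0
      rw [hd0, hd k0 hk00] at this
      have := mul_right_cancel₀ hk0 this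
      linear_combination -this
    have hoff : ∀ k l, k ≠ i0 → l ≠ i0 → ε k l = 0 := by
      intro k l hk hl
      have := hεd k l
      rw [hd k hk, hd l hl, hmu] at this
      have h' : (2 * (c * c)) * ε k l = 0 := by linear_combination this
      exact (mul_eq_zero.1 h').resolve_left (mul_ne_zero h2 (mul_ne_zero hc0 hc0))
    let i2 : Fin n := ⟨2, by omega⟩
    have h02 : i2 ≠ i0 := by simp [i0, i2, Fin.ext_iff]
    have h12 : i1 ≠ i2 := by simp [i1, i2, Fin.ext_iff]
    by_cases hz : ε i1 i0 = 0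
    · have := hgnd (Pi.single i1 1) fun l => by
        by_cases hl : l = i0
        · subst hl; exact hz
        · exact hoff _ _ h01 hl
      simpa using this
    · have := hgnd (ε i2 i0 • Pi.single i1 1 - ε i1 i0 • Pi.single i2 1) fun l => by
        have hlin : g (ε i2 i0 • Pi.single i1 1 - ε i1 i0 • Pi.single i2 1) (Pi.single l 1) =
            ε i2 i0 * ε i1 l - ε i1 i0 * ε i2 l := by
          simp only [ε, g, Matrix.mulVec_sub, Matrix.mulVec_smul, map_sub, map_smul, LinearMap.sub_apply,
            LinearMap.smul_apply, smul_eq_mul]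
        rw [hlin]
        by_cases hl : l = i0
        · subst hl; ring
        · rw [hoff _ _ h01 hl, hoff _ _ h02 hl]; ring
      have h' := congrFun this i2
      simp [h12, h12.symm] at h'
      exact hz h'
  · intro hle x hx hns
    obtain ⟨z, hz⟩ := hx
    rw [Matrix.SpecialLinearGroup.coe_pow, pow_two] at hz
    set A : Matrix (Fin n) (Fin n) F := (x : Matrix (Fin n) (Fin n) F) with hAdef
    have hz0 : z ≠ 0 := by
      rintro rfl
      rw [zero_smul] at hz
      have := congrArg Matrix.det hz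
      haveI hne : Nonempty (Fin n) := ⟨⟨0, by omega⟩⟩
      rw [Matrix.det_mul, hAdef, x.2, one_mul, Matrix.det_zero] at this
      exact one_ne_zero this
    by_cases h2 : (2 : F) = 0
    · have hr : ringChar F = 2 := by
        have : CharP F 2 := CharTwo.of_one_ne_zero_of_two_eq_zero one_ne_zero h2
        exact ringChar.eq F 2
      obtain ⟨c, rfl⟩ := FiniteField.isSquare_of_char_two hr z
      obtain ⟨e, P, M, hA, hM⟩ := pairs_char_two ⟨m, hnm'⟩ A c h2 hz m hnm
      refine exists_conj_mem_similarity e hf P M (c * c) hz0 hM x hA fun d _ => ?_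
      obtain ⟨u, rfl⟩ := FiniteField.isSquare_of_char_two hr d
      refine ⟨pairHom e P (Function.update 1 ⟨0, hm⟩ (u • 1)), ?_, ?_⟩
      · rw [det_pairHom, Finset.prod_eq_single ⟨0, hm⟩]
        · simp [Matrix.det_fin_two, pow_two]
        · intro i _ hi; simp [hi]
        · simp
      · rw [← hAdef, hA, ← map_mul, ← map_mul]
        congr 1
        funext i
        by_cases hi : i = ⟨0, hm⟩
        · subst hi; simp
        · simp [hi]
    by_cases hsq : ∃ c : F, z = c * c
    · obtain ⟨c, rfl⟩ := hsq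
      obtain ⟨e, P, s, hA, hs⟩ := pairs_square ⟨m, hnm'⟩ c (mul_ne_zero_iff.1 hz0).1 h2 (fun hcn => by
        have := (exists_neg_one_pow_iff (by omega : n ≠ 0) h2).1 ⟨c, hcn⟩
        omega) A x.2 hz m hnm
      refine exists_conj_mem_similarity e hf P _ (c * c) hz0 (fun i => by
        rw [Matrix.det_fin_two]; simp [hs i]) x hA fun d _ => ?_
      refine ⟨pairHom e P (Function.update 1 ⟨0, hm⟩ !![d, 0; 0, 1]), ?_, ?_⟩
      · rw [det_pairHom, Finset.prod_eq_single ⟨0, hm⟩]
        · simp [Matrix.det_fin_two]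
        · intro i _ hi; simp [hi]
        · simp
      · rw [← hAdef, hA, ← map_mul, ← map_mul]
        congr 1
        funext i
        simp [Pi.mul_apply]
    · have hno : ∀ c : F, c * c ≠ 0 * c + z := fun c hc => hsq ⟨c, by linear_combination -hc⟩
      let e : Fin 2 × Fin m ≃ Fin n := finProdFinEquiv.trans (finCongr hnm.symm)
      obtain ⟨P, hA⟩ := (exists_pairs A 0 z (by rw [zero_smul, zero_add, hz]) hno).2 m e
      refine exists_conj_mem_similarity e hf P _ (-z) (neg_ne_zero.2 hz0) (fun i => by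
        simp [comp2, Matrix.det_fin_two]) x hA fun d hd => ?_
      obtain ⟨C, hC1, hC2⟩ := exists_det_centralizer hm e P 0 z hno d hd
      exact ⟨C, hC1, by rw [← hAdef, hA]; exact hC2⟩

end Cfsg.Agent.S5967
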