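import Cfsg.Statements.S5968
import Cfsg.Agent.EqLemmas
import Cfsg.Agent.Lib.Linear.AltObstruction

set_option autoImplicit false
open scoped MatrixGroups
open Cfsg

namespace Cfsg.Agent.S5968

open Matrix Cfsg.Agent.Linear

variable {F : Type*} [Field F] {n : ℕ}

theorem swap_of_alt {B : LinearMap.BilinForm F (Fin n → F)} (halt : ∀ v, B v v = 0) (u v : Fin n → F) :
    B v u = -B u v := GLOrder.alt_swap halt u v

/-- The unipotent witness: a single block of size three. -/
theorem unipotent_obstruction (hn : 4 ≤ n) (r : ℕ) [Fact r.Prime] [CharP F r] (hr2 : r ≠ 2) :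
    ∃ x : Matrix.SpecialLinearGroup (Fin n) F,
      (x : Matrix (Fin n) (Fin n) F) ^ r = (1 : F) • (1 : Matrix (Fin n) (Fin n) F) ∧
      (∀ z : F, (x : Matrix (Fin n) (Fin n) F) ≠ z • 1) ∧
      ∀ (B : LinearMap.BilinForm F (Fin n → F)) (μ : F), (∀ v, B v v = 0) →
        (∀ u, (∀ v, B u v = 0) → u = 0) →
        (∀ u v, B ((x : Matrix (Fin n) (Fin n) F) *ᵥ u) ((x : Matrix (Fin n) (Fin n) F) *ᵥ v) = μ * B u v) →
        False := by
  classical
  haveI : Nonempty (Fin n) := ⟨⟨0, by omega⟩⟩
  let i0 : Fin n := ⟨0, by omega⟩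
  let i1 : Fin n := ⟨1, by omega⟩
  let i2 : Fin n := ⟨2, by omega⟩
  have h01 : i0 ≠ i1 := by simp [i0, i1, Fin.ext_iff]
  have h02 : i0 ≠ i2 := by simp [i0, i2, Fin.ext_iff]
  have h12 : i1 ≠ i2 := by simp [i1, i2, Fin.ext_iff]
  set E : Matrix (Fin n) (Fin n) F := Matrix.single i0 i1 1 + Matrix.single i1 i2 1 with hE
  have hE3 : E ^ 3 = 0 := by
    rw [pow_succ, pow_two, hE]
    simp [mul_add, add_mul, h01.symm, h02.symm, h12.symm, h12, h01, h02]
  set X : Matrix (Fin n) (Fin n) F := 1 + E with hX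
  have hdet : X.det = 1 := by
    rw [Matrix.det_of_isUpperTriangular]
    · refine Finset.prod_eq_one fun i _ => ?_
      simp [hX, hE, Matrix.single_apply, h01, h12]
      rw [if_neg (fun h => h01 (h.1.trans h.2.symm)), if_neg (fun h => h12 (h.1.trans h.2.symm)), add_zero]
    · intro i j hij
      have hij' : (j : ℕ) < i := hij
      have hne : i ≠ j := ne_of_gt hij
      simp only [hX, hE, Matrix.add_apply, Matrix.one_apply, if_neg hne, Matrix.single_apply]
      rw [if_neg (fun h => by have := congrArg Fin.val h.1; have := congrArg Fin.val h.2; simp [i0, i1] at *; omega),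
        if_neg (fun h => by have := congrArg Fin.val h.1; have := congrArg Fin.val h.2; simp [i1, i2] at *; omega),
        add_zero, add_zero]
  refine ⟨⟨X, hdet⟩, ?_, ?_, ?_⟩
  · show X ^ r = _
    rw [hX, add_pow_char_of_commute r (Commute.one_left E), one_pow, one_smul, add_eq_left]
    have h3 : 3 ≤ r := by
      have := (Fact.out : r.Prime).two_le
      omega
    rw [← Nat.sub_add_cancel h3, pow_add, hE3, mul_zero]
  · intro z hz
    have h := congrFun (congrFun hz i0) i1
    simp [hX, hE, Matrix.single_apply, h01, h12, h01.symm] at h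
  intro B μ halt hnd hB
  change ∀ u v, B (X *ᵥ u) (X *ᵥ v) = μ * B u v at hB
  let e : Fin n → Fin n → F := fun i => Pi.single i 1
  have hXc : ∀ k, X *ᵥ e k = e k + (if k = i1 then e i0 else 0) + (if k = i2 then e i1 else 0) := by
    intro k
    funext a
    simp only [e, Matrix.mulVec_single_one, Matrix.col_apply, hX, hE, Matrix.add_apply, Matrix.one_apply,
      Matrix.single_apply]
    by_cases hk1 : k = i1
    · subst hk1
      simp [Pi.single_apply, h12, h12.symm, eq_comm]
    · by_cases hk2 : k = i2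
      · subst hk2
        simp [Pi.single_apply, h12.symm, h12, eq_comm]
      · simp [Pi.single_apply, hk1, hk2, Ne.symm hk1, Ne.symm hk2, eq_comm]
  have hX0 : X *ᵥ e i0 = e i0 := by rw [hXc]; simp [h01, h02]
  have hX1 : X *ᵥ e i1 = e i1 + e i0 := by rw [hXc]; simp [h12]
  have hX2 : X *ᵥ e i2 = e i2 + e i1 := by rw [hXc]; simp [h12.symm]
  -- the multiplier is one
  have hμ : μ = 1 := by
    obtain ⟨v, hv⟩ : ∃ v, B (e i0) v ≠ 0 := by
      by_contra h
      push Not at h
      simpa [e] using hnd _ h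
    have h := pow_multiplier hB r (e i0) v
    rw [show X ^ r = 1 by
      rw [hX, add_pow_char_of_commute r (Commute.one_left E), one_pow, add_eq_left]
      have h3 : 3 ≤ r := by
        have := (Fact.out : r.Prime).two_le
        omega
      rw [← Nat.sub_add_cancel h3, pow_add, hE3, mul_zero], Matrix.one_mulVec, Matrix.one_mulVec] at h
    have h1 : μ ^ r = 1 := (mul_eq_right₀ hv).1 h.symm
    exact frobenius_inj F r (by rw [frobenius_def, frobenius_def, h1, one_pow])
  subst hμ
  simp only [one_mul] at hB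
  have hab : B (e i0) (e i1) = 0 := by
    have h := hB (e i0) (e i2)
    rw [hX0, hX2, map_add, add_eq_left] at h
    exact h
  have hac : B (e i0) (e i2) = 0 := by
    have h := hB (e i1) (e i2)
    rw [hX1, hX2] at h
    simp only [map_add, LinearMap.add_apply, halt, hab] at h
    linear_combination h
  have hcol : ∀ k, B (e i0) (e k) = 0 := by
    intro k
    by_cases h0 : k = i0
    · rw [h0]; exact halt _
    by_cases h1 : k = i1
    · rw [h1]; exact hab
    by_cases h2 : k = i2
    · rw [h2]; exact hac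
    have hXk : X *ᵥ e k = e k := by rw [hXc]; simp [h1, h2]
    have h := hB (e i1) (e k)
    rw [hX1, hXk, map_add, LinearMap.add_apply, add_eq_left] at h
    exact h
  have := hnd (e i0) (fun v => by
    rw [pi_eq_sum_univ' v, map_sum]
    refine Finset.sum_eq_zero fun l _ => ?_
    rw [map_smul]
    simp only [smul_eq_mul]
    exact mul_eq_zero_of_right _ (hcol l))
  simpa [e] using this

/-- The diagonal witness `(ζ, ζ, ζ⁻², 1, …, 1)`. -/
theorem diagonal_obstruction [Fintype F] (hn : 4 ≤ n) (r : ℕ) [hr : Fact r.Prime] (hr2 : r ≠ 2)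
    (hgap : ¬ (n = 6 ∧ r = 3)) (hd : r ∣ Fintype.card F - 1) :
    ∃ x : Matrix.SpecialLinearGroup (Fin n) F,
      (x : Matrix (Fin n) (Fin n) F) ^ r = (1 : F) • (1 : Matrix (Fin n) (Fin n) F) ∧
      (∀ z : F, (x : Matrix (Fin n) (Fin n) F) ≠ z • 1) ∧
      ∀ (B : LinearMap.BilinForm F (Fin n → F)) (μ : F), (∀ v, B v v = 0) →
        (∀ u, (∀ v, B u v = 0) → u = 0) →
        (∀ u v, B ((x : Matrix (Fin n) (Fin n) F) *ᵥ u) ((x : Matrix (Fin n) (Fin n) F) *ᵥ v) = μ * B u v) →
        False := by
  classical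
  obtain ⟨t, ht⟩ := exists_prime_orderOf_dvd_card' (G := Fˣ) r (by rwa [Nat.card_units, Nat.card_eq_fintype_card])
  set ζ : F := (t : F) with hζ
  have hζr : ζ ^ r = 1 := by
    rw [hζ, ← Units.val_pow_eq_pow_val, ← ht, pow_orderOf_eq_one, Units.val_one]
  have hζ0 : ζ ≠ 0 := t.ne_zero
  have hne : ∀ k, 0 < k → k < r → ζ ^ k ≠ 1 := by
    intro k hk hkr h
    have h' : t ^ k = 1 := Units.ext (by simpa [hζ] using h)
    have := Nat.le_of_dvd hk (ht ▸ orderOf_dvd_of_pow_eq_one h')
    omega
  have hr3 : 3 ≤ r := by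
    have := hr.out.two_le
    omega
  have hz1 : ζ ≠ 1 := by simpa using hne 1 (by omega) (by omega)
  have hz2 : ζ * ζ ≠ 1 := by simpa [pow_two] using hne 2 (by omega) (by omega)
  set w : F := (ζ * ζ)⁻¹ with hw
  have hw1 : w * (ζ * ζ) = 1 := inv_mul_cancel₀ (mul_ne_zero hζ0 hζ0)
  let i0 : Fin n := ⟨0, by omega⟩
  let i1 : Fin n := ⟨1, by omega⟩
  let i2 : Fin n := ⟨2, by omega⟩
  let i3 : Fin n := ⟨3, by omega⟩
  let d : Fin n → F := fun i => if (i : ℕ) < 2 then ζ else if (i : ℕ) = 2 then w else 1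
  have hd0 : d i0 = ζ := by simp [d, i0]
  have hd2 : d i2 = w := by simp [d, i2]
  have hd3 : d i3 = 1 := by simp [d, i3]
  have hcases : ∀ i : Fin n, d i = ζ ∨ ((i : ℕ) = 2 ∧ d i = w) ∨ d i = 1 := by
    intro i
    simp only [d]
    split_ifs with h1 h2
    · exact Or.inl rfl
    · exact Or.inr (Or.inl ⟨h2, rfl⟩)
    · exact Or.inr (Or.inr rfl)
  have hdet : (Matrix.diagonal d).det = 1 := by
    rw [Matrix.det_diagonal, ← Finset.prod_subset (Finset.subset_univ ({i0, i1, i2} : Finset (Fin n)))]
    · rw [Finset.prod_insert (by simp [i0, i1, i2, Fin.ext_iff]), Finset.prod_insert (by simp [i1, i2, Fin.ext_iff]),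
        Finset.prod_singleton, hd0, hd2, show d i1 = ζ by simp [d, i1]]
      linear_combination hw1
    · intro i _ hi
      simp [i0, i1, i2, Fin.ext_iff] at hi
      simp only [d]
      rw [if_neg (by omega), if_neg (by omega)]
  have hdr : ∀ i, d i ^ r = 1 := fun i => by
    rcases hcases i with h | ⟨-, h⟩ | h <;> rw [h]
    · exact hζr
    · rw [hw, inv_pow, mul_pow, hζr, one_mul, inv_one]
    · exact one_pow r
  refine ⟨⟨Matrix.diagonal d, hdet⟩, ?_, ?_, ?_⟩
  · show Matrix.diagonal d ^ r = _
    rw [Matrix.diagonal_pow, one_smul, ← Matrix.diagonal_one]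
    exact congrArg Matrix.diagonal (funext hdr)
  · intro z hz
    have h0 := congrFun (congrFun hz i0) i0
    have h3 := congrFun (congrFun hz i3) i3
    simp [hd0, hd3] at h0 h3
    exact hz1 (h0.trans h3.symm)
  intro B μ halt hnd hB
  change ∀ u v, B (Matrix.diagonal d *ᵥ u) (Matrix.diagonal d *ᵥ v) = μ * B u v at hB
  let e : Fin n → Fin n → F := fun i => Pi.single i 1
  have hpair : ∀ k l, B (e k) (e l) ≠ 0 → d k * d l = μ := by
    intro k l hkl
    have h := hB (e k) (e l)
    have he : ∀ k, Matrix.diagonal d *ᵥ e k = d k • e k := fun k => by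
      funext a; by_cases ha : a = k <;> simp [e, Matrix.mulVec_diagonal, ha]
    rw [he, he, map_smul, map_smul, LinearMap.smul_apply, smul_eq_mul, smul_eq_mul] at h
    apply mul_right_cancel₀ hkl
    linear_combination h
  have hpartner : ∀ k, ∃ l, l ≠ k ∧ B (e k) (e l) ≠ 0 := by
    intro k
    by_contra h
    push Not at h
    have hall : ∀ l, B (e k) (e l) = 0 := fun l => by
      by_cases hl : l = k
      · rw [hl]; exact halt _
      · exact h l hl
    have := hnd (e k) (fun v => by
      rw [pi_eq_sum_univ' v, map_sum]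
      refine Finset.sum_eq_zero fun l _ => ?_
      rw [map_smul]
      simp only [smul_eq_mul]
      exact mul_eq_zero_of_right _ (hall l))
    simpa [e] using this
  obtain ⟨l0, -, h0⟩ := hpartner i0
  obtain ⟨l2, hl2, h2⟩ := hpartner i2
  obtain ⟨l3, -, h3⟩ := hpartner i3
  have e0 := hpair _ _ h0
  have e2 := hpair _ _ h2
  have e3 := hpair _ _ h3
  rw [hd0] at e0
  rw [hd2] at e2
  rw [hd3, one_mul] at e3
  by_cases h33 : r = 3
  · subst h33
    have hwζ : w = ζ := by
      rw [hw, inv_eq_iff_eq_inv]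
      exact eq_inv_of_mul_eq_one_left (by linear_combination hζr)
    have hcls : ∀ i : Fin n, (d i = ζ ∧ (i : ℕ) < 3) ∨ (d i = 1 ∧ 3 ≤ (i : ℕ)) := by
      intro i
      by_cases hi : (i : ℕ) < 3
      · left
        refine ⟨?_, hi⟩
        simp only [d, hwζ]
        split_ifs with h1 h2 <;> first | rfl | omega
      · right
        refine ⟨?_, by omega⟩
        simp only [d]
        rw [if_neg (by omega), if_neg (by omega)]
    have hμ : μ = ζ := by
      rcases hcls l0 with ⟨ha, -⟩ | ⟨ha, -⟩
      · rw [ha] at e0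
        rcases hcls l3 with ⟨hb, -⟩ | ⟨hb, -⟩ <;> rw [hb] at e3
        · exact absurd (mul_left_cancel₀ hζ0 (e0.trans (e3.symm.trans (mul_one ζ).symm))) hz1
        · exact absurd (e0.trans e3.symm) hz2
      · rw [ha, mul_one] at e0; exact e0.symm
    let S : Finset (Fin n) := Finset.univ.filter fun i => (i : ℕ) < 3
    have hS : S.card = 3 := by
      rw [show S = Finset.univ.map (Fin.castLEEmb (show 3 ≤ n by omega)) by
        ext i
        simp only [S, Finset.mem_filter, Finset.mem_univ, true_and, Finset.mem_map]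
        exact ⟨fun h => ⟨⟨i, h⟩, Fin.ext rfl⟩, fun ⟨j, hj⟩ => hj ▸ j.2⟩]
      simp
    have h1 := card_le_of_isotropic hnd S (fun k hk l hl => by
      by_contra h
      have := hpair k l h
      simp [S] at hk hl
      rcases hcls k with ⟨hka, -⟩ | ⟨-, hkb⟩
      · rcases hcls l with ⟨hla, -⟩ | ⟨-, hlb⟩
        · rw [hka, hla, hμ] at this
          exact hz1 (mul_left_cancel₀ hζ0 (by rw [this, mul_one]))
        · omega
      · omega)
    have h2 := card_le_of_isotropic hnd Sᶜ (fun k hk l hl => by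
      by_contra h
      have := hpair k l h
      simp [S] at hk hl
      rcases hcls k with ⟨-, hka⟩ | ⟨hka, -⟩
      · omega
      · rcases hcls l with ⟨-, hla⟩ | ⟨hla, -⟩
        · omega
        · rw [hka, hla, hμ, mul_one] at this
          exact hz1 this.symm)
    rw [Finset.card_compl, Fintype.card_fin, hS] at h2
    rw [hS] at h1
    exact hgap ⟨by omega, rfl⟩
  · have hr5 : 5 ≤ r := by
      rcases Nat.lt_or_ge r 5 with h | h
      · have : r = 4 := by omega
        have hp := hr.out
        rw [this] at hp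
        norm_num at hp
      · exact h
    have z3 : ζ * ζ * ζ ≠ 1 := by simpa [pow_succ] using hne 3 (by omega) (by omega)
    have z4 : ζ * ζ * ζ * ζ ≠ 1 := by simpa [pow_succ] using hne 4 (by omega) (by omega)
    have hμ : μ = w := by
      rcases hcases l2 with ha | ⟨ha, -⟩ | ha
      · rw [ha] at e2
        have hinv : μ * ζ = 1 := by linear_combination hw1 - ζ * e2
        exfalso
        rcases hcases l3 with hb | ⟨-, hb⟩ | hb <;> rw [hb] at e3
        · exact hz2 (by linear_combination hinv + ζ * e3)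
        · exact hz1 (by linear_combination hw1 - ζ * hinv - (ζ * ζ) * e3)
        · exact hz1 (by linear_combination hinv + ζ * e3)
      · exact absurd (Fin.ext ha) hl2
      · rw [ha, mul_one] at e2; exact e2.symm
    subst hμ
    rcases hcases l0 with ha | ⟨-, ha⟩ | ha <;> rw [ha] at e0
    · exact z4 (by linear_combination hw1 + (ζ * ζ) * e0)
    · exact hz1 (by linear_combination (ζ * ζ) * e0 + (1 - ζ) * hw1)
    · exact z3 (by linear_combination hw1 + (ζ * ζ) * e0)

/-- The irreducible witness on an odd-dimensional block. -/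
theorem block_obstruction [Fintype F] (r : ℕ) [Fact r.Prime] (hr : (r : F) ≠ 0) {a b : ℕ} (hab : a + b = n)
    (ha2 : 2 ≤ a) (hao : Odd a) (hb : 0 < b) (ho : orderOf (Fintype.card F : ZMod r) = a) :
    ∃ x : Matrix.SpecialLinearGroup (Fin n) F,
      (x : Matrix (Fin n) (Fin n) F) ^ r = (1 : F) • (1 : Matrix (Fin n) (Fin n) F) ∧
      (∀ z : F, (x : Matrix (Fin n) (Fin n) F) ≠ z • 1) ∧
      ∀ (B : LinearMap.BilinForm F (Fin n → F)) (μ : F), (∀ v, B v v = 0) →
        (∀ u, (∀ v, B u v = 0) → u = 0) →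
        (∀ u v, B ((x : Matrix (Fin n) (Fin n) F) *ᵥ u) ((x : Matrix (Fin n) (Fin n) F) *ᵥ v) = μ * B u v) →
        False := by
  classical
  obtain ⟨y, hyr, hy1, hirr⟩ := exists_irreducible_SL hr ha2 ho
  set Y : Matrix (Fin a) (Fin a) F := (y : Matrix (Fin a) (Fin a) F)
  let σ : Fin a ⊕ Fin b ≃ Fin n := finSumFinEquiv.trans (finCongr hab)
  let emb : Matrix (Fin a) (Fin a) F →* Matrix (Fin n) (Fin n) F :=
    { toFun := fun A => Matrix.reindexAlgEquiv F F σ (Matrix.fromBlocks A 0 0 1)
      map_one' := by rw [Matrix.fromBlocks_one, map_one]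
      map_mul' := fun A C => by rw [← map_mul, Matrix.fromBlocks_multiply]; simp }
  have hdet : (emb Y).det = 1 := by
    show (Matrix.reindexAlgEquiv F F σ (Matrix.fromBlocks Y 0 0 1)).det = 1
    rw [Matrix.det_reindexAlgEquiv, Matrix.det_fromBlocks_zero₂₁, Matrix.det_one, mul_one]
    exact y.2
  let L : (Fin a → F) →ₗ[F] (Fin n → F) :=
    { toFun := fun v i => Sum.elim v 0 (σ.symm i)
      map_add' := fun u v => funext fun i => by rcases h : σ.symm i with s | s <;> simp [h]
      map_smul' := fun c v => funext fun i => by rcases h : σ.symm i with s | s <;> simp [h] }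
  let R : (Fin b → F) →ₗ[F] (Fin n → F) :=
    { toFun := fun v i => Sum.elim 0 v (σ.symm i)
      map_add' := fun u v => funext fun i => by rcases h : σ.symm i with s | s <;> simp [h]
      map_smul' := fun c v => funext fun i => by rcases h : σ.symm i with s | s <;> simp [h] }
  have hL : ∀ v, emb Y *ᵥ L v = L (Y *ᵥ v) := fun v => by
    funext i
    obtain ⟨s, rfl⟩ := σ.surjective i
    show (Matrix.reindexAlgEquiv F F σ (Matrix.fromBlocks Y 0 0 1) *ᵥ _) _ = _
    rw [Matrix.coe_reindexAlgEquiv, Matrix.reindex_apply, Matrix.submatrix_mulVec_equiv]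
    rcases s with s | s <;> simp [L, Matrix.fromBlocks_mulVec, Function.comp_def]
  have hR : ∀ v, emb Y *ᵥ R v = R v := fun v => by
    funext i
    obtain ⟨s, rfl⟩ := σ.surjective i
    show (Matrix.reindexAlgEquiv F F σ (Matrix.fromBlocks Y 0 0 1) *ᵥ _) _ = _
    rw [Matrix.coe_reindexAlgEquiv, Matrix.reindex_apply, Matrix.submatrix_mulVec_equiv]
    rcases s with s | s <;> simp [R, Matrix.fromBlocks_mulVec, Function.comp_def, ← Pi.zero_def]
  have hsum : ∀ v, v = L (fun s => v (σ (Sum.inl s))) + R (fun s => v (σ (Sum.inr s))) := fun v => by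
    funext i
    obtain ⟨s, rfl⟩ := σ.surjective i
    rcases s with s | s <;> simp [L, R]
  refine ⟨⟨emb Y, hdet⟩, ?_, ?_, ?_⟩
  · show emb Y ^ r = _
    rw [← map_pow, hyr, map_one, one_smul]
  · intro z hz
    change emb Y = z • 1 at hz
    let bb : Fin b := ⟨0, hb⟩
    have h1 := hR (Pi.single bb 1)
    rw [hz, Matrix.smul_mulVec, Matrix.one_mulVec] at h1
    have hz1 : z = 1 := by simpa [R] using congrFun h1 (σ (Sum.inr bb))
    apply hy1
    refine Matrix.ext_of_mulVec_single fun i => funext fun j => ?_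
    have h2 := congrFun (hL (Pi.single i 1)) (σ (Sum.inl j))
    rw [hz, hz1, one_smul, Matrix.one_mulVec] at h2
    simp [L] at h2
    rw [Matrix.mulVec_single_one, Matrix.mulVec_single_one]
    simpa [Matrix.col_apply, Matrix.one_apply, Pi.single_apply] using h2.symm
  intro B μ halt hnd hB
  change ∀ u v, B (emb Y *ᵥ u) (emb Y *ᵥ v) = μ * B u v at hB
  have hcross : ∀ w v, B (R w) (L v) = 0 := by
    intro w
    let T : Submodule F (Fin a → F) := LinearMap.ker ((B (R w)).comp L)
    have hT : ∀ v ∈ T, Y *ᵥ v ∈ T := by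
      intro v hv
      have h := hB (R w) (L v)
      rw [hR, hL] at h
      show B (R w) (L (Y *ᵥ v)) = 0
      rw [h, show B (R w) (L v) = 0 from hv, mul_zero]
    have hTtop : T = ⊤ := by
      refine (hirr T hT).resolve_left fun hbot => ?_
      have hle := LinearMap.finrank_range_add_finrank_ker ((B (R w)).comp L)
      have hr1 : Module.finrank F (LinearMap.range ((B (R w)).comp L)) ≤ 1 := by
        have := Submodule.finrank_le (LinearMap.range ((B (R w)).comp L))
        rwa [Module.finrank_self] at this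
      rw [show LinearMap.ker ((B (R w)).comp L) = T from rfl, hbot, finrank_bot, Module.finrank_fin_fun] at hle
      omega
    intro v
    exact (hTtop ▸ Submodule.mem_top : v ∈ T)
  let BL : LinearMap.BilinForm F (Fin a → F) := LinearMap.compl₁₂ B L L
  have hLnd : ∀ v, (∀ v', BL v v' = 0) → v = 0 := by
    intro v hv
    have h0 : L v = 0 := hnd _ fun u => by
      rw [hsum u, map_add, show B (L v) (L _) = 0 from hv _, zero_add, swap_of_alt halt, hcross, neg_zero]
    funext s
    simpa [L] using congrFun h0 (σ (Sum.inl s))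
  exact (Nat.not_even_iff_odd.2 hao)
    (even_finrank_of_alt_nondeg a BL (fun v => halt _) hLnd (Module.finrank_fin_fun F))


/-- Derangements of odd prime order of PSL_n(q) on the cosets of a symplectic-type subgroup. Here `T = PSL_n(F)` for a field `F` with `q` elements, `n ≥ 4` even, `f` is a nondegenerate alternating form on `F^n`, and `H` is the subgroup of matrices of determinant 1 preserving `f` up to a scalar — a maximal subgroup of type Sp_n(q); Ω is the set of `T`-conjugates of `H` (cosets of `H`), so an element of `T` of prime order `r` (a matrix `x` of determinant 1 with `x^r` scalar, `x` not scalar) fixes a point of Ω when some conjugate of `x` by a matrix of determinant 1 preserves `f` up to a scalar. For every odd prime `r` dividing the index of `H`, with `(n, r) ≠ (6, 3)`, there is an element of `T` of order `r` with no conjugate in `H`. (For `n = 6`, `r = 3` this can fail: when `(q − 1)_3 = 3` every element of order 3 is conjugate into `H`.) -/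
theorem result {F : Type*} [Field F] [Fintype F] {p : ℕ} [Fact p.Prime] [CharP F p] {q : ℕ} (hq : Fintype.card F = q)
    (n : ℕ) (hn : 4 ≤ n) (he : Even n) (f : (Fin n → F) → (Fin n → F) → F) (hf : Cfsg.Geo.IsSymplecticForm f)
    (r : ℕ) [Fact r.Prime] (hr2 : r ≠ 2) (hgap : ¬ (n = 6 ∧ r = 3)) (hΩ : r ∣ ((Cfsg.Geo.similarityGroup f).comap (Matrix.SpecialLinearGroup.toGL : Matrix.SpecialLinearGroup (Fin n) F →* GL (Fin n) F)).index) :
    ∃ x : Matrix.SpecialLinearGroup (Fin n) F,
      (∃ z : F, ((x ^ r : Matrix.SpecialLinearGroup (Fin n) F) : Matrix (Fin n) (Fin n) F) = z • (1 : Matrix (Fin n) (Fin n) F)) ∧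
      (∀ z : F, (x : Matrix (Fin n) (Fin n) F) ≠ z • (1 : Matrix (Fin n) (Fin n) F)) ∧
      ∀ P : Matrix.SpecialLinearGroup (Fin n) F, P⁻¹ * x * P ∉ ((Cfsg.Geo.similarityGroup f).comap (Matrix.SpecialLinearGroup.toGL : Matrix.SpecialLinearGroup (Fin n) F →* GL (Fin n) F)) := by
  classical
  subst hq
  obtain ⟨m, hnm'⟩ := he
  have key : ∃ x : Matrix.SpecialLinearGroup (Fin n) F,
      (x : Matrix (Fin n) (Fin n) F) ^ r = (1 : F) • (1 : Matrix (Fin n) (Fin n) F) ∧
      (∀ z : F, (x : Matrix (Fin n) (Fin n) F) ≠ z • 1) ∧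
      ∀ (B : LinearMap.BilinForm F (Fin n → F)) (μ : F), (∀ v, B v v = 0) →
        (∀ u, (∀ v, B u v = 0) → u = 0) →
        (∀ u v, B ((x : Matrix (Fin n) (Fin n) F) *ᵥ u) ((x : Matrix (Fin n) (Fin n) F) *ᵥ v) = μ * B u v) →
        False := by
    by_cases hrp : r = p
    · subst hrp
      exact unipotent_obstruction hn r hr2
    by_cases hd : r ∣ Fintype.card F - 1
    · exact diagonal_obstruction hn r hr2 hgap hd
    have hrF : (r : F) ≠ 0 := PrimeOrderElt.natCast_ne_zero_of_ne (p := p) hrp
    have hrq : ¬ r ∣ Fintype.card F := by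
      obtain ⟨e, hpe, he'⟩ := FiniteField.card F p
      rw [he']
      intro h
      exact hrp ((Nat.prime_dvd_prime_iff_eq Fact.out hpe).1 ((Fact.out : r.Prime).dvd_of_dvd_pow h))
    obtain ⟨i, hio, hin, hdi⟩ :=
      exists_of_dvd_index_similarity (show 0 < m by omega) (show n = 2 * m by omega) hf Fact.out hrq hΩ
    set a := orderOf (Fintype.card F : ZMod r) with ha
    have hdvd : a ∣ i := (PrimeOrderElt.dvd_pow_sub_one_iff i).1 hdi
    have hapos : 0 < a := PrimeOrderElt.orderOf_card_pos hrF
    have ha1 : a ≠ 1 := fun h => hd (by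
      have := (PrimeOrderElt.dvd_pow_sub_one_iff (r := r) (F := F) 1).2 (ha ▸ h ▸ dvd_rfl)
      rwa [pow_one] at this)
    have hai : a ≤ i := Nat.le_of_dvd (by obtain ⟨c, rfl⟩ := hio; omega) hdvd
    exact block_obstruction r hrF (a := a) (b := n - a) (by omega) (by omega) (hio.of_dvd_nat hdvd) (by omega) rfl
  obtain ⟨x, hx, hns, hobs⟩ := key
  exact ⟨x, ⟨1, by rw [Matrix.SpecialLinearGroup.coe_pow, hx]⟩, hns, not_mem_similarity hf x hobs⟩

end Cfsg.Agent.S5968
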