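import Cfsg.Statements.S5969
import Cfsg.Agent.EqLemmas
import Cfsg.Agent.Lib.Linear.QuadExt

set_option autoImplicit false
open scoped MatrixGroups
open Cfsg

namespace Cfsg.Agent.S5969

open Matrix Cfsg.Agent.Linear

/-- A block diagonal matrix with companion blocks of `X² - z` inverts a quadratic field. -/
theorem exists_inverted {F : Type*} [Field F] [Fintype F] {n : ℕ} {ι : Type*} [Fintype ι] [DecidableEq ι]
    (e : Fin 2 × ι ≃ Fin n) (P : GL (Fin n) F) (a b z : F) (hz : z ≠ 0) :
    ∃ J : Matrix (Fin n) (Fin n) F, J * J = a • J + b • 1 ∧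
      pairHom e P (fun _ => comp2 0 z) * J = (a • 1 - J) * pairHom e P (fun _ => comp2 0 z) := by
  obtain ⟨u, w, h⟩ := exists_sq_sub_eq a b z hz
  set J₀ : Matrix (Fin 2) (Fin 2) F := !![u, -(z * w); w, a - u] with hJ₀
  have h1 : J₀ * J₀ = a • J₀ + b • 1 := by
    ext i j
    fin_cases i <;> fin_cases j <;>
      simp [hJ₀, Matrix.mul_apply, Fin.sum_univ_two] <;>
      first | linear_combination h | linear_combination -h | ring
  have h2 : comp2 0 z * J₀ = (a • 1 - J₀) * comp2 0 z := by
    ext i j
    fin_cases i <;> fin_cases j <;>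
      simp [hJ₀, comp2, Matrix.mul_apply, Fin.sum_univ_two] <;> ring
  refine ⟨pairHom e P fun _ => J₀, ?_, ?_⟩
  · rw [← map_mul, show ((fun _ => J₀) * fun _ => J₀ : ι → Matrix (Fin 2) (Fin 2) F) =
        a • (fun _ => J₀) + b • 1 from funext fun _ => h1, map_add, pairHom_smul, pairHom_smul, map_one]
  · rw [← map_mul, show ((fun _ => comp2 0 z) * fun _ => J₀ : ι → Matrix (Fin 2) (Fin 2) F) =
        (a • 1 - fun _ => J₀) * (fun _ => comp2 0 z) from funext fun _ => h2, map_mul, map_sub,
      pairHom_smul, map_one]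

/-- Even eigenspaces: an involution up to scalars centralises a quadratic field. -/
theorem exists_centralised {F : Type*} [Field F] [Fintype F] {n : ℕ} (he : Even n) (a b c : F) (hc : c ≠ 0)
    (h2 : (2 : F) ≠ 0) (hcn : c ^ n ≠ -1) (A : Matrix (Fin n) (Fin n) F) (hA : A.det = 1)
    (hA2 : A * A = (c * c) • (1 : Matrix (Fin n) (Fin n) F)) :
    ∃ J : Matrix (Fin n) (Fin n) F, J * J = a • J + b • 1 ∧ A * J = J * A := by
  classical
  let Ep := Module.End.eigenspace (Matrix.toLin' A) c
  let Em := Module.End.eigenspace (Matrix.toLin' A) (-c)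
  have hp : ∀ v, v ∈ Ep ↔ A *ᵥ v = c • v := fun v => by simp [Ep]
  have hm : ∀ v, v ∈ Em ↔ A *ᵥ v = (-c) • v := fun v => by simp [Em]
  have hAA : ∀ v, A *ᵥ (A *ᵥ v) = (c * c) • v := fun v => by
    rw [Matrix.mulVec_mulVec, hA2, Matrix.smul_mulVec, Matrix.one_mulVec]
  have hcompl : IsCompl Ep Em := by
    refine ⟨?_, ?_⟩
    · rw [disjoint_iff_inf_le]
      rintro v ⟨h1, h3⟩
      have hv : (2 * c) • v = 0 := by
        have := ((hp v).1 h1).symm.trans ((hm v).1 h3)
        rw [neg_smul, eq_neg_iff_add_eq_zero, ← add_smul] at this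
        rwa [two_mul]
      exact (smul_eq_zero.1 hv).resolve_left (mul_ne_zero h2 hc)
    · rw [codisjoint_iff_le_sup]
      intro v _
      rw [Submodule.mem_sup]
      refine ⟨(2 : F)⁻¹ • (v + c⁻¹ • (A *ᵥ v)), (hp _).2 ?_, (2 : F)⁻¹ • (v - c⁻¹ • (A *ᵥ v)), (hm _).2 ?_, ?_⟩
      · rw [Matrix.mulVec_smul, Matrix.mulVec_add, Matrix.mulVec_smul, hAA]
        match_scalars <;> field_simp
      · rw [Matrix.mulVec_smul, Matrix.mulVec_sub, Matrix.mulVec_smul, hAA]
        match_scalars <;> field_simp
      · match_scalars <;> field_simp <;> ring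
  set n₁ := Module.finrank F Ep
  set n₂ := Module.finrank F Em
  have hsum : n₁ + n₂ = n := by
    have := Submodule.finrank_add_eq_of_isCompl hcompl
    rwa [Module.finrank_fin_fun] at this
  let B := ((Module.finBasis F Ep).prod (Module.finBasis F Em)).map (Submodule.prodEquivOfIsCompl _ _ hcompl)
  have hBl : ∀ i, A *ᵥ B (Sum.inl i) = c • B (Sum.inl i) := fun i => by
    have : B (Sum.inl i) ∈ Ep := by simp [B]
    exact (hp _).1 this
  have hBr : ∀ i, A *ᵥ B (Sum.inr i) = (-c) • B (Sum.inr i) := fun i => by
    have : B (Sum.inr i) ∈ Em := by simp [B]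
    exact (hm _).1 this
  have hn2 : Even n₂ := by
    by_contra hodd
    rw [Nat.not_even_iff_odd] at hodd
    let ε : Fin n₁ ⊕ Fin n₂ ≃ Fin n := finSumFinEquiv.trans (finCongr hsum)
    let Q : Matrix (Fin n) (Fin n) F := Matrix.of fun r k => B (ε.symm k) r
    let d : Fin n → F := fun k => Sum.elim (fun _ => c) (fun _ => -c) (ε.symm k)
    have hQ : Q.det ≠ 0 := by
      have hu : LinearIndependent F Q.col := B.linearIndependent.comp _ ε.symm.injective
      exact ((Matrix.isUnit_iff_isUnit_det Q).mp (Matrix.linearIndependent_cols_iff_isUnit.mp hu)).ne_zero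
    have hAQ : A * Q = Q * Matrix.diagonal d := by
      ext r k
      obtain ⟨s, rfl⟩ := ε.surjective k
      rw [Matrix.mul_diagonal]
      have h1 : (A * Q) r (ε s) = (A *ᵥ B s) r := by simp [Matrix.mul_apply, Matrix.mulVec, dotProduct, Q]
      rw [h1]
      rcases s with i | i
      · simp [hBl, Q, d, mul_comm]
      · simp [hBr, Q, d, mul_comm]
    have hdet := congrArg Matrix.det hAQ
    rw [Matrix.det_mul, Matrix.det_mul, hA, one_mul, Matrix.det_diagonal, ← ε.prod_comp,
      Fintype.prod_sum_type] at hdet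
    simp only [d, Equiv.symm_apply_apply, Sum.elim_inl, Sum.elim_inr, Finset.prod_const, Finset.card_univ,
      Fintype.card_fin] at hdet
    have h1 : c ^ n₁ * (-c) ^ n₂ = 1 := mul_left_cancel₀ hQ (by rw [← hdet, mul_one])
    rw [hodd.neg_pow, mul_neg, ← pow_add, hsum] at h1
    exact hcn (by linear_combination -h1)
  obtain ⟨k₁, hk₁⟩ : Even n₁ := by
    rw [← hsum] at he
    exact (Nat.even_add.1 he).2 hn2
  obtain ⟨k₂, hk₂⟩ := hn2
  let ι := Fin k₁ ⊕ Fin k₂
  let e₁ : Fin 2 × Fin k₁ ≃ Fin n₁ := finProdFinEquiv.trans (finCongr (by omega))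
  let e₂ : Fin 2 × Fin k₂ ≃ Fin n₂ := finProdFinEquiv.trans (finCongr (by omega))
  let g : Fin 2 × ι ≃ Fin n₁ ⊕ Fin n₂ := (Equiv.prodSumDistrib _ _ _).trans (Equiv.sumCongr e₁ e₂)
  let e : Fin 2 × ι ≃ Fin n := g.trans (finSumFinEquiv.trans (finCongr hsum))
  obtain ⟨P, hP⟩ := eq_pairHom_of_basis e A (fun k => B (g k)) (B.linearIndependent.comp _ g.injective)
  have hAeq := hP (Sum.elim (fun _ => c • 1) (fun _ => (-c) • 1)) (by
    rintro ⟨t, i | i⟩ <;> fin_cases t <;>
      simp [g, Equiv.prodSumDistrib, hBl, hBr])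
  refine ⟨pairHom e P fun _ => comp2 a b, ?_, ?_⟩
  · rw [← map_mul, show ((fun _ => comp2 a b) * fun _ => comp2 a b : ι → Matrix (Fin 2) (Fin 2) F) =
        a • (fun _ => comp2 a b) + b • 1 from funext fun _ => comp2_sq a b, map_add, pairHom_smul,
      pairHom_smul, map_one]
  · rw [hAeq, ← map_mul, ← map_mul]
    congr 1
    funext i
    rcases i with i | i <;> simp

/-- Involutions of PSL_n(q) and extension-field subgroups of degree 2. Here `T = PSL_n(F)` for a field `F` with `q = p^f` elements (`n ≥ 2`, `(n, q) ≠ (2, 2), (2, 3)`), `k` is a prime dividing `n`, `K` is a subalgebra of the `n × n` matrices that is a field of degree `k` over `F` (an extension-field structure F_{q^k} on `F^n`), and `H` is the subgroup of matrices of determinant 1 normalizing `K` — a subgroup of type GL_{n/k}(q^k) (maximal except in some small cases; maximality is not assumed); Ω is the set of cosets of `H` in `T`, so an element of `T` of prime order `r` (a matrix `x` of determinant 1 with `x^r` scalar, `x` not scalar) fixes a point of Ω when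 some conjugate of `x` by a matrix of determinant 1 normalizes `K`. Take `k = 2` and suppose the index of `H` is even. Then every involution of `T` is conjugate in `T` into `H` if and only if `n = 2`, or `q` is odd and `(q − 1)_2 ≤ (n)_2`. -/
theorem result {F : Type*} [Field F] [Fintype F] {p : ℕ} [Fact p.Prime] [CharP F p] {q : ℕ} (hq : Fintype.card F = q)
    (n : ℕ) (hn : 2 ≤ n) (hT : (n, q) ≠ (2, 2) ∧ (n, q) ≠ (2, 3))
    (k : ℕ) (hk : k.Prime) (hkn : k ∣ n) (K : Subalgebra F (Matrix (Fin n) (Fin n) F)) (hK : Cfsg.Geo.IsFieldSubalgebra k K) (hk2 : k = 2) (hΩ : 2 ∣ ((Cfsg.Geo.subalgebraNormalizer K).comap (Matrix.SpecialLinearGroup.toGL : Matrix.SpecialLinearGroup (Fin n) F →* GL (Fin n) F)).index) :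
    (∀ x : Matrix.SpecialLinearGroup (Fin n) F,
      (∃ z : F, ((x ^ 2 : Matrix.SpecialLinearGroup (Fin n) F) : Matrix (Fin n) (Fin n) F) = z • (1 : Matrix (Fin n) (Fin n) F)) →
      (∀ z : F, (x : Matrix (Fin n) (Fin n) F) ≠ z • (1 : Matrix (Fin n) (Fin n) F)) →
      ∃ P : Matrix.SpecialLinearGroup (Fin n) F, P⁻¹ * x * P ∈ ((Cfsg.Geo.subalgebraNormalizer K).comap (Matrix.SpecialLinearGroup.toGL : Matrix.SpecialLinearGroup (Fin n) F →* GL (Fin n) F))) ↔
    (n = 2 ∨ (Odd q ∧ padicValNat 2 (q - 1) ≤ padicValNat 2 n)) := by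
  classical
  haveI : NeZero n := ⟨by omega⟩
  subst hk2
  obtain ⟨j, hjK, a, b, hj2, hno, hsp⟩ := exists_gen_of_quad hK
  have hcrit := exists_mem_normalizer_iff hjK hj2 hno hsp hK
  have he : Even n := (exists_pairs j a b hj2 hno).1
  have hodd : Odd q ↔ (2 : F) ≠ 0 := by
    rw [Nat.odd_iff, ← hq]
    constructor
    · intro h h0
      have h2 : ringChar F = 2 := by
        have : CharP F 2 := CharTwo.of_one_ne_zero_of_two_eq_zero one_ne_zero h0
        exact ringChar.eq F 2
      have := FiniteField.even_card_of_char_two h2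
      omega
    · intro h
      exact FiniteField.odd_card_of_char_ne_two fun h' => h (by
        have := ringChar.charP F
        rw [h'] at this
        exact CharTwo.two_eq_zero)
  constructor
  · intro hall
    by_contra hcon
    push Not at hcon
    obtain ⟨hn2, hν⟩ := hcon
    let i0 : Fin n := ⟨0, by omega⟩
    let i1 : Fin n := ⟨1, by omega⟩
    let i2 : Fin n := ⟨2, by omega⟩
    have h01 : i0 ≠ i1 := by simp [i0, i1, Fin.ext_iff]
    have h02 : i2 ≠ i0 := by simp [i0, i2, Fin.ext_iff]
    have h12 : i2 ≠ i1 := by simp [i1, i2, Fin.ext_iff]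
    -- `J e₀ ∈ F e₀` is impossible
    have hroot : ∀ J : Matrix (Fin n) (Fin n) F, J * J = a • J + b • 1 → (∀ k, k ≠ i0 → J k i0 = 0) → False := by
      intro J hJ hcol
      have h := congrFun (congrFun hJ i0) i0
      rw [Matrix.mul_apply, Finset.sum_eq_single i0 (fun k _ hk => by rw [hcol k hk, mul_zero]) (by simp)] at h
      exact hno (J i0 i0) (by simpa using h)
    by_cases h2 : (2 : F) = 0
    · have ha : a ≠ 0 := by
        rintro rfl
        have hr : ringChar F = 2 := by
          have : CharP F 2 := CharTwo.of_one_ne_zero_of_two_eq_zero one_ne_zero h2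
          exact ringChar.eq F 2
        obtain ⟨c, hc⟩ := FiniteField.isSquare_of_char_two hr b
        exact hno c (by rw [hc]; ring)
      let x : Matrix.SpecialLinearGroup (Fin n) F :=
        ⟨Matrix.transvection i0 i1 1, Matrix.det_transvection_of_ne _ _ h01 _⟩
      have hxv : (x : Matrix (Fin n) (Fin n) F) = Matrix.transvection i0 i1 1 := rfl
      obtain ⟨P, hP⟩ := hall x ⟨1, by
        show ((x ^ 2 : Matrix.SpecialLinearGroup (Fin n) F) : Matrix (Fin n) (Fin n) F) = _
        rw [Matrix.SpecialLinearGroup.coe_pow, hxv, pow_two, Matrix.transvection_mul_transvection_same _ _ h01,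
          show (1 : F) + 1 = 0 by rw [one_add_one_eq_two, h2], Matrix.transvection_zero, one_smul]⟩
        (fun z hz => by
          have := congrFun (congrFun hz i0) i1
          simp [hxv, Matrix.transvection, Matrix.one_apply_ne h01] at this)
      obtain ⟨J, hJ, h | h⟩ := (hcrit x).1 ⟨P, hP⟩
      · refine hroot J hJ fun k hk => ?_
        have := congrFun (congrFun h k) i1
        simp [hxv, hk] at this
        simpa using this
      · have := congrFun (congrFun h i2) i2
        simp [hxv, h02, h12] at this
        apply ha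
        linear_combination -this + J i2 i2 * h2
    · have hν' : padicValNat 2 n < padicValNat 2 (Fintype.card F - 1) := by
        rw [hq]; exact hν (hodd.2 h2)
      obtain ⟨c, hc⟩ := (exists_neg_one_pow_iff (by omega) h2).2 hν'
      have hc0 : c ≠ 0 := by
        rintro rfl; rw [zero_pow (by omega)] at hc; exact one_ne_zero (neg_eq_zero.1 hc.symm)
      let d : Fin n → F := fun i => if i = i0 then -c else c
      have hdet : (Matrix.diagonal d).det = 1 := by
        rw [Matrix.det_diagonal, ← Finset.mul_prod_erase _ _ (Finset.mem_univ i0),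
          Finset.prod_congr rfl (fun i hi => if_neg (Finset.ne_of_mem_erase hi)), Finset.prod_const,
          Finset.card_erase_of_mem (Finset.mem_univ _), Finset.card_univ, Fintype.card_fin]
        simp only [d, if_true]
        rw [neg_mul, ← pow_succ', show n - 1 + 1 = n by omega, hc, neg_neg]
      let x : Matrix.SpecialLinearGroup (Fin n) F := ⟨Matrix.diagonal d, hdet⟩
      have hxv : (x : Matrix (Fin n) (Fin n) F) = Matrix.diagonal d := rfl
      have hd0 : d i0 = -c := by simp [d]
      have hd : ∀ k, k ≠ i0 → d k = c := fun k hk => by simp [d, hk]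
      obtain ⟨P, hP⟩ := hall x ⟨c * c, by
        show ((x ^ 2 : Matrix.SpecialLinearGroup (Fin n) F) : Matrix (Fin n) (Fin n) F) = _
        rw [Matrix.SpecialLinearGroup.coe_pow, hxv, pow_two, Matrix.diagonal_mul_diagonal,
          Matrix.smul_one_eq_diagonal]
        congr 1
        funext i
        by_cases hi : i = i0 <;> simp [d, hi]⟩
        (fun z hz => by
          have e0 := congrFun (congrFun hz i0) i0
          have e1 := congrFun (congrFun hz i1) i1
          simp [hxv, hd0, hd i1 h01.symm] at e0 e1
          rw [← e1, neg_eq_iff_add_eq_zero, ← two_mul, mul_eq_zero] at e0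
          exact e0.elim h2 hc0)
      obtain ⟨J, hJ, h | h⟩ := (hcrit x).1 ⟨P, hP⟩
      · refine hroot J hJ fun k hk => ?_
        have := congrFun (congrFun h k) i0
        rw [hxv, Matrix.diagonal_mul, Matrix.mul_diagonal, hd0, hd k hk] at this
        have e : (2 * c) * J k i0 = 0 := by linear_combination this
        exact (mul_eq_zero.1 e).resolve_left (mul_ne_zero h2 hc0)
      · -- off the first row and column `2 J = a`
        have h2J : ∀ k l, k ≠ i0 → l ≠ i0 → 2 * J k l = if k = l then a else 0 := by
          intro k l hk hl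
          have := congrFun (congrFun h k) l
          rw [hxv, Matrix.diagonal_mul, Matrix.mul_diagonal, hd l hl, hd k hk] at this
          simp only [Matrix.sub_apply, Matrix.smul_apply, Matrix.one_apply, smul_eq_mul, mul_ite, mul_one,
            mul_zero] at this
          apply mul_left_cancel₀ hc0
          linear_combination this
        have hcross : ∀ k l, k ≠ i0 → l ≠ i0 →
            4 * (J k i0 * J i0 l) = if k = l then a * a + 4 * b else 0 := by
          intro k l hk hl
          have hh := congrFun (congrFun hJ k) l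
          rw [Matrix.mul_apply, ← Finset.add_sum_erase _ _ (Finset.mem_univ i0)] at hh
          have hrest : 4 * ∑ m ∈ Finset.univ.erase i0, J k m * J m l = if k = l then a * a else 0 := by
            rw [Finset.mul_sum, Finset.sum_congr rfl (fun m hm => show 4 * (J k m * J m l) =
              (if k = m then a else 0) * (if m = l then a else 0) by
                rw [← h2J k m hk (Finset.ne_of_mem_erase hm), ← h2J m l (Finset.ne_of_mem_erase hm) hl]; ring),
              Finset.sum_eq_single k (fun m _ hm => by rw [if_neg (Ne.symm hm), zero_mul])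
                (fun hm => absurd (Finset.mem_erase.2 ⟨hk, Finset.mem_univ k⟩) hm)]
            by_cases hkl : k = l <;> simp [hkl]
          simp only [Matrix.add_apply, Matrix.smul_apply, Matrix.one_apply, smul_eq_mul, mul_ite, mul_one,
            mul_zero] at hh
          have hkl2 := h2J k l hk hl
          split_ifs at hh hrest hkl2 ⊢
          · linear_combination 4 * hh - hrest + 2 * a * hkl2
          · linear_combination 4 * hh - hrest + 2 * a * hkl2
        have hD : a * a + 4 * b ≠ 0 := by
          intro h0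
          apply hno (a / 2)
          field_simp
          linear_combination -h0
        have e12 := hcross i1 i2 h01.symm h02
        have e11 := hcross i1 i1 h01.symm h01.symm
        have e22 := hcross i2 i2 h02 h02
        rw [if_neg h12.symm] at e12
        rw [if_pos rfl] at e11 e22
        apply hD
        rcases mul_eq_zero.1 e12 with h4 | h4
        · rw [← e11, h4, zero_mul]
        rcases mul_eq_zero.1 h4 with h5 | h5
        · rw [← e11, h5, zero_mul, mul_zero]
        · rw [← e22, h5, mul_zero, mul_zero]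
  · intro hrhs x hx hxns
    rw [hcrit]
    obtain ⟨z, hz⟩ := hx
    set A : Matrix (Fin n) (Fin n) F := (x : Matrix (Fin n) (Fin n) F) with hAdef
    have hA : A.det = 1 := x.2
    have hA2 : A * A = z • 1 := by rw [← hz, Matrix.SpecialLinearGroup.coe_pow, pow_two]
    have hz0 : z ≠ 0 := by
      rintro rfl
      rw [zero_smul] at hA2
      have := congrArg Matrix.det hA2
      simp [hA] at this
    by_cases hn2 : n = 2
    · subst hn2
      obtain ⟨v, hv⟩ : ∃ v : Fin 2 → F, LinearIndependent F ![v, A *ᵥ v] := by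
        by_contra hno'
        push Not at hno'
        have heig : ∀ v : Fin 2 → F, v ≠ 0 → ∃ c : F, c • v = A *ᵥ v := by
          intro v hv0
          by_contra hh
          push Not at hh
          exact hno' v ((LinearIndependent.pair_iff' hv0).2 hh)
        obtain ⟨c0, h0⟩ := heig (Pi.single 0 1) (by simp)
        obtain ⟨c1, h1⟩ := heig (Pi.single 1 1) (by simp)
        obtain ⟨c2, h2⟩ := heig ![1, 1] (by simp)
        have a00 := congrFun h0 0
        have a10 := congrFun h0 1
        have a01 := congrFun h1 0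
        have a11 := congrFun h1 1
        have b0 := congrFun h2 0
        have b1 := congrFun h2 1
        simp [Matrix.mulVec, dotProduct, Fin.sum_univ_two] at a00 a10 a01 a11 b0 b1
        apply hxns (A 0 0)
        ext r s
        fin_cases r <;> fin_cases s <;> simp [← hAdef, ← a10, ← a01]
        linear_combination b0 - b1 - a01 + a10
      let e : Fin 2 × Fin 1 ≃ Fin 2 := Equiv.prodUnique (Fin 2) (Fin 1)
      obtain ⟨P, hP⟩ := eq_pairHom_of_basis e A (fun k => ![v, A *ᵥ v] k.1)
        (hv.comp _ e.injective)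
      have hAeq := hP (fun _ => comp2 0 z) (by
        rintro ⟨k, i⟩
        fin_cases k
        · simp [comp2]
        · show A *ᵥ (A *ᵥ v) = _
          rw [Matrix.mulVec_mulVec, hA2, Matrix.smul_mulVec, Matrix.one_mulVec]
          simp [comp2])
      obtain ⟨J, hJ, hinv⟩ := exists_inverted e P a b z hz0
      exact ⟨J, hJ, Or.inr (by rw [hAeq]; exact hinv)⟩
    obtain ⟨ho, hν⟩ := hrhs.resolve_left hn2
    have h2 := hodd.1 ho
    by_cases hsq : ∃ c : F, z = c * c
    · obtain ⟨c, rfl⟩ := hsq
      obtain ⟨J, hJ, hc⟩ := exists_centralised he a b c (mul_ne_zero_iff.1 hz0).1 h2 (fun hcn => by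
        have := (exists_neg_one_pow_iff (by omega : n ≠ 0) h2).1 ⟨c, hcn⟩
        rw [hq] at this
        omega) A hA hA2
      exact ⟨J, hJ, Or.inl hc⟩
    · obtain ⟨⟨m, hnm⟩, hp⟩ := exists_pairs A 0 z (by rw [zero_smul, zero_add, hA2])
        (fun c hc => hsq ⟨c, by linear_combination -hc⟩)
      let e : Fin 2 × Fin m ≃ Fin n := finProdFinEquiv.trans (finCongr (by omega))
      obtain ⟨P, hAeq⟩ := hp m e
      obtain ⟨J, hJ, hinv⟩ := exists_inverted e P a b z hz0
      exact ⟨J, hJ, Or.inr (by rw [hAeq]; exact hinv)⟩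

end Cfsg.Agent.S5969
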