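import Cfsg.Statements.S5970
import Cfsg.Agent.EqLemmas
import Cfsg.Agent.Lib.PrimeOrderElt.Criteria

set_option autoImplicit false
open scoped MatrixGroups
open Cfsg

namespace Cfsg.Agent.S5970

open Cfsg.Agent.PrimeOrderElt Module

section
variable {F : Type*} [Field F] {n : ℕ} {K : Type*} [Field K] [Algebra F K]
  (ι : K →ₐ[F] Matrix (Fin n) (Fin n) F)

/-- The space as a one-dimensional vector space over `K`. -/
noncomputable abbrev evalAt (v : Fin n → F) : K →ₗ[F] (Fin n → F) :=
  (LinearMap.applyₗ v).comp ((Matrix.toLin' : Matrix (Fin n) (Fin n) F ≃ₗ[F] _).toLinearMap.comp ι.toLinearMap)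

theorem evalAt_apply (v : Fin n → F) (a : K) : evalAt ι v a = (ι a).mulVec v := rfl

theorem evalAt_bijective [FiniteDimensional F K] (hK : finrank F K = n) {v : Fin n → F} (hv : v ≠ 0) :
    Function.Bijective (evalAt ι v) := by
  have hinj : Function.Injective (evalAt ι v) := by
    rw [← LinearMap.ker_eq_bot, LinearMap.ker_eq_bot']
    intro a ha
    by_contra h0
    rw [evalAt_apply] at ha
    have := congrArg (ι a⁻¹).mulVec ha
    rw [Matrix.mulVec_mulVec, ← map_mul, inv_mul_cancel₀ h0, map_one, Matrix.one_mulVec, Matrix.mulVec_zero] at this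
    exact hv this
  exact ⟨hinj, (LinearMap.injective_iff_surjective_of_finrank_eq_finrank (by rw [hK, Module.finrank_fin_fun])).mp hinj⟩

/-- Eigenspaces of semilinear maps of a line have dimension at most one, unless scalar. -/
theorem eq_scalar_of_eigen [FiniteDimensional F K] (hp : n.Prime) (hK : finrank F K = n) (g : GL (Fin n) F)
    (hg : ∀ a : K, ∃ b : K, (g : Matrix (Fin n) (Fin n) F) * ι a = ι b * (g : Matrix (Fin n) (Fin n) F))
    (c : F) (h2 : 2 ≤ finrank F ↥(LinearMap.ker ((Matrix.toLin' (g : Matrix (Fin n) (Fin n) F) : Module.End F (Fin n → F)) - c • 1))) :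
    (g : Matrix (Fin n) (Fin n) F) = c • 1 := by
  classical
  set G : Module.End F (Fin n → F) := Matrix.toLin' (g : Matrix (Fin n) (Fin n) F)
  set E := LinearMap.ker (G - c • 1) with hE
  have hmem : ∀ v, v ∈ E ↔ (g : Matrix (Fin n) (Fin n) F).mulVec v = c • v := fun v => by
    rw [hE, LinearMap.mem_ker, LinearMap.sub_apply, sub_eq_zero]
    rfl
  have hne : E ≠ ⊥ := fun h0 => by rw [h0, finrank_bot] at h2; omega
  obtain ⟨u, hu, hu0⟩ := Submodule.exists_mem_ne_zero_of_ne_bot hne
  obtain ⟨hinj, hsurj⟩ := evalAt_bijective ι hK hu0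
  have hc0 : c ≠ 0 := fun h0 => by
    have h := (hmem u).mp hu
    rw [h0, zero_smul] at h
    have h' := congrArg ((g⁻¹ : GL (Fin n) F) : Matrix (Fin n) (Fin n) F).mulVec h
    rw [Matrix.mulVec_mulVec, ← Units.val_mul, inv_mul_cancel, Units.val_one, Matrix.one_mulVec, Matrix.mulVec_zero] at h'
    exact hu0 h'
  let S : Subalgebra F K := (Subalgebra.centralizer F ({(g : Matrix (Fin n) (Fin n) F)} : Set _)).comap ι
  have hS : ∀ a, a ∈ S ↔ (g : Matrix (Fin n) (Fin n) F) * ι a = ι a * (g : Matrix (Fin n) (Fin n) F) := fun a => by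
    show ι a ∈ Subalgebra.centralizer F _ ↔ _
    rw [Subalgebra.mem_centralizer_iff]
    simp
  have hinv : ∀ a ∈ S, a⁻¹ ∈ S := fun a ha => by
    rcases eq_or_ne a 0 with rfl | ha0
    · rwa [inv_zero]
    rw [hS] at ha ⊢
    calc (g : Matrix (Fin n) (Fin n) F) * ι a⁻¹ = (ι a⁻¹ * ι a) * (g : Matrix (Fin n) (Fin n) F) * ι a⁻¹ := by
          rw [← map_mul, inv_mul_cancel₀ ha0, map_one, one_mul]
      _ = ι a⁻¹ * (g : Matrix (Fin n) (Fin n) F) * (ι a * ι a⁻¹) := by
          simp only [mul_assoc]; rw [← mul_assoc (g : Matrix (Fin n) (Fin n) F), ha, mul_assoc]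
      _ = _ := by rw [← map_mul, mul_inv_cancel₀ ha0, map_one, mul_one]
  let L := S.toIntermediateField hinv
  have hEL : ∀ v ∈ E, ∃ a ∈ L, evalAt ι u a = v := fun v hv => by
    obtain ⟨a, rfl⟩ := hsurj v
    refine ⟨a, (hS a).mpr ?_, rfl⟩
    obtain ⟨b, hb⟩ := hg a
    have h1 := (hmem _).mp hv
    rw [evalAt_apply, Matrix.mulVec_mulVec, hb, ← Matrix.mulVec_mulVec, (hmem u).mp hu, Matrix.mulVec_smul] at h1
    have h1' : evalAt ι u b = evalAt ι u a := smul_right_injective _ hc0 h1
    rw [hb, hinj h1']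
  have hdvd : finrank F L ∣ n := hK ▸ ⟨_, (Module.finrank_mul_finrank F L K).symm⟩
  rcases (Nat.dvd_prime hp).mp hdvd with h1 | h1
  · exfalso
    rw [IntermediateField.finrank_eq_one_iff] at h1
    have hle : E ≤ Submodule.span F {u} := fun v hv => by
      obtain ⟨a, ha, rfl⟩ := hEL v hv
      rw [h1, IntermediateField.mem_bot] at ha
      obtain ⟨d, rfl⟩ := ha
      refine Submodule.mem_span_singleton.mpr ⟨d, ?_⟩
      rw [evalAt_apply, Algebra.algebraMap_eq_smul_one, map_smul, map_one, Matrix.smul_mulVec, Matrix.one_mulVec]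
    have := Submodule.finrank_mono hle
    rw [finrank_span_singleton hu0] at this
    omega
  · have htop : L = ⊤ := IntermediateField.eq_of_le_of_finrank_eq le_top (by rw [h1, IntermediateField.finrank_top', hK])
    refine Matrix.toLin'.injective (LinearMap.ext fun v => ?_)
    obtain ⟨a, rfl⟩ := hsurj v
    have hcomm := (hS a).mp (show a ∈ L by rw [htop]; exact IntermediateField.mem_top)
    rw [Matrix.toLin'_apply, Matrix.toLin'_apply, evalAt_apply, Matrix.mulVec_mulVec, hcomm, ← Matrix.mulVec_mulVec,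
      (hmem u).mp hu, Matrix.mulVec_smul, Matrix.smul_mulVec, Matrix.one_mulVec]

/-- The Frobenius automorphism gives a normalising element of order `n` and determinant one. -/
theorem exists_frobenius [Fintype F] [Fintype K] [FiniteDimensional F K] [Fact n.Prime] (hK : finrank F K = n)
    (hr : ¬ n ∣ Fintype.card F - 1) :
    ∃ g : GL (Fin n) F, (Matrix.toLin' (g : Matrix (Fin n) (Fin n) F) : Module.End F (Fin n → F)) ^ n = 1 ∧
      (g : Matrix (Fin n) (Fin n) F) ≠ 1 ∧ (g : Matrix (Fin n) (Fin n) F).det = 1 ∧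
      (∀ a : K, ∃ b : K, (g : Matrix (Fin n) (Fin n) F) * ι a = ι b * (g : Matrix (Fin n) (Fin n) F)) ∧
      ∀ b : K, ∃ a : K, (g : Matrix (Fin n) (Fin n) F) * ι a = ι b * (g : Matrix (Fin n) (Fin n) F) := by
  classical
  have hn0 : 0 < n := (Fact.out : n.Prime).pos
  let v0 : Fin n → F := Pi.single ⟨0, hn0⟩ 1
  have hv0 : v0 ≠ 0 := fun h => by
    have := congrFun h ⟨0, hn0⟩
    simp [v0] at this
  let e := LinearEquiv.ofBijective (evalAt ι v0) (evalAt_bijective ι hK hv0)
  let σ := FiniteField.frobeniusAlgHom F K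
  let G : Module.End F (Fin n → F) := e.conj σ.toLinearMap
  have hG : ∀ a, G (e a) = e (σ a) := fun a => by
    rw [LinearEquiv.conj_apply_apply, LinearEquiv.symm_apply_apply]; rfl
  have hpow : ∀ (k : ℕ) a, (G ^ k) (e a) = e (a ^ (Fintype.card F ^ k)) := by
    intro k
    induction k with
    | zero => intro a; simp
    | succ k ih =>
      intro a
      rw [pow_succ, Module.End.mul_apply, hG, ih]
      show e ((a ^ Fintype.card F) ^ (Fintype.card F ^ k)) = _
      rw [← pow_mul, ← pow_succ']
  have hGn : G ^ n = 1 := LinearMap.ext fun v => by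
    obtain ⟨a, rfl⟩ := e.surjective v
    rw [hpow, Module.End.one_apply]
    congr 1
    rw [← hK, ← Module.card_eq_pow_finrank (K := F) (V := K), FiniteField.pow_card]
  have hG1 : G ≠ 1 := fun h => by
    have hall : ∀ a : K, a ^ Fintype.card F = a := fun a => e.injective <| by
      rw [← pow_one (Fintype.card F), ← hpow, pow_one, h, Module.End.one_apply]
    have h := Polynomial.card_le_degree_of_subset_roots (R := K)
      (p := Polynomial.X ^ Fintype.card F - Polynomial.X) (Z := Finset.univ) (by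
        intro a _
        refine (Polynomial.mem_roots (FiniteField.X_pow_card_sub_X_ne_zero _ Fintype.one_lt_card)).mpr ?_
        simp [hall a])
    rw [FiniteField.X_pow_card_sub_X_natDegree_eq _ Fintype.one_lt_card, Finset.card_univ,
      Module.card_eq_pow_finrank (K := F) (V := K), hK] at h
    have := Nat.pow_le_pow_iff_right (Fintype.one_lt_card (α := F)) |>.mp (h.trans_eq (pow_one _).symm)
    have := (Fact.out : n.Prime).two_le
    omega
  have hdet : LinearMap.det G = 1 := by
    have h1 : LinearMap.det G ^ n = 1 := by rw [← map_pow, hGn, map_one]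
    by_contra hne
    have h0 : LinearMap.det G ≠ 0 := fun h => by rw [h, zero_pow hn0.ne'] at h1; exact zero_ne_one h1
    refine hr ?_
    have hord : orderOf (Units.mk0 _ h0) = n := by rw [← orderOf_units, Units.val_mk0]; exact orderOf_eq_prime h1 hne
    rw [← Fintype.card_units, ← hord]
    exact orderOf_dvd_card
  let g : GL (Fin n) F := Matrix.GeneralLinearGroup.mkOfDetNeZero (LinearMap.toMatrix' G)
    (by rw [LinearMap.det_toMatrix', hdet]; exact one_ne_zero)
  have hgG : (Matrix.toLin' (g : Matrix (Fin n) (Fin n) F) : Module.End F (Fin n → F)) = G :=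
    Matrix.toLin'_toMatrix' G
  have hconj : ∀ a : K, (g : Matrix (Fin n) (Fin n) F) * ι a = ι (σ a) * (g : Matrix (Fin n) (Fin n) F) := fun a => by
    refine Matrix.toLin'.injective (LinearMap.ext fun v => ?_)
    obtain ⟨b, rfl⟩ := e.surjective v
    rw [Matrix.toLin'_mul, Matrix.toLin'_mul, LinearMap.comp_apply, LinearMap.comp_apply, hgG, hG]
    show G ((ι a).mulVec ((ι b).mulVec v0)) = (ι (σ a)).mulVec ((ι (σ b)).mulVec v0)
    rw [Matrix.mulVec_mulVec, Matrix.mulVec_mulVec, ← map_mul, ← map_mul]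
    show G (e (a * b)) = e (σ a * σ b)
    rw [hG, map_mul]
  refine ⟨g, by rw [hgG]; exact hGn, fun h => hG1 ?_, ?_, fun a => ⟨σ a, hconj a⟩, fun b => ?_⟩
  · rw [← hgG, h, Matrix.toLin'_one]; rfl
  · show (LinearMap.toMatrix' G).det = 1
    rw [LinearMap.det_toMatrix', hdet]
  · obtain ⟨a, rfl⟩ := (Finite.injective_iff_surjective (f := σ)).mp σ.toRingHom.injective b
    exact ⟨a, hconj a⟩

end

variable {F : Type*} [Field F] [Fintype F] {n : ℕ} [Fact n.Prime]

/-- If `q` has order `n - 1` modulo `n`, elements of order `n` are cyclic. -/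
theorem exists_cyclic_frame (hr : (n : F) ≠ 0) (hi : orderOf (Fintype.card F : ZMod n) = n - 1) (hn : 3 ≤ n)
    (Y : Matrix (Fin n) (Fin n) F) (hY : (Matrix.toLin' Y : Module.End F (Fin n → F)) ^ n = 1) (hY1 : Y ≠ 1) :
    ∃ B : Matrix (Fin n) (Fin n) F, B.det ≠ 0 ∧ Y * B = B * Matrix.of fun a i => if a = finRotate n i then 1 else 0 := by
  classical
  set y : Module.End F (Fin n → F) := Matrix.toLin' Y
  obtain ⟨s, hs, -⟩ := exists_dims hr hY (W := ⊤) le_top
  rw [finrank_top, Module.finrank_fin_fun, hi, top_inf_eq] at hs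
  have hy1 : fix y ≠ ⊤ := fun h => hY1 (Matrix.toLin'.injective (LinearMap.ext fun v => by
    rw [Matrix.toLin'_one, LinearMap.id_apply]
    exact mem_fix.mp (h ▸ Submodule.mem_top)))
  have hlt : finrank F (fix y) < n := (Submodule.finrank_lt hy1).trans_eq (Module.finrank_fin_fun F)
  have hs1 : s = 1 := by
    rcases s with _ | _ | s
    · omega
    · rfl
    · rw [Nat.add_mul, Nat.add_mul] at hs
      omega
  rw [hs1, Nat.one_mul] at hs
  have hf1 : finrank F (fix y) = 1 := by omega
  have hy' : y ^ n = (1 : F) • (1 : Module.End F (Fin n → F)) := by rw [one_smul, hY]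
  obtain ⟨W, hW, -, hinf, hsup⟩ := exists_invariant_complement hr one_ne_zero hy' (W := ⊤) le_top (inv_fix y) le_top
  have hWd : finrank F W = n - 1 := by
    have := Submodule.finrank_sup_add_finrank_inf_eq (fix y) W
    rw [hsup, hinf, finrank_top, finrank_bot, Module.finrank_fin_fun, hf1] at this
    omega
  obtain ⟨v1, hv1, hv10⟩ := Submodule.exists_mem_ne_zero_of_ne_bot (show fix y ≠ ⊥ from fun h => by
    rw [h, finrank_bot] at hf1; omega)
  obtain ⟨v2, hv2, hv20⟩ := Submodule.exists_mem_ne_zero_of_ne_bot (show W ≠ ⊥ from fun h => by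
    rw [h, finrank_bot] at hWd; omega)
  let u : Fin n → (Fin n → F) := fun i => (y ^ (i : ℕ)) (v1 + v2)
  set U := Submodule.span F (Set.range u) with hU
  have hpow : ∀ k : ℕ, (y ^ k) (v1 + v2) ∈ U := fun k => by
    rw [← Nat.mod_add_div k n, pow_add, pow_mul, hY, one_pow, mul_one]
    exact Submodule.subset_span ⟨⟨k % n, Nat.mod_lt _ (by omega)⟩, rfl⟩
  have hUinv : Inv y U := Submodule.map_le_iff_le_comap.mpr (Submodule.span_le.mpr (by
    rintro _ ⟨i, rfl⟩
    show y ((y ^ (i : ℕ)) (v1 + v2)) ∈ U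
    rw [← Module.End.mul_apply, ← pow_succ']
    exact hpow _))
  have hw : y v2 - v2 ∈ U ⊓ W := by
    refine ⟨?_, W.sub_mem (inv_apply hW hv2) hv2⟩
    have h := U.sub_mem (hpow 1) (hpow 0)
    simp only [pow_one, pow_zero, Module.End.one_apply, map_add, mem_fix.mp hv1, add_sub_add_left_eq_sub] at h
    exact h
  have hw0 : y v2 - v2 ≠ 0 := fun h => hv20 <| by
    have : v2 ∈ fix y ⊓ W := ⟨mem_fix.mpr (sub_eq_zero.mp h), hv2⟩
    rwa [hinf, Submodule.mem_bot] at this
  obtain ⟨k, hk, -⟩ := exists_dims hr hY (inv_inf hUinv hW)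
  rw [hi] at hk
  have hbot : (U ⊓ W) ⊓ fix y = ⊥ :=
    le_bot_iff.mp ((inf_le_inf_right _ inf_le_right).trans ((inf_comm W (fix y)).le.trans hinf.le))
  rw [hbot, finrank_bot, Nat.zero_add] at hk
  have hpos : 0 < finrank F ↥(U ⊓ W) := by
    have := Submodule.nontrivial_iff_ne_bot.mpr (show U ⊓ W ≠ ⊥ from fun h => hw0 (by rw [h] at hw; exact (Submodule.mem_bot F).mp hw))
    exact finrank_pos
  have hWU : W ≤ U := by
    have h1 : n - 1 ≤ finrank F ↥(U ⊓ W) := hk ▸ Nat.le_mul_of_pos_left _ (Nat.pos_of_ne_zero fun h0 => by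
      rw [h0, Nat.zero_mul] at hk; omega)
    exact inf_eq_right.mp (Submodule.eq_of_le_of_finrank_le inf_le_right (hWd.trans_le h1))
  have hv1U : v1 ∈ U := by
    have := U.sub_mem (hpow 0) (hWU hv2)
    simpa using this
  have hUtop : U = ⊤ := by
    rw [eq_top_iff, ← hsup]
    refine sup_le ?_ hWU
    have : Submodule.span F {v1} = fix y := Submodule.eq_of_le_of_finrank_eq
      ((Submodule.span_singleton_le_iff_mem _ _).mpr hv1) (by rw [finrank_span_singleton hv10, hf1])
    rw [← this]
    exact (Submodule.span_singleton_le_iff_mem _ _).mpr hv1U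
  have hli : LinearIndependent F u := linearIndependent_of_top_le_span_of_card_eq_finrank hUtop.ge
    (by rw [Fintype.card_fin, Module.finrank_fin_fun])
  refine ⟨Matrix.of fun a i => u i a, ?_, ?_⟩
  · exact ((Matrix.isUnit_iff_isUnit_det _).mp (Matrix.linearIndependent_cols_iff_isUnit.mp
      (hli : LinearIndependent F (Matrix.of fun a i => u i a).col))).ne_zero
  · refine Matrix.ext fun a i => ?_
    have hne : NeZero n := ⟨by omega⟩
    have hshift : y (u i) = u (finRotate n i) := by
      show y ((y ^ (i : ℕ)) (v1 + v2)) = (y ^ ((finRotate n i : Fin n) : ℕ)) (v1 + v2)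
      rw [← Module.End.mul_apply, ← pow_succ']
      rw [finRotate_apply, Fin.val_add, Fin.val_one', Nat.add_mod_mod]
      conv_lhs => rw [← Nat.mod_add_div ((i : ℕ) + 1) n, pow_add, pow_mul, hY, one_pow, mul_one]
    have := congrFun hshift a
    refine this.trans ?_
    rw [Matrix.mul_apply, Finset.sum_eq_single (finRotate n i)]
    · simp
    · intro b _ hb
      show u b a * (if b = finRotate n i then 1 else 0) = 0
      rw [if_neg hb, mul_zero]
    · simp


/-- Elements of order `n` of PSL_n(q), `n` prime, and the normalizer of a Singer cycle. Here `T = PSL_n(F)` for a field `F` with `q = p^f` elements (`n ≥ 2`, `(n, q) ≠ (2, 2), (2, 3)`), `k` is a prime dividing `n`, `K` is a subalgebra of the `n × n` matrices that is a field of degree `k` over `F` (an extension-field structure F_{q^k} on `F^n`), and `H` is the subgroup of matrices of determinant 1 normalizing `K` — a subgroup of type GL_{n/k}(q^k) (maximal except in some small cases; maximality is not assumed); Ω is the set of cosets of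 `H` in `T`, so an element of `T` of prime order `r` (a matrix `x` of determinant 1 with `x^r` scalar, `x` not scalar) fixes a point of Ω when some conjugate of `x` by a matrix of determinant 1 normalizes `K`. Take `k = n > 3` prime with `n ≠ p` (so `H` is the normalizer of a Singer cycle), and suppose `n` divides the index of `H`. Then every element of `T` of order `n` is conjugate in `T` into `H` if and only if the multiplicative order of `q` modulo `n` is `n − 1`. -/
theorem result {F : Type*} [Field F] [Fintype F] {p : ℕ} [Fact p.Prime] [CharP F p] {q : ℕ} (hq : Fintype.card F = q)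
    (n : ℕ) (hn : 2 ≤ n) (hT : (n, q) ≠ (2, 2) ∧ (n, q) ≠ (2, 3))
    (k : ℕ) (hk : k.Prime) (hkn : k ∣ n) (K : Subalgebra F (Matrix (Fin n) (Fin n) F)) (hK : Cfsg.Geo.IsFieldSubalgebra k K) (hkn' : k = n) (hn3 : 3 < n) (hnp : n ≠ p) (hΩ : n ∣ ((Cfsg.Geo.subalgebraNormalizer K).comap (Matrix.SpecialLinearGroup.toGL : Matrix.SpecialLinearGroup (Fin n) F →* GL (Fin n) F)).index) :
    (∀ x : Matrix.SpecialLinearGroup (Fin n) F,
      (∃ z : F, ((x ^ n : Matrix.SpecialLinearGroup (Fin n) F) : Matrix (Fin n) (Fin n) F) = z • (1 : Matrix (Fin n) (Fin n) F)) →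
      (∀ z : F, (x : Matrix (Fin n) (Fin n) F) ≠ z • (1 : Matrix (Fin n) (Fin n) F)) →
      ∃ P : Matrix.SpecialLinearGroup (Fin n) F, P⁻¹ * x * P ∈ ((Cfsg.Geo.subalgebraNormalizer K).comap (Matrix.SpecialLinearGroup.toGL : Matrix.SpecialLinearGroup (Fin n) F →* GL (Fin n) F))) ↔
    orderOf (q : ZMod n) = n - 1 := by
  classical
  subst hq
  subst hkn'
  have : Fact k.Prime := ⟨hk⟩
  have hn0 : 0 < k := hk.pos
  have hr0 : (k : F) ≠ 0 := natCast_ne_zero_of_ne hnp
  have hiso : IsField K :=
    ⟨⟨0, 1, fun h => by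
        have h1 : (0 : Matrix (Fin k) (Fin k) F) = 1 := congrArg Subtype.val h
        exact zero_ne_one (α := F) (congr_fun (congr_fun h1 ⟨0, hn0⟩) ⟨0, hn0⟩ |>.trans (Matrix.one_apply_eq _))⟩,
      fun x y => Subtype.ext (hK.comm x x.2 y y.2), fun {x} hx => by
        obtain ⟨y, hy, hxy⟩ := hK.inv x x.2 (fun h => hx (Subtype.ext h))
        exact ⟨⟨y, hy⟩, Subtype.ext hxy⟩⟩
  letI : Field K := hiso.toField
  have : Finite K := Module.finite_of_finite F
  letI : Fintype K := Fintype.ofFinite K
  have hmem : ∀ g : GL (Fin k) F, g ∈ Cfsg.Geo.subalgebraNormalizer K →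
      ∀ a : K, ∃ b : K, (g : Matrix (Fin k) (Fin k) F) * K.val a = K.val b * (g : Matrix (Fin k) (Fin k) F) :=
    fun g hg a => ⟨⟨_, (hg a.1).mp a.2⟩, by
      show _ = (g : Matrix (Fin k) (Fin k) F) * a.1 * ((g⁻¹ : GL (Fin k) F) : Matrix (Fin k) (Fin k) F) * g
      rw [Matrix.mul_assoc _ _ (g : Matrix (Fin k) (Fin k) F), ← Units.val_mul, inv_mul_cancel, Units.val_one, Matrix.mul_one]
      rfl⟩
  set i := orderOf (Fintype.card F : ZMod k) with hi
  have hipos : 0 < i := orderOf_card_pos hr0
  have hidvd : i ∣ k - 1 := orderOf_dvd_of_pow_eq_one (ZMod.pow_card_sub_one_eq_one (natCast_ne_zero hr0))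
  constructor
  · intro h
    by_contra hne
    -- an element with a fixed space of dimension between two and `n - 1`
    obtain ⟨x, hxk, hfix, hns⟩ : ∃ x : Matrix.SpecialLinearGroup (Fin k) F,
        (Matrix.toLin' (x : Matrix (Fin k) (Fin k) F) : Module.End F (Fin k → F)) ^ k = 1 ∧
        2 ≤ finrank F (fix (Matrix.toLin' (x : Matrix (Fin k) (Fin k) F) : Module.End F (Fin k → F))) ∧
        ∀ c : F, (x : Matrix (Fin k) (Fin k) F) ≠ c • 1 := by
      rcases Nat.lt_or_ge 1 i with h2 | h1
      · have hile : i < k - 1 := lt_of_le_of_ne (Nat.le_of_dvd (by omega) hidvd) hne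
        obtain ⟨x, hx1, hx2, hx3⟩ := exists_type (F := F) (r := k) (p := p) (n := k) 1 Nat.one_pos h2 (by omega)
        exact ⟨x, hx1, by rw [hx2, Nat.one_mul]; omega, hx3⟩
      · have h1' : i = 1 := by omega
        obtain ⟨w, hw⟩ := exists_prime_orderOf_dvd_card (G := Fˣ) k
          (by rw [Fintype.card_units]; exact orderOf_card_eq_one_iff.mp (hi ▸ h1'))
        let i0 : Fin k := ⟨0, by omega⟩
        let i1 : Fin k := ⟨1, by omega⟩
        have hne01 : i0 ≠ i1 := fun h => by simp [i0, i1] at h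
        let d : Fin k → F := Function.update (Function.update 1 i0 (w : F)) i1 ((w⁻¹ : Fˣ) : F)
        have hd : (Matrix.diagonal d).det = 1 := by
          rw [Matrix.det_diagonal, Finset.prod_update_of_mem (Finset.mem_univ _),
            Finset.prod_update_of_mem (by simp [hne01])]
          simp
        have hwk : (w : F) ^ k = 1 := by rw [← Units.val_pow_eq_pow_val, ← hw, pow_orderOf_eq_one, Units.val_one]
        refine ⟨⟨Matrix.diagonal d, hd⟩, ?_, ?_, ?_⟩
        · show (Matrix.toLin' (Matrix.diagonal d) : Module.End F (Fin k → F)) ^ k = 1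
          rw [← pow_toLin', Matrix.diagonal_pow, show d ^ k = 1 from funext fun j => by
            simp only [d, Pi.pow_apply, Function.update_apply]
            split_ifs
            · rw [Units.val_inv_eq_inv_val, inv_pow, hwk, inv_one]; rfl
            · exact hwk
            · simp, Matrix.diagonal_one', Matrix.toLin'_one]
          rfl
        · let vs : Fin 2 → (Fin k → F) := ![Pi.single ⟨2, by omega⟩ 1, Pi.single ⟨3, by omega⟩ 1]
          have hli : LinearIndependent F vs := by
            rw [LinearIndependent.pair_iff]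
            intro a b hab
            constructor
            · simpa [Pi.single_apply, Fin.ext_iff] using congrFun hab ⟨2, by omega⟩
            · simpa [Pi.single_apply, Fin.ext_iff] using congrFun hab ⟨3, by omega⟩
          have hle : Submodule.span F (Set.range vs) ≤
              fix (Matrix.toLin' (Matrix.diagonal d) : Module.End F (Fin k → F)) := by
            rw [Submodule.span_le]
            rintro _ ⟨j, rfl⟩
            refine mem_fix.mpr ?_
            rw [Matrix.toLin'_apply]
            ext a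
            rw [Matrix.mulVec_diagonal]
            fin_cases j
            · by_cases ha : a = ⟨2, by omega⟩
              · subst ha; simp [d, vs, i0, i1, Function.update_apply]
              · simp [vs, Pi.single_eq_of_ne ha]
            · by_cases ha : a = ⟨3, by omega⟩
              · subst ha; simp [d, vs, i0, i1, Function.update_apply]
              · simp [vs, Pi.single_eq_of_ne ha]
          have := Submodule.finrank_mono hle
          rwa [finrank_span_eq_card hli, Fintype.card_fin] at this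
        · intro c hc
          have h0 := congr_fun (congr_fun hc i0) i0
          have h2 := congr_fun (congr_fun hc (⟨2, by omega⟩ : Fin k)) (⟨2, by omega⟩ : Fin k)
          simp [d, i0, i1, Function.update_apply, Matrix.smul_apply] at h0 h2
          rw [← h2, Units.val_eq_one] at h0
          rw [h0, orderOf_one] at hw
          omega
    obtain ⟨P, hP⟩ := h x ⟨1, (pow_eq_smul_iff x k 1).mpr (by rw [one_smul]; exact hxk)⟩ hns
    rw [Subgroup.mem_comap] at hP
    have hPu : ((P : Matrix.SpecialLinearGroup (Fin k) F) : Matrix (Fin k) (Fin k) F).det = 1 := P.2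
    set g := Matrix.SpecialLinearGroup.toGL (P⁻¹ * x * P) with hg
    have hPP : ((P : Matrix.SpecialLinearGroup (Fin k) F) : Matrix (Fin k) (Fin k) F) *
        ((P⁻¹ : Matrix.SpecialLinearGroup (Fin k) F) : Matrix (Fin k) (Fin k) F) = 1 := by
      rw [← Matrix.SpecialLinearGroup.coe_mul, mul_inv_cancel, Matrix.SpecialLinearGroup.coe_one]
    have hgval : (g : Matrix (Fin k) (Fin k) F) = ((P⁻¹ : Matrix.SpecialLinearGroup (Fin k) F) : Matrix (Fin k) (Fin k) F) *
        (x : Matrix (Fin k) (Fin k) F) * (P : Matrix (Fin k) (Fin k) F) := rfl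
    have h2g : 2 ≤ finrank F ↥(LinearMap.ker ((Matrix.toLin' (g : Matrix (Fin k) (Fin k) F) : Module.End F (Fin k → F)) - (1 : F) • 1)) := by
      refine hfix.trans ?_
      let f : (Fin k → F) →ₗ[F] (Fin k → F) := Matrix.toLin' ((P⁻¹ : Matrix.SpecialLinearGroup (Fin k) F) : Matrix (Fin k) (Fin k) F)
      have hfinj : Function.Injective f := fun a b hab => by
        have := congrArg (Matrix.toLin' (P : Matrix (Fin k) (Fin k) F)) hab
        simp only [f, Matrix.toLin'_apply, Matrix.mulVec_mulVec, hPP, Matrix.one_mulVec] at this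
        exact this
      rw [← LinearEquiv.finrank_eq (Submodule.equivMapOfInjective f hfinj (fix (Matrix.toLin' (x : Matrix (Fin k) (Fin k) F) : Module.End F (Fin k → F)))).symm]
      refine Submodule.finrank_mono ?_
      rintro _ ⟨v, hv, rfl⟩
      have hv' : (x : Matrix (Fin k) (Fin k) F).mulVec v = v := by rw [← Matrix.toLin'_apply]; exact mem_fix.mp hv
      rw [LinearMap.mem_ker, LinearMap.sub_apply, sub_eq_zero, one_smul, Module.End.one_apply, hgval, Matrix.toLin'_apply]
      show (_ : Matrix (Fin k) (Fin k) F).mulVec (((P⁻¹ : Matrix.SpecialLinearGroup (Fin k) F) : Matrix (Fin k) (Fin k) F).mulVec v) = _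
      rw [Matrix.mulVec_mulVec, Matrix.mul_assoc, hPP, Matrix.mul_one, ← Matrix.mulVec_mulVec, hv']
      rfl
    have hg1 := eq_scalar_of_eigen K.val hk hK.finrank_eq g (hmem g hP) 1 h2g
    rw [one_smul] at hg1
    have : P⁻¹ * x * P = 1 := Matrix.SpecialLinearGroup.toGL_injective (by rw [← hg, map_one]; exact Units.ext hg1)
    have hx1 : x = 1 := by
      calc x = P * (P⁻¹ * x * P) * P⁻¹ := by group
        _ = 1 := by rw [this, mul_one, mul_inv_cancel]
    exact hns 1 (by rw [hx1, one_smul, Matrix.SpecialLinearGroup.coe_one])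
  · intro hik x hxp hns
    have hr1 : ¬ k ∣ Fintype.card F - 1 := fun h => by
      rw [← orderOf_card_eq_one_iff, ← hi, hik] at h
      omega
    obtain ⟨c, hc⟩ := hxp
    obtain ⟨ζ, hζ⟩ := exists_root hr1 c
    rw [pow_eq_smul_iff, ← hζ] at hc
    have hζ0 : ζ ≠ 0 := fun h0 => by
      rw [h0, zero_pow hk.ne_zero, zero_smul] at hc
      have h1 := congrArg LinearMap.det hc
      rw [map_pow, LinearMap.det_toLin', Matrix.SpecialLinearGroup.det_coe, one_pow,
        show (0 : Module.End F (Fin k → F)) = (0 : F) • LinearMap.id by rw [zero_smul], LinearMap.det_smul,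
        Module.finrank_fin_fun, zero_pow hk.ne_zero, zero_mul] at h1
      exact one_ne_zero h1
    set Y : Matrix (Fin k) (Fin k) F := ζ⁻¹ • (x : Matrix (Fin k) (Fin k) F) with hYdef
    have hY : (Matrix.toLin' Y : Module.End F (Fin k → F)) ^ k = 1 := by
      rw [map_smul]; exact pow_eq_scalar_lift hζ0 hc
    have hxY : (x : Matrix (Fin k) (Fin k) F) = ζ • Y := by rw [hYdef, smul_smul, mul_inv_cancel₀ hζ0, one_smul]
    have hY1 : Y ≠ 1 := fun h => hns ζ (by rw [hxY, h])
    obtain ⟨g, hgk, hg1, hgd, hgN, hgN'⟩ := exists_frobenius K.val hK.finrank_eq hr1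
    obtain ⟨B, hB, hYB⟩ := exists_cyclic_frame hr0 hik (by omega) Y hY hY1
    obtain ⟨B', hB', hgB⟩ := exists_cyclic_frame hr0 hik (by omega) (g : Matrix (Fin k) (Fin k) F) hgk hg1
    obtain ⟨s, hs⟩ := exists_root hr1 (B'.det / B.det)
    let Bu : GL (Fin k) F := Matrix.GeneralLinearGroup.mkOfDetNeZero B hB
    let Bu' : GL (Fin k) F := Matrix.GeneralLinearGroup.mkOfDetNeZero B' hB'
    let T : Matrix (Fin k) (Fin k) F := s • ((Bu * Bu'⁻¹ : GL (Fin k) F) : Matrix (Fin k) (Fin k) F)
    have hTd : T.det = 1 := by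
      have h1 : ((Bu'⁻¹ : GL (Fin k) F) : Matrix (Fin k) (Fin k) F).det * B'.det = 1 := by
        rw [show B' = (Bu' : Matrix (Fin k) (Fin k) F) from rfl, ← Matrix.det_mul, ← Units.val_mul, inv_mul_cancel,
          Units.val_one, Matrix.det_one]
      show (s • _ : Matrix (Fin k) (Fin k) F).det = 1
      rw [Matrix.det_smul, Fintype.card_fin, hs, Units.val_mul, Matrix.det_mul]
      show B'.det / B.det * (B.det * _) = 1
      rw [← mul_assoc, div_mul_cancel₀ _ hB, mul_comm, h1]
    let P : Matrix.SpecialLinearGroup (Fin k) F := ⟨T, hTd⟩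
    refine ⟨P, ?_⟩
    rw [Subgroup.mem_comap]
    have hkey : (x : Matrix (Fin k) (Fin k) F) * T = T * (ζ • (g : Matrix (Fin k) (Fin k) F)) := by
      have h1 : (g : Matrix (Fin k) (Fin k) F) * (Bu' : Matrix (Fin k) (Fin k) F) = (Bu' : Matrix (Fin k) (Fin k) F) *
          Matrix.of fun a i => if a = finRotate k i then 1 else 0 := hgB
      have h2 : ((Bu'⁻¹ : GL (Fin k) F) : Matrix (Fin k) (Fin k) F) * (g : Matrix (Fin k) (Fin k) F) =
          (Matrix.of fun a i => if a = finRotate k i then 1 else 0) * ((Bu'⁻¹ : GL (Fin k) F) : Matrix (Fin k) (Fin k) F) := by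
        calc ((Bu'⁻¹ : GL (Fin k) F) : Matrix (Fin k) (Fin k) F) * (g : Matrix (Fin k) (Fin k) F)
            = ((Bu'⁻¹ : GL (Fin k) F) : Matrix (Fin k) (Fin k) F) * ((g : Matrix (Fin k) (Fin k) F) *
              (Bu' : Matrix (Fin k) (Fin k) F)) * ((Bu'⁻¹ : GL (Fin k) F) : Matrix (Fin k) (Fin k) F) := by
              rw [Matrix.mul_assoc, Matrix.mul_assoc, Units.mul_inv, Matrix.mul_one]
          _ = _ := by rw [h1, ← Matrix.mul_assoc _ (Bu' : Matrix (Fin k) (Fin k) F), Units.inv_mul, Matrix.one_mul]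
      rw [hxY]
      simp only [T, Units.val_mul, Matrix.mul_smul, Matrix.smul_mul]
      rw [Matrix.mul_assoc (Bu : Matrix (Fin k) (Fin k) F), h2, ← Matrix.mul_assoc, ← Matrix.mul_assoc]
      show _ = ζ • s • (B * _ * _)
      rw [← hYB, smul_comm]
      rfl
    have hval : (Matrix.SpecialLinearGroup.toGL (P⁻¹ * x * P) : GL (Fin k) F) =
        Matrix.GeneralLinearGroup.mkOfDetNeZero (ζ • (1 : Matrix (Fin k) (Fin k) F))
          (by rw [Matrix.det_smul, Matrix.det_one, mul_one]; exact pow_ne_zero _ hζ0) * g := by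
      refine Units.ext ?_
      show ((P⁻¹ : Matrix.SpecialLinearGroup (Fin k) F) : Matrix (Fin k) (Fin k) F) * x * T =
        (ζ • (1 : Matrix (Fin k) (Fin k) F)) * (g : Matrix (Fin k) (Fin k) F)
      rw [Matrix.mul_assoc, hkey, ← Matrix.mul_assoc, show T = (P : Matrix (Fin k) (Fin k) F) from rfl,
        ← Matrix.SpecialLinearGroup.coe_mul, inv_mul_cancel, Matrix.SpecialLinearGroup.coe_one, Matrix.one_mul,
        Matrix.smul_mul, Matrix.one_mul]
    rw [hval]
    refine Subgroup.mul_mem _ ?_ ?_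
    · intro m
      set u : GL (Fin k) F := Matrix.GeneralLinearGroup.mkOfDetNeZero (ζ • (1 : Matrix (Fin k) (Fin k) F))
          (by rw [Matrix.det_smul, Matrix.det_one, mul_one]; exact pow_ne_zero _ hζ0)
      have hu : (u : Matrix (Fin k) (Fin k) F) * m = m * (u : Matrix (Fin k) (Fin k) F) := by
        show ζ • 1 * m = m * (ζ • 1)
        rw [Matrix.smul_mul, Matrix.mul_smul, Matrix.one_mul, Matrix.mul_one]
      rw [hu, Matrix.mul_assoc, Units.mul_inv, Matrix.mul_one]
    · intro m
      constructor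
      · intro hm
        obtain ⟨b, hb⟩ := hgN ⟨m, hm⟩
        have : (g : Matrix (Fin k) (Fin k) F) * m = b.1 * (g : Matrix (Fin k) (Fin k) F) := hb
        rw [this, Matrix.mul_assoc, Units.mul_inv, Matrix.mul_one]
        exact b.2
      · intro hm
        obtain ⟨a, ha⟩ := hgN' ⟨_, hm⟩
        have h3 : (g : Matrix (Fin k) (Fin k) F) * a.1 = (g : Matrix (Fin k) (Fin k) F) * m := by
          refine (ha : (g : Matrix (Fin k) (Fin k) F) * a.1 = _).trans ?_
          show (g : Matrix (Fin k) (Fin k) F) * m * ((g⁻¹ : GL (Fin k) F) : Matrix (Fin k) (Fin k) F) * g = _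
          rw [Matrix.mul_assoc, Units.inv_mul, Matrix.mul_one]
        have : a.1 = m := g.isUnit.mul_left_cancel h3
        exact this ▸ a.2

end Cfsg.Agent.S5970
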