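import Cfsg.Statements.S5971
import Cfsg.Agent.EqLemmas
import Cfsg.Agent.S5970

set_option autoImplicit false
open scoped MatrixGroups
open Cfsg

namespace Cfsg.Agent.S5971

open Cfsg.Agent.PrimeOrderElt Module
open Cfsg.Agent.S5970 (evalAt evalAt_apply evalAt_bijective eq_scalar_of_eigen exists_cyclic_frame exists_frobenius)

variable {F : Type*} [Field F]

local notation "M3" => Matrix (Fin 3) (Fin 3) F
local notation "V3" => Fin 3 → F

theorem toLin'_pow_eq_one {M : M3} (h : M ^ 3 = 1) : (Matrix.toLin' M : Module.End F V3) ^ 3 = 1 := by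
  rw [← pow_toLin', h, Matrix.toLin'_one]
  rfl

/-- A conjugating matrix from two triples of vectors with the same relations. -/
theorem exists_conj_of_frames (x y : M3) (u w : Fin 3 → V3) (hu : LinearIndependent F u)
    (hw : LinearIndependent F w) (C : M3) (hx : x * (Matrix.of fun a i => u i a) = (Matrix.of fun a i => u i a) * C)
    (hy : y * (Matrix.of fun a i => w i a) = (Matrix.of fun a i => w i a) * C) :
    ∃ P : GL (Fin 3) F, x * (P : M3) = (P : M3) * y := by
  have hU : IsUnit (Matrix.of fun a i => u i a) :=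
    Matrix.linearIndependent_cols_iff_isUnit.mp (hu : LinearIndependent F (Matrix.of fun a i => u i a).col)
  have hW : IsUnit (Matrix.of fun a i => w i a) :=
    Matrix.linearIndependent_cols_iff_isUnit.mp (hw : LinearIndependent F (Matrix.of fun a i => w i a).col)
  refine ⟨hU.unit * hW.unit⁻¹, ?_⟩
  have h2 : (↑hW.unit⁻¹ : M3) * y = C * (↑hW.unit⁻¹ : M3) := by
    calc (↑hW.unit⁻¹ : M3) * y = (↑hW.unit⁻¹ : M3) * (y * (hW.unit : M3)) * (↑hW.unit⁻¹ : M3) := by
          rw [Matrix.mul_assoc, Matrix.mul_assoc, Units.mul_inv, Matrix.mul_one]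
      _ = _ := by
          rw [show y * (hW.unit : M3) = (hW.unit : M3) * C from hy, ← Matrix.mul_assoc, Units.inv_mul, Matrix.one_mul]
  show x * ((hU.unit : M3) * (↑hW.unit⁻¹ : M3)) = (hU.unit : M3) * (↑hW.unit⁻¹ : M3) * y
  rw [← Matrix.mul_assoc, show x * (hU.unit : M3) = (hU.unit : M3) * C from hx, Matrix.mul_assoc,
    ← h2, Matrix.mul_assoc]

/-- Elements of order three with small eigenspaces are diagonalisable with distinct eigenvalues. -/
theorem exists_diag (h3 : (3 : F) ≠ 0) {ω : F} (hω : ω ^ 3 = 1) (hω1 : ω ≠ 1) (X : M3) (hX : X ^ 3 = 1)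
    (hsmall : ∀ c : F, finrank F ↥(LinearMap.ker ((Matrix.toLin' X : Module.End F V3) - c • 1)) ≤ 1) :
    ∃ u : Fin 3 → V3, LinearIndependent F u ∧
      X * (Matrix.of fun a i => u i a) = (Matrix.of fun a i => u i a) * Matrix.diagonal ![1, ω, ω ^ 2] := by
  set y : Module.End F V3 := Matrix.toLin' X
  have hy : y ^ 3 = 1 := toLin'_pow_eq_one hX
  have hω2 : ω ^ 2 ≠ 1 := fun h => hω1 (by linear_combination hω - ω * h)
  have hωω : ω ≠ ω ^ 2 := fun h => by
    have : ω = 0 ∨ ω = 1 := by
      have h' : ω * (ω - 1) = 0 := by linear_combination (-1 : F) * h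
      exact (mul_eq_zero.mp h').imp id sub_eq_zero.mp
    rcases this with h0 | h0
    · rw [h0] at hω; norm_num at hω
    · exact hω1 h0
  have hsum : 1 + ω + ω ^ 2 = 0 := by
    have h' : (ω - 1) * (1 + ω + ω ^ 2) = 0 := by linear_combination hω
    exact (mul_eq_zero.mp h').resolve_left (sub_ne_zero.mpr hω1)
  let μ : Fin 3 → F := ![1, ω, ω ^ 2]
  have hμ3 : ∀ i, μ i ^ 3 = 1 := fun i => by
    fin_cases i
    · simp [μ]
    · simpa [μ] using hω
    · show (ω ^ 2) ^ 3 = 1
      rw [← pow_mul, mul_comm, pow_mul, hω, one_pow]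
  let E : Fin 3 → Submodule F V3 := fun i => LinearMap.ker (y - μ i • 1)
  have hmem : ∀ i v, v ∈ E i ↔ y v = μ i • v := fun i v => by
    simp [E, sub_eq_zero]
  have hproj : ∀ i v, v + μ i ^ 2 • y v + μ i • y (y v) ∈ E i := fun i v => by
    rw [hmem, map_add, map_add, map_smul, map_smul,
      show y (y (y v)) = v from by
        have := LinearMap.congr_fun hy v
        simpa [pow_succ, Module.End.mul_apply] using this]
    linear_combination (norm := module) (-(hμ3 i)) • y v
  have hne : ∀ i, E i ≠ ⊥ := by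
    intro i hi
    have htop : (⊤ : Submodule F V3) ≤ E 0 ⊔ E 1 ⊔ E 2 := fun v _ => by
      have hv : v = (3 : F)⁻¹ • ((v + μ 0 ^ 2 • y v + μ 0 • y (y v)) + (v + μ 1 ^ 2 • y v + μ 1 • y (y v)) +
          (v + μ 2 ^ 2 • y v + μ 2 • y (y v))) := by
        have e1 : μ 0 + μ 1 + μ 2 = 0 := hsum
        have e2 : μ 0 ^ 2 + μ 1 ^ 2 + μ 2 ^ 2 = 0 := by
          show (1 : F) ^ 2 + ω ^ 2 + (ω ^ 2) ^ 2 = 0
          linear_combination hsum + ω * hω
        rw [show (v + μ 0 ^ 2 • y v + μ 0 • y (y v)) + (v + μ 1 ^ 2 • y v + μ 1 • y (y v)) +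
          (v + μ 2 ^ 2 • y v + μ 2 • y (y v)) = (3 : F) • v by
            linear_combination (norm := module) e2 • y v + e1 • y (y v), smul_smul, inv_mul_cancel₀ h3, one_smul]
      rw [hv]
      exact Submodule.smul_mem _ _ (add_mem (add_mem
        (Submodule.mem_sup_left (Submodule.mem_sup_left (hproj 0 v)))
        (Submodule.mem_sup_left (Submodule.mem_sup_right (hproj 1 v)))) (Submodule.mem_sup_right (hproj 2 v)))
    have h1 := Submodule.finrank_mono htop
    have a0 := Submodule.finrank_add_le_finrank_add_finrank (E 0 ⊔ E 1) (E 2)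
    have a1 := Submodule.finrank_add_le_finrank_add_finrank (E 0) (E 1)
    have b0 : finrank F (E 0) ≤ 1 := hsmall _
    have b1 : finrank F (E 1) ≤ 1 := hsmall _
    have b2 : finrank F (E 2) ≤ 1 := hsmall _
    have b : finrank F (E i) = 0 := by rw [hi, finrank_bot]
    rw [finrank_top, Module.finrank_fin_fun] at h1
    rcases (show i = 0 ∨ i = 1 ∨ i = 2 by fin_cases i <;> simp) with rfl | rfl | rfl <;> omega
  choose u hu hu0 using fun i => Submodule.exists_mem_ne_zero_of_ne_bot (hne i)
  refine ⟨u, ?_, ?_⟩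
  · refine Module.End.eigenvectors_linearIndependent' y μ ?_ u fun i =>
      Module.End.hasEigenvector_iff.mpr ⟨Module.End.mem_eigenspace_iff.mpr ((hmem i _).mp (hu i)), hu0 i⟩
    intro i j h
    fin_cases i <;> fin_cases j <;> first
      | rfl | exact absurd h hω1 | exact absurd h hω2 | exact absurd h hωω | exact absurd h.symm hω1
      | exact absurd h.symm hω2 | exact absurd h.symm hωω
  · refine Matrix.ext fun a i => ?_
    rw [Matrix.mul_diagonal]
    have := congrFun ((hmem i _).mp (hu i)) a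
    rw [show ((![1, ω, ω ^ 2] : Fin 3 → F) i) = μ i from rfl]
    refine this.trans ?_
    show μ i * u i a = u i a * μ i
    ring

/-- An element of order three and determinant one with a plane of eigenvectors is scalar. -/
theorem scalar_of_plane (h3 : (3 : F) ≠ 0) (X : M3) (hX : X ^ 3 = 1) (hd : X.det = 1) (c : F)
    (h2 : 2 ≤ finrank F ↥(LinearMap.ker ((Matrix.toLin' X : Module.End F V3) - c • 1))) :
    X = c • 1 := by
  set y : Module.End F V3 := Matrix.toLin' X with hydef
  have hy : y ^ 3 = 1 := toLin'_pow_eq_one hX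
  have hy3 : ∀ v, y (y (y v)) = v := fun v => by
    have := LinearMap.congr_fun hy v
    simpa [pow_succ, Module.End.mul_apply] using this
  set E := LinearMap.ker (y - c • 1)
  have hmem : ∀ v, v ∈ E ↔ y v = c • v := fun v => by simp [E, sub_eq_zero]
  suffices htop : E = ⊤ by
    refine Matrix.toLin'.injective (LinearMap.ext fun v => ?_)
    rw [map_smul, Matrix.toLin'_one]
    exact (hmem v).mp (htop ▸ Submodule.mem_top)
  by_contra hne
  have hlt : finrank F E < 3 := (Submodule.finrank_lt hne).trans_eq (Module.finrank_fin_fun F)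
  let b2 := Module.finBasisOfFinrankEq F E (show finrank F E = 2 by omega)
  obtain ⟨v, -, hv⟩ := SetLike.exists_of_lt (lt_top_iff_ne_top.mpr hne)
  have hli : LinearIndependent F ![(b2 0 : V3), (b2 1 : V3), v] := by
    rw [show (![(b2 0 : V3), (b2 1 : V3), v] : Fin 3 → V3) = Fin.snoc (E.subtype ∘ b2) v by
      funext i; fin_cases i <;> rfl]
    refine linearIndependent_finSnoc.mpr ⟨b2.linearIndependent.map' E.subtype E.ker_subtype, fun h => hv ?_⟩
    refine (Submodule.span_le.mpr ?_) h
    rintro _ ⟨i, rfl⟩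
    exact (b2 i).2
  let B := basisOfLinearIndependentOfCardEqFinrank hli (by simp)
  have hB : ⇑B = ![(b2 0 : V3), (b2 1 : V3), v] := coe_basisOfLinearIndependentOfCardEqFinrank _ _
  set a := B.repr (y v) 0 with hadef
  set b := B.repr (y v) 1 with hbdef
  set d := B.repr (y v) 2 with hddef
  have hyv : y v = a • (b2 0 : V3) + b • (b2 1 : V3) + d • v := by
    rw [hadef, hbdef, hddef]
    conv_lhs => rw [← B.sum_repr (y v)]
    simp [Fin.sum_univ_three, hB]
  have hdet : c * c * d = 1 := by
    have e1 : LinearMap.det y = 1 := by rw [hydef, LinearMap.det_toLin', hd]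
    rw [← LinearMap.det_toMatrix B, Matrix.det_fin_three] at e1
    have r0 : B.repr (y (b2 0 : V3)) = c • Finsupp.single 0 1 := by
      rw [(hmem _).mp (b2 0).2, map_smul, show (b2 0 : V3) = B 0 by simp [hB], B.repr_self]
    have r1 : B.repr (y (b2 1 : V3)) = c • Finsupp.single 1 1 := by
      rw [(hmem _).mp (b2 1).2, map_smul, show (b2 1 : V3) = B 1 by simp [hB], B.repr_self]
    simp [LinearMap.toMatrix_apply, hB, r0, r1] at e1
    linear_combination e1
  obtain ⟨e, he, hve⟩ : ∃ e ∈ E, y v = d • v + e :=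
    ⟨a • (b2 0 : V3) + b • (b2 1 : V3), add_mem (E.smul_mem _ (b2 0).2) (E.smul_mem _ (b2 1).2),
      by rw [hyv]; abel⟩
  have hye : y e = c • e := (hmem e).mp he
  have h4 := hy3 v
  simp only [hve, map_add, map_smul, hye, smul_add, smul_smul] at h4
  have hc3 : c ^ 3 = 1 := by
    have h5 := hy3 (b2 0 : V3)
    rw [(hmem _).mp (b2 0).2, map_smul, (hmem _).mp (b2 0).2, map_smul, map_smul, (hmem _).mp (b2 0).2,
      smul_smul, smul_smul] at h5
    refine smul_left_injective F (by simpa using b2.ne_zero 0 : (b2 0 : V3) ≠ 0) ?_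
    show c ^ 3 • (b2 0 : V3) = (1 : F) • (b2 0 : V3)
    rw [one_smul, ← show (c * c * c) • (b2 0 : V3) = c ^ 3 • (b2 0 : V3) by rw [show c ^ 3 = c * c * c by ring]]
    exact h5
  have hdc : d = c := by linear_combination c * hdet - d * hc3
  rw [hdc] at hve h4
  have he0 : e = 0 := by
    have hne3 : (3 : F) * c ^ 2 ≠ 0 := mul_ne_zero h3 (pow_ne_zero 2 fun h => by
      rw [h] at hc3; norm_num at hc3)
    refine (smul_eq_zero.mp (?_ : ((3 : F) * c ^ 2) • e = 0)).resolve_left hne3
    linear_combination (norm := module) h4 - hc3 • v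
  rw [he0, add_zero] at hve
  exact hv ((hmem v).mpr hve)

/-- A plane of eigenvectors prevents conjugation into the normalizer. -/
theorem no_conj {K : Type*} [Field K] [Algebra F K] [FiniteDimensional F K] (ι : K →ₐ[F] M3) (hK : finrank F K = 3)
    (x P : Matrix.SpecialLinearGroup (Fin 3) F) (c : F) (v w : V3) (hvw : LinearIndependent F ![v, w])
    (hv : (x : M3).mulVec v = c • v) (hw : (x : M3).mulVec w = c • w) (hns : (x : M3) ≠ c • 1)
    (h : ∀ a : K, ∃ b : K, ((P⁻¹ * x * P : Matrix.SpecialLinearGroup (Fin 3) F) : M3) * ι a =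
      ι b * ((P⁻¹ * x * P : Matrix.SpecialLinearGroup (Fin 3) F) : M3)) : False := by
  set g := Matrix.SpecialLinearGroup.toGL (P⁻¹ * x * P) with hg
  have hPP : (P : M3) * ((P⁻¹ : Matrix.SpecialLinearGroup (Fin 3) F) : M3) = 1 := by
    rw [← Matrix.SpecialLinearGroup.coe_mul, mul_inv_cancel, Matrix.SpecialLinearGroup.coe_one]
  have hgval : (g : M3) = ((P⁻¹ : Matrix.SpecialLinearGroup (Fin 3) F) : M3) * (x : M3) * (P : M3) := rfl
  let f : V3 →ₗ[F] V3 := Matrix.toLin' ((P⁻¹ : Matrix.SpecialLinearGroup (Fin 3) F) : M3)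
  have hfinj : Function.Injective f := fun a b hab => by
    have := congrArg (Matrix.toLin' (P : M3)) hab
    simp only [f, Matrix.toLin'_apply, Matrix.mulVec_mulVec, hPP, Matrix.one_mulVec] at this
    exact this
  have hmemg : ∀ u, (x : M3).mulVec u = c • u →
      f u ∈ LinearMap.ker ((Matrix.toLin' (g : M3) : Module.End F V3) - c • 1) := fun u hu => by
    rw [LinearMap.mem_ker, LinearMap.sub_apply, sub_eq_zero]
    show (g : M3).mulVec (f u) = c • f u
    show (g : M3).mulVec (((P⁻¹ : Matrix.SpecialLinearGroup (Fin 3) F) : M3).mulVec u) = _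
    rw [Matrix.mulVec_mulVec, hgval, Matrix.mul_assoc, hPP, Matrix.mul_one, ← Matrix.mulVec_mulVec, hu,
      Matrix.mulVec_smul]
    rfl
  have h2 : 2 ≤ finrank F ↥(LinearMap.ker ((Matrix.toLin' (g : M3) : Module.End F V3) - c • 1)) := by
    have hli : LinearIndependent F (f ∘ ![v, w]) := hvw.map' f (LinearMap.ker_eq_bot.mpr hfinj)
    have h1 := finrank_span_eq_card hli
    rw [Fintype.card_fin] at h1
    refine le_of_eq_of_le h1.symm (Submodule.finrank_mono (Submodule.span_le.mpr ?_))
    rintro _ ⟨i, rfl⟩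
    fin_cases i
    · exact hmemg v hv
    · exact hmemg w hw
  have hg1 := eq_scalar_of_eigen ι Nat.prime_three hK g (fun a => h a) c h2
  refine hns ?_
  calc (x : M3) = (P : M3) * (g : M3) * ((P⁻¹ : Matrix.SpecialLinearGroup (Fin 3) F) : M3) := by
        rw [hgval, Matrix.mul_assoc (P : M3), Matrix.mul_assoc, Matrix.mul_assoc, hPP, Matrix.mul_one,
          ← Matrix.mul_assoc, hPP, Matrix.one_mul]
    _ = c • 1 := by rw [hg1, Matrix.mul_smul, Matrix.mul_one, Matrix.smul_mul, hPP]

variable [Fintype F]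

theorem det_eq_norm {K : Type*} [Field K] [Algebra F K] [FiniteDimensional F K] (ι : K →ₐ[F] M3)
    (hK : finrank F K = 3) (a : K) : (ι a).det = Algebra.norm F a := by
  have hv0 : (Pi.single 0 1 : V3) ≠ 0 := fun h => by simpa using congrFun h 0
  let e := LinearEquiv.ofBijective (evalAt ι (Pi.single 0 1 : V3)) (evalAt_bijective ι hK hv0)
  rw [Algebra.norm_apply, ← LinearMap.det_toLin', ← LinearMap.det_conj (Algebra.lmul F K a) e]
  congr 1
  refine LinearMap.ext fun v => ?_
  obtain ⟨b, rfl⟩ := e.surjective v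
  show (ι a).mulVec ((ι b).mulVec _) = e (a * e.symm (e b))
  rw [e.symm_apply_apply, Matrix.mulVec_mulVec, ← map_mul]
  rfl

/-- A cyclic frame for a cube root of a scalar that is not a cube. -/
theorem exists_nonpower_frame (h3 : (3 : F) ≠ 0) {z : F} (hz : ∀ b : F, b ^ 3 ≠ z) (X : M3)
    (hX : X ^ 3 = z • 1) : ∃ u : Fin 3 → V3, LinearIndependent F u ∧
      X * (Matrix.of fun a i => u i a) = (Matrix.of fun a i => u i a) *
        Matrix.of ![![0, 0, z], ![1, 0, 0], ![0, 1, 0]] := by
  set y : Module.End F V3 := Matrix.toLin' X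
  have hy : y ^ 3 = z • (1 : Module.End F V3) := by
    rw [← pow_toLin', hX, map_smul, Matrix.toLin'_one]
    rfl
  let v : V3 := Pi.single 0 1
  have hv0 : v ≠ 0 := fun h => by simpa [v] using congrFun h 0
  let u : Fin 3 → V3 := fun i => (y ^ (i : ℕ)) v
  have hy3 : y (y (y v)) = z • v := by
    have := LinearMap.congr_fun hy v
    simpa [pow_succ, Module.End.mul_apply] using this
  refine ⟨u, ?_, ?_⟩
  · set U := Submodule.span F (Set.range u)
    have hinv : Inv y U := Submodule.map_le_iff_le_comap.mpr (Submodule.span_le.mpr (by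
      rintro _ ⟨i, rfl⟩
      fin_cases i
      · exact Submodule.subset_span ⟨1, by simp [u]⟩
      · exact Submodule.subset_span ⟨2, by simp [u, pow_succ]⟩
      · show y ((y ^ 2) v) ∈ U
        rw [pow_two, Module.End.mul_apply, hy3]
        exact U.smul_mem z (Submodule.subset_span ⟨0, by simp [u]⟩)))
    have hd := dvd_finrank_of_nonpower Nat.prime_three hz hy hinv
    have hne : 0 < finrank F U := by
      have : Nontrivial U := Submodule.nontrivial_iff_ne_bot.mpr fun h => hv0 (by
        have : v ∈ U := Submodule.subset_span ⟨0, by simp [u]⟩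
        rwa [h, Submodule.mem_bot] at this)
      exact finrank_pos
    rw [linearIndependent_iff_card_le_finrank_span, Fintype.card_fin]
    exact Nat.le_of_dvd hne hd
  · refine Matrix.ext fun a i => ?_
    refine (?_ : _ = y (u i) a).trans ?_
    · rfl
    · fin_cases i <;> simp [u, pow_succ, Matrix.mul_apply, Fin.sum_univ_three, hy3, mul_comm]

theorem mem_normalizer {K : Subalgebra F M3} (g : GL (Fin 3) F)
    (h1 : ∀ a : K, ∃ b : K, (g : M3) * K.val a = K.val b * (g : M3))
    (h2 : ∀ b : K, ∃ a : K, (g : M3) * K.val a = K.val b * (g : M3)) :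
    g ∈ Cfsg.Geo.subalgebraNormalizer K := by
  intro m
  constructor
  · intro hm
    obtain ⟨b, hb⟩ := h1 ⟨m, hm⟩
    have : (g : M3) * m = b.1 * (g : M3) := hb
    rw [this, Matrix.mul_assoc, Units.mul_inv, Matrix.mul_one]
    exact b.2
  · intro hm
    obtain ⟨a, ha⟩ := h2 ⟨_, hm⟩
    have h3 : (g : M3) * a.1 = (g : M3) * m := by
      refine (ha : (g : M3) * a.1 = _).trans ?_
      show (g : M3) * m * ((g⁻¹ : GL (Fin 3) F) : M3) * g = _
      rw [Matrix.mul_assoc, Units.inv_mul, Matrix.mul_one]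
    exact g.isUnit.mul_left_cancel h3 ▸ a.2

theorem conj_mem {K : Subalgebra F M3} (x : Matrix.SpecialLinearGroup (Fin 3) F) (y : GL (Fin 3) F)
    (hy : y ∈ Cfsg.Geo.subalgebraNormalizer K) (T : M3) (hT : T.det = 1) (hxy : (x : M3) * T = T * (y : M3)) :
    ∃ P : Matrix.SpecialLinearGroup (Fin 3) F, P⁻¹ * x * P ∈
      (Cfsg.Geo.subalgebraNormalizer K).comap
        (Matrix.SpecialLinearGroup.toGL : Matrix.SpecialLinearGroup (Fin 3) F →* GL (Fin 3) F) := by
  let P : Matrix.SpecialLinearGroup (Fin 3) F := ⟨T, hT⟩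
  refine ⟨P, ?_⟩
  rw [Subgroup.mem_comap]
  convert hy using 1
  refine Units.ext ?_
  show ((P⁻¹ : Matrix.SpecialLinearGroup (Fin 3) F) : M3) * x * (P : M3) = (y : M3)
  rw [Matrix.mul_assoc, show (x : M3) * (P : M3) = (P : M3) * (y : M3) from hxy, ← Matrix.mul_assoc,
    ← Matrix.SpecialLinearGroup.coe_mul, inv_mul_cancel, Matrix.SpecialLinearGroup.coe_one, Matrix.one_mul]

theorem exists_frobenius_any {K : Type*} [Field K] [Algebra F K] [Fintype K] [FiniteDimensional F K]
    (ι : K →ₐ[F] M3) (hK : finrank F K = 3) :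
    ∃ g : GL (Fin 3) F, (g : M3) ^ 3 = 1 ∧ (∀ c : F, (g : M3) ≠ c • 1) ∧
      (∀ a : K, ∃ b : K, (g : M3) * ι a = ι b * (g : M3)) ∧
      ∀ b : K, ∃ a : K, (g : M3) * ι a = ι b * (g : M3) := by
  classical
  let v0 : V3 := Pi.single 0 1
  have hv0 : v0 ≠ 0 := fun h => by simpa [v0] using congrFun h 0
  let e := LinearEquiv.ofBijective (evalAt ι v0) (evalAt_bijective ι hK hv0)
  let σ := FiniteField.frobeniusAlgHom F K
  let G : Module.End F V3 := e.conj σ.toLinearMap
  have hG : ∀ a, G (e a) = e (σ a) := fun a => by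
    rw [LinearEquiv.conj_apply_apply, LinearEquiv.symm_apply_apply]; rfl
  have hcard : Fintype.card K = Fintype.card F ^ 3 := by rw [Module.card_eq_pow_finrank (K := F) (V := K), hK]
  have hGn : G ^ 3 = 1 := LinearMap.ext fun v => by
    obtain ⟨a, rfl⟩ := e.surjective v
    rw [pow_succ, pow_succ, pow_one, Module.End.mul_apply, Module.End.mul_apply, hG, hG, hG, Module.End.one_apply]
    congr 1
    show ((a ^ Fintype.card F) ^ Fintype.card F) ^ Fintype.card F = a
    rw [← pow_mul, ← pow_mul, show Fintype.card F * (Fintype.card F * Fintype.card F) = Fintype.card K by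
      rw [hcard]; ring, FiniteField.pow_card]
  let g : GL (Fin 3) F :=
    Units.ofPowEqOne (LinearMap.toMatrix' G) 3
      (by rw [show LinearMap.toMatrix' G ^ 3 = LinearMap.toMatrix' (G ^ 3) from
            (map_pow LinearMap.toMatrixAlgEquiv' G 3).symm, hGn, LinearMap.toMatrix'_one]) (by norm_num)
  have hgval : (g : M3) = LinearMap.toMatrix' G := rfl
  have hgG : (Matrix.toLin' (g : M3) : Module.End F V3) = G := Matrix.toLin'_toMatrix' G
  have hconj : ∀ a : K, (g : M3) * ι a = ι (σ a) * (g : M3) := fun a => by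
    refine Matrix.toLin'.injective (LinearMap.ext fun v => ?_)
    obtain ⟨b, rfl⟩ := e.surjective v
    rw [Matrix.toLin'_mul, Matrix.toLin'_mul, LinearMap.comp_apply, LinearMap.comp_apply, hgG, hG]
    show G ((ι a).mulVec ((ι b).mulVec v0)) = (ι (σ a)).mulVec ((ι (σ b)).mulVec v0)
    rw [Matrix.mulVec_mulVec, Matrix.mulVec_mulVec, ← map_mul, ← map_mul]
    show G (e (a * b)) = e (σ a * σ b)
    rw [hG, map_mul]
  refine ⟨g, ?_, fun c hc => ?_, fun a => ⟨σ a, hconj a⟩, fun b => ?_⟩
  · rw [hgval, show LinearMap.toMatrix' G ^ 3 = LinearMap.toMatrix' (G ^ 3) from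
      (map_pow LinearMap.toMatrixAlgEquiv' G 3).symm, hGn, LinearMap.toMatrix'_one]
  · have hc0 : c ≠ 0 := fun h => by
      rw [h, zero_smul] at hc
      exact g.ne_zero hc
    have hall : ∀ a : K, a ^ Fintype.card F = a := fun a => by
      have h := hconj a
      rw [hc, Matrix.smul_mul, Matrix.one_mul, Matrix.mul_smul, Matrix.mul_one] at h
      have := smul_right_injective M3 hc0 h
      exact (ι.toRingHom.injective this).symm
    have h := Polynomial.card_le_degree_of_subset_roots (R := K)
      (p := Polynomial.X ^ Fintype.card F - Polynomial.X) (Z := Finset.univ) (by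
        intro a _
        refine (Polynomial.mem_roots (FiniteField.X_pow_card_sub_X_ne_zero _ Fintype.one_lt_card)).mpr ?_
        simp [hall a])
    rw [FiniteField.X_pow_card_sub_X_natDegree_eq _ Fintype.one_lt_card, Finset.card_univ, hcard] at h
    have := Nat.pow_le_pow_iff_right (Fintype.one_lt_card (α := F)) |>.mp (h.trans_eq (pow_one _).symm)
    omega
  · obtain ⟨a, rfl⟩ := (Finite.injective_iff_surjective (f := σ)).mp σ.toRingHom.injective b
    exact ⟨a, hconj a⟩

theorem exists_nine (h : 9 ∣ Fintype.card F - 1) : ∃ a : F, a ≠ 0 ∧ a ^ 9 = 1 ∧ a ^ 3 ≠ 1 := by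
  classical
  obtain ⟨g, hg⟩ := IsCyclic.exists_ofOrder_eq_natCard (α := Fˣ)
  rw [Nat.card_eq_fintype_card, Fintype.card_units] at hg
  obtain ⟨t, ht⟩ := h
  have h1 := Fintype.one_lt_card (α := F)
  have ht0 : 0 < t := Nat.pos_of_ne_zero fun h0 => by subst h0; omega
  refine ⟨((g ^ t : Fˣ) : F), Units.ne_zero _, ?_, fun h3 => ?_⟩
  · rw [← Units.val_pow_eq_pow_val, ← pow_mul, mul_comm, ← ht, ← hg, pow_orderOf_eq_one, Units.val_one]
  · rw [← Units.val_pow_eq_pow_val, ← pow_mul, Units.val_eq_one] at h3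
    have := Nat.le_of_dvd (by omega) (orderOf_dvd_of_pow_eq_one h3)
    omega


/-- Elements of order 3 of PSL_3(q) and the normalizer of a Singer cycle. Here `T = PSL_n(F)` for a field `F` with `q = p^f` elements (`n ≥ 2`, `(n, q) ≠ (2, 2), (2, 3)`), `k` is a prime dividing `n`, `K` is a subalgebra of the `n × n` matrices that is a field of degree `k` over `F` (an extension-field structure F_{q^k} on `F^n`), and `H` is the subgroup of matrices of determinant 1 normalizing `K` — a subgroup of type GL_{n/k}(q^k) (maximal except in some small cases; maximality is not assumed); Ω is the set of cosets of `H` in `T`, so an element of `T` of prime order `r` (a matrix `x` of determinant 1 with `x^r` scalar, `x` not scalar) fixes a point of Ω when some conjugate of `x` by a matrix of determinant 1 normalizes `K`. Take `n = k = 3` and suppose 3 divides the index of `H`. Then every element of `T` of order 3 is conjugate in `T` into `H` if and only if `q ≡ 4, 7` or `8 (mod 9)`. -/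
theorem result {F : Type*} [Field F] [Fintype F] {p : ℕ} [Fact p.Prime] [CharP F p] {q : ℕ} (hq : Fintype.card F = q)
    (n : ℕ) (hn : n = 3) (k : ℕ) (hk : k.Prime) (hkn : k ∣ n) (K : Subalgebra F (Matrix (Fin n) (Fin n) F)) (hK : Cfsg.Geo.IsFieldSubalgebra k K) (hk3 : k = 3) (hΩ : 3 ∣ ((Cfsg.Geo.subalgebraNormalizer K).comap (Matrix.SpecialLinearGroup.toGL : Matrix.SpecialLinearGroup (Fin n) F →* GL (Fin n) F)).index) :
    (∀ x : Matrix.SpecialLinearGroup (Fin n) F,
      (∃ z : F, ((x ^ 3 : Matrix.SpecialLinearGroup (Fin n) F) : Matrix (Fin n) (Fin n) F) = z • (1 : Matrix (Fin n) (Fin n) F)) →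
      (∀ z : F, (x : Matrix (Fin n) (Fin n) F) ≠ z • (1 : Matrix (Fin n) (Fin n) F)) →
      ∃ P : Matrix.SpecialLinearGroup (Fin n) F, P⁻¹ * x * P ∈ ((Cfsg.Geo.subalgebraNormalizer K).comap (Matrix.SpecialLinearGroup.toGL : Matrix.SpecialLinearGroup (Fin n) F →* GL (Fin n) F))) ↔
    (q % 9 = 4 ∨ q % 9 = 7 ∨ q % 9 = 8) := by
  classical
  subst hq
  subst hn
  subst hk3
  haveI : Fact (Nat.Prime 3) := ⟨Nat.prime_three⟩
  have hiso : IsField K :=
    ⟨⟨0, 1, fun h => by
        have h1 : (0 : Matrix (Fin 3) (Fin 3) F) = 1 := congrArg Subtype.val h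
        exact zero_ne_one (α := F) (congr_fun (congr_fun h1 0) 0 |>.trans (Matrix.one_apply_eq _))⟩,
      fun x y => Subtype.ext (hK.comm x x.2 y y.2), fun {x} hx => by
        obtain ⟨y, hy, hxy⟩ := hK.inv x x.2 (fun h => hx (Subtype.ext h))
        exact ⟨⟨y, hy⟩, Subtype.ext hxy⟩⟩
  letI : Field K := hiso.toField
  have : Finite K := Module.finite_of_finite F
  letI : Fintype K := Fintype.ofFinite K
  have hmem : ∀ g : GL (Fin 3) F, g ∈ Cfsg.Geo.subalgebraNormalizer K →
      ∀ a : K, ∃ b : K, (g : Matrix (Fin 3) (Fin 3) F) * K.val a = K.val b * (g : Matrix (Fin 3) (Fin 3) F) :=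
    fun g hg a => ⟨⟨_, (hg a.1).mp a.2⟩, by
      show _ = (g : Matrix (Fin 3) (Fin 3) F) * a.1 * ((g⁻¹ : GL (Fin 3) F) : Matrix (Fin 3) (Fin 3) F) * g
      rw [Matrix.mul_assoc _ _ (g : Matrix (Fin 3) (Fin 3) F), ← Units.val_mul, inv_mul_cancel, Units.val_one, Matrix.mul_one]
      rfl⟩
  set q := Fintype.card F with hqdef
  have hq1 : 1 < q := Fintype.one_lt_card
  obtain ⟨f, hfp, hqf⟩ := FiniteField.card F p
  have hp3 : p = 3 ↔ 3 ∣ q := by
    constructor
    · rintro rfl; rw [hqdef, hqf]; exact dvd_pow_self _ f.pos.ne'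
    · intro h
      rw [hqdef, hqf] at h
      exact ((Nat.prime_dvd_prime_iff_eq Nat.prime_three hfp).mp (Nat.prime_three.dvd_of_dvd_pow h)).symm
  constructor
  · intro h
    by_contra hne
    simp only [not_or] at hne
    by_cases hp : p = 3
    · subst hp
      have h30 : (3 : F) = 0 := by exact_mod_cast CharP.cast_eq_zero F 3
      let A : Matrix (Fin 3) (Fin 3) F := Matrix.of ![![1, 1, 0], ![0, 1, 0], ![0, 0, 1]]
      let x : Matrix.SpecialLinearGroup (Fin 3) F := ⟨A, by simp [A, Matrix.det_fin_three]⟩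
      have hns : ∀ z : F, (x : Matrix (Fin 3) (Fin 3) F) ≠ z • 1 := fun z hz => by
        have := congr_fun (congr_fun hz 0) 1
        simp [x, A] at this
      obtain ⟨P, hP⟩ := h x ⟨1, by
        rw [Matrix.SpecialLinearGroup.coe_pow, one_smul]
        refine Matrix.ext fun i j => ?_
        fin_cases i <;> fin_cases j <;> simp [x, A, pow_succ, Matrix.mul_apply, Fin.sum_univ_three]
        linear_combination h30⟩ hns
      rw [Subgroup.mem_comap] at hP
      refine no_conj K.val hK.finrank_eq x P 1 (Pi.single 0 1) (Pi.single 2 1) ?_ ?_ ?_ (hns 1) (hmem _ hP)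
      · rw [LinearIndependent.pair_iff]
        intro a b hab
        exact ⟨by simpa using congrFun hab 0, by simpa using congrFun hab 2⟩
      · ext i; fin_cases i <;> simp [x, A, Matrix.mulVec, dotProduct, Fin.sum_univ_three]
      · ext i; fin_cases i <;> simp [x, A, Matrix.mulVec, dotProduct, Fin.sum_univ_three]
    have h3q : ¬ 3 ∣ q := fun h' => hp (hp3.mpr h')
    rcases (show q % 9 = 1 ∨ (q % 3 = 2 ∧ (q % 9 = 2 ∨ q % 9 = 5)) by omega) with hc | ⟨hc, hc9⟩
    · obtain ⟨a, ha0, ha9, ha3⟩ := exists_nine (F := F) (by omega)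
      let d : Fin 3 → F := ![a, a, (a⁻¹) ^ 2]
      let x : Matrix.SpecialLinearGroup (Fin 3) F := ⟨Matrix.diagonal d, by
        rw [Matrix.det_diagonal, Fin.prod_univ_three]
        simp only [d, Matrix.cons_val_zero, Matrix.cons_val_one, Matrix.cons_val_two, Matrix.tail_cons, Matrix.head_cons]
        field_simp⟩
      have hns : ∀ z : F, (x : Matrix (Fin 3) (Fin 3) F) ≠ z • 1 := fun z hz => ha3 (by
        have e0 := congr_fun (congr_fun hz 0) 0
        have e2 := congr_fun (congr_fun hz 2) 2
        simp [x, d] at e0 e2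
        rw [← e0] at e2
        field_simp at e2
        linear_combination -e2)
      obtain ⟨P, hP⟩ := h x ⟨a ^ 3, by
        have hpow : d ^ 3 = fun _ => a ^ 3 := funext fun i => by
          fin_cases i <;> simp [d]
          field_simp
          linear_combination -ha9
        rw [Matrix.SpecialLinearGroup.coe_pow]
        show Matrix.diagonal d ^ 3 = _
        rw [Matrix.diagonal_pow, hpow, ← Matrix.smul_one_eq_diagonal]⟩ hns
      rw [Subgroup.mem_comap] at hP
      refine no_conj K.val hK.finrank_eq x P a (Pi.single 0 1) (Pi.single 1 1) ?_ ?_ ?_ (hns a) (hmem _ hP)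
      · rw [LinearIndependent.pair_iff]
        intro a b hab
        exact ⟨by simpa using congrFun hab 0, by simpa using congrFun hab 1⟩
      · ext i; show (Matrix.diagonal d).mulVec _ i = _
        rw [Matrix.mulVec_diagonal]; fin_cases i <;> simp [d]
      · ext i; show (Matrix.diagonal d).mulVec _ i = _
        rw [Matrix.mulVec_diagonal]; fin_cases i <;> simp [d]
    · -- the index is prime to 3
      have hr1 : ¬ 3 ∣ q - 1 := by omega
      obtain ⟨g, hg3, hg1, hgd, hgN, hgN'⟩ := exists_frobenius K.val hK.finrank_eq hr1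
      let g' : Matrix.SpecialLinearGroup (Fin 3) F := ⟨(g : Matrix (Fin 3) (Fin 3) F), hgd⟩
      have hg' : g' ∈ (Cfsg.Geo.subalgebraNormalizer K).comap
          (Matrix.SpecialLinearGroup.toGL : Matrix.SpecialLinearGroup (Fin 3) F →* GL (Fin 3) F) := by
        rw [Subgroup.mem_comap, show Matrix.SpecialLinearGroup.toGL g' = g from Units.ext rfl]
        exact mem_normalizer g hgN hgN'
      have hgo : orderOf g' = 3 := by
        refine orderOf_eq_prime ?_ fun h1 => hg1 (congrArg Subtype.val h1)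
        refine Subtype.ext ((Matrix.SpecialLinearGroup.coe_pow _ 3).trans ?_)
        refine Matrix.toLin'.injective ?_
        rw [pow_toLin']
        exact hg3.trans (by rw [Matrix.SpecialLinearGroup.coe_one, Matrix.toLin'_one]; rfl)
      have h3H : 3 ∣ Nat.card ((Cfsg.Geo.subalgebraNormalizer K).comap
          (Matrix.SpecialLinearGroup.toGL : Matrix.SpecialLinearGroup (Fin 3) F →* GL (Fin 3) F)) := by
        have h := orderOf_dvd_natCard (⟨g', hg'⟩ : (Cfsg.Geo.subalgebraNormalizer K).comap
          (Matrix.SpecialLinearGroup.toGL : Matrix.SpecialLinearGroup (Fin 3) F →* GL (Fin 3) F))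
        rwa [Subgroup.orderOf_mk, hgo] at h
      have h9 : 9 ∣ Nat.card (GL (Fin 3) F) := by
        refine dvd_trans ?_ (Subgroup.card_dvd_of_injective Matrix.SpecialLinearGroup.toGL
          Matrix.SpecialLinearGroup.toGL_injective)
        rw [← Subgroup.card_mul_index ((Cfsg.Geo.subalgebraNormalizer K).comap
          (Matrix.SpecialLinearGroup.toGL : Matrix.SpecialLinearGroup (Fin 3) F →* GL (Fin 3) F))]
        exact Nat.mul_dvd_mul h3H hΩ
      rw [Matrix.card_GL_field, Fin.prod_univ_three, ← hqdef] at h9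
      have hz : (((q ^ 3 - q ^ ((0 : Fin 3) : ℕ)) * (q ^ 3 - q ^ ((1 : Fin 3) : ℕ)) *
          (q ^ 3 - q ^ ((2 : Fin 3) : ℕ)) : ℕ) : ZMod 9) = 0 := (ZMod.natCast_eq_zero_iff _ 9).mpr h9
      rw [Nat.cast_mul, Nat.cast_mul, Nat.cast_sub (Nat.pow_le_pow_right (by omega) (by decide)),
        Nat.cast_sub (Nat.pow_le_pow_right (by omega) (by decide)),
        Nat.cast_sub (Nat.pow_le_pow_right (by omega) (by decide))] at hz
      simp only [Nat.cast_pow] at hz
      rcases hc9 with h2 | h5
      · rw [← ZMod.natCast_mod q 9, h2] at hz; revert hz; decide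
      · rw [← ZMod.natCast_mod q 9, h5] at hz; revert hz; decide
  · intro hq9 x hxp hns
    have h3q : ¬ 3 ∣ q := by omega
    have h3 : (3 : F) ≠ 0 := by
      exact_mod_cast natCast_ne_zero_of_ne (F := F) (r := 3) (p := p) fun e => h3q (hp3.mp e.symm)
    obtain ⟨z, hz⟩ := hxp
    rw [Matrix.SpecialLinearGroup.coe_pow] at hz
    have hz3 : z ^ 3 = 1 := by
      have := congrArg Matrix.det hz
      simpa [Matrix.det_pow, Matrix.det_smul] using this.symm
    have hzu : z ≠ 0 := fun h => by rw [h] at hz3; norm_num at hz3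
    have hzcube : ∀ b : F, b ^ 3 = z → z = 1 := fun b hb => by
      by_contra hz1
      have hb0 : b ≠ 0 := fun h => hzu (by rw [← hb, h]; norm_num)
      have ho : orderOf (Units.mk0 b hb0) = 3 ^ (1 + 1) := orderOf_eq_prime_pow
        (fun e => hz1 (by rw [← hb]; simpa [Units.ext_iff] using e))
        (Units.ext (by rw [Units.val_pow_eq_pow_val, Units.val_mk0, pow_succ, pow_mul, pow_one, hb, hz3]; rfl))
      have := orderOf_dvd_natCard (Units.mk0 b hb0)
      rw [ho, Nat.card_eq_fintype_card, Fintype.card_units, ← hqdef] at this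
      omega
    by_cases hz1 : z = 1
    · subst hz1
      rw [one_smul] at hz
      have hxsmall : ∀ c : F, finrank F ↥(LinearMap.ker
          ((Matrix.toLin' (x : Matrix (Fin 3) (Fin 3) F) : Module.End F (Fin 3 → F)) - c • 1)) ≤ 1 := fun c => by
        by_contra h2
        exact hns c (scalar_of_plane h3 _ hz x.2 c (by omega))
      rcases (show q % 3 = 1 ∨ q % 3 = 2 by omega) with hc | hc
      · -- diagonalisable
        obtain ⟨g, hg3, hgns, hgN, hgN'⟩ := exists_frobenius_any K.val hK.finrank_eq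
        have hgsmall : ∀ c : F, finrank F ↥(LinearMap.ker
            ((Matrix.toLin' (g : Matrix (Fin 3) (Fin 3) F) : Module.End F (Fin 3 → F)) - c • 1)) ≤ 1 := fun c => by
          by_contra h2
          exact hgns c (eq_scalar_of_eigen K.val Nat.prime_three hK.finrank_eq g hgN c (by omega))
        obtain ⟨w, hw⟩ := exists_prime_orderOf_dvd_card (G := Fˣ) 3 (by rw [Fintype.card_units, ← hqdef]; omega)
        have hω : (w : F) ^ 3 = 1 := by rw [← Units.val_pow_eq_pow_val, ← hw, pow_orderOf_eq_one, Units.val_one]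
        have hω1 : (w : F) ≠ 1 := fun h => by
          rw [Units.val_eq_one] at h
          rw [h, orderOf_one] at hw
          omega
        obtain ⟨u, hu, hxu⟩ := exists_diag h3 hω hω1 _ hz hxsmall
        obtain ⟨v, hv, hgv⟩ := exists_diag h3 hω hω1 _ hg3 hgsmall
        set U : Matrix (Fin 3) (Fin 3) F := Matrix.of fun a i => u i a
        set W : Matrix (Fin 3) (Fin 3) F := Matrix.of fun a i => v i a
        set D : Matrix (Fin 3) (Fin 3) F := Matrix.diagonal ![1, (w : F), (w : F) ^ 2]
        have hUd : U.det ≠ 0 := ((Matrix.isUnit_iff_isUnit_det _).mp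
          (Matrix.linearIndependent_cols_iff_isUnit.mp (hu : LinearIndependent F U.col))).ne_zero
        have hWd : W.det ≠ 0 := ((Matrix.isUnit_iff_isUnit_det _).mp
          (Matrix.linearIndependent_cols_iff_isUnit.mp (hv : LinearIndependent F W.col))).ne_zero
        set Dc : Matrix (Fin 3) (Fin 3) F := Matrix.diagonal ![W.det / U.det, 1, 1]
        refine conj_mem x g (mem_normalizer g hgN hgN') (U * Dc * W⁻¹) ?_ ?_
        · rw [Matrix.det_mul, Matrix.det_mul, Matrix.det_nonsing_inv, Ring.inverse_eq_inv']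
          simp [Dc, Fin.prod_univ_three]
          field_simp
        · have hW : IsUnit W.det := isUnit_iff_ne_zero.mpr hWd
          have hD : D * Dc = Dc * D := by
            simp only [D, Dc, Matrix.diagonal_mul_diagonal]
            congr 1
            funext i
            ring
          have h2 : W⁻¹ * (g : Matrix (Fin 3) (Fin 3) F) = D * W⁻¹ := by
            calc W⁻¹ * (g : Matrix (Fin 3) (Fin 3) F) = W⁻¹ * ((g : Matrix (Fin 3) (Fin 3) F) * W) * W⁻¹ := by
                  rw [Matrix.mul_assoc, Matrix.mul_assoc, Matrix.mul_nonsing_inv _ hW, Matrix.mul_one]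
              _ = _ := by rw [hgv, ← Matrix.mul_assoc, Matrix.nonsing_inv_mul _ hW, Matrix.one_mul]
          calc (x : Matrix (Fin 3) (Fin 3) F) * (U * Dc * W⁻¹)
              = U * (D * Dc) * W⁻¹ := by rw [← Matrix.mul_assoc, ← Matrix.mul_assoc, hxu]; simp only [Matrix.mul_assoc]
            _ = _ := by rw [hD]; simp only [Matrix.mul_assoc, h2]
      · -- the orbit of `q` modulo 3 has length two
        have hr1 : ¬ 3 ∣ q - 1 := by omega
        have hi : orderOf (Fintype.card F : ZMod 3) = 3 - 1 := by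
          rw [← hqdef, ← ZMod.natCast_mod q 3, hc, show (3 : ℕ) - 1 = 2 from rfl]
          exact orderOf_eq_prime rfl (fun e => by
            have := congrArg ZMod.val e
            rw [ZMod.val_natCast, ZMod.val_one] at this
            omega)
        have hr0 : ((3 : ℕ) : F) ≠ 0 := by exact_mod_cast h3
        obtain ⟨g, hgk, hg1, hgd, hgN, hgN'⟩ := exists_frobenius K.val hK.finrank_eq hr1
        obtain ⟨B, hB, hxB⟩ := exists_cyclic_frame hr0 hi le_rfl _ (toLin'_pow_eq_one hz)
          (fun h => hns 1 (by rw [one_smul]; exact h))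
        obtain ⟨B', hB', hgB⟩ := exists_cyclic_frame hr0 hi le_rfl (g : Matrix (Fin 3) (Fin 3) F) hgk hg1
        obtain ⟨s, hs⟩ := exists_root hr1 (B'.det / B.det)
        have hB'u : IsUnit B'.det := isUnit_iff_ne_zero.mpr hB'
        refine conj_mem x g (mem_normalizer g hgN hgN') (s • (B * B'⁻¹)) ?_ ?_
        · rw [Matrix.det_smul, Fintype.card_fin, hs, Matrix.det_mul, Matrix.det_nonsing_inv, Ring.inverse_eq_inv']
          field_simp
        · have h2 : B'⁻¹ * (g : Matrix (Fin 3) (Fin 3) F) =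
              (Matrix.of fun a i => if a = finRotate 3 i then 1 else 0) * B'⁻¹ := by
            calc B'⁻¹ * (g : Matrix (Fin 3) (Fin 3) F) = B'⁻¹ * ((g : Matrix (Fin 3) (Fin 3) F) * B') * B'⁻¹ := by
                  rw [Matrix.mul_assoc, Matrix.mul_assoc, Matrix.mul_nonsing_inv _ hB'u, Matrix.mul_one]
              _ = _ := by rw [hgB, ← Matrix.mul_assoc, Matrix.nonsing_inv_mul _ hB'u, Matrix.one_mul]
          rw [Matrix.mul_smul, Matrix.smul_mul, ← Matrix.mul_assoc, hxB, Matrix.mul_assoc,
            Matrix.mul_assoc, h2]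
    · -- the scalar is not a cube: an element of the field itself
      have hnp : ∀ b : F, b ^ 3 ≠ z := fun b hb => hz1 (hzcube b hb)
      have hq3 : q % 3 = 1 := by
        have ho : orderOf (Units.mk0 z hzu) = 3 := orderOf_eq_prime (Units.ext (by simpa using hz3))
          (fun e => hz1 (by simpa [Units.ext_iff] using e))
        have := orderOf_dvd_natCard (Units.mk0 z hzu)
        rw [ho, Nat.card_eq_fintype_card, Fintype.card_units, ← hqdef] at this
        omega
      have hcardK : Fintype.card K = q ^ 3 := by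
        rw [Module.card_eq_pow_finrank (K := F) (V := K), hK.finrank_eq]
      obtain ⟨a, -, ha9, ha3⟩ := exists_nine (F := K) (by
        rw [hcardK]
        have hq93 : q ^ 3 % 9 = 1 := by
          rw [Nat.pow_mod]
          rcases (show q % 9 = 4 ∨ q % 9 = 7 by omega) with h | h <;> rw [h]
        omega)
      obtain ⟨θ, hθ⟩ : ∃ θ : K, θ ^ 3 = algebraMap F K z := by
        set ζ := algebraMap F K z
        have hζ : ζ ^ 3 = 1 := by rw [← map_pow, hz3, map_one]
        have hζ1 : ζ ≠ 1 := fun h => hz1 ((algebraMap F K).injective (h.trans (map_one _).symm))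
        have hζs : ζ ^ 2 + ζ + 1 = 0 := by
          have h' : (ζ - 1) * (ζ ^ 2 + ζ + 1) = 0 := by linear_combination hζ
          exact (mul_eq_zero.mp h').resolve_left (sub_ne_zero.mpr hζ1)
        have h' : (a ^ 3 - ζ) * (a ^ 3 - ζ ^ 2) = 0 := by
          have h'' : (a ^ 3 - 1) * ((a ^ 3 - ζ) * (a ^ 3 - ζ ^ 2)) = 0 := by
            linear_combination ha9 + (a ^ 3 - 1) * hζ + (1 - a ^ 3) * a ^ 3 * hζs
          exact (mul_eq_zero.mp h'').resolve_left (sub_ne_zero.mpr ha3)
        rcases mul_eq_zero.mp h' with h | h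
        · exact ⟨a, sub_eq_zero.mp h⟩
        · exact ⟨a ^ 2, by linear_combination (a ^ 3 + ζ ^ 2) * h + ζ * hζ⟩
      have hιθ : (K.val θ) ^ 3 = z • (1 : Matrix (Fin 3) (Fin 3) F) := by
        rw [← map_pow, hθ, AlgHom.commutes, Algebra.algebraMap_eq_smul_one]
      obtain ⟨u, hu, hxu⟩ := exists_nonpower_frame h3 hnp _ hz
      obtain ⟨v, hv, hθv⟩ := exists_nonpower_frame h3 hnp _ hιθ
      obtain ⟨P, hP⟩ := exists_conj_of_frames _ _ u v hu hv _ hxu hθv
      have hθ0 : θ ≠ 0 := fun h => by
        rw [h, zero_pow (by norm_num)] at hθ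
        exact hzu ((algebraMap F K).injective (hθ.symm.trans (map_zero _).symm))
      let y : GL (Fin 3) F := Units.map K.val.toRingHom.toMonoidHom (Units.mk0 θ hθ0)
      obtain ⟨e, he⟩ := FiniteField.unitsMap_norm_surjective F K
        ((Units.map (Matrix.detMonoidHom (n := Fin 3) (R := F)) P)⁻¹)
      have hyv : (y : Matrix (Fin 3) (Fin 3) F) = K.val θ := rfl
      refine conj_mem x y (mem_normalizer y (fun b => ⟨b, ?_⟩) fun b => ⟨b, ?_⟩)
        ((P : Matrix (Fin 3) (Fin 3) F) * K.val (e : K)) ?_ ?_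
      · rw [hyv, ← map_mul, ← map_mul, mul_comm]
      · rw [hyv, ← map_mul, ← map_mul, mul_comm]
      · rw [Matrix.det_mul, det_eq_norm K.val hK.finrank_eq]
        have he' := congrArg Units.val he
        rw [Units.coe_map, Units.val_inv_eq_inv_val, Units.coe_map] at he'
        rw [show Algebra.norm F (e : K) = ((P : Matrix (Fin 3) (Fin 3) F).det)⁻¹ from he']
        exact mul_inv_cancel₀ (isUnit_iff_ne_zero.mp ((Matrix.isUnit_iff_isUnit_det _).mp P.isUnit))
      · rw [← Matrix.mul_assoc, hP, hyv, Matrix.mul_assoc, Matrix.mul_assoc, ← map_mul, ← map_mul, mul_comm]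

end Cfsg.Agent.S5971
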