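import Cfsg.Statements.S5972
import Cfsg.Agent.EqLemmas
import Cfsg.Agent.Lib.Elusive.OddMat
import Cfsg.Agent.Lib.Elusive.SymCount
import Cfsg.Agent.Lib.Elusive.Arith
import Cfsg.Agent.Lib.Orth.Geo

set_option autoImplicit false
open scoped MatrixGroups
open Cfsg

namespace Cfsg.Agent.S5972

open Module
open Cfsg.Agent.Elusive
open Cfsg.Agent.PrimeGraphBC (IsSymF polar_isSym finrank_oddSpace prodForm)
open Cfsg.Agent.PrimeOrderElt (Inv fix dvd_pow_sub_one_iff orderOf_card_pos)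
open QuadraticMap (polar)

variable {F : Type*} [Field F] [Fintype F]

/-- Necessity: the witnesses. -/
theorem necessity {r d m : ℕ} [Fact r.Prime] (h2 : (2 : F) ≠ 0) (hr : (r : F) ≠ 0) (hr2 : r ≠ 2) (hmd : m ≤ d)
    {l : ℕ} (hl1 : d - m < l) (hl2 : l ≤ d) (hl : orderOf (Fintype.card F : ZMod r) ∣ 2 * l)
    (H : ∀ x : Orth.IsoGrp (Orth.quadOdd d F), x ∈ Omega F ⇑(Orth.quadOdd d F) → orderOf x = r →
      HasInv (Orth.quadOdd d F).polarBilin (Orth.ap x) m)
    (i c : ℕ) (hi : i = orderOf (Fintype.card F : ZMod r)) (hc : c = if Even i then i else 2 * i) :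
    i ≤ m ∧ 2 * (m % i) ≤ (2 * d) % c ∧ (Odd i ∨ (r - 1) / i + 2 * (m / i) ≤ (2 * d) / i) := by
  subst hi
  have hipos := orderOf_card_pos (F := F) hr
  have hir : orderOf (Fintype.card F : ZMod r) ∣ r - 1 :=
    orderOf_dvd_of_pow_eq_one (ZMod.pow_card_sub_one_eq_one (PrimeOrderElt.natCast_ne_zero hr))
  obtain ⟨c', hc'⟩ : ∃ c', 2 * c' = c := by
    rcases Nat.even_or_odd (orderOf (Fintype.card F : ZMod r)) with ⟨k, hk⟩ | ho
    · exact ⟨k, by rw [hc, if_pos ⟨k, hk⟩]; omega⟩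
    · exact ⟨_, by rw [hc, if_neg (Nat.not_even_iff_odd.2 ho)]⟩
  refine necessity_of_witnesses hipos hir (Fact.out : r.Prime).one_lt hc' hc hmd hl1 hl2 hl ?_ ?_
  · intro u d0 hu hd
    obtain ⟨C, g, x, hg, hgf, hxΩ, hxr, hback⟩ := exists_blocks_odd (d := d) h2 hr hr2 (hc'.trans hc) hd hu
      (fun _ => 1) (fun _ => (Fact.out : r.Prime).not_dvd_one)
    obtain ⟨W, hWd, hW, hWi⟩ := hback m (H x hxΩ hxr)
    obtain ⟨j, s, -, hjs, hj2⟩ := exists_fix_part (blocks_isom (polar_isSym d0 h2) hg _) hWi hW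
    rw [finrank_blocks_fix hg.pow hgf (fun _ => (Fact.out : r.Prime).not_dvd_one), finrank_oddSpace] at hj2
    exact ⟨j, s, hWd ▸ hjs, by omega⟩
  · intro hev u d0 hu hui hd
    obtain ⟨e, he1, he2⟩ := exists_exponents (F := F) (u := u) hr hui
    obtain ⟨C, g, x, hg, hgf, hxΩ, hxr, hback⟩ := exists_blocks_odd (d := d) h2 hr hr2 (hc'.trans hc) hd hu e he1
    obtain ⟨W, hWd, hW, hWi⟩ := hback m (H x hxΩ hxr)
    have hci : c = orderOf (Fintype.card F : ZMod r) := by rw [hc, if_pos hev]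
    have hfix := no_isotropic_blocks (polar_isSym d0 h2) hg hgf
      (by rw [GLOrder.finrank_sympSpace, hc', hci]) he1 he2 hWi hW
    obtain ⟨j, s, hj, -, hj2⟩ := exists_fix_part (blocks_isom (polar_isSym d0 h2) hg e) hWi hW
    rw [finrank_blocks_fix hg.pow hgf he1, finrank_oddSpace] at hj2
    rw [hj, hWd] at hfix
    omega

/-- Elements of prime order of Ω_n(q), n = 2d+1 ≥ 7, q odd, with no fixed totally singular `m`-space. Here `T = Ω_n(q)` is realised as the commutator subgroup of the isometry group of the quadratic form `x₀² + Σ xᵢyᵢ` over the field `F` with `q` elements (it has trivial centre, so its elements of prime order `r` are used directly); let `1 ≤ m ≤ d` and let `r` be a prime dividing the number of totally singular `m`-spaces. For `r ≠ p` let `i` be the multiplicative order of `q` modulo `r`, `c = i` for `i` even and `c = 2i` for `i` odd, and write `k = n mod c`, `ℓ = m mod i`, `n' = ⌊n/i⌋`, `m' = ⌊m/i⌋`, `t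 = (r−1)/i`. Then every element of `T` of order `r` fixes some totally singular `m`-space if and only if either (i) `r = 2` and (`m < (n−1)/2` or `q ≡ 1 (mod 4)`); or (ii) `r ≠ p` is odd, `i ≤ m`, `k > 2ℓ`, and (`i` is odd or `n' − 2m' ≥ t`). -/
theorem result {F : Type*} [Field F] [Fintype F] {p : ℕ} [Fact p.Prime] [CharP F p] {q : ℕ} (hq : Fintype.card F = q) (hqodd : Odd q)
    (d m : ℕ) (hd : 3 ≤ d) (hm : 1 ≤ m) (hmd : m ≤ d)
    (r : ℕ) [Fact r.Prime]
    (hrΩ : r ∣ Nat.card {W : Submodule F (Unit ⊕ (Fin d ⊕ Fin d) → F) // Module.finrank F ↥W = m ∧ (∀ w ∈ W, Cfsg.quadFormOdd d F w = 0)})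
    (i c : ℕ) (hi : i = orderOf (q : ZMod r)) (hc : c = if Even i then i else 2 * i) :
    (∀ x : GL (Unit ⊕ (Fin d ⊕ Fin d)) F, x ∈ Cfsg.Geo.omegaGL (Cfsg.quadFormOdd d F) → orderOf x = r →
      ∃ W : Submodule F (Unit ⊕ (Fin d ⊕ Fin d) → F), Module.finrank F ↥W = m ∧ (∀ w ∈ W, Cfsg.quadFormOdd d F w = 0) ∧
        W.map (Matrix.toLin' (x : Matrix (Unit ⊕ (Fin d ⊕ Fin d)) (Unit ⊕ (Fin d ⊕ Fin d)) F)) ≤ W) ↔
    ((r = 2 ∧ (m < d ∨ q % 4 = 1)) ∨
     (r ≠ p ∧ 2 < r ∧ i ≤ m ∧ 2 * (m % i) < (2 * d + 1) % c ∧ (Odd i ∨ (r - 1) / i + 2 * (m / i) ≤ (2 * d + 1) / i))) := by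
  classical
  subst hq
  have hp2 : ringChar F ≠ 2 := fun h => by
    have := FiniteField.even_card_of_char_two h
    rw [Nat.odd_iff] at hqodd
    omega
  have h2 : (2 : F) ≠ 0 := Ring.two_ne_zero hp2
  have hnd := Orth.quadOdd_nondeg (F := F) d h2
  have hG : Orth.Good (Orth.quadOdd d F) := Orth.Good.of_two_ne_zero hnd h2
  have hiso : ∀ W : Submodule F (Unit ⊕ (Fin d ⊕ Fin d) → F),
      (∀ w ∈ W, Cfsg.quadFormOdd d F w = 0) ↔ Iso0 (Orth.quadOdd d F).polarBilin W := by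
    intro W
    constructor
    · intro h u hu v hv
      show polar (Cfsg.quadFormOdd d F) u v = 0
      simp only [polar, h u hu, h v hv, h _ (W.add_mem hu hv), sub_zero]
    · intro h w hw
      have := h w hw w hw
      rw [QuadraticMap.polarBilin_apply_apply, Orth.pl_self] at this
      exact (mul_eq_zero.1 this).resolve_left h2
  have hLHS : (∀ x : GL (Unit ⊕ (Fin d ⊕ Fin d)) F, x ∈ Cfsg.Geo.omegaGL (Cfsg.quadFormOdd d F) → orderOf x = r →
      ∃ W : Submodule F (Unit ⊕ (Fin d ⊕ Fin d) → F), Module.finrank F ↥W = m ∧ (∀ w ∈ W, Cfsg.quadFormOdd d F w = 0) ∧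
        W.map (Matrix.toLin' (x : Matrix (Unit ⊕ (Fin d ⊕ Fin d)) (Unit ⊕ (Fin d ⊕ Fin d)) F)) ≤ W) ↔
      ∀ x : Orth.IsoGrp (Orth.quadOdd d F), x ∈ Omega F ⇑(Orth.quadOdd d F) → orderOf x = r →
        HasInv (Orth.quadOdd d F).polarBilin (Orth.ap x) m := by
    constructor
    · intro H x hx hxr
      obtain ⟨W, h1, h3, h4⟩ := H (x : GL _ F) ((Orth.coe_mem_omegaGL (Q := Orth.quadOdd d F)).2 hx) ((Subgroup.orderOf_coe x).trans hxr)
      exact ⟨W, h1, (hiso W).1 h3, h4⟩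
    · intro H x hx hxr
      obtain ⟨y, hy, rfl⟩ := (Orth.mem_omegaGL_iff (Q := Orth.quadOdd d F)).1 hx
      obtain ⟨W, h1, h3, h4⟩ := H y hy ((Subgroup.orderOf_coe y).symm.trans hxr)
      exact ⟨W, h1, (hiso W).2 h3, h4⟩
  rw [hLHS]
  have hdim : finrank F (Unit ⊕ (Fin d ⊕ Fin d) → F) = 2 * d + 1 := finrank_oddSpace d
  have hcount : Nat.card {W : Submodule F (Unit ⊕ (Fin d ⊕ Fin d) → F) // Module.finrank F ↥W = m ∧
      (∀ w ∈ W, Cfsg.quadFormOdd d F w = 0)} = Nat.card (IsoV (Orth.quadOdd d F).polarBilin m) :=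
    Nat.card_congr (Equiv.subtypeEquivRight fun W => and_congr Iff.rfl (hiso W))
  rw [hcount] at hrΩ
  obtain ⟨l, hl1, hl2, hl⟩ := exists_index_odd h2 (Fact.out : r.Prime) (polar_isSym d h2) hdim hmd hrΩ
  have hrp : r ≠ p := by
    intro e
    obtain ⟨n, -, hn⟩ := FiniteField.card F p
    have h1 : r ∣ Fintype.card F ^ (2 * l) := by
      rw [hn, e]; exact (dvd_pow_self p n.ne_zero).trans (dvd_pow_self _ (by omega))
    have h3 := Nat.dvd_sub h1 hl
    rw [Nat.sub_sub_self (Nat.one_le_pow _ _ Fintype.card_pos)] at h3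
    exact (Fact.out : r.Prime).not_dvd_one h3
  have hrF : (r : F) ≠ 0 := fun h => hrp
    ((Nat.prime_dvd_prime_iff_eq (Fact.out : p.Prime) (Fact.out : r.Prime)).1
      ((CharP.cast_eq_zero_iff F p r).1 h)).symm
  have hsq := FiniteField.isSquare_neg_one_iff (F := F)
  rcases eq_or_ne r 2 with rfl | hr2
  · constructor
    · intro H
      refine .inl ⟨rfl, ?_⟩
      by_contra hcon
      push Not at hcon
      obtain rfl : m = d := le_antisymm hmd hcon.1
      have hns : ∀ s : F, s * s ≠ -1 := fun s hs => hsq.1 ⟨s, hs.symm⟩ (by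
        rw [Nat.odd_iff] at hqodd; omega)
      set v : Unit ⊕ (Fin m ⊕ Fin m) → F := Pi.single (.inl ()) 1 with hv
      set w : Unit ⊕ (Fin m ⊕ Fin m) → F :=
        Pi.single (.inr (.inl ⟨0, hm⟩)) 1 + Pi.single (.inr (.inr ⟨0, hm⟩)) 1 with hw
      obtain ⟨g, hgΩ, hg2, hg1, hgW⟩ := exists_invol_no_max hG h2 hns (d := m) (v := v) (w := w)
        (by simp; ring) (by simp [hv, Orth.coe_quadOdd, Cfsg.quadFormOdd, Pi.single_apply])
        (by simp [hw, Cfsg.quadFormOdd, Pi.single_apply, Orth.coe_quadOdd])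
        (by simp [hv, hw, Orth.coe_quadOdd, Orth.polar_quadOdd, Pi.single_apply])
      exact hgW (H g hgΩ (orderOf_eq_prime hg2 hg1))
    · rintro (⟨-, hcond⟩ | ⟨-, hlt, -⟩)
      swap
      · omega
      intro x hx hxr
      have hx2 : x ^ 2 = 1 := by rw [← hxr, pow_orderOf_eq_one]
      rcases lt_or_eq_of_le hmd with hlt | rfl
      · exact hasInv_of_sq_one_lt (isom_ap hnd two_pos hrF hx2) hdim hlt
      · obtain ⟨s, hs⟩ := hsq.2 (by have := hcond.resolve_left (lt_irrefl m); omega)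
        exact hasInv_max_of_square hG h2 hs.symm (by simp; ring) hx hx2
  · have hcl : orderOf (Fintype.card F : ZMod r) ∣ 2 * l := (dvd_pow_sub_one_iff _).1 hl
    have hipos : 0 < i := hi ▸ orderOf_card_pos hrF
    have htr := odd_mod_translate (d := d) (m := m) hipos
    rw [← hc] at htr
    have htr2 : (Odd i ∨ (r - 1) / i + 2 * (m / i) ≤ (2 * d + 1) / i) ↔
        (Odd i ∨ (r - 1) / i + 2 * (m / i) ≤ (2 * d) / i) := by
      rcases Nat.even_or_odd i with he | ho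
      · rw [htr.2 he]
      · simp [ho]
    constructor
    · intro H
      obtain ⟨h1, h3, h4⟩ := necessity h2 hrF hr2 hmd hl1 hl2 hcl H i c hi hc
      exact .inr ⟨hrp, lt_of_le_of_ne (Fact.out : r.Prime).two_le hr2.symm, h1, htr.1.2 h3, htr2.2 h4⟩
    · rintro (⟨h, -⟩ | ⟨-, -, -, hk, ht⟩)
      · exact absurd h hr2
      replace hk := htr.1.1 hk
      replace ht := htr2.1 ht
      intro x hx hxr
      subst hc hi
      exact hasInv_of_cond_odd (isom_ap hnd (Fact.out : r.Prime).pos hrF (hxr ▸ pow_orderOf_eq_one x)) hr2 hdim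
        hmd hk ht

end Cfsg.Agent.S5972
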