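import Cfsg.Agent.EqLemmas
import Cfsg.Agent.Lib.OrthPrime.RowTools
import Cfsg.Agent.Lib.OrthPrime.SingCrit
import Cfsg.Agent.Lib.OrthPrime.SingTwo
import Cfsg.Agent.Lib.OrthPrime.SingChar

set_option autoImplicit false
open scoped MatrixGroups
open Cfsg

namespace Cfsg.Agent.S5973

open OrthPrime in
/-- An involution in `Ω` without an invariant singular hyperplane of a maximal one. -/
theorem exists_bad_invol {F : Type*} [Field F] [Fintype F] {ι : Type} [Fintype ι] [DecidableEq ι]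
    {Q : QuadraticForm F (ι → F)} (hG : Orth.Good Q) (h2 : (2 : F) ≠ 0) {d : ℕ} (hd : Fintype.card ι = 2 * d)
    (hd2 : 2 ≤ d) (hH : Half Q (⊤ : Submodule F (ι → F))) (hns : ¬ IsSquare (-1 : F)) :
    ∃ g : Orth.IsoGrp Q, g ∈ Cfsg.Omega F ⇑Q ∧ (∀ x, Orth.ap g (Orth.ap g x) = x) ∧
      (∀ c : F, ¬ ∀ x, Orth.ap g x = c • x) ∧ ¬ ∃ W, Sing Q (d - 1) W ∧ Invt (Orth.ap g) W := by
  obtain ⟨v, hQv⟩ := Orth.exists_Q_eq hG.nd (by omega) (1 : F)
  have hQv0 : Q v ≠ 0 := by rw [hQv]; exact one_ne_zero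
  have hvn := ndeg_span_singleton h2 hQv0
  have hPn := ndeg_perp hG.nd hvn
  have hPd := finrank_perp hG.nd hvn
  rw [finrank_span_singleton (fun h => hQv0 (by rw [h, QuadraticMap.map_zero])), hd] at hPd
  obtain ⟨w, hw, hQw⟩ := Orth.exists_Q_eq_in (Q := Q) (perp Q (F ∙ v))
    (fun x hx hx0 => by
      by_contra! hall
      exact hx0 (hPn x hx hall))
    (by omega) (1 : F)
  have hQw0 : Q w ≠ 0 := by rw [hQw]; exact one_ne_zero
  have hvw : QuadraticMap.polar Q v w = 0 := hw v (Submodule.mem_span_singleton_self v)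
  have hwv : QuadraticMap.polar Q w v = 0 := by rw [QuadraticMap.polar_comm]; exact hvw
  set g := Orth.refl Q v * Orth.refl Q w with hg
  have hgΩ : g ∈ Cfsg.Omega F ⇑Q := by
    have h1 : Q (v - w) = 2 := by rw [Orth.Q_sub, hQv, hQw, hvw]; ring
    have h4 : Orth.ap (Orth.refl Q (v - w)) v = w := by
      rw [Orth.refl_ap, h1, QuadraticMap.polar_sub_left, QuadraticMap.polar_self, hQv, hwv, nsmul_eq_mul,
        show (2 : F)⁻¹ * ((2 : ℕ) * 1 - 0) = 1 by field_simp; push_cast; ring, one_smul, sub_sub_cancel]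
    have h5 := Orth.refl_mul_refl_ap_mem_omega (Orth.refl Q (v - w)) v
    rwa [h4] at h5
  have happ : ∀ x, Orth.ap g x = x - QuadraticMap.polar Q w x • w - QuadraticMap.polar Q v x • v := by
    intro x
    rw [hg, Orth.ap_mul, Orth.refl_ap, Orth.refl_ap, hQv, hQw, inv_one, one_mul, one_mul,
      QuadraticMap.polar_sub_right, QuadraticMap.polar_smul_right, hvw, smul_zero, sub_zero]
  have hvv : QuadraticMap.polar Q v v = 2 := by
    rw [QuadraticMap.polar_self, hQv, nsmul_eq_mul, Nat.cast_ofNat, mul_one]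
  have hww : QuadraticMap.polar Q w w = 2 := by
    rw [QuadraticMap.polar_self, hQw, nsmul_eq_mul, Nat.cast_ofNat, mul_one]
  have hgg : ∀ x, Orth.ap g (Orth.ap g x) = x := fun x => by
    rw [happ, happ]
    simp only [QuadraticMap.polar_sub_right, QuadraticMap.polar_smul_right, hvv, hww, hvw, hwv, smul_eq_mul,
      mul_zero, sub_zero]
    module
  -- the moved plane
  have hfix : ∀ x, Orth.ap g x = x → QuadraticMap.polar Q v x = 0 ∧ QuadraticMap.polar Q w x = 0 := by
    intro x hx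
    rw [happ, sub_sub, sub_eq_self] at hx
    have e1 := congrArg (QuadraticMap.polar Q v) hx
    have e2 := congrArg (QuadraticMap.polar Q w) hx
    simp only [QuadraticMap.polar_add_right, QuadraticMap.polar_smul_right, QuadraticMap.polar_zero_right, hvv,
      hww, hvw, hwv, smul_eq_mul, mul_zero, add_zero, zero_add] at e1 e2
    exact ⟨(mul_eq_zero.1 e1).resolve_right h2, (mul_eq_zero.1 e2).resolve_right h2⟩
  set S := (F ∙ v) ⊔ (F ∙ w) with hS
  have ho : ∀ a ∈ F ∙ v, ∀ b ∈ F ∙ w, QuadraticMap.polar Q a b = 0 := fun a ha b hb => by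
    obtain ⟨α, rfl⟩ := Submodule.mem_span_singleton.1 ha
    obtain ⟨β, rfl⟩ := Submodule.mem_span_singleton.1 hb
    rw [QuadraticMap.polar_smul_left, QuadraticMap.polar_smul_right, hvw, smul_zero, smul_zero]
  have hSn : NDeg Q S := hvn.sup (ndeg_span_singleton h2 hQw0) ho
  have hSd : Module.finrank F S = 2 := by
    have h1 := Submodule.finrank_sup_add_finrank_inf_eq (F ∙ v) (F ∙ w)
    rw [(disjoint_of_orth hvn ho).eq_bot, finrank_bot,
      finrank_span_singleton (fun h => hQv0 (by rw [h, QuadraticMap.map_zero])),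
      finrank_span_singleton (fun h => hQw0 (by rw [h, QuadraticMap.map_zero]))] at h1
    rw [hS]; omega
  have haniso : ∀ x ∈ S, Q x = 0 → x = 0 := by
    intro x hx hQx
    obtain ⟨_, ha, _, hb, rfl⟩ := Submodule.mem_sup.1 hx
    obtain ⟨α, rfl⟩ := Submodule.mem_span_singleton.1 ha
    obtain ⟨β, rfl⟩ := Submodule.mem_span_singleton.1 hb
    rw [QuadraticMap.map_add (⇑Q), Orth.Q_smul, Orth.Q_smul, hQv, hQw, QuadraticMap.polar_smul_left,
      QuadraticMap.polar_smul_right, hvw, smul_zero, smul_zero, mul_one, mul_one, add_zero] at hQx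
    have hβ : β = 0 := by
      by_contra hβ
      exact hns ⟨α / β, by field_simp; linear_combination -hQx⟩
    rw [hβ, mul_zero, add_zero, mul_self_eq_zero] at hQx
    rw [hQx, hβ, zero_smul, zero_smul, add_zero]
  have hSh : ¬ Half Q S := by
    rintro ⟨U, hU, hUs, hUd⟩
    obtain ⟨x, hx, hx0⟩ := (Submodule.ne_bot_iff U).1 (fun h => by rw [h, finrank_bot, hSd] at hUd; omega)
    exact hx0 (haniso x (hU hx) (hUs x hx))
  refine ⟨g, hgΩ, hgg, fun c hc => ?_, fun ⟨W, hW, hWi⟩ => ?_⟩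
  · have hPd' := finrank_perp hG.nd hSn
    rw [hSd, hd] at hPd'
    obtain ⟨x, hx, hx0⟩ := (Submodule.ne_bot_iff (perp Q S)).1 (fun h => by rw [h, finrank_bot] at hPd'; omega)
    have e1 : Orth.ap g x = x := by
      rw [happ, show QuadraticMap.polar Q w x = 0 from hx w (Submodule.mem_sup_right (Submodule.mem_span_singleton_self w)),
        show QuadraticMap.polar Q v x = 0 from hx v (Submodule.mem_sup_left (Submodule.mem_span_singleton_self v)),
        zero_smul, zero_smul, sub_zero, sub_zero]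
    have e2 : Orth.ap g v = -v := by
      rw [happ, hwv, hvv, zero_smul, sub_zero, two_smul]; abel
    rw [hc] at e1 e2
    have hc1 : c = 1 := smul_left_injective F hx0 (e1.trans (one_smul F x).symm)
    rw [hc1, one_smul, eq_neg_iff_add_eq_zero, ← two_smul F v] at e2
    exact hQv0 (by rw [(smul_eq_zero.1 e2).resolve_left h2, QuadraticMap.map_zero])
  · have hWP : W ≤ perp Q S := by
      intro x hx
      have hy : Orth.ap g x - x ∈ W := W.sub_mem (hWi x hx) hx
      have hyS : Orth.ap g x - x ∈ S := by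
        rw [happ, show x - QuadraticMap.polar Q w x • w - QuadraticMap.polar Q v x • v - x =
          -(QuadraticMap.polar Q v x • v + QuadraticMap.polar Q w x • w) by abel]
        exact neg_mem (Submodule.add_mem_sup (Submodule.smul_mem _ _ (Submodule.mem_span_singleton_self v))
          (Submodule.smul_mem _ _ (Submodule.mem_span_singleton_self w)))
      obtain ⟨h1, h3⟩ := hfix x (sub_eq_zero.1 (haniso _ hyS (hW.2 _ hy)))
      intro u hu
      obtain ⟨_, ha, _, hb, rfl⟩ := Submodule.mem_sup.1 hu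
      obtain ⟨α, rfl⟩ := Submodule.mem_span_singleton.1 ha
      obtain ⟨β, rfl⟩ := Submodule.mem_span_singleton.1 hb
      show QuadraticMap.polar Q _ x = 0
      rw [QuadraticMap.polar_add_left, QuadraticMap.polar_smul_left, QuadraticMap.polar_smul_left, h1, h3,
        smul_zero, smul_zero, add_zero]
    have hPd' := finrank_perp hG.nd hSn
    rw [hSd, hd] at hPd'
    obtain ⟨-, hhalf⟩ := singular_le (ndeg_perp hG.nd hSn) hWP hW
    have := (half_perp_iff hG.nd hSn (h := 1) (h' := d - 1) (by omega) (by omega)).1 (hhalf (by omega))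
    exact hSh (this.1 hH)

/-- Elements of prime order of PΩ⁺_n(q), n = 2d ≥ 8, with no fixed totally singular `m`-space, `m < n/2`. Here `T = PΩ⁺_n(q)` is realised through `Ω⁺_n(q)`, the commutator subgroup of the isometry group of the quadratic form `Σ xᵢyᵢ` over the field `F` with `q` elements; an element of `T` of prime order `r` is an element `x` of `Ω⁺_n(q)` with `x^r` scalar and `x` not scalar. Let `1 ≤ m < d` and let `r` be a prime dividing the number of totally singular `m`-spaces. For `r ≠ p` let `i` be the multiplicative order of `q` modulo `r`, `c = i` for `i` even and `c = 2i` for `i` odd, and write `k = n mod c`, `ℓ = m mod i`, `n' = ⌊n/i⌋`, `m' = ⌊m/i⌋`, `t = (r−1)/i`. Then every element of `T` of order `r` fixes some totally singular `m`-space if and only if one of: (i) `r = 2 ≠ p` and either `q ≡ 1 (mod 4)`, or `q ≡ 3 (mod 4)`, `m ≤ n/2 − 2` and (`m` even or `n ≡ 2 (mod 4)`); (ii) `r ≠ p` odd, `i` odd, `i ≤ m` and `k ≥ 2ℓ`; (iii)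 `r ≠ p` odd, `i` even, `i ≤ m`, `n' − 2m' ≥ t`, and one of: `i ≥ 2ℓ`, `k = 0`, `n/i` odd and `n' − 2m' > t`; or `k ≥ 2ℓ` and `n'` even; or `k > 2ℓ` and `n'` odd. -/
theorem result {F : Type*} [Field F] [Fintype F] {p : ℕ} [Fact p.Prime] [CharP F p] {q : ℕ} (hq : Fintype.card F = q)
    (d m : ℕ) (hd : 4 ≤ d) (hm : 1 ≤ m) (hmd : m < d)
    (r : ℕ) [Fact r.Prime]
    (hrΩ : r ∣ Nat.card {W : Submodule F (Fin d ⊕ Fin d → F) // Module.finrank F ↥W = m ∧ (∀ w ∈ W, Cfsg.quadFormPlus d F w = 0)})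
    (i c : ℕ) (hi : i = orderOf (q : ZMod r)) (hc : c = if Even i then i else 2 * i) :
    (∀ x : GL (Fin d ⊕ Fin d) F, x ∈ Cfsg.Geo.omegaGL (Cfsg.quadFormPlus d F) →
      (∃ z : F, ((x ^ r : GL (Fin d ⊕ Fin d) F) : Matrix (Fin d ⊕ Fin d) (Fin d ⊕ Fin d) F) = z • (1 : Matrix (Fin d ⊕ Fin d) (Fin d ⊕ Fin d) F)) →
      (∀ z : F, (x : Matrix (Fin d ⊕ Fin d) (Fin d ⊕ Fin d) F) ≠ z • (1 : Matrix (Fin d ⊕ Fin d) (Fin d ⊕ Fin d) F)) →
      ∃ W : Submodule F (Fin d ⊕ Fin d → F), Module.finrank F ↥W = m ∧ (∀ w ∈ W, Cfsg.quadFormPlus d F w = 0) ∧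
        W.map (Matrix.toLin' (x : Matrix (Fin d ⊕ Fin d) (Fin d ⊕ Fin d) F)) ≤ W) ↔
    ((r = 2 ∧ p ≠ 2 ∧ (q % 4 = 1 ∨ (q % 4 = 3 ∧ m + 2 ≤ d ∧ (Even m ∨ (2 * d) % 4 = 2)))) ∨
     (r ≠ p ∧ 2 < r ∧ Odd i ∧ i ≤ m ∧ 2 * (m % i) ≤ (2 * d) % c) ∨
     (r ≠ p ∧ 2 < r ∧ Even i ∧ i ≤ m ∧ (r - 1) / i + 2 * (m / i) ≤ (2 * d) / i ∧
       ((2 * (m % i) ≤ i ∧ (2 * d) % c = 0 ∧ Odd ((2 * d) / i) ∧ (r - 1) / i + 2 * (m / i) < (2 * d) / i) ∨
        (2 * (m % i) ≤ (2 * d) % c ∧ Even ((2 * d) / i)) ∨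
        (2 * (m % i) < (2 * d) % c ∧ Odd ((2 * d) / i))))) := by
  classical
  subst hq
  obtain ⟨Q, hQf⟩ : ∃ Q, Q = Orth.quadPlus d F := ⟨_, rfl⟩
  rw [← Orth.coe_quadPlus, ← hQf] at hrΩ ⊢
  have hA : ∀ (W : Submodule F (Fin d ⊕ Fin d → F)) (P : Prop),
      (Module.finrank F W = m ∧ (∀ w ∈ W, Q w = 0) ∧ P) ↔ OrthPrime.Sing Q m W ∧ P := fun W P => and_assoc.symm
  simp only [hA]
  have hQ : Q.polarBilin.Nondegenerate := hQf ▸ Orth.quadPlus_nondeg d
  have hcard : Fintype.card (Fin d ⊕ Fin d) = 2 * d := by simp; omega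
  have hG : Orth.Good Q := Orth.Good.of_card hQ (.inr (by rw [hcard]; omega))
  have hH : OrthPrime.Half Q (⊤ : Submodule F (Fin d ⊕ Fin d → F)) := hQf ▸ OrthPrime.half_quadPlus d
  have hex : ∃ v, Q v ≠ 0 := by
    refine ⟨Pi.single (.inl ⟨0, by omega⟩) 1 + Pi.single (.inr ⟨0, by omega⟩) 1, ?_⟩
    rw [hQf, Orth.coe_quadPlus]
    simp [Cfsg.quadFormPlus, Pi.single_apply]
  have hrp : r ≠ p := fun h => OrthPrime.not_dvd_card_sing p Q hQ (m := m)
    (by rw [Module.finrank_fintype_fun_eq_card, hcard]; omega) (h ▸ hrΩ)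
  have h2d : (2 * d) % 4 = 2 ↔ ¬ Even d := by rw [Nat.even_iff]; omega
  by_cases hr2 : r = 2
  · subst hr2
    have hodd : Odd (Fintype.card F) := by
      obtain ⟨k, hp, hk⟩ := FiniteField.card F p
      rw [hk]; exact (hp.odd_of_ne_two (Ne.symm hrp)).pow
    obtain ⟨-, -, h2, hcard2⟩ := OrthPrime.odd_char (F := F) p hodd
    have hq4 := OrthPrime.isSquare_neg_one_iff' (F := F) hcard2
    simp only [true_and, lt_irrefl, false_and, and_false, or_false, h2d, ne_eq, Ne.symm hrp, not_false_eq_true]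
    constructor
    · intro hyp
      by_cases hsq : IsSquare (-1 : F)
      · exact Or.inl (hq4.1 hsq)
      refine Or.inr ⟨by have := mt hq4.2 hsq; omega, ?_, ?_⟩
      · by_contra hlt
        obtain ⟨g, hg, hgg, hns, hno⟩ := exists_bad_invol hG h2 hcard (by omega) hH hsq
        obtain ⟨W, hW, hWi⟩ := OrthPrime.at_elt h2 hex hyp hg (z := 1) (fun v => by rw [hgg, one_smul]) hns
        exact hno ⟨W, by rwa [show d - 1 = m by omega], hWi⟩
      · by_contra hc
        rw [not_or, not_not] at hc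
        obtain ⟨g, hg, hJ⟩ := (OrthPrime.exists_j_omega_iff hG h2 hcard).2
          ⟨iff_of_true hH (Or.inr hc.2), Or.inl hc.2⟩
        exact hc.1 (OrthPrime.at_j h2 hex hyp hg hJ hsq)
    · intro hR
      by_cases hsq : IsSquare (-1 : F)
      · obtain ⟨s, hs⟩ := hsq
        exact OrthPrime.forall_two_sing h2 hG hex
          (fun g hg hg2 => OrthPrime.invol_plus_square h2 hG hcard hmd.le hH hs.symm hg hg2)
          (fun g hg hJ => OrthPrime.j_square h2 hJ hcard hmd.le hs.symm)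
      obtain ⟨-, hm2, hme⟩ := hR.resolve_left fun h => hsq (hq4.2 h)
      refine OrthPrime.forall_two_sing h2 hG hex
        (fun g hg hg2 => OrthPrime.invol_low h2 hQ hcard hm2 (fun v => Orth.Q_ap g v) hg2) fun g hg hJ => ?_
      have hde : Even d := (((OrthPrime.exists_j_omega_iff hG h2 hcard).1 ⟨g, hg, hJ⟩).1.1 hH).resolve_left hsq
      obtain ⟨e, he⟩ := hme.resolve_right fun h => h hde
      obtain ⟨W, -, hW, hWi⟩ := OrthPrime.j_even h2 hJ hsq e (OrthPrime.ndeg_top hQ)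
        (fun _ _ => Submodule.mem_top) (by rw [finrank_top, Module.finrank_fintype_fun_eq_card, hcard]; omega)
      exact ⟨W, by rwa [show 2 * e = m by omega] at hW, hWi⟩
  obtain ⟨hrF, hi', hi0⟩ := OrthPrime.order_params p rfl hrp hi
  refine (OrthPrime.forall_omegaGL_iff hr2 hG hex (OrthPrime.Sing Q m)).trans ?_
  rw [OrthPrime.singular_main (π := 0) hrF hi' hi0 hr2 hQ hcard two_pos (iff_of_true hH rfl) hm hmd hrΩ]
  have hr3 : 2 < r := lt_of_le_of_ne (Fact.out : r.Prime).two_le (Ne.symm hr2)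
  simp only [hr2, false_and, false_or, hrp, ne_eq, not_false_eq_true, true_and, hr3, Nat.sub_zero]
  rcases Nat.even_or_odd i with hie | hio
  · rw [show c = i by rw [hc, if_pos hie]]
    simp only [hie, Nat.not_odd_iff_even.2 hie, false_and, false_or, true_and, Nat.even_iff, Nat.odd_iff]
    refine and_congr_right fun _ => and_congr_right fun _ => ?_
    generalize 2 * d % i = k, 2 * d / i = a, m % i = l, (r - 1) / i + 2 * (m / i) = T
    omega
  · rw [show c = 2 * i by rw [hc, if_neg (Nat.not_even_iff_odd.2 hio)], Nat.mul_mod_mul_left]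
    simp only [hio, Nat.not_even_iff_odd.2 hio, false_and, or_false, true_and]
    refine and_congr_right fun _ => ?_
    omega

end Cfsg.Agent.S5973
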