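import Cfsg.Agent.EqLemmas
import Cfsg.Agent.Lib.OrthPrime.RowTools
import Cfsg.Agent.Lib.OrthPrime.Char2Elt

set_option autoImplicit false
open scoped MatrixGroups
open Cfsg

namespace Cfsg.Agent.S5974

theorem pred_iff {F : Type*} [Field F] {ι : Type} {Q : QuadraticForm F (ι → F)} {h : ℕ}
    (W : Submodule F (ι → F)) :
    (Module.finrank F W = h + h ∧ (∀ u ∈ W, u ≠ 0 → ∃ v ∈ W, QuadraticMap.polar Q u v ≠ 0) ∧
      ∃ U : Submodule F (ι → F), U ≤ W ∧ 2 * Module.finrank F U = h + h ∧ ∀ u ∈ U, Q u = 0) ↔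
    (Module.finrank F W = 2 * h ∧ OrthPrime.NDeg Q W ∧ OrthPrime.Half Q W) := by
  constructor
  · rintro ⟨hd, hn, U, hU, hUd, hUs⟩
    refine ⟨by omega, fun x hx hxy => ?_, U, hU, hUs, by omega⟩
    by_contra h0
    obtain ⟨y, hy, hne⟩ := hn x hx h0
    exact hne (hxy y hy)
  · rintro ⟨hd, hn, U, hU, hUs, hUd⟩
    refine ⟨by omega, fun x hx h0 => ?_, U, hU, by omega, hUs⟩
    by_contra! hall
    exact h0 (hn x hx hall)

theorem arith_even_eq {a b a' k l k' C : ℕ} (hlk : l = k) (hlC : l < C)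
    (hcases : (l ≤ k ∧ a' + b = a ∧ k' + l = k) ∨ (k < l ∧ a' + b + 1 = a ∧ k' + l = C + k))
    (h1 : (if l = 0 ∧ b % 2 = 1 then b - 1 else b) < if k = 0 ∧ a % 2 = 1 then a - 1 else a)
    (h2 : (if k' = 0 ∧ a' % 2 = 1 then a' - 1 else a') < if k = 0 ∧ a % 2 = 1 then a - 1 else a) :
    (if k = 0 ∧ a % 2 = 1 then a - 1 else a) ≤
        (if l = 0 ∧ b % 2 = 1 then b - 1 else b) + (if k' = 0 ∧ a' % 2 = 1 then a' - 1 else a') ↔
      (k = 0 ∧ (a % 2 = 1 ∨ l = 0 ∧ b % 2 = 0)) ∨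
        0 < b ∧ (l < k ∧ 0 < l ∨ k = l ∧ 0 < l ∧ (a + b) % 2 = 0 ∨ 0 < k ∧ l = 0 ∧ b % 2 = 0) := by
  subst hlk
  obtain rfl : k' = 0 := by omega
  rcases Nat.eq_zero_or_pos l with rfl | hl <;> split_ifs at * <;> omega

theorem arith_even_ne {a b a' k l k' C : ℕ} {X : Prop} (hlk : l ≠ k) (hlC : l < C)
    (hcases : (l ≤ k ∧ a' + b = a ∧ k' + l = k) ∨ (k < l ∧ a' + b + 1 = a ∧ k' + l = C + k))
    (h1 : (if l = 0 ∧ b % 2 = 1 then b - 1 else b) < if k = 0 ∧ a % 2 = 1 then a - 1 else a)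
    (h2 : (if k' = 0 ∧ a' % 2 = 1 then a' - 1 else a') < if k = 0 ∧ a % 2 = 1 then a - 1 else a) :
    (if k = 0 ∧ a % 2 = 1 then a - 1 else a) ≤
        (if l = 0 ∧ b % 2 = 1 then b - 1 else b) + (if k' = 0 ∧ a' % 2 = 1 then a' - 1 else a') ↔
      (k = 0 ∧ (a % 2 = 1 ∨ l = 0 ∧ b % 2 = 0)) ∨
        0 < b ∧ (l < k ∧ 0 < l ∨ k = l ∧ 0 < l ∧ X ∨ 0 < k ∧ l = 0 ∧ b % 2 = 0) := by
  simp only [Ne.symm hlk, false_and, false_or]
  rcases hcases with ⟨c1, c2, c3⟩ | ⟨c1, c2, c3⟩ <;> split_ifs at * <;> omega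

theorem arith_odd {a b a' k l k' C : ℕ} (hlC : l < C)
    (hcases : (l ≤ k ∧ a' + b = a ∧ k' + l = k) ∨ (k < l ∧ a' + b + 1 = a ∧ k' + l = C + k))
    (h1 : b < a) (h2 : a' < a) :
    a ≤ b + a' ↔ 0 < b ∧ l ≤ k := by
  omega

theorem elusive_odd_r {F : Type*} [Field F] [Fintype F] {d h p : ℕ}
    {Q : QuadraticForm F (Fin d ⊕ Fin d → F)} (hQ : Q.polarBilin.Nondegenerate) (hG : Orth.Good Q)
    (hH : OrthPrime.Half Q (⊤ : Submodule F (Fin d ⊕ Fin d → F))) (hex : ∃ v, Q v ≠ 0)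
    (hcard : Fintype.card (Fin d ⊕ Fin d) = 2 * d) (h0 : 0 < h) (hmd : h + h < d) {r : ℕ} [Fact r.Prime]
    (hrΩ : r ∣ Nat.card {W : Submodule F (Fin d ⊕ Fin d → F) //
      Module.finrank F W = 2 * h ∧ OrthPrime.NDeg Q W ∧ OrthPrime.Half Q W})
    (hr2 : r ≠ 2) (hrp : r ≠ p) {i c : ℕ} (hrF : (r : F) ≠ 0)
    (hi' : ∀ k : ℕ, (Fintype.card F : ZMod r) ^ k = 1 ↔ i ∣ k) (hi0 : 0 < i)
    (hc : c = if Even i then i else 2 * i) :
    (∀ x : GL (Fin d ⊕ Fin d) F, x ∈ Cfsg.Geo.omegaGL ⇑Q →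
      (∃ z : F, ((x ^ r : GL (Fin d ⊕ Fin d) F) : Matrix (Fin d ⊕ Fin d) (Fin d ⊕ Fin d) F) = z • 1) →
      (∀ z : F, (x : Matrix (Fin d ⊕ Fin d) (Fin d ⊕ Fin d) F) ≠ z • 1) →
      ∃ W : Submodule F (Fin d ⊕ Fin d → F), (Module.finrank F W = 2 * h ∧ OrthPrime.NDeg Q W ∧ OrthPrime.Half Q W) ∧
        W.map (Matrix.toLin' (x : Matrix (Fin d ⊕ Fin d) (Fin d ⊕ Fin d) F)) ≤ W) ↔
    ((r = 2 ∧ ((2 * d) % 4 = 2 ∨ (h + h) % 4 = 0 ∨ Fintype.card F % 4 = 1)) ∨
     (r ≠ p ∧ 2 < r ∧ Odd i ∧ c ≤ h + h ∧ (h + h) % c ≤ (2 * d) % c) ∨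
     (r ≠ p ∧ 2 < r ∧ Even i ∧
       (((2 * d) % c = 0 ∧ (Odd ((2 * d) / i) ∨ ((h + h) % c = 0 ∧ Even ((h + h) / i)))) ∨
        (i ≤ h + h ∧ (((h + h) % c < (2 * d) % c ∧ 0 < (h + h) % c) ∨
                  ((2 * d) % c = (h + h) % c ∧ 0 < (h + h) % c ∧
                    Even ((2 * d + (h + h) - 2 * ((2 * d) % c)) / i)) ∨
                  (0 < (2 * d) % c ∧ (h + h) % c = 0 ∧ Even ((h + h) / i))))))) := by
  classical
  rw [← two_mul h]
  let P : Submodule F (Fin d ⊕ Fin d → F) → Prop := fun W =>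
    Module.finrank F W = 2 * h ∧ OrthPrime.NDeg Q W ∧ OrthPrime.Half Q W
  rw [show c = OrthPrime.bsize i from hc, OrthPrime.forall_omegaGL_iff hr2 hG hex]
  have hc' : Even i → OrthPrime.bsize i = i := fun h => if_pos h
  obtain ⟨hiff, h1, h2'⟩ := OrthPrime.elusive_main hrF hi' hi0 hr2 hQ P (fun W hW => hW.2.1)
    (fun W hW k hk => ⟨by rw [LinearEquiv.finrank_map_eq]; exact hW.1, hW.2.1.map k hk,
      (OrthPrime.Half.map k hk W).2 hW.2.2⟩)
    (fun W W' hW hW' => OrthPrime.isometric_of_half hW.2.1 hW'.2.1 hW.1 hW'.1 (iff_of_true hW.2.2 hW'.2.2))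
    (by
      obtain ⟨S, -, hSn, hSd, hSh⟩ := OrthPrime.exists_sub_half (Q := Q) (OrthPrime.ndeg_top hQ) (n := d) (h := h)
        (by rw [finrank_top, Module.finrank_fintype_fun_eq_card, hcard]) h0 (by omega) True (fun he => by omega)
      exact ⟨S, hSd, hSn, hSh.2 trivial⟩) hrΩ
    (M := OrthPrime.capP i (2 * d)) (M₁ := OrthPrime.capP i (2 * h)) (M₂ := OrthPrime.capP i (2 * d - 2 * h))
    (OrthPrime.has_half hrF hi' hi0 hr2 (OrthPrime.ndeg_top hQ) (by rw [finrank_top]; simp; omega) hH)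
    (fun W hW => OrthPrime.has_half hrF hi' hi0 hr2 hW.2.1 hW.1 hW.2.2)
    (fun W hW B => by
      have hd' := OrthPrime.finrank_perp hQ hW.2.1
      rw [hW.1, hcard] at hd'
      rw [OrthPrime.has_half hrF hi' hi0 hr2 (OrthPrime.ndeg_perp hQ hW.2.1) (h := d - h) (by omega)
        ((OrthPrime.half_perp_iff hQ hW.2.1 hW.1 (h' := d - h) (by omega)).2 (iff_of_true hH hW.2.2)),
        show 2 * (d - h) = 2 * d - 2 * h by omega])
  refine hiff.trans ?_
  obtain ⟨a, k, hak, hk, hadiv, hkmod⟩ := OrthPrime.decomp hi0 (2 * d)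
  obtain ⟨b, l, hbl, hl, hbdiv, hlmod⟩ := OrthPrime.decomp hi0 (2 * h)
  obtain ⟨a', k', hsub, hk', hba, hcases⟩ := OrthPrime.decomp_sub hk hl (a := a) (b := b) (by omega)
  have hr3 : 2 < r := lt_of_le_of_ne (Fact.out : r.Prime).two_le (Ne.symm hr2)
  rcases Nat.even_or_odd i with hie | hio
  · have hia : (OrthPrime.bsize i * a + k) / i = a := by
      conv_lhs => rw [hc' hie]
      rw [hc' hie] at hk
      rw [Nat.mul_add_div hi0, Nat.div_eq_of_lt hk, add_zero]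
    have hib : (OrthPrime.bsize i * b + l) / i = b := by
      conv_lhs => rw [hc' hie]
      rw [hc' hie] at hl
      rw [Nat.mul_add_div hi0, Nat.div_eq_of_lt hl, add_zero]
    have hle : i ≤ OrthPrime.bsize i * b + l ↔ 0 < b := by
      have := OrthPrime.le_iff_pos (b := b) hl
      rwa [hc' hie] at this ⊢
    have hsum : l = k → (OrthPrime.bsize i * a + k + (OrthPrime.bsize i * b + l) - 2 * k) / i = a + b := by
      intro hlk
      conv_lhs => rw [hc' hie, hlk, show i * a + k + (i * b + k) - 2 * k = i * (a + b) by rw [Nat.mul_add]; omega]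
      rw [Nat.mul_div_cancel_left _ hi0]
    have hi2 : i % 2 = 0 := Nat.even_iff.1 hie
    simp only [hak, hbl, hsub, OrthPrime.capP_add hk, OrthPrime.capP_add hk', OrthPrime.capP_add hl] at h1 h2' ⊢
    simp only [Nat.mul_add_mod, Nat.mod_eq_of_lt hl, Nat.mod_eq_of_lt hk]
    rw [hia, hib, hle, OrthPrime.le_iff_pos hl]
    simp only [hi2, true_and] at h1 h2' ⊢
    simp only [hr2, false_and, false_or, hrp, ne_eq, not_false_eq_true, true_and, hr3, hie,
      Nat.not_odd_iff_even.2 hie, Nat.odd_iff, Nat.even_iff] at *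
    rcases eq_or_ne l k with hlk | hlk
    · rw [hsum hlk]
      exact arith_even_eq hlk hl hcases h1 h2'
    · exact arith_even_ne hlk hl hcases h1 h2'
  · have hi2 : i % 2 = 1 := Nat.odd_iff.1 hio
    simp only [hak, hbl, hsub, OrthPrime.capP_add hk, OrthPrime.capP_add hk', OrthPrime.capP_add hl] at h1 h2' ⊢
    simp only [Nat.mul_add_mod, Nat.mod_eq_of_lt hl, Nat.mod_eq_of_lt hk]
    rw [OrthPrime.le_iff_pos hl]
    simp only [hi2, one_ne_zero, false_and, and_false, if_false] at h1 h2' ⊢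
    simp only [hr2, false_and, false_or, hrp, ne_eq, not_false_eq_true, true_and, hr3, hio,
      Nat.not_even_iff_odd.2 hio, or_false] at *
    exact arith_odd hl hcases h1 h2'

/-- Elements of prime order of PΩ⁺_n(q), n = 2d ≥ 8, with no fixed nondegenerate hyperbolic `m`-space. Here `T = PΩ⁺_n(q)` is realised through `Ω⁺_n(q)`, the commutator subgroup of the isometry group of `Q = Σ xᵢyᵢ` over the field `F` with `q` elements; an element of `T` of prime order `r` is an element `x` of `Ω⁺_n(q)` with `x^r` scalar and `x` not scalar. A hyperbolic `m`-space is a subspace `W` of even dimension `m` on which the polar form of `Q` is nondegenerate and which contains a totally singular subspace of dimension `m/2`. Let `m` be even with `2 ≤ m < n/2`, and let `r` be a prime dividing the number of hyperbolic `m`-spaces, with `r = 2` or `r ≠ p`. For `r ≠ p` let `i` be the multiplicative order of `q` modulo `r`, `c = i` for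 `i` even and `c = 2i` for `i` odd, and write `k = n mod c`, `ℓ' = m mod c`. Then every element of `T` of order `r` fixes some hyperbolic `m`-space if and only if one of: (i) `r = 2` and (`n ≡ 2 (mod 4)`, or `m ≡ 0 (mod 4)`, or `q ≡ 1 (mod 4)`); (ii) `r ≠ p` odd, `i` odd, `c ≤ m` and `k ≥ ℓ'`; (iii) `r ≠ p` odd, `i` even, and either `k = 0` and (`n/i` odd, or `ℓ' = 0` and `m/i` even), or `i ≤ m` and (`k > ℓ' > 0`, or `k = ℓ' > 0` and `(n + m − 2k)/i` even, or `k > ℓ' = 0` and `m/i` even). -/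
theorem result {F : Type*} [Field F] [Fintype F] {p : ℕ} [Fact p.Prime] [CharP F p] {q : ℕ} (hq : Fintype.card F = q)
    (d m : ℕ) (hd : 4 ≤ d) (hm : 2 ≤ m) (hme : Even m) (hmd : m < d)
    (r : ℕ) [Fact r.Prime] (hr : r = 2 ∨ r ≠ p)
    (hrΩ : r ∣ Nat.card {W : Submodule F (Fin d ⊕ Fin d → F) // (Module.finrank F ↥W = m ∧ (∀ u ∈ W, u ≠ 0 → ∃ v ∈ W, QuadraticMap.polar (Cfsg.quadFormPlus d F) u v ≠ 0) ∧
          ∃ U : Submodule F (Fin d ⊕ Fin d → F), U ≤ W ∧ 2 * Module.finrank F ↥U = m ∧ ∀ u ∈ U, Cfsg.quadFormPlus d F u = 0)})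
    (i c : ℕ) (hi : i = orderOf (q : ZMod r)) (hc : c = if Even i then i else 2 * i) :
    (∀ x : GL (Fin d ⊕ Fin d) F, x ∈ Cfsg.Geo.omegaGL (Cfsg.quadFormPlus d F) →
      (∃ z : F, ((x ^ r : GL (Fin d ⊕ Fin d) F) : Matrix (Fin d ⊕ Fin d) (Fin d ⊕ Fin d) F) = z • (1 : Matrix (Fin d ⊕ Fin d) (Fin d ⊕ Fin d) F)) →
      (∀ z : F, (x : Matrix (Fin d ⊕ Fin d) (Fin d ⊕ Fin d) F) ≠ z • (1 : Matrix (Fin d ⊕ Fin d) (Fin d ⊕ Fin d) F)) →
      ∃ W : Submodule F (Fin d ⊕ Fin d → F), (Module.finrank F ↥W = m ∧ (∀ u ∈ W, u ≠ 0 → ∃ v ∈ W, QuadraticMap.polar (Cfsg.quadFormPlus d F) u v ≠ 0) ∧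
          ∃ U : Submodule F (Fin d ⊕ Fin d → F), U ≤ W ∧ 2 * Module.finrank F ↥U = m ∧ ∀ u ∈ U, Cfsg.quadFormPlus d F u = 0) ∧
        W.map (Matrix.toLin' (x : Matrix (Fin d ⊕ Fin d) (Fin d ⊕ Fin d) F)) ≤ W) ↔
    ((r = 2 ∧ ((2 * d) % 4 = 2 ∨ m % 4 = 0 ∨ q % 4 = 1)) ∨
     (r ≠ p ∧ 2 < r ∧ Odd i ∧ c ≤ m ∧ m % c ≤ (2 * d) % c) ∨
     (r ≠ p ∧ 2 < r ∧ Even i ∧
       (((2 * d) % c = 0 ∧ (Odd ((2 * d) / i) ∨ (m % c = 0 ∧ Even (m / i)))) ∨
        (i ≤ m ∧ ((m % c < (2 * d) % c ∧ 0 < m % c) ∨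
                  ((2 * d) % c = m % c ∧ 0 < m % c ∧ Even ((2 * d + m - 2 * ((2 * d) % c)) / i)) ∨
                  (0 < (2 * d) % c ∧ m % c = 0 ∧ Even (m / i))))))) := by
  classical
  subst hq
  obtain ⟨h, rfl⟩ := hme
  obtain ⟨Q, hQf⟩ : ∃ Q, Q = Orth.quadPlus d F := ⟨_, rfl⟩
  rw [← Orth.coe_quadPlus, ← hQf] at hrΩ ⊢
  have hQ : Q.polarBilin.Nondegenerate := hQf ▸ Orth.quadPlus_nondeg d
  have hcard : Fintype.card (Fin d ⊕ Fin d) = 2 * d := by simp; omega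
  have hG : Orth.Good Q := Orth.Good.of_card hQ (.inr (by rw [hcard]; omega))
  have hH : OrthPrime.Half Q (⊤ : Submodule F (Fin d ⊕ Fin d → F)) := hQf ▸ OrthPrime.half_quadPlus d
  simp only [pred_iff] at hrΩ ⊢
  have hex : ∃ v, Q v ≠ 0 := by
    refine ⟨Pi.single (.inl ⟨0, by omega⟩) 1 + Pi.single (.inr ⟨0, by omega⟩) 1, ?_⟩
    rw [hQf, Orth.coe_quadPlus]
    simp [Cfsg.quadFormPlus, Pi.single_apply]
  by_cases hr2 : r = 2
  · subst hr2
    by_cases hp2 : p = 2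
    · subst hp2
      have h2 : (2 : F) = 0 := by exact_mod_cast CharP.cast_eq_zero F 2
      have hqe : Fintype.card F % 2 = 0 := FiniteField.even_card_iff_char_two.1 (ringChar.eq F 2)
      rw [OrthPrime.forall_char_two_iff h2 hex]
      simp only [true_and, lt_irrefl, false_and, and_false, or_false, ne_eq, not_true_eq_false]
      by_cases hgood : d % 2 = 1 ∨ h % 2 = 0
      · refine iff_of_true (fun g _ hg2 _ => ?_) (by omega)
        obtain ⟨W, hWd, hWn, hWh, hWi⟩ := OrthPrime.exists_char_two (OrthPrime.isInv_ap h2 hg2) hQ hcard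
          (h := h) (by omega) (by omega) True (fun e he _ => by
            by_cases hh : h % 2 = 0
            · rcases le_or_gt h (2 * e) with hle | hlt
              · exact ⟨0, by omega, by omega, by omega, fun _ => trivial, fun h0 => absurd h0 (by omega)⟩
              · exact ⟨h - 2 * e, by omega, by omega, by omega, fun _ => trivial, fun _ _ => iff_of_true hH trivial⟩
            · rcases le_or_gt h (2 * e + 1) with hle | hlt
              · exact ⟨1, by omega, by omega, by omega, fun _ => trivial, fun _ _ => iff_of_true hH trivial⟩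
              · exact ⟨h - 2 * e, by omega, by omega, by omega, fun _ => trivial, fun _ _ => iff_of_true hH trivial⟩)
        exact ⟨W, ⟨hWd, hWn, hWh.2 trivial⟩, hWi⟩
      · refine iff_of_false (fun hyp => ?_) (by omega)
        subst hQf
        obtain ⟨g, hg, hg2, hg1, halt, hfix⟩ := OrthPrime.exists_blocks_plus (F := F) h2 (d := d) (by omega)
          (Nat.even_iff.2 (by omega))
        obtain ⟨W, ⟨hWd, hWn, -⟩, hWi⟩ := hyp g hg hg2 hg1
        obtain ⟨e, he1, he2, -⟩ := OrthPrime.blocks_half (OrthPrime.isInv_ap h2 hg2) halt (κ := Fin 0) 0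
          (fun x y hx hy _ => by
            rw [show ⇑(Orth.quadPlus d F) = quadFormPlus d F from Orth.coe_quadPlus d, Orth.polar_quadPlus]
            simp [hfix x hx, hfix y hy]) hWn hWi
        simp only [Fintype.card_fin] at he2
        omega
    have hodd : Odd (Fintype.card F) := by
      obtain ⟨k, hp, hk⟩ := FiniteField.card F p
      rw [hk]; exact (hp.odd_of_ne_two hp2).pow
    obtain ⟨hp, hp3, h2, hcard2⟩ := OrthPrime.odd_char (F := F) p hodd
    rw [OrthPrime.forall_two_even_iff hG h2 hex hcard (h := h) (by omega) (by omega) True _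
      (fun W => by rw [iff_true]),
      OrthPrime.isSquare_two_iff' hcard2, OrthPrime.isSquare_neg_one_iff' hcard2, iff_true_left hH, true_iff]
    simp only [Nat.even_iff, true_and, lt_irrefl, false_and, and_false, or_false]
    omega
  have hrp : r ≠ p := hr.resolve_left hr2
  obtain ⟨hrF, hi', hi0⟩ := OrthPrime.order_params p rfl hrp hi
  exact elusive_odd_r hQ hG hH hex hcard (by omega) hmd hrΩ hr2 hrp hrF hi' hi0 hc

end Cfsg.Agent.S5974
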