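import Cfsg.Statements.S5975
import Cfsg.Agent.EqLemmas
import Cfsg.Agent.S5979
import Cfsg.Agent.Lib.SpFieldExt.Basic
import Cfsg.Agent.Lib.Elusive.SympMat
import Cfsg.Agent.Lib.PrimeOrderElt.Jordan

set_option autoImplicit false
open scoped MatrixGroups
open scoped Matrix
open Cfsg

namespace Cfsg.Agent.S5975

open Matrix Module Cfsg.Agent Cfsg.Agent.GLOrder Cfsg.Agent.SpFieldExt

variable {F : Type*} [Field F]

theorem mem_spGL_iff {d : ℕ} {g : GL (Fin d ⊕ Fin d) F} :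
    g ∈ Cfsg.spGL d F ↔ ∀ u v, sympB d F (g.1 *ᵥ u) (g.1 *ᵥ v) = sympB d F u v := by
  simp only [sympB_eq_neg_sympForm, neg_inj]
  exact Iff.rfl

theorem finrank_fix_conj {d : ℕ} (g x : GL (Fin d ⊕ Fin d) F) :
    finrank F (fixSpace (g⁻¹ * x * g).1) = finrank F (fixSpace x.1) := by
  have h : ∀ M : Matrix (Fin d ⊕ Fin d) (Fin d ⊕ Fin d) F, fixSpace M = S5979.eig M 1 := fun M =>
    Submodule.ext fun v => by rw [mem_fixSpace, S5979.mem_eig, one_smul]
  rw [h, h]
  exact S5979.eig_conj g x 1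

theorem isom_of {d r : ℕ} [Fact r.Prime] (hr : (r : F) ≠ 0) {y : GL (Fin d ⊕ Fin d) F}
    (hy : y ∈ Cfsg.spGL d F) (hyr : y ^ r = 1) :
    Elusive.Isom (-1 : F) (sympB d F) (Matrix.toLin' y.1) r where
  sym := Elusive.sympB_isSym d
  iso := fun u v => mem_spGL_iff.1 hy u v
  pow := by
    show (Matrix.toLinAlgEquiv' y.1) ^ r = 1
    rw [← map_pow, ← Units.val_pow_eq_pow_val, hyr, Units.val_one, map_one]
  pos := (Fact.out : r.Prime).pos
  rF := hr

/-- An element of order `r` none of whose conjugates normalises `K`. -/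
theorem no_conj [Finite F] {d k r : ℕ} [Fact r.Prime]
    {K : Subalgebra F (Matrix (Fin d ⊕ Fin d) (Fin d ⊕ Fin d) F)} (D : Data k K)
    {x : GL (Fin d ⊕ Fin d) F} (hx : x ∈ Cfsg.spGL d F) (hxr : x ^ r = 1)
    (hlin : ¬ k ∣ finrank F (fixSpace x.1) ∨ ((r : F) ≠ 0 ∧ ¬ 2 * k ∣ finrank F (fixSpace x.1)))
    (hsemi : r = k → 2 * d < k * finrank F (fixSpace x.1)) :
    ∀ g ∈ Cfsg.spGL d F, g⁻¹ * x * g ∉ Geo.subalgebraNormalizer K := by
  intro g hg hy
  set y := g⁻¹ * x * g with hydef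
  have hyS : y ∈ Cfsg.spGL d F := mul_mem (mul_mem (inv_mem hg) hx) hg
  have hyr : y ^ r = 1 := by
    rw [hydef, show g⁻¹ * x * g = g⁻¹ * x * g⁻¹⁻¹ by rw [inv_inv], conj_pow, hxr, mul_one,
      mul_inv_cancel]
  have hf : finrank F (fixSpace y.1) = finrank F (fixSpace x.1) := finrank_fix_conj g x
  by_cases hc : ∀ a ∈ K, y.1 * a = a * y.1
  · obtain ⟨h1, h2⟩ := D.fix_dvd y.1 hc
    rw [hf] at h1 h2
    rcases hlin with h | ⟨hr0, h⟩
    · exact h h1
    · exact h (h2 (isom_of hr0 hyS hyr).ndOn_fix)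
  · have h1 := D.fix_le hy hc
    rw [hf] at h1
    have h2 := hsemi (D.eq_degree hyr hy hc)
    omega

/-- A transvection. -/
theorem exists_transvection {p : ℕ} [Fact p.Prime] [CharP F p] {d : ℕ} (hd : 0 < d) :
    ∃ x ∈ Cfsg.spGL d F, x ^ p = 1 ∧ finrank F (fixSpace x.1) + 1 = 2 * d := by
  let v : Fin d ⊕ Fin d → F := Pi.single (.inl ⟨0, hd⟩) 1
  let L : (Fin d ⊕ Fin d → F) →ₗ[F] F := (sympB d F).flip v
  have hL : ∀ w, L w = sympB d F w v := fun _ => rfl
  let T : Matrix (Fin d ⊕ Fin d) (Fin d ⊕ Fin d) F := Cfsg.sympTransvection d v 1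
  have hT : ∀ w, T *ᵥ w = w - L w • v := fun w => by
    rw [Linear.sympTransvection_mulVec, one_mul, hL, sympB_eq_neg_sympForm, neg_smul, sub_neg_eq_add]
  have hpow : ∀ (n : ℕ) (c : F), T ^ n * Cfsg.sympTransvection d v c = Cfsg.sympTransvection d v (n + c) := by
    intro n
    induction n with
    | zero => intro c; simp
    | succ n ih =>
      intro c
      rw [pow_succ, mul_assoc, Linear.sympTransvection_mul, ih]
      congr 1
      push_cast; ring
  have hTp : T ^ p = 1 := by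
    have h := hpow p 0
    rwa [Linear.sympTransvection_zero, mul_one, CharP.cast_eq_zero, add_zero,
      Linear.sympTransvection_zero] at h
  let x : GL (Fin d ⊕ Fin d) F := Units.ofPowEqOne T p hTp (Fact.out : p.Prime).ne_zero
  have hxT : x.1 = T := rfl
  refine ⟨x, mem_spGL_iff.2 fun a b => ?_, Units.ext (by rw [Units.val_pow_eq_pow_val, hxT, hTp]; rfl), ?_⟩
  · rw [hxT, hT, hT]
    simp only [map_sub, LinearMap.sub_apply, map_smul, LinearMap.smul_apply, hL, sympB_self, smul_eq_mul]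
    rw [sympB_swap v b]
    ring
  · have hfix : fixSpace x.1 = LinearMap.ker L := by
      ext w
      rw [mem_fixSpace, LinearMap.mem_ker, hxT, hT, sub_eq_self, smul_eq_zero]
      exact or_iff_left (by intro h; simpa [v] using congrFun h (.inl ⟨0, hd⟩))
    have hsurj : LinearMap.range L = ⊤ := by
      refine eq_top_iff.2 fun c _ => ⟨c • Pi.single (.inr ⟨0, hd⟩) (-1), ?_⟩
      rw [map_smul, hL, sympB_apply]
      simp [v, Pi.single_apply]
    have h := LinearMap.finrank_range_add_finrank_ker L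
    rw [hsurj, finrank_top, Module.finrank_self, finrank_sympSpace] at h
    rw [hfix]
    exact (add_comm _ _).trans h

/-- An involution fixing a hyperbolic plane's complement. -/
theorem exists_involution {d : ℕ} (hd : 0 < d) (h2 : (2 : F) ≠ 0) :
    ∃ x ∈ Cfsg.spGL d F, x ^ 2 = 1 ∧ finrank F (fixSpace x.1) + 2 = 2 * d := by
  classical
  let i0 : Fin d := ⟨0, hd⟩
  let e : Fin d → F := Function.update 1 i0 (-1)
  have hne : (-1 : F) ≠ 1 := fun h => h2 (by linear_combination -h)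
  have he : ∀ i, e i * e i = 1 := fun i => by
    by_cases h : i = i0 <;> simp [e, h]
  have hD2 : Matrix.diagonal (Sum.elim e e) ^ 2 = (1 : Matrix (Fin d ⊕ Fin d) (Fin d ⊕ Fin d) F) := by
    rw [pow_two, Matrix.diagonal_mul_diagonal, ← Matrix.diagonal_one]
    exact congrArg _ (funext fun s => by rcases s with i | i <;> exact he i)
  let x : GL (Fin d ⊕ Fin d) F := Units.ofPowEqOne _ 2 hD2 two_ne_zero
  refine ⟨x, mem_spGL_iff.2 fun u v => ?_, Units.ext (by rw [Units.val_pow_eq_pow_val]; exact hD2), ?_⟩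
  · rw [sympB_apply, sympB_apply]
    refine Finset.sum_congr rfl fun i _ => ?_
    rw [show x.1 = Matrix.diagonal (Sum.elim e e) from rfl]
    simp only [Matrix.mulVec_diagonal, Sum.elim_inl, Sum.elim_inr]
    linear_combination (u (.inl i) * v (.inr i) - u (.inr i) * v (.inl i)) * he i
  · have hfix : fixSpace x.1 = S5979.eig (Matrix.diagonal (Sum.elim e e)) 1 :=
      Submodule.ext fun v => by rw [mem_fixSpace, S5979.mem_eig, one_smul]; rfl
    rw [hfix, S5979.eig_diagonal, Nat.card_congr (Equiv.subtypeSum (p := fun s => Sum.elim e e s = 1)), Nat.card_sum]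
    have hc : Nat.card {i : Fin d // e i = 1} = d - 1 := by
      rw [Nat.card_congr (Equiv.subtypeEquivRight (q := fun i => ¬ i = i0) fun i => ?_), Nat.card_eq_fintype_card,
        Fintype.card_subtype_compl, Fintype.card_fin, Fintype.card_subtype_eq]
      by_cases h : i = i0 <;> simp [e, h, hne]
    show Nat.card {i : Fin d // e i = 1} + Nat.card {i : Fin d // e i = 1} + 2 = _
    rw [hc]; omega

/-- An element of odd prime order `r` whose moved space has dimension `2 c'`. -/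
theorem exists_semisimple [Fintype F] {r : ℕ} [Fact r.Prime] (hr : (r : F) ≠ 0) (hr2 : r ≠ 2) {c' d0 d : ℕ}
    (hc' : 2 * c' = if Even (orderOf (Fintype.card F : ZMod r)) then orderOf (Fintype.card F : ZMod r)
      else 2 * orderOf (Fintype.card F : ZMod r)) (hd : d0 + c' = d) :
    ∃ x ∈ Cfsg.spGL d F, x ^ r = 1 ∧ finrank F (fixSpace x.1) = 2 * d0 := by
  obtain ⟨g, hg, hgf⟩ := Elusive.exists_block hr hr2 hc'
  let V := (Fin d0 ⊕ Fin d0 → F) × (Fin c' ⊕ Fin c' → F)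
  let B : LinearMap.BilinForm F V := PrimeGraphBC.prodForm (sympB d0 F) (sympB c' F)
  have hsym := PrimeGraphBC.IsSymF.prod (Elusive.sympB_isSym (F := F) d0) (Elusive.sympB_isSym c')
  have halt : ∀ z : V, B z z = 0 := fun z => by
    rw [PrimeGraphBC.prodForm_apply, sympB_self, sympB_self, add_zero]
  have hdim : finrank F V = 2 * d := by
    rw [Module.finrank_prod, finrank_sympSpace, finrank_sympSpace, ← hd]; ring
  obtain ⟨Φ, hΦ⟩ := SympGeom.exists_sympEquiv B halt hsym.nd hdim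
  let Y : Module.End F V := LinearMap.prodMap 1 g
  let X : Matrix (Fin d ⊕ Fin d) (Fin d ⊕ Fin d) F :=
    (Matrix.toLinAlgEquiv' (R := F) (n := Fin d ⊕ Fin d)).symm (Φ.symm.conjAlgEquiv F Y)
  have hX : ∀ v, Φ (X *ᵥ v) = Y (Φ v) := fun v => by
    have h := LinearMap.congr_fun ((Matrix.toLinAlgEquiv' (R := F) (n := Fin d ⊕ Fin d)).apply_symm_apply
      (Φ.symm.conjAlgEquiv F Y)) v
    rw [show X *ᵥ v = Φ.symm (Y (Φ v)) from h, Φ.apply_symm_apply]
  have hYr : Y ^ r = 1 := by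
    show (PrimeGraphBC.prodMapHom (1, g)) ^ r = 1
    rw [← map_pow, Prod.pow_mk, one_pow, hg.pow, ← Prod.one_eq_mk, map_one]
  have hXr : X ^ r = 1 := by rw [← map_pow, ← map_pow, hYr, map_one, map_one]
  let x : GL (Fin d ⊕ Fin d) F := Units.ofPowEqOne X r hXr (Fact.out : r.Prime).ne_zero
  refine ⟨x, mem_spGL_iff.2 fun u v => ?_, Units.ext (by rw [Units.val_pow_eq_pow_val]; exact hXr), ?_⟩
  · show sympB d F (X *ᵥ u) (X *ᵥ v) = _
    rw [← hΦ, ← hΦ, hX, hX, PrimeGraphBC.prodForm_apply, PrimeGraphBC.prodForm_apply]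
    show sympB d0 F _ _ + sympB c' F (g _) (g _) = _
    rw [hg.iso]
    rfl
  · have hfix : (fixSpace x.1).map Φ.toLinearMap = Submodule.prod ⊤ ⊥ := by
      ext w
      rw [Submodule.mem_map_equiv, mem_fixSpace, Submodule.mem_prod]
      show X *ᵥ Φ.symm w = _ ↔ _
      rw [← Φ.injective.eq_iff, hX, Φ.apply_symm_apply, Submodule.mem_bot]
      constructor
      · intro h
        refine ⟨trivial, ?_⟩
        have h2 : w.2 ∈ PrimeOrderElt.fix g := PrimeOrderElt.mem_fix.2 (congrArg Prod.snd h)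
        rwa [hgf, Submodule.mem_bot] at h2
      · rintro ⟨-, h⟩
        refine Prod.ext rfl ?_
        show g w.2 = w.2
        rw [h, map_zero]
    have e1 : finrank F ↥((fixSpace x.1).map Φ.toLinearMap) = finrank F ↥(fixSpace x.1) :=
      LinearEquiv.finrank_map_eq Φ (fixSpace x.1)
    rw [hfix] at e1
    rw [← e1, PrimeOrderElt.finrank_submodule_prod, finrank_top, finrank_bot,
      finrank_sympSpace, add_zero]

section Positive

variable {d : ℕ}

/-- A frame conjugates models. -/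
theorem conj_of_frames {x y : GL (Fin d ⊕ Fin d) F} (M : Matrix (Fin d ⊕ Fin d) (Fin d ⊕ Fin d) F)
    {c c' : Fin d ⊕ Fin d → Fin d ⊕ Fin d → F}
    (hc : ∀ a b, sympB d F (c a) (c b) = sympB d F (Pi.single a 1) (Pi.single b 1))
    (hc' : ∀ a b, sympB d F (c' a) (c' b) = sympB d F (Pi.single a 1) (Pi.single b 1))
    (hx : ∀ a, x.1 *ᵥ c a = ∑ b, M b a • c b) (hy : ∀ a, y.1 *ᵥ c' a = ∑ b, M b a • c' b) :
    ∃ g ∈ Cfsg.spGL d F, g⁻¹ * x * g = y := by
  have key : ∀ (c : Fin d ⊕ Fin d → Fin d ⊕ Fin d → F) (z : GL (Fin d ⊕ Fin d) F),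
      (∀ a b, sympB d F (c a) (c b) = sympB d F (Pi.single a 1) (Pi.single b 1)) →
      (∀ a, z.1 *ᵥ c a = ∑ b, M b a • c b) →
      ∃ Q ∈ Cfsg.spGL d F, z.1 * Q.1 = Q.1 * M := by
    intro c z hc hz
    let A : Matrix (Fin d ⊕ Fin d) (Fin d ⊕ Fin d) F := Matrix.of fun i a => c a i
    have hA : ∀ a, A *ᵥ Pi.single a 1 = c a := fun a => by
      rw [Matrix.mulVec_single_one]; rfl
    have hmem : A ∈ Matrix.symplecticGroup (Fin d) F := by
      rw [mem_symplecticGroup_iff_col]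
      intro a b
      rw [show A.col a = c a from rfl, show A.col b = c b from rfl, hc, sympB, Matrix.toLinearMap₂'_apply']
      simp
    refine ⟨(Linear.spEquiv d F ⟨A, hmem⟩).1, (Linear.spEquiv d F ⟨A, hmem⟩).2, ?_⟩
    rw [Linear.spEquiv_val]
    refine Matrix.ext_of_mulVec_single fun a => ?_
    rw [← Matrix.mulVec_mulVec, hA, hz, ← Matrix.mulVec_mulVec, Matrix.mulVec_single_one]
    funext i
    simp [A, Matrix.mulVec, dotProduct, Finset.sum_apply, mul_comm]
  obtain ⟨Q, hQ, hxQ⟩ := key c x hc hx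
  obtain ⟨R, hR, hyR⟩ := key c' y hc' hy
  refine ⟨Q * R⁻¹, mul_mem hQ (inv_mem hR), Units.ext ?_⟩
  rw [_root_.mul_inv_rev, inv_inv]
  have h : R.1 * M = y.1 * R.1 := hyR.symm
  simp only [Units.val_mul, mul_assoc]
  rw [← mul_assoc x.1, hxQ, mul_assoc Q.1, ← mul_assoc (Q⁻¹).1, Units.inv_mul, one_mul, ← mul_assoc R.1, h,
    mul_assoc, Units.mul_inv, mul_one]

/-- The two-plane frame. -/
def frame2 (a b a' b' : Fin 2 ⊕ Fin 2 → F) : Fin 2 ⊕ Fin 2 → Fin 2 ⊕ Fin 2 → F :=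
  Sum.elim ![a, b] ![a', b']

theorem frame2_gram {a b a' b' : Fin 2 ⊕ Fin 2 → F} (h1 : sympB 2 F a a' = 1) (h2 : sympB 2 F b b' = 1)
    (hab : sympB 2 F a b = 0) (hab' : sympB 2 F a b' = 0) (ha'b : sympB 2 F a' b = 0)
    (ha'b' : sympB 2 F a' b' = 0) :
    ∀ s t, sympB 2 F (frame2 a b a' b' s) (frame2 a b a' b' t) = sympB 2 F (Pi.single s 1) (Pi.single t 1) := by
  intro s t
  rw [sympB_apply (Pi.single s 1)]
  rcases s with i | i <;> rcases t with j | j <;> fin_cases i <;> fin_cases j <;>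
    simp [frame2, Fin.sum_univ_two, h1, h2, hab, hab', ha'b, ha'b', sympB_self,
      sympB_swap a a', sympB_swap b b', sympB_swap a b, sympB_swap a b', sympB_swap a' b, sympB_swap a' b']

theorem exists_norm_one [Fintype F] (h2 : (2 : F) ≠ 0) {x : GL (Fin 2 ⊕ Fin 2) F} (hx : x ∈ Cfsg.spGL 2 F)
    (hxx : ∀ v, x.1 *ᵥ (x.1 *ᵥ v) = -v) (U : Submodule F (Fin 2 ⊕ Fin 2 → F))
    (hU : ∀ v ∈ U, x.1 *ᵥ v ∈ U) (hne : U ≠ ⊥) (hnd : Elusive.NdOn (sympB 2 F) U) :
    ∃ v ∈ U, sympB 2 F v (x.1 *ᵥ v) = 1 := by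
  have hB := mem_spGL_iff.1 hx
  have hsymm : ∀ v w, sympB 2 F v (x.1 *ᵥ w) = sympB 2 F w (x.1 *ᵥ v) := fun v w => by
    rw [← hB v (x.1 *ᵥ w), hxx, map_neg, sympB_swap w, neg_neg]
  obtain ⟨v, hv, hv0⟩ : ∃ v ∈ U, sympB 2 F v (x.1 *ᵥ v) ≠ 0 := by
    by_contra hcon
    push Not at hcon
    obtain ⟨u, hu, hu0⟩ := U.exists_mem_ne_zero_of_ne_bot hne
    refine hu0 (hnd u hu fun z hz => ?_)
    have h := hcon (u + x.1 *ᵥ z) (U.add_mem hu (hU z hz))
    simp only [Matrix.mulVec_add, map_add, LinearMap.add_apply, hcon u hu, hcon _ (hU z hz), zero_add, add_zero] at h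
    rw [← hsymm u, hxx, map_neg, ← neg_add, neg_eq_zero, ← two_mul] at h
    exact (mul_eq_zero.1 h).resolve_left h2
  have hodd : Fintype.card F % 2 = 1 := by
    refine FiniteField.odd_card_of_char_ne_two fun h => h2 ?_
    have := ringChar.eq_iff.1 h
    exact CharTwo.two_eq_zero
  obtain ⟨α, β, hαβ⟩ := S5979.exists_quadratic_norm hodd (neg_ne_zero.2 (one_ne_zero (α := F)))
    (sympB 2 F v (x.1 *ᵥ v))⁻¹
  refine ⟨α • v + β • (x.1 *ᵥ v), U.add_mem (U.smul_mem _ hv) (U.smul_mem _ (hU v hv)), ?_⟩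
  have e : sympB 2 F (x.1 *ᵥ v) (x.1 *ᵥ (x.1 *ᵥ v)) = sympB 2 F v (x.1 *ᵥ v) := hB _ _
  simp only [Matrix.mulVec_add, Matrix.mulVec_smul, map_add, map_smul, LinearMap.add_apply, LinearMap.smul_apply,
    smul_eq_mul, e]
  rw [hxx, map_neg, sympB_self, sympB_self]
  field_simp at hαβ
  linear_combination hαβ

/-- A frame for an element of square `-1`. -/
theorem exists_frame_neg [Fintype F] (h2 : (2 : F) ≠ 0) {x : GL (Fin 2 ⊕ Fin 2) F} (hx : x ∈ Cfsg.spGL 2 F)
    (hxx : ∀ v, x.1 *ᵥ (x.1 *ᵥ v) = -v) :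
    ∃ a b : Fin 2 ⊕ Fin 2 → F,
      ∀ s t, sympB 2 F (frame2 a b (x.1 *ᵥ a) (x.1 *ᵥ b) s) (frame2 a b (x.1 *ᵥ a) (x.1 *ᵥ b) t) =
        sympB 2 F (Pi.single s 1) (Pi.single t 1) := by
  have hB := mem_spGL_iff.1 hx
  have hsym := Elusive.sympB_isSym (F := F) 2
  have hne : (⊤ : Submodule F (Fin 2 ⊕ Fin 2 → F)) ≠ ⊥ := top_ne_bot
  obtain ⟨a, -, ha⟩ := exists_norm_one h2 hx hxx ⊤ (fun _ _ => trivial) hne
    (fun v _ h => sympB_nondeg v fun z => h z trivial)
  let P : Submodule F (Fin 2 ⊕ Fin 2 → F) := Submodule.span F {a, x.1 *ᵥ a}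
  have hP : ∀ v, v ∈ Elusive.orth (sympB 2 F) P ↔ sympB 2 F a v = 0 ∧ sympB 2 F (x.1 *ᵥ a) v = 0 := by
    intro v
    constructor
    · exact fun h => ⟨h a (Submodule.subset_span (by simp)), h _ (Submodule.subset_span (by simp))⟩
    · rintro ⟨h, h'⟩ s hs
      obtain ⟨p, q, rfl⟩ := Submodule.mem_span_pair.1 hs
      simp [h, h']
  have hPnd : Elusive.NdOn (sympB 2 F) P := by
    intro z hz h
    obtain ⟨p, q, rfl⟩ := Submodule.mem_span_pair.1 hz
    have h1 := h a (Submodule.subset_span (by simp))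
    have h2' := h (x.1 *ᵥ a) (Submodule.subset_span (by simp))
    simp [sympB_self, sympB_swap a (x.1 *ᵥ a), ha] at h1 h2'
    simp [h1, h2']
  have hinv : ∀ v ∈ Elusive.orth (sympB 2 F) P, x.1 *ᵥ v ∈ Elusive.orth (sympB 2 F) P := by
    intro v hv
    rw [hP] at hv ⊢
    refine ⟨?_, by rw [hB]; exact hv.1⟩
    rw [← hB, hxx, map_neg, hv.2, neg_zero]
  have hne2 : Elusive.orth (sympB 2 F) P ≠ ⊥ := by
    classical
    intro h
    have h' := Elusive.finrank_orth hsym P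
    rw [h, finrank_bot, finrank_sympSpace] at h'
    have := finrank_span_finset_le_card (R := F) ({a, x.1 *ᵥ a} : Finset (Fin 2 ⊕ Fin 2 → F))
    have hc : ({a, x.1 *ᵥ a} : Finset (Fin 2 ⊕ Fin 2 → F)).card ≤ 2 := Finset.card_le_two
    rw [Set.finrank, Finset.coe_insert, Finset.coe_singleton] at this
    change finrank F P ≤ _ at this
    omega
  have hnd2 : Elusive.NdOn (sympB 2 F) (Elusive.orth (sympB 2 F) P) := by
    have h := Elusive.ndOn_inf_orth (B := sympB 2 F) hsym (X := ⊤)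
      (fun v _ h => sympB_nondeg v fun z => h z trivial) hPnd le_top
    rwa [top_inf_eq] at h
  obtain ⟨b, hb, hb1⟩ := exists_norm_one h2 hx hxx _ hinv hne2 hnd2
  rw [hP] at hb
  refine ⟨a, b, frame2_gram ha hb1 hb.1 ?_ hb.2 (by rw [hB]; exact hb.1)⟩
  rw [← hB, hxx, map_neg, hb.2, neg_zero]

/-- A frame for an involution. -/
theorem exists_frame_pos (h2 : (2 : F) ≠ 0) {x : GL (Fin 2 ⊕ Fin 2) F} (hx : x ∈ Cfsg.spGL 2 F)
    (hxx : ∀ v, x.1 *ᵥ (x.1 *ᵥ v) = v) (h1 : x.1 ≠ 1) (hm1 : x.1 ≠ -1) :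
    ∃ a b a' b' : Fin 2 ⊕ Fin 2 → F, x.1 *ᵥ a = a ∧ x.1 *ᵥ a' = a' ∧ x.1 *ᵥ b = -b ∧ x.1 *ᵥ b' = -b' ∧
      ∀ s t, sympB 2 F (frame2 a b a' b' s) (frame2 a b a' b' t) =
        sympB 2 F (Pi.single s 1) (Pi.single t 1) := by
  have hB := mem_spGL_iff.1 hx
  have hpick : ∀ ε : F, ε * ε = 1 → x.1 ≠ (-ε) • 1 →
      ∃ a a', x.1 *ᵥ a = ε • a ∧ x.1 *ᵥ a' = ε • a' ∧ sympB 2 F a a' = 1 := by
    intro ε hε hne
    obtain ⟨v, hv⟩ : ∃ v, x.1 *ᵥ v + ε • v ≠ 0 := by
      by_contra hcon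
      push Not at hcon
      refine hne (Matrix.ext_iff_mulVec.2 fun v => ?_)
      rw [Matrix.smul_mulVec, Matrix.one_mulVec, neg_smul]
      exact eq_neg_of_add_eq_zero_left (hcon v)
    set a := x.1 *ᵥ v + ε • v with ha
    have hxa : x.1 *ᵥ a = ε • a := by
      rw [ha, Matrix.mulVec_add, hxx, Matrix.mulVec_smul, smul_add, smul_smul, hε, one_smul, add_comm]
    obtain ⟨w, hw⟩ : ∃ w, sympB 2 F a w ≠ 0 := by
      by_contra hcon
      push Not at hcon
      exact hv (sympB_nondeg a hcon)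
    set a' := x.1 *ᵥ w + ε • w with ha'
    have hxa' : x.1 *ᵥ a' = ε • a' := by
      rw [ha', Matrix.mulVec_add, hxx, Matrix.mulVec_smul, smul_add, smul_smul, hε, one_smul, add_comm]
    have hval : sympB 2 F a a' = 2 * ε * sympB 2 F a w := by
      have h := hB a (x.1 *ᵥ w)
      rw [hxa, hxx, map_smul, LinearMap.smul_apply, smul_eq_mul] at h
      rw [ha', map_add, map_smul, smul_eq_mul, ← h]
      ring
    have hne' : sympB 2 F a a' ≠ 0 := by
      rw [hval]
      exact mul_ne_zero (mul_ne_zero h2 fun e => by simp [e] at hε) hw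
    refine ⟨a, (sympB 2 F a a')⁻¹ • a', hxa, ?_, ?_⟩
    · rw [Matrix.mulVec_smul, hxa', smul_comm]
    · rw [map_smul, smul_eq_mul, inv_mul_cancel₀ hne']
  obtain ⟨a, a', ha, ha', haa⟩ := hpick 1 (one_mul 1) (by rwa [neg_one_smul])
  obtain ⟨b, b', hb, hb', hbb⟩ := hpick (-1) (by ring) (by rwa [neg_neg, one_smul])
  rw [one_smul] at ha ha'
  rw [neg_one_smul] at hb hb'
  have hcross : ∀ a b : Fin 2 ⊕ Fin 2 → F, x.1 *ᵥ a = a → x.1 *ᵥ b = -b → sympB 2 F a b = 0 := by
    intro a b ha hb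
    have h := hB a b
    rw [ha, hb, map_neg, neg_eq_iff_add_eq_zero, ← two_mul] at h
    exact (mul_eq_zero.1 h).resolve_left h2
  exact ⟨a, b, a', b', ha, ha', hb, hb',
    frame2_gram haa hbb (hcross a b ha hb) (hcross a b' ha hb') (hcross a' b ha' hb) (hcross a' b' ha' hb')⟩

/-- Models in the normaliser. -/
theorem exists_models [Fintype F] (h2 : (2 : F) ≠ 0) {K : Subalgebra F (Matrix (Fin 2 ⊕ Fin 2) (Fin 2 ⊕ Fin 2) F)}
    (D : Data 2 K) :
    (∃ y ∈ Cfsg.spGL 2 F, y ∈ Geo.subalgebraNormalizer K ∧ ∀ v, y.1 *ᵥ (y.1 *ᵥ v) = -v) ∧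
    (∃ y ∈ Cfsg.spGL 2 F, y ∈ Geo.subalgebraNormalizer K ∧ (∀ v, y.1 *ᵥ (y.1 *ᵥ v) = v) ∧ y.1 ≠ 1 ∧ y.1 ≠ -1) := by
  classical
  have := D.finite
  -- a generator with scalar square
  obtain ⟨j, hj, hjne⟩ : ∃ j ∈ K, ∀ c : F, j ≠ c • 1 := by
    by_contra hall
    push Not at hall
    have hle : finrank F K ≤ 1 := finrank_le_one (⟨1, K.one_mem⟩ : K) fun w => by
      obtain ⟨c, hc⟩ := hall w w.2
      exact ⟨c, Subtype.ext hc.symm⟩
    rw [D.field.finrank_eq] at hle
    omega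
  have hspan0 : ∀ k ∈ K, ∃ α β : F, k = α • 1 + β • j := by
    intro k hk
    have hind : LinearIndependent F ![(⟨1, K.one_mem⟩ : K), ⟨j, hj⟩] := by
      rw [LinearIndependent.pair_iff]
      intro s t h
      have h' : s • 1 + t • j = 0 := congrArg Subtype.val h
      by_cases ht : t = 0
      · subst ht
        rw [zero_smul, add_zero, smul_eq_zero] at h'
        exact ⟨h'.resolve_right one_ne_zero, rfl⟩
      · refine absurd ?_ (hjne (-(t⁻¹ * s)))
        linear_combination (norm := (match_scalars <;> field_simp <;> ring)) t⁻¹ • h'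
    have hspan := hind.span_eq_top_of_card_eq_finrank' (by rw [Fintype.card_fin, D.field.finrank_eq])
    have hmem : (⟨k, hk⟩ : K) ∈ Submodule.span F (Set.range ![(⟨1, K.one_mem⟩ : K), ⟨j, hj⟩]) :=
      hspan ▸ Submodule.mem_top
    rw [Matrix.range_cons, Matrix.range_cons, Matrix.range_empty, Set.union_empty, Set.singleton_union,
      Submodule.mem_span_pair] at hmem
    obtain ⟨α, β, h⟩ := hmem
    exact ⟨α, β, (congrArg Subtype.val h).symm⟩
  obtain ⟨β0, α0, hjj⟩ := hspan0 (j * j) (K.mul_mem hj hj)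
  set J := j - (α0 / 2) • 1 with hJ
  set δ := β0 + α0 * α0 / 4 with hδ
  have hJK : J ∈ K := K.sub_mem hj (K.smul_mem K.one_mem _)
  have h4 : (4 : F) ≠ 0 := by rw [show (4 : F) = 2 * 2 by norm_num]; exact mul_ne_zero h2 h2
  have hJJ : J * J = δ • 1 := by
    simp only [hJ, hδ, sub_mul, mul_sub, Matrix.smul_mul, Matrix.mul_smul, one_mul, mul_one, hjj]
    match_scalars <;> field_simp <;> ring
  have hJne : ∀ c : F, J ≠ c • 1 := fun c h => hjne (c + α0 / 2) (by
    rw [add_smul, ← h, hJ, sub_add_cancel])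
  have hspan : ∀ k ∈ K, ∃ α β : F, k = α • 1 + β • J := by
    intro k hk
    obtain ⟨α, β, h⟩ := hspan0 k hk
    refine ⟨α + β * (α0 / 2), β, ?_⟩
    rw [h, hJ]
    match_scalars <;> ring
  have hnsq : ∀ c : F, c * c ≠ δ := by
    intro c hc
    obtain ⟨z, -, hz⟩ := D.field.inv (J - c • 1) (K.sub_mem hJK (K.smul_mem K.one_mem c))
      (sub_ne_zero.2 (hJne c))
    have h0 : (J + c • 1) * (J - c • 1) = 0 := by
      simp only [add_mul, mul_sub, Matrix.smul_mul, Matrix.mul_smul, one_mul, mul_one, hJJ]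
      match_scalars
      · linear_combination -hc
      · ring
    have h1 := congrArg (· * z) h0
    simp only [mul_assoc, hz, mul_one, zero_mul] at h1
    exact hJne (-c) (by rw [neg_smul]; exact eq_neg_of_add_eq_zero_left h1)
  -- the adapted basis
  have hadj : ∀ u v, sympB 2 F (J *ᵥ u) v = sympB 2 F u (J *ᵥ v) := fun u v => by
    rw [sympB_eq_neg_sympForm, sympB_eq_neg_sympForm, D.adj J hJK]
  have halt : ∀ v, sympB 2 F (J *ᵥ v) v = 0 := fun v => by
    rw [sympB_eq_neg_sympForm, D.alt J hJK, neg_zero]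
  have hJv : ∀ v, J *ᵥ (J *ᵥ v) = δ • v := fun v => by
    rw [Matrix.mulVec_mulVec, hJJ, Matrix.smul_mulVec, Matrix.one_mulVec]
  let u : Fin 2 ⊕ Fin 2 → F := Pi.single (.inl 0) 1
  let w1 : Fin 2 ⊕ Fin 2 → F := Pi.single (.inr 0) 1
  have huw1 : sympB 2 F u w1 = 1 := by simp [sympB_apply, u, w1]
  set α := sympB 2 F (J *ᵥ u) w1 with hα
  have hdet : δ - α * α ≠ 0 := sub_ne_zero.2 (hnsq α).symm
  set w := (δ / (δ - α * α)) • w1 + (-α / (δ - α * α)) • (J *ᵥ w1) with hw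
  have huw : sympB 2 F u w = 1 := by
    rw [hw, map_add, map_smul, map_smul, ← hadj, huw1, ← hα, smul_eq_mul, smul_eq_mul]
    rw [div_mul_eq_mul_div, div_mul_eq_mul_div, ← add_div, div_eq_one_iff_eq hdet]
    ring
  have hJuw : sympB 2 F (J *ᵥ u) w = 0 := by
    rw [hw, map_add, map_smul, map_smul, ← hadj, hJv, map_smul, LinearMap.smul_apply, huw1, ← hα,
      smul_eq_mul, smul_eq_mul, smul_eq_mul]
    field_simp; ring
  have huJw : sympB 2 F u (J *ᵥ w) = 0 := by rw [← hadj, hJuw]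
  have hJJ' : sympB 2 F (J *ᵥ u) (J *ᵥ w) = δ := by
    rw [← hadj, hJv, map_smul, LinearMap.smul_apply, huw, smul_eq_mul, mul_one]
  have hvJv : ∀ v, sympB 2 F v (J *ᵥ v) = 0 := fun v => by rw [← hadj, halt]
  have hδ0 : δ ≠ 0 := fun h => hnsq 0 (by rw [h, mul_zero])
  let b : Fin 4 → Fin 2 ⊕ Fin 2 → F := ![u, J *ᵥ u, w, J *ᵥ w]
  let G : Matrix (Fin 4) (Fin 4) F := !![0, 0, 1, 0; 0, 0, 0, δ; -1, 0, 0, 0; 0, -δ, 0, 0]
  have hG : ∀ s t, sympB 2 F (b s) (b t) = G s t := by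
    intro s t
    fin_cases s <;> fin_cases t <;>
      simp [b, G, sympB_self, huw, hJuw, huJw, hJJ', hvJv, halt, sympB_swap u w, sympB_swap (J *ᵥ u) w,
        sympB_swap u (J *ᵥ w), sympB_swap (J *ᵥ u) (J *ᵥ w)]
  have hind : LinearIndependent F b := by
    rw [Fintype.linearIndependent_iff]
    intro c hc
    have h : ∀ t, ∑ s, c s * G s t = 0 := fun t => by
      have h := congrArg (fun v => sympB 2 F v (b t)) hc
      simpa [map_sum, LinearMap.sum_apply, hG] using h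
    intro i
    fin_cases i
    · simpa [Fin.sum_univ_four, G] using h 2
    · simpa [Fin.sum_univ_four, G, hδ0] using h 3
    · simpa [Fin.sum_univ_four, G] using h 0
    · simpa [Fin.sum_univ_four, G, hδ0] using h 1
  let bas := basisOfLinearIndependentOfCardEqFinrank hind (by rw [finrank_sympSpace, Fintype.card_fin])
  have hbas : ∀ s, bas s = b s := fun s => by simp [bas]
  -- realising a map of the basis
  have real : ∀ img : Fin 4 → Fin 2 ⊕ Fin 2 → F, (∀ s t, sympB 2 F (img s) (img t) = G s t) →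
      ∃ y ∈ Cfsg.spGL 2 F, ∀ s, y.1 *ᵥ b s = img s := by
    intro img himg
    let L := bas.constr F img
    have hL : ∀ s, L (b s) = img s := fun s => by rw [← hbas]; exact bas.constr_basis F img s
    have hext : (sympB 2 F).compl₁₂ L L = sympB 2 F := bas.ext fun s => bas.ext fun t => by
      rw [LinearMap.compl₁₂_apply, hbas, hbas, hL, hL, himg, hG]
    have hmem : LinearMap.toMatrix' L ∈ Matrix.symplecticGroup (Fin 2) F :=
      (mem_symplecticGroup_iff_preserves _).2 fun p q => by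
        rw [LinearMap.toMatrix'_mulVec, LinearMap.toMatrix'_mulVec, ← LinearMap.compl₁₂_apply, hext]
    refine ⟨(Linear.spEquiv 2 F ⟨_, hmem⟩).1, (Linear.spEquiv 2 F ⟨_, hmem⟩).2, fun s => ?_⟩
    rw [Linear.spEquiv_val, LinearMap.toMatrix'_mulVec, hL]
  have extv : ∀ (A B : Matrix (Fin 2 ⊕ Fin 2) (Fin 2 ⊕ Fin 2) F), (∀ s, A *ᵥ b s = B *ᵥ b s) → A = B :=
    fun A B h => Matrix.toLin'.injective (bas.ext fun s => by rw [hbas, Matrix.toLin'_apply, Matrix.toLin'_apply, h])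
  have hnorm : ∀ (y : GL (Fin 2 ⊕ Fin 2) F) (ε : F), ε * ε = 1 → y.1 * J = ε • (J * y.1) →
      y ∈ Geo.subalgebraNormalizer K := by
    intro y ε hε hy
    have hy1 : y.1 * J * (y⁻¹ : GL (Fin 2 ⊕ Fin 2) F).1 = ε • J := by
      rw [hy, Matrix.smul_mul, mul_assoc, Units.mul_inv, mul_one]
    intro k
    constructor
    · intro hk
      obtain ⟨p, q, rfl⟩ := hspan k hk
      rw [mul_add, add_mul, Matrix.mul_smul, Matrix.mul_smul, Matrix.smul_mul, Matrix.smul_mul, mul_one,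
        Units.mul_inv, hy1]
      exact K.add_mem (K.smul_mem K.one_mem _) (K.smul_mem (K.smul_mem hJK _) _)
    · intro hk
      obtain ⟨p, q, hpq⟩ := hspan _ hk
      have hy2 : (y⁻¹ : GL (Fin 2 ⊕ Fin 2) F).1 * J * y.1 = ε • J := by
        have h := congrArg (fun M => (ε • (1 : Matrix _ _ F)) * ((y⁻¹ : GL (Fin 2 ⊕ Fin 2) F).1 * M)) hy
        simp only [← mul_assoc, Units.inv_mul, one_mul, Matrix.smul_mul, Matrix.mul_smul, smul_smul, hε,
          one_smul] at h
        rw [mul_assoc] at h ⊢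
        exact h.symm
      have e : k = (y⁻¹ : GL (Fin 2 ⊕ Fin 2) F).1 * (p • 1 + q • J) * y.1 := by
        rw [← hpq]; simp [mul_assoc]
      rw [e, mul_add, add_mul, Matrix.mul_smul, Matrix.mul_smul, Matrix.smul_mul, Matrix.smul_mul, mul_one,
        Units.inv_mul, hy2]
      exact K.add_mem (K.smul_mem K.one_mem _) (K.smul_mem (K.smul_mem hJK _) _)
  constructor
  · obtain ⟨y, hy, hyb⟩ := real ![w, J *ᵥ w, -u, -(J *ᵥ u)] (fun s t => by
      fin_cases s <;> fin_cases t <;>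
        simp [G, sympB_self, huw, hJuw, huJw, hJJ', hvJv, halt, sympB_swap u w, sympB_swap (J *ᵥ u) w,
          sympB_swap u (J *ᵥ w), sympB_swap (J *ᵥ u) (J *ᵥ w)])
    refine ⟨y, hy, hnorm y 1 (one_mul 1) ?_, fun v => ?_⟩
    · rw [one_smul]
      refine extv _ _ fun s => ?_
      rw [← Matrix.mulVec_mulVec, ← Matrix.mulVec_mulVec]
      have h0 := hyb 0; have h1 := hyb 1; have h2' := hyb 2; have h3 := hyb 3
      simp only [b, Matrix.cons_val_zero, Matrix.cons_val_one, Matrix.cons_val_two, Matrix.cons_val_three,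
        Matrix.head_cons, Matrix.tail_cons] at h0 h1 h2' h3
      fin_cases s <;> simp [b, h0, h1, h2', h3, hJv, Matrix.mulVec_smul, Matrix.mulVec_neg]
    · have e : y.1 * y.1 = -1 := by
        refine extv _ _ fun s => ?_
        rw [← Matrix.mulVec_mulVec, Matrix.neg_mulVec, Matrix.one_mulVec]
        have h0 := hyb 0; have h1 := hyb 1; have h2' := hyb 2; have h3 := hyb 3
        simp only [b, Matrix.cons_val_zero, Matrix.cons_val_one, Matrix.cons_val_two, Matrix.cons_val_three,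
          Matrix.head_cons, Matrix.tail_cons] at h0 h1 h2' h3
        fin_cases s <;> simp [b, h0, h1, h2', h3, Matrix.mulVec_neg]
      rw [Matrix.mulVec_mulVec, e, Matrix.neg_mulVec, Matrix.one_mulVec]
  · obtain ⟨y, hy, hyb⟩ := real ![u, -(J *ᵥ u), w, -(J *ᵥ w)] (fun s t => by
      fin_cases s <;> fin_cases t <;>
        simp [G, sympB_self, huw, hJuw, huJw, hJJ', hvJv, halt, sympB_swap u w, sympB_swap (J *ᵥ u) w,
          sympB_swap u (J *ᵥ w), sympB_swap (J *ᵥ u) (J *ᵥ w)])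
    have h0 := hyb 0; have h1 := hyb 1; have h2' := hyb 2; have h3 := hyb 3
    simp only [b, Matrix.cons_val_zero, Matrix.cons_val_one, Matrix.cons_val_two, Matrix.cons_val_three,
      Matrix.head_cons, Matrix.tail_cons] at h0 h1 h2' h3
    refine ⟨y, hy, hnorm y (-1) (by ring) ?_, fun v => ?_, fun e => ?_, fun e => ?_⟩
    · refine extv _ _ fun s => ?_
      rw [Matrix.smul_mulVec, ← Matrix.mulVec_mulVec, ← Matrix.mulVec_mulVec]
      fin_cases s <;> simp [b, h0, h1, h2', h3, hJv, Matrix.mulVec_smul, Matrix.mulVec_neg]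
    · have e : y.1 * y.1 = 1 := by
        refine extv _ _ fun s => ?_
        rw [← Matrix.mulVec_mulVec, Matrix.one_mulVec]
        fin_cases s <;> simp [b, h0, h1, h2', h3, Matrix.mulVec_neg]
      rw [Matrix.mulVec_mulVec, e, Matrix.one_mulVec]
    · rw [e, Matrix.one_mulVec] at h1
      have : (2 : F) • (J *ᵥ u) = 0 := by rw [two_smul]; nth_rw 2 [h1]; rw [add_neg_cancel]
      exact hind.ne_zero 1 ((smul_eq_zero.1 this).resolve_left h2)
    · rw [e, Matrix.neg_mulVec, Matrix.one_mulVec] at h0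
      have : (2 : F) • u = 0 := by rw [two_smul]; nth_rw 1 [← h0]; rw [neg_add_cancel]
      exact hind.ne_zero 0 ((smul_eq_zero.1 this).resolve_left h2)

/-- Every projective involution of `Sp_4(q)`, `q` odd, has a conjugate normalising `K`. -/
theorem four_involutions [Fintype F] (h2 : (2 : F) ≠ 0)
    {K : Subalgebra F (Matrix (Fin 2 ⊕ Fin 2) (Fin 2 ⊕ Fin 2) F)} (D : Data 2 K)
    {x : GL (Fin 2 ⊕ Fin 2) F} (hx : x ∈ Cfsg.spGL 2 F) {z : F}
    (hz : ((x ^ 2 : GL (Fin 2 ⊕ Fin 2) F) : Matrix (Fin 2 ⊕ Fin 2) (Fin 2 ⊕ Fin 2) F) = z • 1)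
    (hns : ∀ c : F, x.1 ≠ c • 1) :
    ∃ g ∈ Cfsg.spGL 2 F, g⁻¹ * x * g ∈ Geo.subalgebraNormalizer K := by
  have hB := mem_spGL_iff.1 hx
  have hsq : ∀ v, x.1 *ᵥ (x.1 *ᵥ v) = z • v := fun v => by
    rw [Matrix.mulVec_mulVec, ← pow_two, ← Units.val_pow_eq_pow_val, hz, Matrix.smul_mulVec, Matrix.one_mulVec]
  have hz2 : z * z = 1 := by
    have h := hB (x.1 *ᵥ Pi.single (.inl 0) 1) (x.1 *ᵥ Pi.single (.inr 0) 1)
    rw [hsq, hsq] at h
    simp only [map_smul, LinearMap.smul_apply, smul_eq_mul, hB] at h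
    simpa [sympB_apply] using h
  obtain ⟨⟨y, hy, hyN, hyy⟩, ⟨y', hy', hy'N, hy'y, hy'1, hy'm⟩⟩ := exists_models h2 D
  rcases mul_self_eq_one_iff.1 hz2 with rfl | rfl
  · obtain ⟨a, b, a', b', ha, ha', hb, hb', hg⟩ := exists_frame_pos h2 hx
      (fun v => by rw [hsq, one_smul]) (fun e => hns 1 (by rw [e, one_smul]))
      (fun e => hns (-1) (by rw [e, neg_one_smul]))
    obtain ⟨c, e, c', e', hc, hc', he, he', hg'⟩ := exists_frame_pos h2 hy' hy'y hy'1 hy'm
    let M : Matrix (Fin 2 ⊕ Fin 2) (Fin 2 ⊕ Fin 2) F := Matrix.diagonal (Sum.elim ![1, -1] ![1, -1])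
    obtain ⟨g, hgS, hge⟩ := conj_of_frames (x := x) (y := y') M hg hg'
      (fun s => by rcases s with i | i <;> fin_cases i <;>
        simp [M, frame2, Fintype.sum_sum_type, Fin.sum_univ_two, ha, ha', hb, hb'])
      (fun s => by rcases s with i | i <;> fin_cases i <;>
        simp [M, frame2, Fintype.sum_sum_type, Fin.sum_univ_two, hc, hc', he, he'])
    exact ⟨g, hgS, hge ▸ hy'N⟩
  · obtain ⟨a, b, hg⟩ := exists_frame_neg h2 hx (fun v => by rw [hsq, neg_one_smul])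
    obtain ⟨c, e, hg'⟩ := exists_frame_neg h2 hy hyy
    let M : Matrix (Fin 2 ⊕ Fin 2) (Fin 2 ⊕ Fin 2) F := Matrix.fromBlocks 0 (-1) 1 0
    have hxm : ∀ v, x.1 *ᵥ (x.1 *ᵥ v) = -v := fun v => by rw [hsq, neg_one_smul]
    obtain ⟨g, hgS, hge⟩ := conj_of_frames (x := x) (y := y) M hg hg'
      (fun s => by rcases s with i | i <;> fin_cases i <;>
        simp [M, frame2, Fintype.sum_sum_type, Fin.sum_univ_two, Matrix.one_apply, hxm, -Matrix.mulVec_mulVec])
      (fun s => by rcases s with i | i <;> fin_cases i <;>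
        simp [M, frame2, Fintype.sum_sum_type, Fin.sum_univ_two, Matrix.one_apply, hyy, -Matrix.mulVec_mulVec])
    exact ⟨g, hgS, hge ▸ hyN⟩

end Positive

/-- A prime dividing the index of the normaliser divides a factor `q^(2i) - 1` with `k ∤ i`. -/
theorem exists_factor [Fintype F] {d k r : ℕ} [Fact r.Prime] (hrq : ¬ r ∣ Fintype.card F)
    {K : Subalgebra F (Matrix (Fin d ⊕ Fin d) (Fin d ⊕ Fin d) F)} (D : Data k K)
    (hΩ : r ∣ (Geo.subalgebraNormalizer K).relIndex (Cfsg.spGL d F)) :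
    ∃ i, 0 < i ∧ i ≤ d ∧ ¬ k ∣ i ∧ r ∣ Fintype.card F ^ (2 * i) - 1 := by
  classical
  obtain ⟨m, hm, hdiv⟩ := D.dvd_card_normalizer
  set N := Geo.subalgebraNormalizer K
  set S := Cfsg.spGL d F
  set q := Fintype.card F with hq
  have hP : (∏ i ∈ Finset.range m, (q ^ (2 * (k * (i + 1))) - 1)) ∣ Nat.card ↥(S ⊓ N) := by
    rcases Nat.eq_zero_or_pos m with h0 | h0
    · simp [h0]
    · exact (hdiv 0 (Finset.mem_range.2 h0)).2
  obtain ⟨t, ht⟩ := hP
  have hcardS : Nat.card S = N.relIndex S * Nat.card ↥(S ⊓ N) := by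
    rw [← (N.subgroupOf S).index_mul_card, Subgroup.relIndex, inf_comm]
    congr 1
    exact Nat.card_congr (Subgroup.subgroupOfEquivOfLe (inf_le_right : N ⊓ S ≤ S)).symm.toEquiv |>.trans
      (by rw [Subgroup.inf_subgroupOf_right]) |>.symm
  have hS : Nat.card S = q ^ (d ^ 2) * ∏ i ∈ Finset.range d, (q ^ (2 * (i + 1)) - 1) := by
    rw [← Nat.card_congr (Linear.spEquiv d F).toEquiv, card_Sp, Nat.card_eq_fintype_card]
  rw [← Finset.prod_filter_mul_prod_filter_not (Finset.range d) (fun j => k ∣ j + 1)] at hS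
  have hmul : ∏ j ∈ (Finset.range d).filter (fun j => k ∣ j + 1), (q ^ (2 * (j + 1)) - 1) =
      ∏ i ∈ Finset.range m, (q ^ (2 * (k * (i + 1))) - 1) := by
    have hk := D.prime.pos
    refine (Finset.prod_nbij (fun i => k * (i + 1) - 1) (fun i hi => ?_) (fun a _ b _ h => ?_) (fun j hj => ?_)
      (fun i hi => ?_)).symm
    · rw [Finset.mem_range] at hi
      have h1 : k * (i + 1) ≤ k * m := Nat.mul_le_mul_left k hi
      have h2 : 0 < k * (i + 1) := Nat.mul_pos hk i.succ_pos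
      simp only [Finset.mem_coe, Finset.mem_filter, Finset.mem_range, Nat.sub_add_cancel h2]
      exact ⟨by rw [hm, mul_comm m k]; omega, dvd_mul_right _ _⟩
    · simp only at h
      have h1 : 0 < k * (a + 1) := Nat.mul_pos hk a.succ_pos
      have h2 : 0 < k * (b + 1) := Nat.mul_pos hk b.succ_pos
      have h3 := Nat.eq_of_mul_eq_mul_left hk (show k * (a + 1) = k * (b + 1) by omega)
      omega
    · rw [Finset.mem_coe, Finset.mem_filter, Finset.mem_range] at hj
      obtain ⟨c, hc⟩ := hj.2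
      have hc0 : 0 < c := Nat.pos_of_ne_zero fun e => by rw [e, mul_zero] at hc; omega
      have hcm : c ≤ m := Nat.le_of_mul_le_mul_left (show k * c ≤ k * m by rw [← hc, mul_comm k m, ← hm]; omega) hk
      refine ⟨c - 1, Finset.mem_coe.2 (Finset.mem_range.2 (by omega)), ?_⟩
      show k * (c - 1 + 1) - 1 = j
      rw [Nat.sub_add_cancel hc0, ← hc]; rfl
    · rw [Nat.sub_add_cancel (Nat.mul_pos hk i.succ_pos)]
  rw [hmul] at hS
  have hpos : 0 < ∏ i ∈ Finset.range m, (q ^ (2 * (k * (i + 1))) - 1) :=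
    Finset.prod_pos fun i _ => Nat.sub_pos_of_lt (Nat.one_lt_pow (by have := D.prime.pos; positivity)
      Fintype.one_lt_card)
  have heq : N.relIndex S * t = q ^ (d ^ 2) *
      ∏ j ∈ (Finset.range d).filter (fun j => ¬ k ∣ j + 1), (q ^ (2 * (j + 1)) - 1) := by
    refine Nat.eq_of_mul_eq_mul_left hpos ?_
    calc _ = N.relIndex S * Nat.card ↥(S ⊓ N) := by rw [ht]; ring
      _ = Nat.card S := hcardS.symm
      _ = _ := by rw [hS]; ring
  have hdvd : r ∣ q ^ (d ^ 2) * ∏ j ∈ (Finset.range d).filter (fun j => ¬ k ∣ j + 1), (q ^ (2 * (j + 1)) - 1) :=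
    heq ▸ hΩ.mul_right t
  rcases (Fact.out : r.Prime).dvd_mul.1 hdvd with h | h
  · exact absurd ((Fact.out : r.Prime).dvd_of_dvd_pow h) hrq
  obtain ⟨j, hj, hjd⟩ := (Nat.Prime.prime (Fact.out : r.Prime)).exists_mem_finset_dvd h
  rw [Finset.mem_filter, Finset.mem_range] at hj
  exact ⟨j + 1, Nat.succ_pos _, hj.1, hj.2, hjd⟩

/-- Elements of prime order of PSp_n(q) and the field-extension subgroups of type Sp_{n/k}(q^k). Here `T = PSp_{2d}(F)` for a field `F` with `q` elements (`d ≥ 2`, `(d, q) ≠ (2, 2)`), realised through the matrices preserving the standard alternating form `f`; `k` is a prime and `K` is a subalgebra of the `2d × 2d` matrices that is a field of degree `k` over `F` whose elements are self-adjoint for `f` and satisfy `f(a v, v) = 0` (so `F^{2d}` becomes a vector space over `K ≅ F_{q^k}` on which `f` is the trace of a `K`-bilinear alternating form); `H` is the subgroup of `T` normalizing `K` — the symplectic maps that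 are `K`-linear or `K`-semilinear, a subgroup of type Sp_{2d/k}(q^k) (maximality is not assumed). Ω is the set of cosets of `H` in `T`, so an element of `T` of prime order `r` (`x ∈ T` with `x^r` scalar, `x` not scalar) fixes a point of Ω exactly when some `T`-conjugate of `x` normalizes `K`. Let `r` be a prime dividing the index of `H`. Then every element of `T` of order `r` fixes a point of Ω if and only if `r = 2`, `d = 2`, `k = 2` and `q` is odd. -/
theorem result {F : Type*} [Field F] [Fintype F] {p : ℕ} [Fact p.Prime] [CharP F p] {q : ℕ} (hq : Fintype.card F = q)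
    (d : ℕ) (hd : 2 ≤ d) (hT : (d, q) ≠ (2, 2)) (k : ℕ) (hk : k.Prime)
    (K : Subalgebra F (Matrix (Fin d ⊕ Fin d) (Fin d ⊕ Fin d) F)) (hK : Cfsg.Geo.IsFieldSubalgebra k K)
    (hKf : Cfsg.Geo.IsSelfAdjointFor (Cfsg.sympForm d F) K) (hKalt : ∀ a ∈ K, ∀ v : Fin d ⊕ Fin d → F, Cfsg.sympForm d F (a *ᵥ v) v = 0)
    (r : ℕ) [Fact r.Prime]
    (hΩ : r ∣ (Cfsg.Geo.subalgebraNormalizer K).relIndex (Cfsg.spGL d F)) :
    (∀ x ∈ Cfsg.spGL d F, (∃ z : F, ((x ^ r : GL (Fin d ⊕ Fin d) F) : Matrix (Fin d ⊕ Fin d) (Fin d ⊕ Fin d) F) = z • (1 : Matrix (Fin d ⊕ Fin d) (Fin d ⊕ Fin d) F)) →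
      (∀ z : F, (x : Matrix (Fin d ⊕ Fin d) (Fin d ⊕ Fin d) F) ≠ z • (1 : Matrix (Fin d ⊕ Fin d) (Fin d ⊕ Fin d) F)) →
      ∃ g ∈ Cfsg.spGL d F, g⁻¹ * x * g ∈ Cfsg.Geo.subalgebraNormalizer K) ↔
    (r = 2 ∧ d = 2 ∧ k = 2 ∧ Odd q) := by
  classical
  have D : Data k K := ⟨hK, hKf, hKalt, hk, by omega⟩
  have hkd : k ∣ d := D.dvd_dim
  have hkd' : k ≤ d := Nat.le_of_dvd (by omega) hkd
  have hp : p.Prime := Fact.out
  have hk2 := hk.two_le
  have hodd_iff : Odd q ↔ p ≠ 2 := by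
    subst hq
    constructor
    · rintro ho rfl
      exact Nat.not_even_iff_odd.2 ho (Nat.even_iff.2 (FiniteField.even_card_of_char_two (ringChar.eq F 2)))
    · exact fun h => Nat.odd_iff.2 (FiniteField.odd_card_of_char_ne_two (by rw [ringChar.eq F p]; exact h))
  have finish : ∀ x ∈ Cfsg.spGL d F, x ^ r = 1 → finrank F (fixSpace x.1) ≠ 2 * d →
      finrank F (fixSpace x.1) ≠ 0 →
      (∀ g ∈ Cfsg.spGL d F, g⁻¹ * x * g ∉ Geo.subalgebraNormalizer K) →
      ¬ ∀ x ∈ Cfsg.spGL d F, (∃ z : F, ((x ^ r : GL (Fin d ⊕ Fin d) F) : Matrix (Fin d ⊕ Fin d) (Fin d ⊕ Fin d) F) = z • (1 : Matrix (Fin d ⊕ Fin d) (Fin d ⊕ Fin d) F)) →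
        (∀ z : F, (x : Matrix (Fin d ⊕ Fin d) (Fin d ⊕ Fin d) F) ≠ z • (1 : Matrix (Fin d ⊕ Fin d) (Fin d ⊕ Fin d) F)) →
        ∃ g ∈ Cfsg.spGL d F, g⁻¹ * x * g ∈ Cfsg.Geo.subalgebraNormalizer K := by
    intro x hx hxr hne hne0 hno h
    obtain ⟨g, hg, hgx⟩ := h x hx ⟨1, by rw [hxr, one_smul]; rfl⟩ fun z hz => by
      by_cases hz1 : z = 1
      · refine hne ?_
        rw [show fixSpace x.1 = ⊤ from eq_top_iff.2 fun v _ => mem_fixSpace.2 (by
          rw [hz, hz1, one_smul, Matrix.one_mulVec]), finrank_top, finrank_sympSpace]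
      · refine hne0 ?_
        rw [show fixSpace x.1 = ⊥ from eq_bot_iff.2 fun v hv => (Submodule.mem_bot F).2 (by
          have h1 := mem_fixSpace.1 hv
          rw [hz, Matrix.smul_mulVec, Matrix.one_mulVec, ← sub_eq_zero] at h1
          nth_rw 2 [← one_smul F v] at h1
          rw [← sub_smul] at h1
          exact (smul_eq_zero.1 h1).resolve_left (sub_ne_zero.2 hz1)), finrank_bot]
    exact hno g hg hgx
  constructor
  · intro h
    by_contra hR
    by_cases hrp : r = p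
    · subst hrp
      obtain ⟨x, hx, hxr, hf⟩ := exists_transvection (F := F) (p := r) (show 0 < d by omega)
      refine finish x hx hxr (by omega) (by omega) (no_conj D hx hxr (Or.inl ?_) fun _ => ?_) h
      · intro hdiv
        have h2d : k ∣ finrank F (fixSpace x.1) + 1 := hf ▸ hkd.mul_left 2
        have := Nat.le_of_dvd one_pos ((Nat.dvd_add_right hdiv).1 h2d)
        omega
      · have := Nat.mul_le_mul_right (finrank F (fixSpace x.1)) hk2
        omega
    have hr0 : (r : F) ≠ 0 := PrimeOrderElt.natCast_ne_zero_of_ne (p := p) hrp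
    by_cases hr2 : r = 2
    · subst hr2
      have h2F : (2 : F) ≠ 0 := by simpa using hr0
      obtain ⟨x, hx, hxr, hf⟩ := exists_involution (F := F) (show 0 < d by omega) h2F
      refine finish x hx hxr (by omega) (by omega) (no_conj D hx hxr (Or.inr ⟨hr0, ?_⟩) fun hk' => ?_) h
      · rw [show finrank F (fixSpace x.1) = 2 * (d - 1) by omega]
        intro hdiv
        have h1 : k ∣ d - 1 := Nat.dvd_of_mul_dvd_mul_left two_pos hdiv
        have h2 := Nat.dvd_sub hkd h1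
        rw [show d - (d - 1) = 1 by omega] at h2
        have := Nat.le_of_dvd one_pos h2
        omega
      · subst hk'
        have hd2 : d ≠ 2 := fun e => hR ⟨rfl, e, rfl, hodd_iff.2 (fun e' => hrp e'.symm)⟩
        omega
    have hrq : ¬ r ∣ Fintype.card F := by
      obtain ⟨e, hp', he⟩ := FiniteField.card F p
      rw [he]
      exact fun hdiv => hrp ((Nat.prime_dvd_prime_iff_eq Fact.out hp').1 ((Fact.out : r.Prime).dvd_of_dvd_pow hdiv))
    obtain ⟨i, hi0, hid, hki, hri⟩ := exists_factor hrq D hΩ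
    rw [PrimeOrderElt.dvd_pow_sub_one_iff] at hri
    set e := orderOf (Fintype.card F : ZMod r) with he
    obtain ⟨c', hc', hci⟩ : ∃ c', (2 * c' = if Even e then e else 2 * e) ∧ c' ∣ i := by
      by_cases hev : Even e
      · obtain ⟨u, hu⟩ := hev
        refine ⟨u, by rw [if_pos ⟨u, hu⟩, hu]; ring, ?_⟩
        rw [hu, ← two_mul] at hri
        exact Nat.dvd_of_mul_dvd_mul_left two_pos hri
      · exact ⟨e, by rw [if_neg hev],
          (Nat.coprime_comm.1 ((Nat.Prime.coprime_iff_not_dvd Nat.prime_two).2 fun h2 =>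
            hev (even_iff_two_dvd.2 h2))).dvd_of_dvd_mul_left hri⟩
    have hc'd : c' ≤ d := (Nat.le_of_dvd hi0 hci).trans hid
    have hkc : ¬ k ∣ c' := fun hk' => hki (hk'.trans hci)
    have hc'0 : c' ≠ 0 := fun e' => hkc (e' ▸ dvd_zero k)
    have hc'lt : c' < d := lt_of_le_of_ne hc'd fun e' => hkc (e' ▸ hkd)
    obtain ⟨x, hx, hxr, hf⟩ := exists_semisimple (F := F) hr0 hr2 hc' (show d - c' + c' = d by omega)
    refine finish x hx hxr (by omega) (by omega) (no_conj D hx hxr (Or.inr ⟨hr0, ?_⟩) fun hk' => ?_) h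
    · rw [hf]
      intro hdiv
      have h1 : k ∣ d - c' := Nat.dvd_of_mul_dvd_mul_left two_pos hdiv
      exact hkc ((Nat.dvd_add_right h1).1 (by rwa [Nat.sub_add_cancel hc'd]))
    · subst hk'
      have he1 : e ∣ r - 1 := ZMod.orderOf_dvd_card_sub_one fun e0 =>
        hrq ((ZMod.natCast_eq_zero_iff _ _).1 e0)
      obtain ⟨u, hu⟩ := he1
      have hrodd : r % 2 = 1 := Nat.odd_iff.1 ((Fact.out : r.Prime).odd_of_ne_two hr2)
      have hc2 : 2 * c' ≤ r - 1 := by
        rw [hc']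
        have hu0 : u ≠ 0 := fun e' => by rw [e', mul_zero] at hu; omega
        split_ifs with hev
        · rw [hu]; exact Nat.le_mul_of_pos_right e (by omega)
        · have hu1 : u ≠ 1 := fun e' => by
            rw [e', mul_one] at hu
            exact hev (by rw [Nat.even_iff]; omega)
          rw [hu, mul_comm 2 e]; exact Nat.mul_le_mul_left e (by omega)
      rw [hf]
      obtain ⟨s, rfl⟩ : ∃ s, d = c' + s := ⟨d - c', by omega⟩
      rw [Nat.add_sub_cancel_left]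
      have hrs : 2 * c' < r := by omega
      nlinarith
  · rintro ⟨rfl, rfl, rfl, hqodd⟩ x hx ⟨z, hz⟩ hns
    have h2 : (2 : F) ≠ 0 := by
      have := PrimeOrderElt.natCast_ne_zero_of_ne (F := F) (p := p) (r := 2) (fun e => hodd_iff.1 hqodd e.symm)
      simpa using this
    exact four_involutions h2 D hx hz hns

end Cfsg.Agent.S5975
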