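import Cfsg.Statements.S5976
import Cfsg.Agent.EqLemmas
import Cfsg.Agent.Lib.PrimeOrderElt.SkewWitness
import Cfsg.Agent.Lib.SympInvolution.Matrix
import Cfsg.Agent.Lib.Linear.PolarPair

set_option autoImplicit false
open scoped MatrixGroups
open Cfsg

namespace Cfsg.Agent.S5976

open Matrix Module Cfsg.Agent.PrimeOrderElt Cfsg.Agent.Linear Cfsg.Agent.GLOrder

variable {F : Type*} [Field F] {d : ℕ}

local notation "Mat" => Matrix (Fin d ⊕ Fin d) (Fin d ⊕ Fin d) F

theorem coeff_eq_zero (hd : 0 < d) {ν : F} (hν : ∀ c : F, c * c ≠ ν) {J : Mat} (hJ : IsSkewRoot ν J) {a b : F}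
    (h : a • (1 : Mat) + b • J = 0) : a = 0 ∧ b = 0 := by
  haveI : Nonempty (Fin d ⊕ Fin d) := ⟨Sum.inl ⟨0, hd⟩⟩
  by_cases hb : b = 0
  · subst hb
    rw [zero_smul, add_zero, smul_eq_zero] at h
    exact ⟨h.resolve_right one_ne_zero, rfl⟩
  · exfalso
    have hJ' : J = (-(b⁻¹ * a)) • (1 : Mat) := by
      calc J = b⁻¹ • (b • J) := by rw [smul_smul, inv_mul_cancel₀ hb, one_smul]
        _ = _ := by rw [eq_neg_of_add_eq_zero_right h, smul_neg, smul_smul, neg_smul]
    have h1 := hJ.1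
    rw [hJ', smul_mul_smul_comm, mul_one] at h1
    exact hν _ (smul_left_injective F (one_ne_zero (α := Mat)) h1)

/-- The normaliser consists of the maps commuting or anticommuting with the skew root. -/
theorem mem_normalizer_iff (hd : 0 < d) (h2 : (2 : F) ≠ 0) {ν : F} (hν : ∀ c : F, c * c ≠ ν) {J : Mat} (hJ : IsSkewRoot ν J)
    (K : Subalgebra F Mat) (hJK : J ∈ K) (hK : ∀ k ∈ K, ∃ α β : F, k = α • 1 + β • J) (g : GL (Fin d ⊕ Fin d) F) :
    g ∈ Cfsg.Geo.subalgebraNormalizer K ↔ (g : Mat) * J = J * g ∨ (g : Mat) * J = -(J * g) := by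
  constructor
  · intro hg
    obtain ⟨α, β, hc⟩ := hK _ ((hg J).mp hJK)
    have hgJ : (g : Mat) * J = (α • 1 + β • J) * g := by
      rw [← hc, mul_assoc ((g : Mat) * J), Units.inv_mul, mul_one]
    have hsq : (α * α + β * β * ν - ν) • (1 : Mat) + (2 * (α * β)) • J = 0 := by
      have h1 : (α • (1 : Mat) + β • J) * (α • 1 + β • J) = ν • 1 := by
        rw [← hc]
        calc _ = (g : Mat) * (J * ((((g⁻¹ : GL (Fin d ⊕ Fin d) F) : Mat) * g) * J)) * ((g⁻¹ : GL (Fin d ⊕ Fin d) F) : Mat) := by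
              simp only [mul_assoc]
          _ = _ := by rw [Units.inv_mul, one_mul, hJ.1, Matrix.mul_smul, mul_one, Matrix.smul_mul, Units.mul_inv]
      simp only [add_mul, mul_add, Matrix.smul_mul, Matrix.mul_smul, one_mul, mul_one, hJ.1] at h1
      rw [← sub_eq_zero] at h1
      rw [← h1]
      module
    obtain ⟨ha, hb⟩ := coeff_eq_zero hd hν hJ hsq
    have hν0 : ν ≠ 0 := fun h0 => hν 0 (by rw [h0, mul_zero])
    rcases mul_eq_zero.mp ((mul_eq_zero.mp hb).resolve_left h2) with h | h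
    · subst h
      have hβ : β * β = 1 := by
        have : (β * β - 1) * ν = 0 := by linear_combination ha
        exact sub_eq_zero.mp ((mul_eq_zero.mp this).resolve_right hν0)
      rcases mul_self_eq_one_iff.mp hβ with h | h
      · left; rw [hgJ, h, zero_smul, zero_add, one_smul]
      · right; rw [hgJ, h, zero_smul, zero_add, neg_smul, one_smul, neg_mul]
    · subst h
      exact absurd (by linear_combination ha) (hν α)
  · intro h
    have hkey : ∀ g : GL (Fin d ⊕ Fin d) F, ((g : Mat) * J = J * g ∨ (g : Mat) * J = -(J * g)) → ∀ k ∈ K,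
        (g : Mat) * k * ((g⁻¹ : GL (Fin d ⊕ Fin d) F) : Mat) ∈ K := by
      intro g h k hk
      obtain ⟨α, β, rfl⟩ := hK k hk
      rw [mul_add, Matrix.mul_smul, Matrix.mul_smul, mul_one, add_mul, Matrix.smul_mul, Matrix.smul_mul, Units.mul_inv]
      refine K.add_mem (K.smul_mem K.one_mem α) (K.smul_mem ?_ β)
      rcases h with h | h
      · rw [h, mul_assoc, Units.mul_inv, mul_one]; exact hJK
      · rw [h, neg_mul, mul_assoc, Units.mul_inv, mul_one]; exact K.neg_mem hJK
    have hinv : ((g⁻¹ : GL (Fin d ⊕ Fin d) F) : Mat) * J = J * ((g⁻¹ : GL (Fin d ⊕ Fin d) F) : Mat) ∨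
        ((g⁻¹ : GL (Fin d ⊕ Fin d) F) : Mat) * J = -(J * ((g⁻¹ : GL (Fin d ⊕ Fin d) F) : Mat)) := by
      have e : ((g⁻¹ : GL (Fin d ⊕ Fin d) F) : Mat) * ((g : Mat) * J) * ((g⁻¹ : GL (Fin d ⊕ Fin d) F) : Mat) =
          J * ((g⁻¹ : GL (Fin d ⊕ Fin d) F) : Mat) := by
        rw [← mul_assoc, Units.inv_mul, one_mul]
      rcases h with h | h
      · left; rw [← e, h, mul_assoc, mul_assoc, Units.mul_inv, mul_one]
      · right
        rw [← e, h, mul_neg, neg_mul, neg_neg, mul_assoc, mul_assoc, Units.mul_inv, mul_one]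
    intro k
    refine ⟨hkey g h k, fun hk => ?_⟩
    have h' := hkey g⁻¹ hinv _ hk
    rwa [inv_inv, ← mul_assoc, ← mul_assoc, Units.inv_mul, one_mul, mul_assoc, Units.inv_mul, mul_one] at h'

/-- A skew root from its action on a hyperbolic basis. -/
theorem exists_skew_of_frame {ι : Type} [Fintype ι] (e w : ι → Fin d ⊕ Fin d → F)
    (ee : ∀ i j, Cfsg.sympForm d F (e i) (e j) = 0) (ww : ∀ i j, Cfsg.sympForm d F (w i) (w j) = 0)
    (ew : ∀ i j, i ≠ j → Cfsg.sympForm d F (e i) (w j) = 0) (ew_self : ∀ i, Cfsg.sympForm d F (e i) (w i) = 1)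
    (hli : LinearIndependent F (Sum.elim e w)) (hsp : Submodule.span F (Set.range (Sum.elim e w)) = ⊤)
    {ν : F} (P S T : ι → F) (hPST : ∀ i, P i * P i + S i * T i = ν) :
    ∃ J : Mat, IsSkewRoot ν J ∧ (∀ i, J *ᵥ e i = P i • e i + S i • w i) ∧ ∀ i, J *ᵥ w i = T i • e i - P i • w i := by
  classical
  let b := Basis.mk hli hsp.ge
  have hb : ∀ s, b s = Sum.elim e w s := fun s => by simp [b]
  let Jl := b.constr F (Sum.elim (fun i => P i • e i + S i • w i) fun i => T i • e i - P i • w i)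
  have hJb : ∀ s, LinearMap.toMatrix' Jl *ᵥ Sum.elim e w s =
      Sum.elim (fun i => P i • e i + S i • w i) (fun i => T i • e i - P i • w i) s := fun s => by
    rw [LinearMap.toMatrix'_mulVec, ← hb, Basis.constr_basis]
  refine ⟨LinearMap.toMatrix' Jl, ⟨?_, ?_⟩, fun i => hJb (Sum.inl i), fun i => hJb (Sum.inr i)⟩
  · apply Matrix.toLin'.injective
    refine b.ext fun s => ?_
    rw [Matrix.toLin'_apply, Matrix.toLin'_apply, hb, ← Matrix.mulVec_mulVec, Matrix.smul_mulVec, Matrix.one_mulVec]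
    rcases s with i | i <;>
      simp only [hJb (Sum.inl i), hJb (Sum.inr i), Sum.elim_inl, Sum.elim_inr] <;>
      simp only [Matrix.mulVec_add, Matrix.mulVec_sub, Matrix.mulVec_smul,
        show ∀ i, LinearMap.toMatrix' Jl *ᵥ e i = P i • e i + S i • w i from fun i => hJb (Sum.inl i),
        show ∀ i, LinearMap.toMatrix' Jl *ᵥ w i = T i • e i - P i • w i from fun i => hJb (Sum.inr i)] <;>
      rw [← hPST i] <;> module
  · intro u v
    let B := SympInvolution.sympBilin d F
    have h : B.comp (Matrix.toLin' (LinearMap.toMatrix' Jl)) LinearMap.id =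
        -(B.comp LinearMap.id (Matrix.toLin' (LinearMap.toMatrix' Jl))) := by
      refine LinearMap.BilinForm.ext_basis b fun s t => ?_
      simp only [LinearMap.BilinForm.comp_apply, LinearMap.neg_apply, LinearMap.id_apply, Matrix.toLin'_apply,
        hb, hJb]
      have we : ∀ i j, i ≠ j → Cfsg.sympForm d F (w i) (e j) = 0 := fun i j hij => by
        rw [Linear.sympForm_swap, ew j i (Ne.symm hij), neg_zero]
      have we_self : ∀ i, Cfsg.sympForm d F (w i) (e i) = -1 := fun i => by rw [Linear.sympForm_swap, ew_self]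
      rcases s with i | i <;> rcases t with j | j <;> by_cases hij : i = j <;>
        (try subst hij) <;>
        simp_all [B, SympInvolution.sympBilin_apply]
    exact LinearMap.congr_fun (LinearMap.congr_fun h u) v

/-- An element with scalar square commutes or anticommutes with some skew root. -/
theorem exists_skew_of_sq [Fintype F] (hd : 0 < d) (hodd : Odd (Fintype.card F)) (ν : F) {x : GL (Fin d ⊕ Fin d) F}
    (hx : x ∈ Cfsg.spGL d F) {z : F} (hxz : (x : Mat) * x = z • 1) :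
    ∃ J : Mat, IsSkewRoot ν J ∧ ((x : Mat) * J = J * x ∨ (x : Mat) * J = -(J * x)) := by
  classical
  have h2 := two_ne_zero_of_odd_card hodd
  let x' : ↥(Matrix.symplecticGroup (Fin d) F) := ⟨x, Linear.mem_symplecticGroup_iff.mpr hx⟩
  obtain ⟨hz, hgg, φ, hspan⟩ := SympInvolution.exists_frame_matrix hd x' z (by
    rw [SubmonoidClass.coe_pow, pow_two]; exact hxz)
  simp only [Matrix.toLin'_apply, x'] at hgg
  have hA : (SympInvolution.sympBilin d F).IsAlt := fun v => Linear.sympForm_self v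
  have hli := φ.linearIndependent hA
  obtain ⟨-, hp, hm⟩ := φ.shape h2
  have hb : ∀ s, Basis.mk hli hspan.ge s = Sum.elim φ.e φ.w s := fun s => by simp
  have hkey : ∀ A B : Mat, (∀ i, A *ᵥ φ.e i = B *ᵥ φ.e i) → (∀ i, A *ᵥ φ.w i = B *ᵥ φ.w i) → A = B := by
    intro A B h1 h2
    apply Matrix.toLin'.injective
    refine (Basis.mk hli hspan.ge).ext fun s => ?_
    rw [Matrix.toLin'_apply, Matrix.toLin'_apply, hb]
    rcases s with i | i
    · exact h1 i
    · exact h2 i
  have hef : ∀ i, φ.e i ≠ 0 := fun i h => hli.ne_zero (Sum.inl i) h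
  rcases hz with hz | hz
  · choose a ha using fun i => Submodule.mem_span_singleton.mp (hp hz i).1
    choose c hc using fun i => Submodule.mem_span_singleton.mp (hp hz i).2
    simp only [Matrix.toLin'_apply, x'] at ha hc
    obtain ⟨J, hJ, hJe, hJw⟩ := exists_skew_of_frame φ.e φ.w φ.ee φ.ww φ.ew φ.ew_self hli hspan (ν := ν)
      (fun _ => 0) (fun _ => 1) (fun _ => ν) (fun _ => by ring)
    refine ⟨J, hJ, Or.inl ?_⟩
    have hac : ∀ i, a i = c i := fun i => by
      have h1 : (a i * c i) * 1 = 1 := by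
        rw [← φ.ew_self i, SympInvolution.sympBilin_apply]
        calc _ = Cfsg.sympForm d F ((x : Mat) *ᵥ φ.e i) ((x : Mat) *ᵥ φ.w i) := by
              rw [← ha, ← hc, Linear.sympForm_smul_left, Linear.sympForm_smul_right, mul_assoc]
          _ = _ := hx _ _
      have h2 : (a i * a i) • φ.e i = z • φ.e i := by
        rw [← smul_smul, ha, ← Matrix.mulVec_smul, ha, hgg]
      have h3 : a i * a i = 1 := (smul_left_injective F (hef i) h2).trans hz
      linear_combination (-(a i)) * h1 + (c i) * h3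
    apply hkey <;> intro i <;>
      simp only [← Matrix.mulVec_mulVec, hJe, hJw, ← ha, ← hc, Matrix.mulVec_add, Matrix.mulVec_sub,
        Matrix.mulVec_smul, zero_smul, sub_zero, zero_add, one_smul, hac i, smul_comm ν]
  · choose a ha using fun i => Submodule.mem_span_singleton.mp (hm hz i).1
    choose c hc using fun i => Submodule.mem_span_singleton.mp (hm hz i).2
    simp only [Matrix.toLin'_apply, x'] at ha hc
    have hac : ∀ i, a i * c i = -1 := fun i => by
      have h2 : (a i * c i) • φ.e i = z • φ.e i := by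
        rw [← smul_smul, hc, ← Matrix.mulVec_smul, ha, hgg]
      exact (smul_left_injective F (hef i) h2).trans hz
    obtain ⟨p, y, hpy⟩ : ∃ p y : F, p * p + y * y = ν := by
      obtain ⟨p, y, h⟩ := Linear.exists_sq_sub_eq (0 : F) ν (-1) (by simp)
      exact ⟨p, y, by linear_combination h⟩
    obtain ⟨J, hJ, hJe, hJw⟩ := exists_skew_of_frame φ.e φ.w φ.ee φ.ww φ.ew φ.ew_self hli hspan (ν := ν)
      (fun _ => p) (fun i => a i * y) (fun i => -(c i * y)) (fun i => by linear_combination hpy - (y * y) * hac i)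
    refine ⟨J, hJ, Or.inr ?_⟩
    apply hkey <;> intro i <;>
      simp only [← Matrix.mulVec_mulVec, Matrix.neg_mulVec, hJe, hJw, ← ha, ← hc, Matrix.mulVec_add, Matrix.mulVec_sub,
        Matrix.mulVec_smul]
    · match_scalars
      · linear_combination (0 : F) * hac i
      · linear_combination (0 : F) * hac i
    · match_scalars
      · linear_combination (0 : F) * hac i
      · linear_combination (0 : F) * hac i

/-- Coordinates of the two blocks. -/
def coords {j k : ℕ} (hjk : j + k = d) : Fin d ⊕ Fin d ≃ (Fin j ⊕ Fin j) ⊕ (Fin k ⊕ Fin k) :=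
  (Equiv.sumCongr ((finCongr hjk.symm).trans finSumFinEquiv.symm)
    ((finCongr hjk.symm).trans finSumFinEquiv.symm)).trans (Equiv.sumSumSumComm _ _ _ _)

/-- Even `h` with `q` of order `2 h` modulo `r` gives an element commuting with no skew root. -/
theorem exists_even [Fintype F] (hodd : Odd (Fintype.card F)) {ν : F} (hν : ∀ c : F, c * c ≠ ν)
    {r : ℕ} [Fact r.Prime] (hrF : (r : F) ≠ 0) {h : ℕ} (hh : 0 < h) (he : Even h) (hhd : h ≤ d)
    (ho : orderOf (Fintype.card F : ZMod r) = 2 * h) :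
    ∃ x ∈ Cfsg.spGL d F, x ^ r = 1 ∧ (∀ z : F, (x : Mat) ≠ z • (1 : Mat)) ∧
      ∀ J : Mat, IsSkewRoot ν J → (x : Mat) * J ≠ J * x := by
  classical
  obtain ⟨k, hjk⟩ : ∃ k, h + k = d := ⟨d - h, by omega⟩
  obtain ⟨y, hyr, hy1, hirr⟩ := exists_irreducible hrF hh ho
  have hy := Linear.mem_symplecticGroup_iff.mp y.2
  set e := coords hjk with he'
  let x₀ : Mat := Matrix.reindexAlgEquiv F F e.symm (Matrix.fromBlocks y.1 0 0 1)
  have hxv : ∀ v s, (x₀ *ᵥ v) (e.symm s) =
      Sum.elim (y.1 *ᵥ fun a => v (e.symm (Sum.inl a))) (fun b => v (e.symm (Sum.inr b))) s := fun v s => by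
    show (Matrix.reindexAlgEquiv F F e.symm _ *ᵥ v) _ = _
    rw [Matrix.coe_reindexAlgEquiv, Matrix.reindex_apply, Matrix.submatrix_mulVec_equiv]
    rcases s with s | s <;> simp [Matrix.fromBlocks_mulVec, Function.comp_def]
  have hsplit : ∀ u v : Fin d ⊕ Fin d → F, Cfsg.sympForm d F u v =
      Cfsg.sympForm h F (fun a => u (e.symm (Sum.inl a))) (fun a => v (e.symm (Sum.inl a))) +
      Cfsg.sympForm k F (fun a => u (e.symm (Sum.inr a))) (fun a => v (e.symm (Sum.inr a))) := by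
    subst hjk
    intro u v
    rw [Linear.sympForm_eq_sum, Linear.sympForm_eq_sum, Linear.sympForm_eq_sum, Fin.sum_univ_add]
    rfl
  have hx0 : x₀ ∈ Matrix.symplecticGroup (Fin d) F := Linear.mem_symplecticGroup_iff.mpr fun u v => by
    rw [hsplit, hsplit u v]
    simp only [hxv, Sum.elim_inl, Sum.elim_inr, hy]
  have hxr : x₀ ^ r = 1 := by
    show (Matrix.reindexAlgEquiv F F e.symm (Matrix.fromBlocks y.1 0 0 1)) ^ r = 1
    rw [← map_pow, Matrix.fromBlocks_diagonal_pow, hyr, one_pow, Matrix.fromBlocks_one, map_one]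
  let ε : (Fin h ⊕ Fin h → F) →ₗ[F] (Fin d ⊕ Fin d → F) :=
    { toFun := fun w a => Sum.elim w 0 (e a)
      map_add' := fun u w => funext fun a => by rcases h' : e a with s | s <;> simp [h']
      map_smul' := fun c w => funext fun a => by rcases h' : e a with s | s <;> simp [h'] }
  have hεl : ∀ w b, ε w (e.symm (Sum.inl b)) = w b := fun w b => by simp [ε]
  have hεr : ∀ w b, ε w (e.symm (Sum.inr b)) = 0 := fun w b => by simp [ε]
  have hεy : ∀ w, x₀ *ᵥ ε w = ε (y.1 *ᵥ w) := fun w => funext fun a => by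
    obtain ⟨s, rfl⟩ := e.symm.surjective a
    rw [hxv]
    rcases s with s | s <;> simp [hεl, hεr]
  have hnsc : ∀ z : F, x₀ ≠ z • (1 : Mat) := by
    intro z hz
    have hz' : ∀ w, y.1 *ᵥ w = z • w := fun w => funext fun b => by
      have h2 := congrFun (hεy w) (e.symm (Sum.inl b))
      rw [hz, Matrix.smul_mulVec, Matrix.one_mulVec, Pi.smul_apply, hεl, hεl] at h2
      exact h2.symm
    have := hirr (Submodule.span F {Pi.single (Sum.inl (⟨0, hh⟩ : Fin h)) 1}) (fun v hv => by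
      rw [hz']; exact Submodule.smul_mem _ _ hv)
    rcases this with h | h
    · rw [Submodule.span_singleton_eq_bot] at h
      simp at h
    · have h2 := congrArg (fun W : Submodule F (Fin _ ⊕ Fin _ → F) => Module.finrank F W) h
      simp only [finrank_top, Module.finrank_fintype_fun_eq_card, Fintype.card_sum, Fintype.card_fin] at h2
      rw [finrank_span_singleton (by simp)] at h2
      omega
  set x := Linear.spEquiv d F ⟨x₀, hx0⟩ with hx
  refine ⟨x.1, x.2, Units.ext (by rw [Units.val_pow_eq_pow_val, Units.val_one]; exact hxr), hnsc, ?_⟩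
  intro J hJ hc
  replace hc : x₀ * J = J * x₀ := hc
  -- the first block is invariant
  let M₀ : Submodule F (Fin h ⊕ Fin h → F) := LinearMap.range (Matrix.toLin' (y.1 - 1))
  have hM₀ : M₀ = ⊤ := (hirr M₀ (by
    rintro _ ⟨v, rfl⟩
    refine ⟨y.1 *ᵥ v, ?_⟩
    simp [Matrix.toLin'_apply, Matrix.sub_mulVec, Matrix.mulVec_sub])).resolve_left fun hb => hy1 (by
      refine sub_eq_zero.mp (Matrix.toLin'.injective ?_)
      rw [map_zero]
      exact LinearMap.range_eq_bot.mp hb)
  have hblock : ∀ w b, (J *ᵥ ε w) (e.symm (Sum.inr b)) = 0 := by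
    intro w b
    obtain ⟨v, hv⟩ : w ∈ M₀ := hM₀ ▸ Submodule.mem_top
    rw [Matrix.toLin'_apply, Matrix.sub_mulVec, Matrix.one_mulVec] at hv
    rw [← hv, map_sub, ← hεy, Matrix.mulVec_sub, Matrix.mulVec_mulVec, ← hc, ← Matrix.mulVec_mulVec, Pi.sub_apply, hxv,
      Sum.elim_inr, sub_self]
  let Ml : (Fin h ⊕ Fin h → F) →ₗ[F] (Fin h ⊕ Fin h → F) :=
    (LinearMap.funLeft F F fun b => e.symm (Sum.inl b)).comp ((Matrix.toLin' J).comp ε)
  have hMl : ∀ w, ε (LinearMap.toMatrix' Ml *ᵥ w) = J *ᵥ ε w := fun w => funext fun a => by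
    obtain ⟨s, rfl⟩ := e.symm.surjective a
    rcases s with s | s
    · rw [hεl, LinearMap.toMatrix'_mulVec]
      simp [Ml, LinearMap.funLeft]
    · rw [hεr, hblock]
  have hεinj : Function.Injective ε := fun u v huv => funext fun b => by rw [← hεl u b, huv, hεl]
  have hεform : ∀ u v, Cfsg.sympForm d F (ε u) (ε v) = Cfsg.sympForm h F u v := fun u v => by
    rw [hsplit]
    simp [hεl, hεr, Cfsg.sympForm]
  refine false_of_comm hodd hν hh he hy ?_ hirr (M := LinearMap.toMatrix' Ml) ⟨?_, fun u v => ?_⟩ ?_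
  · obtain ⟨m, hm⟩ : r ∣ Fintype.card F ^ h + 1 := by
      refine (ZMod.natCast_eq_zero_iff _ _).mp ?_
      rw [Nat.cast_add, Nat.cast_pow, Nat.cast_one]
      have h1 : ((Fintype.card F : ZMod r) ^ h) * ((Fintype.card F : ZMod r) ^ h) = 1 := by
        rw [← pow_add, ← two_mul, ← ho, pow_orderOf_eq_one]
      rcases mul_self_eq_one_iff.mp h1 with h2 | h2
      · have := Nat.le_of_dvd hh (orderOf_dvd_of_pow_eq_one h2)
        omega
      · rw [h2, neg_add_cancel]
    rw [hm, pow_mul, hyr, one_pow]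
  · refine Matrix.ext_iff_mulVec.mpr fun w => hεinj ?_
    rw [← Matrix.mulVec_mulVec, hMl, hMl, hJ.sq, Matrix.smul_mulVec, Matrix.one_mulVec, map_smul]
  · rw [← hεform, ← hεform, hMl, hMl, hJ.2]
  · refine Matrix.ext_iff_mulVec.mpr fun w => hεinj ?_
    rw [← Matrix.mulVec_mulVec, ← Matrix.mulVec_mulVec, hMl, ← hεy, ← hεy, hMl, Matrix.mulVec_mulVec,
      Matrix.mulVec_mulVec, hc]

/-- Elements of prime order of PSp_n(q), q odd, and the subgroups of type GU_{n/2}(q). Here `T = PSp_{2d}(F)` for a field `F` with `q` elements, `q` odd, `d ≥ 2`, realised through the matrices preserving the standard alternating form `f`; `K` is a subalgebra of the `2d × 2d` matrices that is a field of degree 2 over `F`, closed under taking adjoints for `f` but not consisting of self-adjoint elements (so `F^{2d}` becomes a `d`-dimensional space over `K ≅ F_{q²}` on which `f` is the trace of a multiple of a non-degenerate hermitian form); `H` is the subgroup of `T` normalizing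 `K` — the symplectic maps that are `K`-linear or `K`-semilinear, a subgroup of type GU_d(q) (maximality is not assumed). Ω is the set of cosets of `H` in `T`, so an element of `T` of prime order `r` (`x ∈ T` with `x^r` scalar, `x` not scalar) fixes a point of Ω exactly when some `T`-conjugate of `x` normalizes `K`. Let `r` be a prime dividing the index of `H`. Then every element of `T` of order `r` fixes a point of Ω if and only if `r = 2`. -/
theorem result {F : Type*} [Field F] [Fintype F] {p : ℕ} [Fact p.Prime] [CharP F p] {q : ℕ} (hq : Fintype.card F = q)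
    (hodd : Odd q) (d : ℕ) (hd : 2 ≤ d)
    (K : Subalgebra F (Matrix (Fin d ⊕ Fin d) (Fin d ⊕ Fin d) F)) (hK : Cfsg.Geo.IsFieldSubalgebra 2 K)
    (hKf : Cfsg.Geo.IsAdjointClosedFor (Cfsg.sympForm d F) K) (hKns : ¬ Cfsg.Geo.IsSelfAdjointFor (Cfsg.sympForm d F) K)
    (r : ℕ) [Fact r.Prime]
    (hΩ : r ∣ (Cfsg.Geo.subalgebraNormalizer K).relIndex (Cfsg.spGL d F)) :
    (∀ x ∈ Cfsg.spGL d F, (∃ z : F, ((x ^ r : GL (Fin d ⊕ Fin d) F) : Matrix (Fin d ⊕ Fin d) (Fin d ⊕ Fin d) F) = z • (1 : Matrix (Fin d ⊕ Fin d) (Fin d ⊕ Fin d) F)) →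
      (∀ z : F, (x : Matrix (Fin d ⊕ Fin d) (Fin d ⊕ Fin d) F) ≠ z • (1 : Matrix (Fin d ⊕ Fin d) (Fin d ⊕ Fin d) F)) →
      ∃ g ∈ Cfsg.spGL d F, g⁻¹ * x * g ∈ Cfsg.Geo.subalgebraNormalizer K) ↔ r = 2 := by
  classical
  subst hq
  have hd0 : 0 < d := by omega
  have h2 := two_ne_zero_of_odd_card hodd
  haveI : Nonempty (Fin d ⊕ Fin d) := ⟨Sum.inl ⟨0, hd0⟩⟩
  obtain ⟨ν, J, hJ, hν, hJK, hsp⟩ := exists_skewRoot_of_K hd0 h2 K hK hKf hKns
  have hN := mem_normalizer_iff hd0 h2 hν hJ K hJK hsp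
  constructor
  · intro hall
    by_contra hr2
    -- a witness commutes with a skew root
    have hcomm : ∀ x ∈ Cfsg.spGL d F, x ^ r = 1 → (∀ z : F, (x : Matrix (Fin d ⊕ Fin d) (Fin d ⊕ Fin d) F) ≠ z • (1 : Matrix (Fin d ⊕ Fin d) (Fin d ⊕ Fin d) F)) →
        ∃ J' : Matrix (Fin d ⊕ Fin d) (Fin d ⊕ Fin d) F, IsSkewRoot ν J' ∧ (x : Matrix (Fin d ⊕ Fin d) (Fin d ⊕ Fin d) F) * J' = J' * x := by
      intro x hx hxr hxs
      obtain ⟨g, hg, hmem⟩ := hall x hx ⟨1, by rw [hxr, Units.val_one, one_smul]⟩ hxs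
      set x' := g⁻¹ * x * g with hx'
      have hx'r : x' ^ r = 1 := by
        rw [hx', show g⁻¹ * x * g = g⁻¹ * x * (g⁻¹)⁻¹ by rw [inv_inv], conj_pow, hxr]
        simp
      have hc : (x' : Matrix (Fin d ⊕ Fin d) (Fin d ⊕ Fin d) F) * J = J * x' := by
        rcases (hN x').mp hmem with h | h
        · exact h
        · exfalso
          have hp : ∀ n : ℕ, ((x' : Matrix (Fin d ⊕ Fin d) (Fin d ⊕ Fin d) F) ^ n) * J = (-1 : F) ^ n • (J * (x' : Matrix (Fin d ⊕ Fin d) (Fin d ⊕ Fin d) F) ^ n) := by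
            intro n
            induction n with
            | zero => simp
            | succ n ih =>
              rw [pow_succ (x' : Matrix (Fin d ⊕ Fin d) (Fin d ⊕ Fin d) F), mul_assoc, h, mul_neg, ← mul_assoc, ih, Matrix.smul_mul, mul_assoc, pow_succ,
                mul_smul, neg_one_smul, smul_neg]
          have h3 := hp r
          rw [← Units.val_pow_eq_pow_val, hx'r, Units.val_one, one_mul, mul_one,
            ((Fact.out : r.Prime).odd_of_ne_two hr2).neg_one_pow, neg_one_smul] at h3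
          have h4 : (0 : F) • (1 : Matrix (Fin d ⊕ Fin d) (Fin d ⊕ Fin d) F) + (2 : F) • J = 0 := by
            rw [zero_smul, zero_add, two_smul]
            nth_rw 2 [h3]
            exact add_neg_cancel J
          exact h2 (coeff_eq_zero hd0 hν hJ h4).2
      refine ⟨(g : Matrix (Fin d ⊕ Fin d) (Fin d ⊕ Fin d) F) * J * ((g⁻¹ : GL (Fin d ⊕ Fin d) F) : Matrix (Fin d ⊕ Fin d) (Fin d ⊕ Fin d) F), ⟨?_, fun u v => ?_⟩, ?_⟩
      · calc _ = (g : Matrix (Fin d ⊕ Fin d) (Fin d ⊕ Fin d) F) * (J * ((((g⁻¹ : GL (Fin d ⊕ Fin d) F) : Matrix (Fin d ⊕ Fin d) (Fin d ⊕ Fin d) F) * g) * J)) * ((g⁻¹ : GL (Fin d ⊕ Fin d) F) : Matrix (Fin d ⊕ Fin d) (Fin d ⊕ Fin d) F) := by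
              simp only [mul_assoc]
          _ = _ := by rw [Units.inv_mul, one_mul, hJ.1, Matrix.mul_smul, mul_one, Matrix.smul_mul, Units.mul_inv]
      · have hgi := mem_spGL.mp (inv_mem hg)
        have hgp := mem_spGL.mp hg
        have e1 : ∀ w, (g : Matrix (Fin d ⊕ Fin d) (Fin d ⊕ Fin d) F) *ᵥ (((g⁻¹ : GL (Fin d ⊕ Fin d) F) : Matrix (Fin d ⊕ Fin d) (Fin d ⊕ Fin d) F) *ᵥ w) = w := fun w => by
          rw [Matrix.mulVec_mulVec, Units.mul_inv, Matrix.one_mulVec]
        rw [← Matrix.mulVec_mulVec, ← Matrix.mulVec_mulVec, ← Matrix.mulVec_mulVec, ← Matrix.mulVec_mulVec]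
        conv_lhs => rw [← e1 v]
        conv_rhs => rw [← e1 u]
        rw [hgp, hgp, hJ.2]
      · have hxg : x = g * x' * g⁻¹ := by rw [hx']; group
        conv_lhs => rw [hxg]
        conv_rhs => rw [hxg]
        simp only [Units.val_mul]
        calc _ = (g : Matrix (Fin d ⊕ Fin d) (Fin d ⊕ Fin d) F) * ((x' : Matrix (Fin d ⊕ Fin d) (Fin d ⊕ Fin d) F) * ((((g⁻¹ : GL (Fin d ⊕ Fin d) F) : Matrix (Fin d ⊕ Fin d) (Fin d ⊕ Fin d) F) * g) * J)) * ((g⁻¹ : GL (Fin d ⊕ Fin d) F) : Matrix (Fin d ⊕ Fin d) (Fin d ⊕ Fin d) F) := by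
              simp only [mul_assoc]
          _ = (g : Matrix (Fin d ⊕ Fin d) (Fin d ⊕ Fin d) F) * (J * ((((g⁻¹ : GL (Fin d ⊕ Fin d) F) : Matrix (Fin d ⊕ Fin d) (Fin d ⊕ Fin d) F) * g) * x')) * ((g⁻¹ : GL (Fin d ⊕ Fin d) F) : Matrix (Fin d ⊕ Fin d) (Fin d ⊕ Fin d) F) := by
              rw [Units.inv_mul, one_mul, one_mul, hc]
          _ = _ := by simp only [mul_assoc]
    by_cases hrp : r = p
    · subst hrp
      -- a transvection
      let v : Fin d ⊕ Fin d → F := Pi.single (Sum.inl ⟨0, hd0⟩) 1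
      have hv : v ≠ 0 := by simp [v]
      obtain ⟨w, hw⟩ := Linear.exists_sympForm_ne_zero hv
      let x := Linear.spTv (m := d) v (1 : F)
      have hx : ∀ u, (x.1 : Matrix (Fin d ⊕ Fin d) (Fin d ⊕ Fin d) F) *ᵥ u = u + (1 * Cfsg.sympForm d F u v) • v := fun u => Linear.spTv_smul v 1 u
      have hxr : x.1 ^ r = 1 := by
        have h : ∀ n : ℕ, x ^ n = Linear.spTv v (n : F) := fun n => by
          induction n with
          | zero => rw [pow_zero, Nat.cast_zero, Linear.spTv_zero]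
          | succ n ih => rw [pow_succ, ih, Nat.cast_succ, Linear.spTv_add]
        rw [← SubgroupClass.coe_pow, h, CharP.cast_eq_zero, Linear.spTv_zero, Subgroup.coe_one]
      have hwv : Cfsg.sympForm d F w v ≠ 0 := by rw [Linear.sympForm_swap, neg_ne_zero]; exact hw
      obtain ⟨J', hJ', hc⟩ := hcomm x.1 x.2 hxr (fun z hz => by
        have h1 := hx v
        rw [hz, Linear.sympForm_self, mul_zero, zero_smul, add_zero, Matrix.smul_mulVec, Matrix.one_mulVec] at h1
        have hz1 : z = 1 := smul_left_injective F hv (h1.trans (one_smul F v).symm)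
        have h2 := hx w
        rw [hz, hz1, one_smul, Matrix.one_mulVec, left_eq_add, smul_eq_zero] at h2
        exact h2.elim (mul_ne_zero one_ne_zero hwv) hv)
      have h1 := hx (J' *ᵥ w)
      rw [Matrix.mulVec_mulVec, hc, ← Matrix.mulVec_mulVec, hx, Matrix.mulVec_add, Matrix.mulVec_smul,
        add_right_inj, one_mul, one_mul] at h1
      obtain ⟨c, hc'⟩ : ∃ c : F, J' *ᵥ v = c • v :=
        ⟨(Cfsg.sympForm d F w v)⁻¹ * Cfsg.sympForm d F (J' *ᵥ w) v, by
          rw [← smul_smul, ← h1, smul_smul, inv_mul_cancel₀ hwv, one_smul]⟩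
      have h3 := hJ'.sq v
      rw [hc', Matrix.mulVec_smul, hc', smul_smul] at h3
      exact hν c (smul_left_injective F hv h3)
    · have hrF : (r : F) ≠ 0 := natCast_ne_zero_of_ne (p := p) hrp
      obtain ⟨i, hi1, hid, hi⟩ := exists_pow_eq hodd hν hJ (N := Cfsg.Geo.subalgebraNormalizer K)
        (fun g h => (hN g).mpr (Or.inl h)) hrp hΩ
      set q' : ZMod r := (Fintype.card F : ZMod r)
      haveI : Fact (2 < r) := ⟨lt_of_le_of_ne (Fact.out : r.Prime).two_le (Ne.symm hr2)⟩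
      have hwit : ∃ x ∈ Cfsg.spGL d F, x ^ r = 1 ∧ (∀ z : F, (x : Matrix (Fin d ⊕ Fin d) (Fin d ⊕ Fin d) F) ≠ z • (1 : Matrix (Fin d ⊕ Fin d) (Fin d ⊕ Fin d) F)) ∧
          ∀ J : Matrix (Fin d ⊕ Fin d) (Fin d ⊕ Fin d) F, IsSkewRoot ν J → (x : Matrix (Fin d ⊕ Fin d) (Fin d ⊕ Fin d) F) * J ≠ J * x := by
        rcases Nat.even_or_odd i with he | he
        · rw [he.neg_one_pow] at hi
          obtain ⟨h, hh, ho, hdvd⟩ := orderOf_eq_even hr2 hrF (i := i) (by
            refine (ZMod.natCast_eq_zero_iff _ _).mp ?_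
            rw [Nat.cast_add, Nat.cast_pow, Nat.cast_one, hi, neg_add_cancel])
          obtain ⟨m, hm⟩ := Nat.dvd_of_mul_dvd_mul_left (by norm_num) hdvd
          have hhd : h ≤ d := by have := Nat.le_of_dvd (by omega) (Dvd.intro m hm.symm); omega
          refine exists_even hodd hν hrF (by omega) ?_ hhd ho
          by_contra hoh
          have hm2 : 2 ∣ m := by
            rw [hm] at he
            exact even_iff_two_dvd.mp ((Nat.even_mul.mp he).resolve_left hoh)
          obtain ⟨t, rfl⟩ := hm2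
          rw [hm, ← mul_assoc, mul_comm h, pow_mul, ← ho, pow_orderOf_eq_one, one_pow] at hi
          exact ZMod.neg_one_ne_one hi.symm
        · rw [he.neg_one_pow, neg_neg] at hi
          have hdvd : orderOf q' ∣ i := orderOf_dvd_of_pow_eq_one hi
          exact exists_odd (p := p) hν hr2 hrF (he.of_dvd_nat hdvd) ((Nat.le_of_dvd (by omega) hdvd).trans hid)
      obtain ⟨x, hx, hxr, hxs, hno⟩ := hwit
      obtain ⟨J', hJ', hc⟩ := hcomm x hx hxr hxs
      exact hno J' hJ' hc
  · intro hr x hx ⟨z, hz⟩ _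
    subst hr
    rw [Units.val_pow_eq_pow_val, pow_two] at hz
    obtain ⟨J', hJ', hc⟩ := exists_skew_of_sq hd0 hodd ν hx hz
    obtain ⟨g, hg, hgJ⟩ := exists_conj h2 hν hJ hJ'
    refine ⟨g, hg, (hN _).mpr ?_⟩
    have hJg : J = ((g⁻¹ : GL (Fin d ⊕ Fin d) F) : Matrix (Fin d ⊕ Fin d) (Fin d ⊕ Fin d) F) * J' * g := by
      rw [mul_assoc, ← hgJ, ← mul_assoc, Units.inv_mul, one_mul]
    have e : ∀ A : Matrix (Fin d ⊕ Fin d) (Fin d ⊕ Fin d) F, (g : Matrix (Fin d ⊕ Fin d) (Fin d ⊕ Fin d) F) * (((g⁻¹ : GL (Fin d ⊕ Fin d) F) : Matrix (Fin d ⊕ Fin d) (Fin d ⊕ Fin d) F) * A) = A := fun A => by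
      rw [← mul_assoc, Units.mul_inv, one_mul]
    simp only [Units.val_mul]
    rcases hc with hc | hc
    · left
      rw [hJg]
      simp only [mul_assoc, e]
      rw [← mul_assoc (x : Matrix (Fin d ⊕ Fin d) (Fin d ⊕ Fin d) F), hc, mul_assoc]
    · right
      rw [hJg]
      simp only [mul_assoc, e]
      rw [← mul_assoc (x : Matrix (Fin d ⊕ Fin d) (Fin d ⊕ Fin d) F), hc, neg_mul, mul_assoc, mul_neg]

end Cfsg.Agent.S5976
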