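import Cfsg.Statements.S5980
import Cfsg.Agent.EqLemmas
import Cfsg.Agent.Lib.SpTensor.Normal
import Cfsg.Agent.Lib.Transvect.TensorFrame
import Cfsg.Agent.Lib.Linear.SimPairs
import Cfsg.Agent.Lib.Orth.TensorThree
import Cfsg.Agent.Lib.Elusive.Common
import Cfsg.Agent.Lib.Elusive.NdPieces

set_option autoImplicit false
open scoped MatrixGroups
open Cfsg

namespace Cfsg.Agent.S5980

open Matrix Module Cfsg.Agent Cfsg.Agent.GLOrder Cfsg.Agent.SpFieldExt
open scoped Kronecker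

variable {F : Type*} [Field F] {d a b : ℕ}

/-- The space in tensor coordinates. -/
def phi (e : (Fin d ⊕ Fin d) ≃ Fin a × Fin b) (P : GL (Fin d ⊕ Fin d) F) :
    (Fin a × Fin b → F) ≃ₗ[F] (Fin d ⊕ Fin d → F) where
  toFun v := P.1 *ᵥ (v ∘ e)
  invFun v p := ((P⁻¹ : GL (Fin d ⊕ Fin d) F).1 *ᵥ v) (e.symm p)
  map_add' v w := by rw [← Matrix.mulVec_add]; rfl
  map_smul' c v := by rw [RingHom.id_apply, ← Matrix.mulVec_smul]; rfl
  left_inv v := funext fun p => by simp [Matrix.mulVec_mulVec]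
  right_inv v := by
    show P.1 *ᵥ ((fun p => ((P⁻¹ : GL (Fin d ⊕ Fin d) F).1 *ᵥ v) (e.symm p)) ∘ e) = v
    rw [show ((fun p => ((P⁻¹ : GL (Fin d ⊕ Fin d) F).1 *ᵥ v) (e.symm p)) ∘ e) =
      (P⁻¹ : GL (Fin d ⊕ Fin d) F).1 *ᵥ v from funext fun i => by simp]
    simp [Matrix.mulVec_mulVec]

theorem phi_tens (e : (Fin d ⊕ Fin d) ≃ Fin a × Fin b) (P : GL (Fin d ⊕ Fin d) F)
    (X : Matrix (Fin a) (Fin a) F) (Y : Matrix (Fin b) (Fin b) F) (v : Fin a × Fin b → F) :
    PrimeDim.cj P (Aschbacher.tens e X Y) *ᵥ phi e P v = phi e P ((X ⊗ₖ Y) *ᵥ v) := by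
  show _ *ᵥ (P.1 *ᵥ (v ∘ e)) = P.1 *ᵥ (((X ⊗ₖ Y) *ᵥ v) ∘ e)
  rw [PrimeDim.cj_apply, Matrix.mulVec_mulVec, mul_assoc, Units.inv_mul, mul_one, ← Matrix.mulVec_mulVec,
    show Aschbacher.tens e X Y = (X ⊗ₖ Y).submatrix e e from rfl, Matrix.submatrix_mulVec_equiv]
  simp [Function.comp_def]

/-- Pure tensors. -/
def pur (u : Fin a → F) (w : Fin b → F) : Fin a × Fin b → F := fun p => u p.1 * w p.2

theorem single_eq_pur (p : Fin a × Fin b) :
    (Pi.single p 1 : Fin a × Fin b → F) = pur (Pi.single p.1 1) (Pi.single p.2 1) := by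
  funext x
  simp only [pur, Pi.single_apply, Prod.ext_iff]
  by_cases h1 : x.1 = p.1 <;> by_cases h2 : x.2 = p.2 <;> simp [h1, h2]

/-- The hypotheses on the tensor decomposition. -/
structure Data (e : (Fin d ⊕ Fin d) ≃ Fin a × Fin b) (P : GL (Fin d ⊕ Fin d) F)
    (f₁ : (Fin a → F) → (Fin a → F) → F) (f₂ : (Fin b → F) → (Fin b → F) → F) : Prop where
  symp : Cfsg.Geo.IsSymplecticForm f₁
  sym : Cfsg.Geo.IsSymmetricForm f₂
  struct : Cfsg.Geo.IsTensorFormStructure id (Cfsg.sympForm d F) f₁ f₂ e P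
  apos : 0 < a
  bpos : 0 < b

variable {e : (Fin d ⊕ Fin d) ≃ Fin a × Fin b} {P : GL (Fin d ⊕ Fin d) F}
  {f₁ : (Fin a → F) → (Fin a → F) → F} {f₂ : (Fin b → F) → (Fin b → F) → F} (D : Data e P f₁ f₂)
include D

theorem Data.form_pur : ∃ c : F, c ≠ 0 ∧ ∀ u w u' w',
    sympB d F (phi e P (pur u w)) (phi e P (pur u' w')) = c * (f₁ u u' * f₂ w w') := by
  obtain ⟨c, hc, h⟩ := D.struct
  refine ⟨-c, neg_ne_zero.2 hc, fun u w u' w' => ?_⟩
  rw [sympB_eq_neg_sympForm, neg_mul, neg_inj]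
  refine (h (pur u w) (pur u' w')).trans ?_
  congr 1
  rw [← Orth.formOfGram_eq D.symp.bilinear, ← Orth.formOfGram_eq D.sym.bilinear]
  simp only [Cfsg.Geo.formOfGram, Fintype.sum_prod_type, Matrix.kroneckerMap_apply, pur, id]
  rw [Finset.sum_mul_sum]
  refine Finset.sum_congr rfl fun i _ => Finset.sum_congr rfl fun j _ => ?_
  rw [Finset.sum_mul_sum]
  exact Finset.sum_congr rfl fun k _ => Finset.sum_congr rfl fun l _ => by ring

theorem Data.exists_one₁ : ∃ u u', f₁ u u' ≠ 0 :=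
  let ⟨y, hy⟩ := (D.symp.nondegenerate (Pi.single ⟨0, D.apos⟩ 1) (by simp)).2
  ⟨_, y, hy⟩

theorem Data.exists_one₂ : ∃ w w', f₂ w w' ≠ 0 :=
  let ⟨y, hy⟩ := (D.sym.nondegenerate (Pi.single ⟨0, D.bpos⟩ 1) (by simp)).2
  ⟨_, y, hy⟩

theorem Data.isSym₁ : PrimeGraphBC.IsSymF (-1 : F) (Linear.toBilin D.symp.bilinear) :=
  PrimeGraphBC.IsSymF.of_alt D.symp.alternating fun x hx => by
    by_contra hne
    obtain ⟨y, hy⟩ := (D.symp.nondegenerate x hne).2
    exact hy (hx y)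

theorem Data.isSym₂ : PrimeGraphBC.IsSymF (1 : F) (Linear.toBilin D.sym.bilinear) where
  sym x y := by
    rw [one_mul]
    exact D.sym.symm y x
  nd x hx := by
    by_contra hne
    obtain ⟨y, hy⟩ := (D.sym.nondegenerate x hne).2
    exact hy (hx y)

/-- Members of the stabiliser in `Sp`: a pair of similitudes with inverse factors. -/
theorem Data.member {g : GL (Fin d ⊕ Fin d) F} (hgS : g ∈ Cfsg.spGL d F)
    (hg : g ∈ Cfsg.Geo.tensorProductSubgroup a b e P) :
    ∃ (A : GL (Fin a) F) (B : GL (Fin b) F) (μ : F), μ ≠ 0 ∧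
      (∀ v, g.1 *ᵥ phi e P v = phi e P ((A.1 ⊗ₖ B.1) *ᵥ v)) ∧
      (∀ u u', f₁ (A.1 *ᵥ u) (A.1 *ᵥ u') = μ * f₁ u u') ∧
      (∀ w w', f₂ (B.1 *ᵥ w) (B.1 *ᵥ w') = μ⁻¹ * f₂ w w') := by
  obtain ⟨A, B, hAB⟩ := (Aschbacher.mem_tensorProductSubgroup_iff e P g).1 hg
  have hact : ∀ v, g.1 *ᵥ phi e P v = phi e P ((A.1 ⊗ₖ B.1) *ᵥ v) := fun v => by rw [hAB, phi_tens]
  obtain ⟨c, hc, hform⟩ := D.form_pur
  have hprod : ∀ u w u' w', f₁ (A.1 *ᵥ u) (A.1 *ᵥ u') * f₂ (B.1 *ᵥ w) (B.1 *ᵥ w') = f₁ u u' * f₂ w w' := by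
    intro u w u' w'
    have h := S5975.mem_spGL_iff.1 hgS (phi e P (pur u w)) (phi e P (pur u' w'))
    rw [hact, hact] at h
    unfold pur at h
    rw [S5979.kron_mulVec, S5979.kron_mulVec] at h
    exact mul_left_cancel₀ hc (((hform _ _ _ _).symm.trans h).trans (hform u w u' w'))
  obtain ⟨u0, u0', hu0⟩ := D.exists_one₁
  obtain ⟨w0, w0', hw0⟩ := D.exists_one₂
  have h00 := hprod u0 w0 u0' w0'
  have hBne : f₂ (B.1 *ᵥ w0) (B.1 *ᵥ w0') ≠ 0 := right_ne_zero_of_mul (h00 ▸ mul_ne_zero hu0 hw0)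
  set μ := f₂ w0 w0' / f₂ (B.1 *ᵥ w0) (B.1 *ᵥ w0') with hμ
  have hμ0 : μ ≠ 0 := div_ne_zero hw0 hBne
  have hA : ∀ u u', f₁ (A.1 *ᵥ u) (A.1 *ᵥ u') = μ * f₁ u u' := fun u u' => by
    rw [hμ, div_mul_eq_mul_div, eq_div_iff hBne, hprod u w0 u' w0', mul_comm]
  refine ⟨A, B, μ, hμ0, hact, hA, fun w w' => ?_⟩
  have h := hprod u0 w u0' w'
  rw [hA] at h
  have hne : μ * f₁ u0 u0' ≠ 0 := mul_ne_zero hμ0 hu0
  refine mul_left_cancel₀ hne ?_
  rw [h]
  field_simp

theorem Data.eig_eq {g : GL (Fin d ⊕ Fin d) F} {K : Matrix (Fin a × Fin b) (Fin a × Fin b) F}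
    (h : ∀ v, g.1 *ᵥ phi e P v = phi e P (K *ᵥ v)) (c : F) :
    finrank F (S5979.eig g.1 c) = finrank F (S5979.eig K c) := by
  refine S5979.eig_intertwine _ _ (phi e P).symm (fun v => ?_) c
  refine (phi e P).injective ?_
  rw [LinearEquiv.apply_symm_apply, ← h, LinearEquiv.apply_symm_apply]

/-- The fixed space of a member is small or has dimension divisible by `a`. -/
theorem Data.fix_cases {g : GL (Fin d ⊕ Fin d) F} (hgS : g ∈ Cfsg.spGL d F)
    (hg : g ∈ Cfsg.Geo.tensorProductSubgroup a b e P) :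
    finrank F (S5979.eig g.1 1) + b ≤ a * b ∨ a ∣ finrank F (S5979.eig g.1 1) := by
  obtain ⟨A, B, μ, -, hact, -, -⟩ := D.member hgS hg
  rw [D.eig_eq hact]
  by_cases hA : ∀ α : F, A.1 ≠ α • 1
  · exact Or.inl (S5979.eig_kron_le _ B hA 1)
  · push Not at hA
    obtain ⟨α, hα⟩ := hA
    exact Or.inr ⟨_, by rw [hα, Matrix.smul_kronecker, ← Matrix.kronecker_smul, S5979.eig_one_kron]⟩

omit D in
theorem pow_smul_one {n : ℕ} {M : Matrix (Fin n) (Fin n) F} {f : (Fin n → F) → (Fin n → F) → F} {μ : F}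
    (h : ∀ u v, f (M *ᵥ u) (M *ᵥ v) = μ * f u v) (k : ℕ) :
    ∀ u v, f ((M ^ k) *ᵥ u) ((M ^ k) *ᵥ v) = μ ^ k * f u v := by
  induction k with
  | zero => intro u v; simp
  | succ k ih =>
    intro u v
    rw [pow_succ, ← Matrix.mulVec_mulVec, ← Matrix.mulVec_mulVec, ih, h, pow_succ]
    ring

/-- For an element of odd order the two factors can be taken to be isometries of that order. -/
theorem Data.member_odd {g : GL (Fin d ⊕ Fin d) F} (hgS : g ∈ Cfsg.spGL d F)
    (hg : g ∈ Cfsg.Geo.tensorProductSubgroup a b e P) {r : ℕ} (hr : Odd r) (hgr : g ^ r = 1) :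
    ∃ (A : Matrix (Fin a) (Fin a) F) (B : Matrix (Fin b) (Fin b) F),
      (∀ v, g.1 *ᵥ phi e P v = phi e P ((A ⊗ₖ B) *ᵥ v)) ∧ A ^ r = 1 ∧ B ^ r = 1 ∧
      (∀ u u', f₁ (A *ᵥ u) (A *ᵥ u') = f₁ u u') ∧ (∀ w w', f₂ (B *ᵥ w) (B *ᵥ w') = f₂ w w') := by
  obtain ⟨A, B, μ, hμ, hact, hA, hB⟩ := D.member hgS hg
  have hpow : ∀ (k : ℕ) v, (g.1 ^ k) *ᵥ phi e P v = phi e P ((A.1 ⊗ₖ B.1) ^ k *ᵥ v) := by
    intro k
    induction k with
    | zero => intro v; simp
    | succ k ih => intro v; rw [pow_succ, pow_succ, ← Matrix.mulVec_mulVec, ← Matrix.mulVec_mulVec, hact, ih]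
  have hK : (A.1 ^ r) ⊗ₖ (B.1 ^ r) = 1 := by
    rw [← S5979.kron_pow]
    refine Matrix.ext_iff_mulVec.2 fun v => (phi e P).injective ?_
    rw [← hpow, ← Units.val_pow_eq_pow_val, hgr, Units.val_one, Matrix.one_mulVec, Matrix.one_mulVec]
  let i0 : Fin a := ⟨0, D.apos⟩
  let k0 : Fin b := ⟨0, D.bpos⟩
  have hent : ∀ i j k l, (A.1 ^ r) i j * (B.1 ^ r) k l = if i = j ∧ k = l then 1 else 0 := by
    intro i j k l
    have h := congr_fun (congr_fun hK (i, k)) (j, l)
    rw [Matrix.kroneckerMap_apply, Matrix.one_apply] at h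
    rw [h]
    exact if_congr Prod.ext_iff rfl rfl
  set β := (A.1 ^ r) i0 i0 with hβ
  have hβ0 : β ≠ 0 := fun h0 => by
    have h := hent i0 i0 k0 k0
    rw [← hβ, h0, zero_mul, if_pos ⟨rfl, rfl⟩] at h
    exact zero_ne_one h
  have hBr : B.1 ^ r = β⁻¹ • (1 : Matrix (Fin b) (Fin b) F) := Matrix.ext fun k l => by
    rw [Matrix.smul_apply, Matrix.one_apply, smul_eq_mul, eq_inv_mul_iff_mul_eq₀ hβ0, hβ, hent]
    simp
  have hAr : A.1 ^ r = β • (1 : Matrix (Fin a) (Fin a) F) := Matrix.ext fun i j => by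
    have h := hent i j k0 k0
    rw [hBr, Matrix.smul_apply, Matrix.one_apply_eq, smul_eq_mul, mul_one, mul_inv_eq_iff_eq_mul₀ hβ0] at h
    rw [Matrix.smul_apply, Matrix.one_apply, smul_eq_mul, h]
    by_cases hij : i = j <;> simp [hij]
  obtain ⟨u0, u0', hu0⟩ := D.exists_one₁
  have hμr : μ ^ r = β ^ 2 := by
    have h := pow_smul_one hA r u0 u0'
    rw [hAr, Matrix.smul_mulVec, Matrix.smul_mulVec, Matrix.one_mulVec, Matrix.one_mulVec,
      D.symp.bilinear.smul_left, D.symp.bilinear.smul_right] at h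
    refine mul_right_cancel₀ hu0 ?_
    rw [← h]; ring
  obtain ⟨k, hk⟩ := hr
  set s := β / μ ^ k with hs
  have hs0 : s ≠ 0 := div_ne_zero hβ0 (pow_ne_zero _ hμ)
  have hs2 : s ^ 2 = μ := by
    rw [hs, div_pow, ← hμr, div_eq_iff (pow_ne_zero _ (pow_ne_zero _ hμ)), hk]; ring
  have hsr : s ^ r = β := by
    rw [hs, div_pow, div_eq_iff (pow_ne_zero _ (pow_ne_zero _ hμ)), ← pow_mul, mul_comm k r, pow_mul, hμr,
      hk]
    ring
  refine ⟨s⁻¹ • A.1, s • B.1, fun v => ?_, ?_, ?_, fun u u' => ?_, fun w w' => ?_⟩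
  · rw [hact, Matrix.smul_kronecker, Matrix.kronecker_smul, smul_smul, inv_mul_cancel₀ hs0, one_smul]
  · rw [_root_.smul_pow, hAr, smul_smul, inv_pow, hsr, inv_mul_cancel₀ hβ0, one_smul]
  · rw [_root_.smul_pow, hBr, smul_smul, hsr, mul_inv_cancel₀ hβ0, one_smul]
  · rw [Matrix.smul_mulVec, Matrix.smul_mulVec, D.symp.bilinear.smul_left, D.symp.bilinear.smul_right, hA, ← hs2]
    field_simp
  · rw [Matrix.smul_mulVec, Matrix.smul_mulVec, D.sym.bilinear.smul_left, D.sym.bilinear.smul_right, hB, ← hs2]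
    field_simp

omit D in
/-- The moved space of an isometry of odd prime order comes in blocks of size `2 c'`. -/
theorem moved_mult [Fintype F] {n r : ℕ} [Fact r.Prime] {ε : F} {B : LinearMap.BilinForm F (Fin n → F)}
    {M : Matrix (Fin n) (Fin n) F} (h : Elusive.Isom ε B (Matrix.toLin' M) r) (hr2 : r ≠ 2) {c' : ℕ}
    (hc' : 2 * c' = if Even (orderOf (Fintype.card F : ZMod r)) then orderOf (Fintype.card F : ZMod r)
      else 2 * orderOf (Fintype.card F : ZMod r)) :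
    ∃ N, finrank F (S5979.eig M 1) + N * (2 * c') = n := by
  have he : S5979.eig M 1 = PrimeOrderElt.fix (Matrix.toLin' M : Module.End F (Fin n → F)) :=
    Submodule.ext fun v => by rw [S5979.mem_eig, PrimeOrderElt.mem_fix, one_smul, Matrix.toLin'_apply]
  obtain ⟨N, hN⟩ := Elusive.exists_range_dim h
  have hsum := h.finrank_fix_add_range
  rw [hN, Module.finrank_fin_fun] at hsum
  rw [he]
  by_cases hev : Even (orderOf (Fintype.card F : ZMod r))
  · exact ⟨N, by rw [hc', if_pos hev, hsum]⟩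
  · obtain ⟨N', rfl⟩ := Elusive.even_of_odd h hr2 (Nat.not_even_iff_odd.1 hev) hN
    refine ⟨N', ?_⟩
    rw [hc', if_neg hev]
    refine Eq.trans ?_ hsum
    ring

omit D in
theorem isom_of [Fintype F] {n r : ℕ} [Fact r.Prime] {ε : F} {f : (Fin n → F) → (Fin n → F) → F}
    (hf : Cfsg.Geo.IsBilinearForm f) (hsym : PrimeGraphBC.IsSymF ε (Linear.toBilin hf))
    {M : Matrix (Fin n) (Fin n) F} (hr0 : (r : F) ≠ 0) (hMr : M ^ r = 1)
    (hM : ∀ u v, f (M *ᵥ u) (M *ᵥ v) = f u v) :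
    Elusive.Isom ε (Linear.toBilin hf) (Matrix.toLin' M) r where
  sym := hsym
  iso := fun u v => hM u v
  pow := by
    show (Matrix.toLinAlgEquiv' M) ^ r = 1
    rw [← map_pow, hMr, map_one]
  pos := (Fact.out : r.Prime).pos
  rF := hr0

omit D in
/-- Two vectors generate a fixed-point-free module of dimension at most `2 e`. -/
theorem two_gen [Fintype F] {n r : ℕ} [Fact r.Prime] {ε : F} {B : LinearMap.BilinForm F (Fin n → F)}
    {M : Matrix (Fin n) (Fin n) F} (h : Elusive.Isom ε B (Matrix.toLin' M) r)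
    (hf : finrank F (S5979.eig M 1) = 0) (hn : n ≤ 2 * orderOf (Fintype.card F : ZMod r)) :
    ∃ w1 w2 : Fin n → F, ∀ K : Submodule F (Fin n → F), (∀ w ∈ K, M *ᵥ w ∈ K) → w1 ∈ K → w2 ∈ K → K = ⊤ := by
  have hfix : PrimeOrderElt.fix (Matrix.toLin' M : Module.End F (Fin n → F)) = ⊥ := by
    rw [← Submodule.finrank_eq_zero (R := F), ← hf]
    exact congrArg (fun S : Submodule F (Fin n → F) => finrank F S) (Submodule.ext fun v => by
      rw [S5979.mem_eig, PrimeOrderElt.mem_fix, one_smul, Matrix.toLin'_apply])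
  let orb : (Fin n → F) → Submodule F (Fin n → F) := fun w => Submodule.span F (Set.range fun k : ℕ => (M ^ k) *ᵥ w)
  have horb : ∀ w, PrimeOrderElt.Inv (Matrix.toLin' M : Module.End F (Fin n → F)) (orb w) := by
    intro w
    show (orb w).map _ ≤ orb w
    rw [Submodule.map_span, Submodule.span_le]
    rintro _ ⟨_, ⟨k, rfl⟩, rfl⟩
    exact Submodule.subset_span ⟨k + 1, by rw [Matrix.toLin'_apply]; simp [pow_succ']⟩
  have hmem : ∀ w, w ∈ orb w := fun w => Submodule.subset_span ⟨0, by simp⟩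
  have hle : ∀ (w : Fin n → F) (K : Submodule F (Fin n → F)), (∀ v ∈ K, M *ᵥ v ∈ K) → w ∈ K → orb w ≤ K := by
    intro w K hK hw
    rw [Submodule.span_le]
    rintro _ ⟨k, rfl⟩
    induction k with
    | zero => simpa using hw
    | succ k ih => simpa [pow_succ', Matrix.mulVec_mulVec] using hK _ ih
  have hdim : ∀ X : Submodule F (Fin n → F), PrimeOrderElt.Inv (Matrix.toLin' M : Module.End F (Fin n → F)) X →
      ∃ s, finrank F X = s * orderOf (Fintype.card F : ZMod r) := fun X hX =>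
    Elusive.dim_of_fix_free h hX (by rw [hfix, inf_bot_eq])
  rcases Nat.eq_zero_or_pos n with h0 | h0
  · subst h0
    exact ⟨0, 0, fun K _ _ _ => Subsingleton.elim _ _⟩
  have hw1 : (Pi.single (⟨0, h0⟩ : Fin n) 1 : Fin n → F) ≠ 0 := by simp
  set w1 : Fin n → F := Pi.single ⟨0, h0⟩ 1
  by_cases h1 : orb w1 = ⊤
  · exact ⟨w1, 0, fun K hK hk1 _ => top_le_iff.1 (h1.symm.le.trans (hle w1 K hK hk1))⟩
  obtain ⟨w2, -, hw2⟩ := SetLike.exists_of_lt (lt_top_iff_ne_top.2 h1)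
  refine ⟨w1, w2, fun K hK hk1 hk2 => top_le_iff.1 (le_trans ?_ (sup_le (hle w1 K hK hk1) (hle w2 K hK hk2)))⟩
  obtain ⟨s, hs⟩ := hdim _ (horb w1)
  obtain ⟨s', hs'⟩ := hdim _ (PrimeOrderElt.inv_sup (horb w1) (horb w2))
  have hlt : orb w1 < orb w1 ⊔ orb w2 :=
    lt_of_le_of_ne le_sup_left fun e' => hw2 (e' ▸ Submodule.mem_sup_right (hmem w2))
  have h12 := Submodule.finrank_lt_finrank_of_lt hlt
  have hspos : s ≠ 0 := fun e' => by
    rw [e', zero_mul, Submodule.finrank_eq_zero] at hs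
    exact hw1 ((Submodule.mem_bot F).1 (hs ▸ hmem w1))
  rw [hs, hs'] at h12
  have hs2 : 2 ≤ s' := by
    have := Nat.lt_of_mul_lt_mul_right h12
    omega
  refine (Submodule.eq_top_of_finrank_eq (le_antisymm (Submodule.finrank_le _) ?_)).ge
  rw [Module.finrank_fin_fun, hs']
  exact hn.trans (Nat.mul_le_mul_right _ hs2)

omit D in
theorem eig_kron_one (A : Matrix (Fin a) (Fin a) F) (c : F) :
    finrank F (S5979.eig (A ⊗ₖ (1 : Matrix (Fin b) (Fin b) F)) c) = b * finrank F (S5979.eig A c) := by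
  rw [← S5979.eig_one_kron (a := b)]
  refine S5979.eig_intertwine _ _ (LinearEquiv.funCongrLeft F F (Equiv.prodComm (Fin b) (Fin a))) (fun v => ?_) c
  funext p
  obtain ⟨j, i⟩ := p
  show ((A ⊗ₖ (1 : Matrix (Fin b) (Fin b) F)) *ᵥ v) (i, j) =
    (((1 : Matrix (Fin b) (Fin b) F) ⊗ₖ A) *ᵥ fun p => v (p.2, p.1)) (j, i)
  simp only [Matrix.mulVec, dotProduct, Matrix.kroneckerMap_apply, Fintype.sum_prod_type]
  rw [Finset.sum_comm]
  exact Finset.sum_congr rfl fun x _ => Finset.sum_congr rfl fun y _ => by ring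

/-- An element of odd order `r` moving a single block is not in the stabiliser. -/
theorem Data.not_mem_semisimple [Fintype F] {r : ℕ} [Fact r.Prime] (hr0 : (r : F) ≠ 0) (hr2 : r ≠ 2) (hb : 3 ≤ b)
    (ha2 : 2 ≤ a) {c' : ℕ}
    (hc' : 2 * c' = if Even (orderOf (Fintype.card F : ZMod r)) then orderOf (Fintype.card F : ZMod r)
      else 2 * orderOf (Fintype.card F : ZMod r)) (hc0 : c' ≠ 0)
    {g : GL (Fin d ⊕ Fin d) F} (hgS : g ∈ Cfsg.spGL d F) (hgr : g ^ r = 1)
    (hfix : finrank F (S5979.eig g.1 1) + 2 * c' = a * b) :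
    g ∉ Cfsg.Geo.tensorProductSubgroup a b e P := by
  intro hg
  obtain ⟨A, B, hact, hAr, hBr, hA, hB⟩ :=
    D.member_odd hgS hg ((Fact.out : r.Prime).odd_of_ne_two hr2) hgr
  rw [D.eig_eq hact] at hfix
  have hIA := isom_of D.symp.bilinear D.isSym₁ hr0 hAr hA
  have hIB := isom_of D.sym.bilinear D.isSym₂ hr0 hBr hB
  obtain ⟨NA, hNA⟩ := moved_mult hIA hr2 hc'
  obtain ⟨NB, hNB⟩ := moved_mult hIB hr2 hc'
  have hone : ∀ {n : ℕ} (M : Matrix (Fin n) (Fin n) F), finrank F (S5979.eig M 1) = n → M = 1 := by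
    intro n M hM
    have htop : S5979.eig M 1 = ⊤ := Submodule.eq_top_of_finrank_eq (by rw [hM, Module.finrank_fin_fun])
    refine Matrix.ext_iff_mulVec.2 fun v => ?_
    have hv : v ∈ S5979.eig M 1 := htop ▸ Submodule.mem_top
    rw [S5979.mem_eig.1 hv, one_smul, Matrix.one_mulVec]
  rcases Nat.eq_zero_or_pos NA with hA0 | hA0
  · rw [hA0, zero_mul, add_zero] at hNA
    rw [hone A hNA, S5979.eig_one_kron] at hfix
    have : a * (NB * (2 * c')) = 2 * c' := by
      have e' := congrArg (a * ·) hNB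
      simp only [mul_add] at e'
      omega
    rcases Nat.eq_zero_or_pos NB with h0 | h0
    · rw [h0, zero_mul, mul_zero] at this; omega
    · have h2 : 2 * (2 * c') ≤ a * (NB * (2 * c')) := Nat.mul_le_mul ha2 (Nat.le_mul_of_pos_left _ h0)
      omega
  rcases Nat.eq_zero_or_pos NB with hB0 | hB0
  · rw [hB0, zero_mul, add_zero] at hNB
    rw [hone B hNB, eig_kron_one] at hfix
    have : b * (NA * (2 * c')) = 2 * c' := by
      have e' := congrArg (b * ·) hNA
      simp only [mul_add, mul_comm b a] at e'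
      omega
    have h2 : 3 * (2 * c') ≤ b * (NA * (2 * c')) := Nat.mul_le_mul hb (Nat.le_mul_of_pos_left _ hA0)
    omega
  have hca : 2 * c' ≤ a := (Nat.le_mul_of_pos_left _ hA0).trans (le_add_self.trans hNA.le)
  have hcb : 2 * c' ≤ b := (Nat.le_mul_of_pos_left _ hB0).trans (le_add_self.trans hNB.le)
  have hAns : ∀ α : F, A ≠ α • 1 := by
    intro α hα
    rcases S5979.eig_scalar (1 : F) α A hα with h1 | h1
    · obtain ⟨u, u', hu⟩ := D.exists_one₁
      have hB1 := hA u u'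
      rw [hα, Matrix.smul_mulVec, Matrix.smul_mulVec, Matrix.one_mulVec, Matrix.one_mulVec,
        D.symp.bilinear.smul_left, D.symp.bilinear.smul_right] at hB1
      have hα2 : α * α = 1 := mul_right_cancel₀ hu (by rw [one_mul, mul_assoc, hB1])
      have hαr : α ^ r = 1 := by
        have h3 := congr_fun (congr_fun hAr ⟨0, D.apos⟩) ⟨0, D.apos⟩
        rwa [hα, _root_.smul_pow, one_pow, Matrix.smul_apply, Matrix.one_apply_eq, smul_eq_mul, mul_one] at h3
      have hα1 : α = 1 := by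
        obtain ⟨k, hk⟩ := (Fact.out : r.Prime).odd_of_ne_two hr2
        rwa [hk, pow_succ, pow_mul, pow_two, hα2, one_pow, one_mul] at hαr
      rw [hα, hα1, one_smul] at hNA h1
      have h4 : S5979.eig (1 : Matrix (Fin a) (Fin a) F) 1 = ⊤ :=
        eq_top_iff.2 fun v _ => S5979.mem_eig.2 (by rw [Matrix.one_mulVec, one_smul])
      rw [h4, finrank_top, Module.finrank_fin_fun] at h1
      omega
    · rw [Fintype.card_fin] at h1
      have : 2 * c' ≤ NA * (2 * c') := Nat.le_mul_of_pos_left _ hA0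
      omega
  have hBu : IsUnit B := IsUnit.of_pow_eq_one hBr (Fact.out : r.Prime).ne_zero
  have hle : finrank F (S5979.eig (A ⊗ₖ B) 1) + b ≤ a * b := S5979.eig_kron_le A hBu.unit hAns 1
  have hbc : b = 2 * c' := by omega
  have hfB : finrank F (S5979.eig B 1) = 0 := by
    have : 2 * c' ≤ NB * (2 * c') := Nat.le_mul_of_pos_left _ hB0
    omega
  have he1 : orderOf (Fintype.card F : ZMod r) ≤ 2 * c' ∧ 2 * c' ≤ 2 * orderOf (Fintype.card F : ZMod r) := by
    rw [hc']; split_ifs <;> omega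
  obtain ⟨w1, w2, hgen⟩ := two_gen hIB hfB (by omega)
  let Bf := Linear.toBilin D.sym.bilinear
  let row : (Fin a × Fin b → F) → Fin a → Fin b → F := fun v i j => v (i, j)
  let Ψ : S5979.eig (A ⊗ₖ B) 1 →ₗ[F] (Fin a → F) × (Fin a → F) :=
    { toFun := fun v => (fun i => Bf (row v.1 i) w1, fun i => Bf (row v.1 i) w2)
      map_add' := fun v v' => by
        ext i <;>
          simp only [Prod.fst_add, Prod.snd_add, Pi.add_apply, Submodule.coe_add] <;>
          rw [← LinearMap.add_apply, ← map_add] <;> rfl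
      map_smul' := fun c v => by
        ext i <;>
          simp only [Prod.smul_fst, Prod.smul_snd, Pi.smul_apply, Submodule.coe_smul, RingHom.id_apply] <;>
          rw [← LinearMap.smul_apply, ← map_smul] <;> rfl }
  have hinj : Function.Injective Ψ := by
    rw [injective_iff_map_eq_zero]
    intro v hv
    let K : Submodule F (Fin b → F) := ⨅ i, LinearMap.ker (Bf (row v.1 i))
    have hrow : ∀ i, row v.1 i = ∑ k, A i k • (B *ᵥ row v.1 k) := by
      intro i
      have hfixv := S5979.mem_eig.1 v.2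
      rw [one_smul] at hfixv
      funext j
      show v.1 (i, j) = _
      conv_lhs => rw [← hfixv]
      simp only [Matrix.mulVec, dotProduct, Fintype.sum_prod_type, Matrix.kroneckerMap_apply, Finset.sum_apply,
        Pi.smul_apply, smul_eq_mul, Finset.mul_sum, row]
      exact Finset.sum_congr rfl fun k _ => Finset.sum_congr rfl fun l _ => by ring
    have hK : ∀ w ∈ K, B *ᵥ w ∈ K := fun w hw => by
      simp only [K, Submodule.mem_iInf, LinearMap.mem_ker] at hw ⊢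
      intro i
      rw [hrow i, map_sum, LinearMap.sum_apply]
      refine Finset.sum_eq_zero fun k _ => ?_
      rw [map_smul, LinearMap.smul_apply, show Bf (B *ᵥ row v.1 k) (B *ᵥ w) = Bf (row v.1 k) w from hB _ _,
        hw k, smul_zero]
    have hmem : ∀ w, (∀ i, Bf (row v.1 i) w = 0) → w ∈ K := fun w hw => by
      simpa only [K, Submodule.mem_iInf, LinearMap.mem_ker] using hw
    have htop := hgen K hK (hmem w1 fun i => congrFun (congrArg Prod.fst hv) i)
      (hmem w2 fun i => congrFun (congrArg Prod.snd hv) i)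
    refine Subtype.ext (funext fun p => ?_)
    have h0 : row v.1 p.1 = 0 := D.isSym₂.nd _ fun w => by
      have hw : w ∈ K := htop ▸ Submodule.mem_top
      simp only [K, Submodule.mem_iInf, LinearMap.mem_ker] at hw
      exact hw p.1
    exact congrFun h0 p.2
  have h2a := LinearMap.finrank_le_finrank_of_injective hinj
  rw [Module.finrank_prod, Module.finrank_fin_fun] at h2a
  have hb4 : 4 ≤ b := by omega
  have hab4 : a * 4 ≤ a * b := Nat.mul_le_mul_left a hb4
  omega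

/-- An element of the stabiliser from a pair of isometries. -/
theorem Data.mk_member (A : GL (Fin a) F) (B : GL (Fin b) F) (hA : ∀ u u', f₁ (A.1 *ᵥ u) (A.1 *ᵥ u') = f₁ u u')
    (hB : ∀ w w', f₂ (B.1 *ᵥ w) (B.1 *ᵥ w') = f₂ w w') :
    ∃ y ∈ Cfsg.spGL d F, y ∈ Cfsg.Geo.tensorProductSubgroup a b e P ∧
      ∀ v, y.1 *ᵥ phi e P v = phi e P ((A.1 ⊗ₖ B.1) *ᵥ v) := by
  classical
  let k : GL (Fin a × Fin b) F :=
    ⟨A.1 ⊗ₖ B.1, (A⁻¹).1 ⊗ₖ (B⁻¹).1,
      by rw [← Matrix.mul_kronecker_mul]; simp, by rw [← Matrix.mul_kronecker_mul]; simp⟩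
  let y : GL (Fin d ⊕ Fin d) F := MulAut.conj P (Cfsg.Geo.glReindex e.symm k)
  have hy : y.1 = PrimeDim.cj P (Aschbacher.tens e A.1 B.1) := by
    simp [y, Cfsg.Geo.glReindex, PrimeDim.cj_apply, Aschbacher.tens, k]
  have hact : ∀ v, y.1 *ᵥ phi e P v = phi e P ((A.1 ⊗ₖ B.1) *ᵥ v) := fun v => by rw [hy, phi_tens]
  refine ⟨y, S5975.mem_spGL_iff.2 fun u v => ?_,
    (Aschbacher.mem_tensorProductSubgroup_iff e P y).2 ⟨A, B, hy⟩, hact⟩
  obtain ⟨c, -, hform⟩ := D.form_pur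
  obtain ⟨u, rfl⟩ := (phi e P).surjective u
  obtain ⟨v, rfl⟩ := (phi e P).surjective v
  let T : (Fin a × Fin b → F) →ₗ[F] (Fin d ⊕ Fin d → F) := (phi e P).toLinearMap
  let T' : (Fin a × Fin b → F) →ₗ[F] (Fin d ⊕ Fin d → F) := T.comp (Matrix.toLin' (A.1 ⊗ₖ B.1))
  have hT : (sympB d F).compl₁₂ T' T' = (sympB d F).compl₁₂ T T := by
    refine (Pi.basisFun F _).ext fun p => (Pi.basisFun F _).ext fun p' => ?_
    simp only [LinearMap.compl₁₂_apply, T', T, LinearMap.comp_apply, Matrix.toLin'_apply, Pi.basisFun_apply,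
      LinearEquiv.coe_coe, single_eq_pur]
    unfold pur
    rw [S5979.kron_mulVec, S5979.kron_mulVec]
    exact (hform _ _ _ _).trans ((by rw [hA, hB] : _ = c * (f₁ _ _ * f₂ _ _)).trans (hform _ _ _ _).symm)
  rw [hact, hact]
  exact LinearMap.congr_fun (LinearMap.congr_fun hT u) v

theorem Data.model_pos (ha : a = 2) (hbd : b = d) (h2 : (2 : F) ≠ 0) {m : ℕ} (hm : m ≤ d) :
    ∃ y ∈ Cfsg.spGL d F, y ∈ Cfsg.Geo.tensorProductSubgroup a b e P ∧
      ∀ g : GL (Fin d ⊕ Fin d) F, g ∈ Cfsg.spGL d F → ∃ g' ∈ Cfsg.spGL d F,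
        ((g'⁻¹ * y * g' : GL (Fin d ⊕ Fin d) F) : Matrix _ _ F) = SpTensor.dMat d m := by
  classical
  let Bf := Linear.toBilin D.sym.bilinear
  haveI : Invertible (2 : F) := invertibleOfNonzero h2
  obtain ⟨v, hv⟩ := LinearMap.BilinForm.exists_orthogonal_basis (B := Bf) ⟨fun x y => D.sym.symm x y⟩
  have hfr : finrank F (Fin b → F) = d := by rw [Module.finrank_fin_fun, hbd]
  let s : Fin (finrank F (Fin b → F)) → F := fun i => if (i : ℕ) < m then -1 else 1
  have hs : ∀ i, s i * s i = 1 := fun i => by by_cases hi : (i : ℕ) < m <;> simp [s, hi]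
  let L : (Fin b → F) →ₗ[F] (Fin b → F) := v.constr F fun i => s i • v i
  have hL : ∀ i, L (v i) = s i • v i := fun i => v.constr_basis F _ i
  have hLiso : Bf.compl₁₂ L L = Bf := v.ext fun i => v.ext fun j => by
    simp only [LinearMap.compl₁₂_apply, hL, map_smul, LinearMap.smul_apply, smul_eq_mul]
    by_cases hij : i = j
    · rw [hij, ← mul_assoc, hs, one_mul]
    · rw [show Bf (v i) (v j) = 0 from hv hij, mul_zero, mul_zero]
  have hLL : ∀ w, L (L w) = w := fun w => LinearMap.congr_fun (v.ext (f₁ := L.comp L) (f₂ := LinearMap.id) fun i => by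
    rw [LinearMap.comp_apply, hL, map_smul, hL, smul_smul, hs, one_smul, LinearMap.id_apply]) w
  let Bm := LinearMap.toMatrix' L
  have hBB : Bm * Bm = 1 := by
    rw [← LinearMap.toMatrix'_comp, show L.comp L = LinearMap.id from LinearMap.ext hLL, LinearMap.toMatrix'_id]
  let B : GL (Fin b) F := ⟨Bm, Bm, hBB, hBB⟩
  obtain ⟨y, hyS, hyT, hact⟩ := D.mk_member 1 B (fun u u' => by simp) (fun w w' => by
    show f₂ (Bm *ᵥ w) (Bm *ᵥ w') = _
    rw [LinearMap.toMatrix'_mulVec, LinearMap.toMatrix'_mulVec]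
    exact LinearMap.congr_fun (LinearMap.congr_fun hLiso w) w')
  have hyy : ∀ u, y.1 *ᵥ (y.1 *ᵥ u) = u := fun u => by
    obtain ⟨u, rfl⟩ := (phi e P).surjective u
    rw [hact, hact, Matrix.mulVec_mulVec, ← Matrix.mul_kronecker_mul,
      show B.1 * B.1 = 1 from hBB, Units.val_one, one_mul, Matrix.one_kronecker_one, Matrix.one_mulVec]
  obtain ⟨m', hm', g', hg', hge⟩ := SpTensor.exists_normal_pos h2 hyS hyy
  have hmm : m' = m := by
    have h1 := S5979.eig_conj g' y (-1 : F)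
    rw [hge, SpTensor.finrank_eig_dMat h2 hm', D.eig_eq hact, Units.val_one, S5979.eig_one_kron,
      S5979.eig_intertwine B.1 (Matrix.diagonal s) v.equivFun (fun w => ?_) (-1 : F), S5979.eig_diagonal] at h1
    · have hne : (1 : F) ≠ -1 := fun h => h2 (by linear_combination h)
      rw [Nat.card_congr (Equiv.subtypeEquivRight (q := fun i : Fin (finrank F (Fin b → F)) => (i : ℕ) < m)
        fun i => by by_cases hi : (i : ℕ) < m <;> simp [s, hi, hne])] at h1
      have e' : Nat.card {i : Fin (finrank F (Fin b → F)) // (i : ℕ) < m} = Nat.card (Fin m) := Nat.card_congr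
        { toFun := fun i => ⟨i.1, i.2⟩, invFun := fun i => ⟨⟨i, lt_of_lt_of_le i.2 (hm.trans hfr.ge)⟩, i.2⟩,
          left_inv := fun _ => rfl, right_inv := fun _ => rfl }
      rw [e', Nat.card_fin, ha] at h1
      omega
    · show v.equivFun (Bm *ᵥ w) = _
      rw [LinearMap.toMatrix'_mulVec]
      conv_lhs => rw [← v.sum_equivFun w]
      rw [map_sum, map_sum]
      funext i
      simp [hL, Matrix.mulVec_diagonal, Finset.sum_apply, Finsupp.single_apply, mul_comm]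
  subst hmm
  exact ⟨y, hyS, hyT, fun g _ => ⟨g', hg', hge⟩⟩

theorem Data.model_neg [Fintype F] (ha : a = 2) (h2 : (2 : F) ≠ 0) :
    ∃ y ∈ Cfsg.spGL d F, y ∈ Cfsg.Geo.tensorProductSubgroup a b e P ∧
      ∃ g' ∈ Cfsg.spGL d F, ((g'⁻¹ * y * g' : GL (Fin d ⊕ Fin d) F) : Matrix _ _ F) = SpTensor.jMat d := by
  subst ha
  let J : Matrix (Fin 2) (Fin 2) F := !![0, -1; 1, 0]
  have hJJ : J * J = -1 := by
    ext i j; fin_cases i <;> fin_cases j <;> simp [J]
  let A : GL (Fin 2) F := ⟨J, -J, by rw [mul_neg, hJJ, neg_neg], by rw [neg_mul, hJJ, neg_neg]⟩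
  obtain ⟨y, hyS, hyT, hact⟩ := D.mk_member A 1 (fun u u' => by
    show f₁ (J *ᵥ u) (J *ᵥ u') = _
    rw [← Orth.formOfGram_eq D.symp.bilinear, ← Orth.formOfGram_eq D.symp.bilinear u]
    have h01 : Cfsg.Geo.gramMatrix f₁ 0 0 = 0 := D.symp.alternating _
    have h11 : Cfsg.Geo.gramMatrix f₁ 1 1 = 0 := D.symp.alternating _
    have h10 : Cfsg.Geo.gramMatrix f₁ 1 0 = -Cfsg.Geo.gramMatrix f₁ 0 1 := D.symp.skew _ _
    simp [Cfsg.Geo.formOfGram, Fin.sum_univ_two, J, Matrix.mulVec, dotProduct, h01, h11, h10]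
    ring) (fun w w' => by simp)
  have hyy : ∀ u, y.1 *ᵥ (y.1 *ᵥ u) = -u := fun u => by
    obtain ⟨u, rfl⟩ := (phi e P).surjective u
    rw [hact, hact, Matrix.mulVec_mulVec, ← Matrix.mul_kronecker_mul, show A.1 * A.1 = -1 from hJJ,
      Units.val_one, one_mul, ← neg_one_smul F (1 : Matrix (Fin 2) (Fin 2) F), Matrix.smul_kronecker,
      Matrix.one_kronecker_one, Matrix.smul_mulVec, Matrix.one_mulVec, map_smul, neg_one_smul]
  exact ⟨y, hyS, hyT, SpTensor.exists_normal_neg h2 hyS hyy⟩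

omit D in
/-- A prime dividing the order of `Sp_{2d}(q)`. -/
theorem exists_c [Fintype F] {r : ℕ} [Fact r.Prime] (hr2 : r ≠ 2) (hrq : ¬ r ∣ Fintype.card F)
    (h : r ∣ Nat.card (Cfsg.spGL d F)) :
    ∃ c', (2 * c' = if Even (orderOf (Fintype.card F : ZMod r)) then orderOf (Fintype.card F : ZMod r)
      else 2 * orderOf (Fintype.card F : ZMod r)) ∧ 0 < c' ∧ c' ≤ d := by
  rw [← Nat.card_congr (Linear.spEquiv d F).toEquiv, card_Sp, Nat.card_eq_fintype_card] at h
  rcases (Fact.out : r.Prime).dvd_mul.1 h with h | h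
  · exact absurd ((Fact.out : r.Prime).dvd_of_dvd_pow h) hrq
  obtain ⟨j, hj, hjd⟩ := (Nat.Prime.prime (Fact.out : r.Prime)).exists_mem_finset_dvd h
  rw [Finset.mem_range] at hj
  rw [PrimeOrderElt.dvd_pow_sub_one_iff] at hjd
  set e := orderOf (Fintype.card F : ZMod r)
  have he0 : 0 < e := Nat.pos_of_dvd_of_pos hjd (by omega)
  by_cases hev : Even e
  · obtain ⟨u, hu⟩ := hev
    refine ⟨u, by rw [if_pos ⟨u, hu⟩, hu]; ring, by omega, ?_⟩
    rw [hu, ← two_mul] at hjd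
    have := Nat.le_of_dvd (by omega) (Nat.dvd_of_mul_dvd_mul_left two_pos hjd)
    omega
  · refine ⟨e, by rw [if_neg hev], he0, ?_⟩
    have := Nat.le_of_dvd (by omega) ((Nat.coprime_comm.1 ((Nat.Prime.coprime_iff_not_dvd Nat.prime_two).2
      fun h2 => hev (even_iff_two_dvd.2 h2))).dvd_of_dvd_mul_left hjd)
    omega

omit D in
/-- Elements of prime order of PSp_n(q), q odd, and the stabilizers of tensor decompositions Sp_a(q) ⊗ O_b(q). Here `T = PSp_{2d}(F)` for a field `F` with `q` elements, `q` odd, `d ≥ 2`, realised through the matrices preserving the standard alternating form `f`; `2d = a·b` with `a` even, `b ≥ 3`, and the bijection `e` and change of basis `P` exhibit `f` as a non-zero scalar multiple of the tensor product of a non-degenerate alternating form `f₁` on `F^a` and a non-degenerate symmetric bilinear form `f₂` on `F^b`; `H` is the subgroup of `T` stabilizing this tensor decomposition (the elements of `T` in the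 conjugate by `P` of the group of Kronecker products) — a subgroup of type Sp_a(q) ⊗ O^ε_b(q) (maximality is not assumed). Ω is the set of cosets of `H` in `T`, so an element of `T` of prime order `r` (`x ∈ T` with `x^r` scalar, `x` not scalar) fixes a point of Ω exactly when some `T`-conjugate of `x` lies in `H`. Let `r` be a prime dividing the index of `H`. Then every element of `T` of order `r` fixes a point of Ω if and only if `r = 2` and `a = 2`. -/
theorem result {F : Type*} [Field F] [Fintype F] {p : ℕ} [Fact p.Prime] [CharP F p] {q : ℕ} (hq : Fintype.card F = q)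
    (hodd : Odd q) (d : ℕ) (hd : 2 ≤ d) (a b : ℕ) (hab : 2 * d = a * b) (ha : Even a) (ha2 : 2 ≤ a) (hb : 3 ≤ b)
    (e : (Fin d ⊕ Fin d) ≃ Fin a × Fin b) (P : GL (Fin d ⊕ Fin d) F)
    (f₁ : (Fin a → F) → (Fin a → F) → F) (f₂ : (Fin b → F) → (Fin b → F) → F)
    (hf₁ : Cfsg.Geo.IsSymplecticForm f₁) (hf₂ : Cfsg.Geo.IsSymmetricForm f₂)
    (hS : Cfsg.Geo.IsTensorFormStructure id (Cfsg.sympForm d F) f₁ f₂ e P)
    (r : ℕ) [Fact r.Prime]
    (hΩ : r ∣ (Cfsg.Geo.tensorProductSubgroup a b e P).relIndex (Cfsg.spGL d F)) :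
    (∀ x ∈ Cfsg.spGL d F, (∃ z : F, ((x ^ r : GL (Fin d ⊕ Fin d) F) : Matrix (Fin d ⊕ Fin d) (Fin d ⊕ Fin d) F) = z • (1 : Matrix (Fin d ⊕ Fin d) (Fin d ⊕ Fin d) F)) →
      (∀ z : F, (x : Matrix (Fin d ⊕ Fin d) (Fin d ⊕ Fin d) F) ≠ z • (1 : Matrix (Fin d ⊕ Fin d) (Fin d ⊕ Fin d) F)) →
      ∃ g ∈ Cfsg.spGL d F, g⁻¹ * x * g ∈ Cfsg.Geo.tensorProductSubgroup a b e P) ↔ (r = 2 ∧ a = 2) := by
  classical
  subst hq
  have D : Data e P f₁ f₂ := ⟨hf₁, hf₂, hS, by omega, by omega⟩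
  have h2 : (2 : F) ≠ 0 := by
    intro h0
    have h2' : ((2 : ℕ) : F) = 0 := by exact_mod_cast h0
    have h2p : p = 2 := (Nat.prime_dvd_prime_iff_eq Fact.out Nat.prime_two).1 ((CharP.cast_eq_zero_iff F p 2).1 h2')
    subst h2p
    exact Nat.not_even_iff_odd.2 hodd (Nat.even_iff.2 (FiniteField.even_card_of_char_two (ringChar.eq F 2)))
  have hEig : ∀ M : Matrix (Fin d ⊕ Fin d) (Fin d ⊕ Fin d) F, fixSpace M = S5979.eig M 1 := fun M =>
    Submodule.ext fun v => by rw [mem_fixSpace, S5979.mem_eig, one_smul]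
  have finish : ∀ x ∈ Cfsg.spGL d F, x ^ r = 1 → finrank F (fixSpace x.1) ≠ 2 * d →
      (∀ g : GL (Fin d ⊕ Fin d) F, g ∈ Cfsg.spGL d F → g ^ r = 1 →
        finrank F (S5979.eig g.1 1) = finrank F (fixSpace x.1) → g ∉ Cfsg.Geo.tensorProductSubgroup a b e P) →
      0 < finrank F (fixSpace x.1) ∨ r ≠ 2 →
      ¬ ∀ x ∈ Cfsg.spGL d F, (∃ z : F, ((x ^ r : GL (Fin d ⊕ Fin d) F) : Matrix (Fin d ⊕ Fin d) (Fin d ⊕ Fin d) F) = z • (1 : Matrix (Fin d ⊕ Fin d) (Fin d ⊕ Fin d) F)) →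
        (∀ z : F, (x : Matrix (Fin d ⊕ Fin d) (Fin d ⊕ Fin d) F) ≠ z • (1 : Matrix (Fin d ⊕ Fin d) (Fin d ⊕ Fin d) F)) →
        ∃ g ∈ Cfsg.spGL d F, g⁻¹ * x * g ∈ Cfsg.Geo.tensorProductSubgroup a b e P := by
    intro x hx hxr hne hno hpos h
    obtain ⟨g, hg, hgx⟩ := h x hx ⟨1, by rw [hxr, one_smul]; rfl⟩ fun z hz => by
      by_cases hz1 : z = 1
      · refine hne ?_
        rw [show fixSpace x.1 = ⊤ from eq_top_iff.2 fun v _ => mem_fixSpace.2 (by
          rw [hz, hz1, one_smul, Matrix.one_mulVec]), finrank_top, finrank_sympSpace]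
      · have hb0 : fixSpace x.1 = ⊥ := eq_bot_iff.2 fun v hv => (Submodule.mem_bot F).2 (by
          have h1 := mem_fixSpace.1 hv
          rw [hz, Matrix.smul_mulVec, Matrix.one_mulVec, ← sub_eq_zero] at h1
          nth_rw 2 [← one_smul F v] at h1
          rw [← sub_smul] at h1
          exact (smul_eq_zero.1 h1).resolve_left (sub_ne_zero.2 hz1))
        rcases hpos with h0 | hr2
        · rw [hb0, finrank_bot] at h0; exact lt_irrefl 0 h0
        · let s : Fin d ⊕ Fin d := .inl ⟨0, by omega⟩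
          have hzr : z ^ r = 1 := by
            have h3 := congrArg (fun M : GL (Fin d ⊕ Fin d) F => (M : Matrix _ _ F) s s) hxr
            simp only [Units.val_pow_eq_pow_val, hz, _root_.smul_pow, one_pow, Matrix.smul_apply,
              Matrix.one_apply_eq, smul_eq_mul, mul_one, Units.val_one] at h3
            exact h3
          have hzz : z * z = 1 := by
            have h4 := S5975.mem_spGL_iff.1 hx (Pi.single (.inl ⟨0, by omega⟩) 1) (Pi.single (.inr ⟨0, by omega⟩) 1)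
            rw [hz, Matrix.smul_mulVec, Matrix.smul_mulVec, Matrix.one_mulVec, Matrix.one_mulVec] at h4
            simpa [sympB_apply, Pi.single_apply] using h4
          obtain ⟨k, hk⟩ := (Fact.out : r.Prime).odd_of_ne_two hr2
          rw [hk, pow_succ, pow_mul, pow_two, hzz, one_pow, one_mul] at hzr
          exact hz1 hzr
    refine hno _ (mul_mem (mul_mem (inv_mem hg) hx) hg) ?_ ?_ hgx
    · rw [show g⁻¹ * x * g = g⁻¹ * x * g⁻¹⁻¹ by rw [inv_inv], conj_pow, hxr, mul_one, mul_inv_cancel]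
    · rw [S5979.eig_conj, ← hEig]
  constructor
  · intro h
    by_contra hR
    by_cases hrp : r = p
    · subst hrp
      obtain ⟨x, hx, hxr, hf⟩ := S5975.exists_transvection (F := F) (p := r) (show 0 < d by omega)
      refine finish x hx hxr (by omega) (fun g hg _ hgf hgT => ?_) (Or.inl (by omega)) h
      rcases D.fix_cases hg hgT with h1 | h1
      · omega
      · rw [hgf] at h1
        obtain ⟨t, ht⟩ := ha
        have h3 : a ∣ 2 * d := hab ▸ dvd_mul_right a b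
        rw [← hf] at h3
        have := Nat.le_of_dvd one_pos ((Nat.dvd_add_right h1).1 h3)
        omega
    have hr0 : (r : F) ≠ 0 := PrimeOrderElt.natCast_ne_zero_of_ne (p := p) hrp
    by_cases hr2 : r = 2
    · subst hr2
      have ha3 : a ≠ 2 := fun e' => hR ⟨rfl, e'⟩
      obtain ⟨x, hx, hxr, hf⟩ := S5975.exists_involution (F := F) (show 0 < d by omega) h2
      refine finish x hx hxr (by omega) (fun g hg _ hgf hgT => ?_) (Or.inl (by omega)) h
      rcases D.fix_cases hg hgT with h1 | h1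
      · omega
      · rw [hgf] at h1
        have h3 : a ∣ 2 * d := hab ▸ dvd_mul_right a b
        rw [← hf] at h3
        have := Nat.le_of_dvd two_pos ((Nat.dvd_add_right h1).1 h3)
        omega
    have hrq : ¬ r ∣ Fintype.card F := by
      obtain ⟨e', hp', he⟩ := FiniteField.card F p
      rw [he]
      exact fun hdiv => hrp ((Nat.prime_dvd_prime_iff_eq Fact.out hp').1 ((Fact.out : r.Prime).dvd_of_dvd_pow hdiv))
    obtain ⟨c', hc', hc0, hcd⟩ := exists_c (F := F) (d := d) hr2 hrq (hΩ.trans (Subgroup.relIndex_dvd_card _ _))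
    obtain ⟨x, hx, hxr, hf⟩ := S5975.exists_semisimple (F := F) hr0 hr2 hc' (show d - c' + c' = d by omega)
    refine finish x hx hxr (by omega) (fun g hg hgr hgf => ?_) (Or.inr hr2) h
    exact D.not_mem_semisimple hr0 hr2 hb ha2 hc' (by omega) hg hgr (by omega)
  · rintro ⟨rfl, rfl⟩ x hx ⟨z, hz⟩ -
    have hbd : b = d := by omega
    have hB := S5975.mem_spGL_iff.1 hx
    have hsq : ∀ v, x.1 *ᵥ (x.1 *ᵥ v) = z • v := fun v => by
      rw [Matrix.mulVec_mulVec, ← pow_two, ← Units.val_pow_eq_pow_val, hz, Matrix.smul_mulVec, Matrix.one_mulVec]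
    let i0 : Fin d := ⟨0, by omega⟩
    have hz2 : z * z = 1 := by
      have h := hB (x.1 *ᵥ Pi.single (.inl i0) 1) (x.1 *ᵥ Pi.single (.inr i0) 1)
      rw [hsq, hsq] at h
      simp only [map_smul, LinearMap.smul_apply, smul_eq_mul, hB] at h
      simpa [sympB_apply, Pi.single_apply] using h
    have close : ∀ (y : GL (Fin d ⊕ Fin d) F) (gx gy : GL (Fin d ⊕ Fin d) F), gx ∈ Cfsg.spGL d F →
        gy ∈ Cfsg.spGL d F → y ∈ Cfsg.Geo.tensorProductSubgroup 2 b e P → gx⁻¹ * x * gx = gy⁻¹ * y * gy →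
        ∃ g ∈ Cfsg.spGL d F, g⁻¹ * x * g ∈ Cfsg.Geo.tensorProductSubgroup 2 b e P := by
      intro y gx gy hgx hgy hy he
      refine ⟨gx * gy⁻¹, mul_mem hgx (inv_mem hgy), ?_⟩
      rw [show (gx * gy⁻¹)⁻¹ * x * (gx * gy⁻¹) = gy * (gx⁻¹ * x * gx) * gy⁻¹ by group, he,
        show gy * (gy⁻¹ * y * gy) * gy⁻¹ = y by group]
      exact hy
    rcases mul_self_eq_one_iff.1 hz2 with rfl | rfl
    · obtain ⟨m, hm, gx, hgx, hgxe⟩ := SpTensor.exists_normal_pos h2 hx (fun v => by rw [hsq, one_smul])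
      obtain ⟨y, -, hyT, hy⟩ := D.model_pos rfl hbd h2 hm
      obtain ⟨gy, hgy, hgye⟩ := hy gx hgx
      exact close y gx gy hgx hgy hyT (Units.ext (hgxe.trans hgye.symm))
    · obtain ⟨gx, hgx, hgxe⟩ := SpTensor.exists_normal_neg h2 hx (fun v => by rw [hsq, neg_one_smul])
      obtain ⟨y, -, hyT, gy, hgy, hgye⟩ := D.model_neg rfl h2
      exact close y gx gy hgx hgy hyT (Units.ext (hgxe.trans hgye.symm))

end Cfsg.Agent.S5980
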