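import Cfsg.Statements.S5982
import Cfsg.Agent.EqLemmas
import Cfsg.Agent.Lib.Unitary.Count
import Cfsg.Agent.Lib.GLOrder.Basic
import Cfsg.Agent.Lib.PrimeOrderElt.Rational
import Cfsg.Agent.Lib.PrimeOrderElt.Subfield
import Cfsg.Agent.S5965

set_option autoImplicit false
open scoped MatrixGroups
open Cfsg

namespace Cfsg.Agent.S5982

open Matrix Module Polynomial Cfsg.Agent.PrimeOrderElt
open Cfsg.Agent.Unitary (IsHerm Nondeg)

variable {F : Type*} [Field F] [Fintype F] {n q : ℕ}

theorem mem_specialLinear {g : GL (Fin n) F} :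
    g ∈ Cfsg.Geo.specialLinear (Fin n) F ↔ (g : Matrix (Fin n) (Fin n) F).det = 1 := by
  rw [Cfsg.Geo.specialLinear, MonoidHom.mem_ker, Units.ext_iff]
  rfl

theorem isHerm_of_pow {f : (Fin n → F) → (Fin n → F) → F} (hf : Cfsg.Geo.IsUnitaryFormPow q f) :
    IsHerm q f ∧ Nondeg f := by
  refine ⟨⟨hf.add_left, hf.smul_left, fun x y => hf.herm y x⟩, fun x hx => ?_⟩
  by_contra h
  obtain ⟨-, y, hy⟩ := hf.nondegenerate x h
  exact hy (hx y)

/-- Every non-degenerate hermitian form is the standard one in some coordinates. -/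
theorem exists_coord (hF : Fintype.card F = q ^ 2) {h : (Fin n → F) → (Fin n → F) → F} (H : IsHerm q h)
    (hnd : Nondeg h) :
    ∃ Q : GL (Fin n) F, ∀ u v, h ((Q : Matrix (Fin n) (Fin n) F) *ᵥ u) ((Q : Matrix (Fin n) (Fin n) F) *ᵥ v) =
      Cfsg.hermForm n F q u v := by
  classical
  obtain ⟨b, hb, -⟩ := Unitary.exists_orthonormal_extend hF H hnd (k := 0) (b := Fin.elim0)
    ⟨fun i => i.elim0, fun i => i.elim0⟩ (Nat.zero_le n) (Module.finrank_fin_fun F).ge
  have hli := Unitary.Orthonormal.linearIndependent H hb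
  let Qm : Matrix (Fin n) (Fin n) F := Matrix.of fun i j => b j i
  have hQ : Qm.det ≠ 0 :=
    ((Matrix.isUnit_iff_isUnit_det _).mp
      (Matrix.linearIndependent_cols_iff_isUnit.mp (hli : LinearIndependent F Qm.col))).ne_zero
  refine ⟨GeneralLinearGroup.mkOfDetNeZero Qm hQ, fun u v => ?_⟩
  have hmv : ∀ w : Fin n → F, Qm *ᵥ w = ∑ j, w j • b j := fun w => by
    funext i
    simp [Qm, Matrix.mulVec, dotProduct, mul_comm]
  show h (Qm *ᵥ u) (Qm *ᵥ v) = _
  rw [hmv, hmv, H.sum_left, Cfsg.hermForm]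
  refine Finset.sum_congr rfl fun i _ => ?_
  rw [H.smul_left, H.sum_right hF, Finset.sum_eq_single i]
  · rw [H.smul_right, hb.1, mul_one]
  · intro j _ hj
    rw [H.smul_right, hb.2 (Ne.symm hj), mul_zero]
  · simp

/-- A preserved hermitian form gives a conjugate in the similarity group. -/
theorem mem_of_form (hF : Fintype.card F = q ^ 2) {f : (Fin n → F) → (Fin n → F) → F} (Hf : IsHerm q f)
    (hfn : Nondeg f) (x : GL (Fin n) F)
    (hdet : ∀ d : F, d ≠ 0 → ∃ C : Matrix (Fin n) (Fin n) F, C.det = d ∧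
      C * (x : Matrix (Fin n) (Fin n) F) = (x : Matrix (Fin n) (Fin n) F) * C)
    {h : (Fin n → F) → (Fin n → F) → F} (H : IsHerm q h) (hnd : Nondeg h) {c : F} (hc : c ≠ 0)
    (hxh : ∀ u v, h ((x : Matrix (Fin n) (Fin n) F) *ᵥ u) ((x : Matrix (Fin n) (Fin n) F) *ᵥ v) = c * h u v) :
    ∃ g ∈ Cfsg.Geo.specialLinear (Fin n) F, g⁻¹ * x * g ∈ Cfsg.Geo.similarityGroup f := by
  obtain ⟨A, hA⟩ := exists_coord hF H hnd
  obtain ⟨B, hB⟩ := exists_coord hF Hf hfn
  set G : GL (Fin n) F := A * B⁻¹ with hG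
  have hGf : ∀ u v, h ((G : Matrix (Fin n) (Fin n) F) *ᵥ u) ((G : Matrix (Fin n) (Fin n) F) *ᵥ v) = f u v := by
    intro u v
    rw [hG, Units.val_mul, ← Matrix.mulVec_mulVec, ← Matrix.mulVec_mulVec, hA, ← hB, Matrix.mulVec_mulVec,
      Matrix.mulVec_mulVec, Units.mul_inv, Matrix.one_mulVec, Matrix.one_mulVec]
  have hGd : (G : Matrix (Fin n) (Fin n) F).det ≠ 0 := G.det_ne_zero
  obtain ⟨C, hCd, hC⟩ := hdet _ (inv_ne_zero hGd)
  set C' : GL (Fin n) F := GeneralLinearGroup.mkOfDetNeZero C (by rw [hCd]; exact inv_ne_zero hGd)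
  have hC' : C' * x = x * C' := Units.ext hC
  refine ⟨C' * G, ?_, ?_⟩
  · rw [mem_specialLinear, Units.val_mul, Matrix.det_mul]
    show C.det * _ = 1
    rw [hCd, inv_mul_cancel₀ hGd]
  · rw [show (C' * G)⁻¹ * x * (C' * G) = G⁻¹ * (C'⁻¹ * (x * C')) * G by group, ← hC', inv_mul_cancel_left]
    refine ⟨Units.mk0 c hc, fun u v => ?_⟩
    rw [← hGf, ← hGf u v, Matrix.mulVec_mulVec, Matrix.mulVec_mulVec, ← Units.val_mul,
      show G * (G⁻¹ * x * G) = x * G by group, Units.val_mul, ← Matrix.mulVec_mulVec, ← Matrix.mulVec_mulVec, hxh,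
      Units.val_mk0]

/-- Elements conjugate into the similarity group, in standard coordinates. -/
theorem conj_unfold (hF : Fintype.card F = q ^ 2) {f : (Fin n → F) → (Fin n → F) → F} (Hf : IsHerm q f)
    (hfn : Nondeg f) (x g : GL (Fin n) F) (h : g⁻¹ * x * g ∈ Cfsg.Geo.similarityGroup f) :
    ∃ (G Y : GL (Fin n) F) (c : F), c ≠ 0 ∧ x = G * Y * G⁻¹ ∧
      (Y : Matrix (Fin n) (Fin n) F)ᵀ * (Y : Matrix (Fin n) (Fin n) F).map (Unitary.conjHom hF) = c • 1 := by
  obtain ⟨Q, hQ⟩ := exists_coord hF Hf hfn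
  obtain ⟨c, hc⟩ := h
  refine ⟨g * Q, Q⁻¹ * (g⁻¹ * x * g) * Q, c, c.ne_zero, by group, ?_⟩
  set Y : GL (Fin n) F := Q⁻¹ * (g⁻¹ * x * g) * Q with hY
  have hh : ∀ u v, Cfsg.hermForm n F q ((Y : Matrix (Fin n) (Fin n) F) *ᵥ u) ((Y : Matrix (Fin n) (Fin n) F) *ᵥ v) =
      (c : F) * Cfsg.hermForm n F q u v := by
    intro u v
    rw [← hQ, ← hQ, Matrix.mulVec_mulVec, Matrix.mulVec_mulVec, ← Units.val_mul,
      show Q * Y = g⁻¹ * x * g * Q by rw [hY]; group, Units.val_mul, ← Matrix.mulVec_mulVec, ← Matrix.mulVec_mulVec, hc]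
  refine Matrix.ext fun i j => ?_
  have h1 := hh (Pi.single i 1) (Pi.single j 1)
  rw [Unitary.hermForm_single_right hF, Matrix.mulVec_single_one, Matrix.mulVec_single_one] at h1
  rw [Matrix.mul_apply, Matrix.smul_apply, Matrix.one_apply, smul_eq_mul]
  simp only [Cfsg.hermForm, Matrix.col_apply, Pi.single_apply] at h1
  simp only [Matrix.transpose_apply, Matrix.map_apply, Unitary.conjHom_apply]
  rw [h1]
  simp [eq_comm]

theorem map_eq_of_sim (hF : Fintype.card F = q ^ 2) {Y : GL (Fin n) F} {c : F}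
    (h : (Y : Matrix (Fin n) (Fin n) F)ᵀ * (Y : Matrix (Fin n) (Fin n) F).map (Unitary.conjHom hF) = c • 1) :
    (Y : Matrix (Fin n) (Fin n) F).map (Unitary.conjHom hF) = (c • ((Y⁻¹ : GL (Fin n) F) : Matrix (Fin n) (Fin n) F))ᵀ := by
  have h1 : ((Y⁻¹ : GL (Fin n) F) : Matrix (Fin n) (Fin n) F)ᵀ * (Y : Matrix (Fin n) (Fin n) F)ᵀ = 1 := by
    rw [← Matrix.transpose_mul, ← Units.val_mul, mul_inv_cancel, Units.val_one, Matrix.transpose_one]
  calc _ = ((Y⁻¹ : GL (Fin n) F) : Matrix (Fin n) (Fin n) F)ᵀ *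
        ((Y : Matrix (Fin n) (Fin n) F)ᵀ * (Y : Matrix (Fin n) (Fin n) F).map (Unitary.conjHom hF)) := by
        rw [← mul_assoc, h1, one_mul]
    _ = _ := by rw [h, Matrix.mul_smul, mul_one, Matrix.transpose_smul]

/-- Multiplicities of eigenvalues are invariant under the twisted inversion. -/
theorem count_twist [DecidableEq F] (hF : Fintype.card F = q ^ 2) {f : (Fin n → F) → (Fin n → F) → F}
    (Hf : IsHerm q f) (hfn : Nondeg f) (x : GL (Fin n) F) (d : Fin n → F) (hd : ∀ i, d i ≠ 0)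
    (hxd : (x : Matrix (Fin n) (Fin n) F) = Matrix.diagonal d)
    (h : ∃ g ∈ Cfsg.Geo.specialLinear (Fin n) F, g⁻¹ * x * g ∈ Cfsg.Geo.similarityGroup f) :
    ∃ T : F → F, (∀ a b : F, T a / T b = (b / a) ^ q) ∧
      ∀ t, t ≠ 0 → (Finset.univ.filter fun i => d i = T t).card = (Finset.univ.filter fun i => d i = t).card := by
  obtain ⟨g, -, hg⟩ := h
  obtain ⟨G, Y, c, hc, hx, hY⟩ := conj_unfold hF Hf hfn x g hg
  refine ⟨fun t => c / t ^ q, fun a b => ?_, fun t ht => ?_⟩
  · simp only [div_pow]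
    field_simp
  have hpY : (Y : Matrix (Fin n) (Fin n) F).charpoly = ∏ i, (X - C (d i)) := by
    have h1 : (x : Matrix (Fin n) (Fin n) F).charpoly = (Y : Matrix (Fin n) (Fin n) F).charpoly := by
      rw [hx, Units.val_mul, Units.val_mul,
        show ((G⁻¹ : GL (Fin n) F) : Matrix (Fin n) (Fin n) F) = (G : Matrix (Fin n) (Fin n) F)⁻¹ from
          Matrix.coe_units_inv G, Matrix.charpoly_units_conj]
    rw [← h1, hxd, Matrix.charpoly_diagonal]
  have hinv : (c • ((Y⁻¹ : GL (Fin n) F) : Matrix (Fin n) (Fin n) F)).charpoly = ∏ i, (X - C (c / d i)) := by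
    have hY' : Y⁻¹ = G⁻¹ * x⁻¹ * G := by rw [hx]; group
    have hxi : ((x⁻¹ : GL (Fin n) F) : Matrix (Fin n) (Fin n) F) = Matrix.diagonal fun i => (d i)⁻¹ := by
      refine Units.inv_eq_of_mul_eq_one_left ?_
      rw [hxd, Matrix.diagonal_mul_diagonal, ← Matrix.diagonal_one]
      exact congrArg _ (funext fun i => inv_mul_cancel₀ (hd i))
    rw [hY', Units.val_mul, Units.val_mul, hxi, ← Matrix.smul_mul, ← Matrix.mul_smul, ← Matrix.diagonal_smul,
      show ((G⁻¹ : GL (Fin n) F) : Matrix (Fin n) (Fin n) F) = (G : Matrix (Fin n) (Fin n) F)⁻¹ from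
        Matrix.coe_units_inv G, Matrix.charpoly_units_conj', Matrix.charpoly_diagonal]
    simp [div_eq_mul_inv]
  have hpoly := congrArg Matrix.charpoly (map_eq_of_sim hF hY)
  rw [Matrix.charpoly_map, Matrix.charpoly_transpose, hpY, hinv, Polynomial.map_prod] at hpoly
  simp only [Polynomial.map_sub, Polynomial.map_X, Polynomial.map_C, Unitary.conjHom_apply] at hpoly
  have hms : (Finset.univ.val.map fun i => d i ^ q) = Finset.univ.val.map fun i => c / d i := by
    have := congrArg Polynomial.roots hpoly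
    rw [Finset.prod_eq_multiset_prod, Finset.prod_eq_multiset_prod] at this
    rw [show (Finset.univ.val.map fun i => X - C (d i ^ q)) =
        (Finset.univ.val.map fun i => d i ^ q).map (fun a => X - C a) by rw [Multiset.map_map]; rfl,
      show (Finset.univ.val.map fun i => X - C (c / d i)) =
        (Finset.univ.val.map fun i => c / d i).map (fun a => X - C a) by rw [Multiset.map_map]; rfl,
      roots_multiset_prod_X_sub_C, roots_multiset_prod_X_sub_C] at this
    exact this
  have hcnt := congrArg (Multiset.count (t ^ q)) hms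
  rw [Multiset.count_map, Multiset.count_map] at hcnt
  change (Finset.univ.filter fun i => t ^ q = d i ^ q).card = (Finset.univ.filter fun i => t ^ q = c / d i).card at hcnt
  rw [Finset.filter_congr (q := fun i => d i = t) (fun i _ =>
      ⟨fun e => (Unitary.pow_q_injective hF e).symm, fun e => by rw [e]⟩),
    Finset.filter_congr (p := fun i => t ^ q = c / d i) (q := fun i => d i = c / t ^ q) (fun i _ => by
      have hq0 := pow_ne_zero q ht
      rw [eq_div_iff (hd i), eq_div_iff hq0, mul_comm])] at hcnt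
  exact hcnt.symm

/-- The orders of `SL_n(q²)` and `SU_n(q)`: when `r` divides the index of the similarity group. -/
theorem exists_of_dvd_index (hF : Fintype.card F = q ^ 2) (hn : 0 < n) {f : (Fin n → F) → (Fin n → F) → F}
    (Hf : IsHerm q f) (hfn : Nondeg f) {r : ℕ} [Fact r.Prime] (hq0 : (q : ZMod r) ≠ 0)
    (hΩ : r ∣ (Cfsg.Geo.similarityGroup f).relIndex (Cfsg.Geo.specialLinear (Fin n) F)) :
    ∃ j, 2 ≤ j ∧ j ≤ n ∧ (-(q : ZMod r)) ^ j = -1 := by
  classical
  obtain ⟨Q, hQ⟩ := exists_coord hF Hf hfn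
  set S := Cfsg.Geo.specialLinear (Fin n) F
  let ψ : Cfsg.SU n F q →* S :=
    ((MulAut.conj Q).toMonoidHom.comp
      ((Matrix.SpecialLinearGroup.toGL : Matrix.SpecialLinearGroup (Fin n) F →* GL (Fin n) F).comp
        (Cfsg.SU n F q).subtype)).codRestrict S (fun g => mem_specialLinear.mpr (by
      show ((Q * Matrix.SpecialLinearGroup.toGL (g : Matrix.SpecialLinearGroup (Fin n) F) * Q⁻¹ : GL (Fin n) F) :
        Matrix (Fin n) (Fin n) F).det = 1
      rw [Units.val_mul, Units.val_mul, Matrix.det_mul, Matrix.det_mul, mul_right_comm, ← Matrix.det_mul,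
        Units.mul_inv, Matrix.det_one, one_mul]
      exact (g : Matrix.SpecialLinearGroup (Fin n) F).2))
  have hψ : Function.Injective ψ := by
    intro a b hab
    have h1 : Q * Matrix.SpecialLinearGroup.toGL (a : Matrix.SpecialLinearGroup (Fin n) F) * Q⁻¹ =
        Q * Matrix.SpecialLinearGroup.toGL (b : Matrix.SpecialLinearGroup (Fin n) F) * Q⁻¹ := congrArg Subtype.val hab
    exact Subtype.ext (Matrix.SpecialLinearGroup.toGL_injective (mul_left_cancel (mul_right_cancel h1)))
  have hle : ψ.range ≤ (Cfsg.Geo.similarityGroup f).subgroupOf S := by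
    rintro _ ⟨a, rfl⟩
    refine ⟨1, fun u v => ?_⟩
    set A := Matrix.SpecialLinearGroup.toGL (a : Matrix.SpecialLinearGroup (Fin n) F)
    show f (((Q * A * Q⁻¹ : GL (Fin n) F) : Matrix (Fin n) (Fin n) F) *ᵥ u)
      (((Q * A * Q⁻¹ : GL (Fin n) F) : Matrix (Fin n) (Fin n) F) *ᵥ v) = _
    simp only [Units.val_mul, ← Matrix.mulVec_mulVec, hQ, Units.val_one, one_mul]
    refine (a.2 _ _).trans ?_
    rw [← hQ, Matrix.mulVec_mulVec, Matrix.mulVec_mulVec, Units.mul_inv, Matrix.one_mulVec, Matrix.one_mulVec]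
  have hdvd : Nat.card (Cfsg.SU n F q) ∣ Nat.card ((Cfsg.Geo.similarityGroup f).subgroupOf S) := by
    rw [Nat.card_congr (MonoidHom.ofInjective hψ).toEquiv]
    exact Subgroup.card_dvd_of_le hle
  have hS : Nat.card S = Nat.card (Matrix.SpecialLinearGroup (Fin n) F) := by
    refine (Nat.card_congr (Equiv.ofBijective
      (fun g : Matrix.SpecialLinearGroup (Fin n) F => (⟨Matrix.SpecialLinearGroup.toGL g, mem_specialLinear.mpr g.2⟩ : S))
      ⟨fun a b h => Matrix.SpecialLinearGroup.toGL_injective (congrArg Subtype.val h), fun g => ?_⟩)).symm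
    exact ⟨⟨(g : GL (Fin n) F), mem_specialLinear.mp g.2⟩, Subtype.ext (Units.ext rfl)⟩
  obtain ⟨w, hw⟩ := hdvd
  have hmul := ((Cfsg.Geo.similarityGroup f).subgroupOf S).index_mul_card
  rw [hw, hS, GLOrder.card_SL, Nat.card_eq_fintype_card (α := F), hF] at hmul
  set g : ℕ → ℕ := fun i => if Even i then q ^ (i + 1) + 1 else q ^ (i + 1) - 1
  set h : ℕ → ℕ := fun i => if Even i then q ^ (i + 1) - 1 else q ^ (i + 1) + 1
  have hgh : ∀ i, (q ^ 2) ^ (i + 1) - 1 = g i * h i := fun i => by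
    rw [← pow_mul, mul_comm 2, pow_mul, ← one_pow (M := ℕ) 2, Nat.sq_sub_sq, one_pow]
    simp only [g, h]
    split_ifs <;> ring
  have hsu := Unitary.card_SU (F := F) hF n hn
  rw [← Finset.prod_range_mul_prod_Ico _ hn, Finset.prod_range_one] at hsu
  have hsu' : Nat.card (Cfsg.SU n F q) = q ^ (n * (n - 1) / 2) * ∏ i ∈ Finset.Ico 1 n, g i := by
    apply Nat.eq_of_mul_eq_mul_left (Nat.succ_pos q)
    show (q + 1) * _ = (q + 1) * _
    rw [hsu]
    simp only [g, if_pos (show Even 0 from Even.zero), zero_add, pow_one]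
    ring
  have hq2 := Unitary.two_le_q hF
  have hsu0 : 0 < Nat.card (Cfsg.SU n F q) := Nat.card_pos
  rw [hsu', Finset.prod_congr rfl (fun i _ => hgh i), Finset.prod_mul_distrib] at hmul
  rw [hsu'] at hsu0
  have h2 : ((Cfsg.Geo.similarityGroup f).subgroupOf S).index * w =
      q ^ (n * (n - 1) / 2) * ∏ i ∈ Finset.Ico 1 n, h i := by
    apply Nat.eq_of_mul_eq_mul_left hsu0
    rw [← pow_mul, mul_comm 2, pow_mul] at hmul
    linear_combination hmul
  have h3 := congrArg (fun N : ℕ => (N : ZMod r)) h2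
  rw [Subgroup.relIndex] at hΩ
  simp only [Nat.cast_mul, (ZMod.natCast_eq_zero_iff _ _).mpr hΩ, zero_mul, Nat.cast_pow, Nat.cast_prod] at h3
  obtain ⟨i, hi, hi0⟩ := Finset.prod_eq_zero_iff.mp ((mul_eq_zero.mp h3.symm).resolve_left (pow_ne_zero _ hq0))
  rw [Finset.mem_Ico] at hi
  refine ⟨i + 1, by omega, by omega, ?_⟩
  by_cases he : Even i
  · simp only [h, if_pos he, Nat.cast_sub (Nat.one_le_pow _ _ (show 0 < q by omega)), Nat.cast_pow, Nat.cast_one,
      sub_eq_zero] at hi0
    rw [Odd.neg_pow (Even.add_one he), hi0]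
  · simp only [h, if_neg he, Nat.cast_add, Nat.cast_pow, Nat.cast_one] at hi0
    rw [Even.neg_pow (Nat.even_add_one.mpr he)]
    exact eq_neg_of_add_eq_zero_left hi0

/-- A short orbit of eigenvalues is no orbit of `λ ↦ λ^(-q)`. -/
theorem bad_orbit (hF : Fintype.card F = q ^ 2) {f : (Fin n → F) → (Fin n → F) → F} (Hf : IsHerm q f)
    (hfn : Nondeg f) {r p : ℕ} [Fact r.Prime] [Fact p.Prime] [CharP F p] (hrp : r ≠ p) (hn : 0 < n)
    (he2 : 2 ≤ orderOf (Fintype.card F : ZMod r)) (hen : orderOf (Fintype.card F : ZMod r) ≤ n)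
    (hb : orderOf (-(q : ZMod r)) = 2 * orderOf (Fintype.card F : ZMod r)) :
    ∃ x ∈ Cfsg.Geo.specialLinear (Fin n) F,
      (∃ z : F, ((x ^ r : GL (Fin n) F) : Matrix (Fin n) (Fin n) F) = z • (1 : Matrix (Fin n) (Fin n) F)) ∧
      (∀ z : F, (x : Matrix (Fin n) (Fin n) F) ≠ z • (1 : Matrix (Fin n) (Fin n) F)) ∧
      ¬ ∃ g ∈ Cfsg.Geo.specialLinear (Fin n) F, g⁻¹ * x * g ∈ Cfsg.Geo.similarityGroup f := by
  classical
  set e := orderOf (Fintype.card F : ZMod r) with he
  have hr : (r : F) ≠ 0 := natCast_ne_zero_of_ne hrp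
  obtain ⟨x₀, hxr, hxf, hxn⟩ := exists_type (F := F) (n := n) (r := r) (p := p) 1 one_pos he2 (by omega)
  set x : GL (Fin n) F := Matrix.SpecialLinearGroup.toGL x₀ with hxdef
  set A : Matrix (Fin n) (Fin n) F := (x₀ : Matrix (Fin n) (Fin n) F) with hA
  have hAr : A ^ r = 1 := by
    have := (pow_eq_smul_iff x₀ r 1).mpr (by rw [one_smul]; exact hxr)
    rwa [Matrix.SpecialLinearGroup.coe_pow, one_smul] at this
  have hxv : (x : Matrix (Fin n) (Fin n) F) = A := rfl
  have hx1 : x ^ r = 1 := Units.ext (by rw [Units.val_pow_eq_pow_val, hxv, hAr, Units.val_one])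
  refine ⟨x, mem_specialLinear.mpr x₀.2, ⟨1, by rw [hx1, one_smul, Units.val_one]⟩, hxn, ?_⟩
  rintro ⟨g, -, hg⟩
  obtain ⟨G, Y, c, hc, hx, hY⟩ := conj_unfold hF Hf hfn x g hg
  have hYr : Y ^ r = 1 := by
    have h1 : x ^ r = G * Y ^ r * G⁻¹ := by rw [hx, conj_pow]
    rw [hx1] at h1
    calc Y ^ r = G⁻¹ * (G * Y ^ r * G⁻¹) * G := by group
      _ = 1 := by rw [← h1]; group
  have hYm := map_eq_of_sim hF hY
  have hr1 : ¬ r ∣ Fintype.card F - 1 := fun h => by
    rw [← orderOf_card_eq_one_iff, ← he] at h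
    omega
  have hc1 : c = 1 := by
    have h1 := congrArg (· ^ r) hYm
    rw [← Matrix.map_pow, ← Units.val_pow_eq_pow_val, hYr, Units.val_one, Matrix.map_one _ (map_zero _) (map_one _),
      ← Matrix.transpose_pow, _root_.smul_pow, ← Units.val_pow_eq_pow_val, inv_pow, hYr, inv_one, Units.val_one,
      Matrix.transpose_smul, Matrix.transpose_one] at h1
    have h2 := congrFun (congrFun h1 ⟨0, hn⟩) ⟨0, hn⟩
    rw [Matrix.smul_apply, Matrix.one_apply_eq, smul_eq_mul, mul_one] at h2
    by_contra hne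
    apply hr1
    have hord : orderOf (Units.mk0 c hc) = r := by rw [← orderOf_units, Units.val_mk0]; exact orderOf_eq_prime h2.symm hne
    rw [← Fintype.card_units, ← hord]
    exact orderOf_dvd_card
  rw [hc1, one_smul] at hYm
  -- the roots of the characteristic polynomial in a closure
  let L := AlgebraicClosure F
  let ι' : F →+* L := algebraMap F L
  set P : L[X] := A.charpoly.map ι' with hP
  have hPY : P = ((Y : Matrix (Fin n) (Fin n) F).map ι').charpoly := by
    rw [hP, Matrix.charpoly_map, ← hxv, hx, Units.val_mul, Units.val_mul,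
      show ((G⁻¹ : GL (Fin n) F) : Matrix (Fin n) (Fin n) F) = (G : Matrix (Fin n) (Fin n) F)⁻¹ from
        Matrix.coe_units_inv G, Matrix.charpoly_units_conj]
  have hPm : P.Monic := (Matrix.charpoly_monic A).map ι'
  have hPd : P.natDegree = n := by rw [hP, Polynomial.natDegree_map, Matrix.charpoly_natDegree_eq_dim, Fintype.card_fin]
  obtain ⟨p', m, hp', hchar', hqm, -⟩ := Unitary.exists_prime_pow hF
  obtain rfl : p = p' := CharP.eq F ‹CharP F p› hchar'
  haveI : CharP L p := charP_of_injective_algebraMap (algebraMap F L).injective p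
  let φ : L →+* L := iterateFrobenius L p m
  have hφ : ∀ a, φ a = a ^ q := fun a => by rw [hqm]; exact iterateFrobenius_def p m a
  -- the root set is closed under `a ↦ a ^ (-q)`
  have hclosed : ∀ a : L, a ≠ 0 → P.IsRoot a → P.IsRoot (a ^ q)⁻¹ := by
    intro a ha hroot
    rw [hPY, IsRoot, Matrix.eval_charpoly] at hroot ⊢
    set YL := (Y : Matrix (Fin n) (Fin n) F).map ι' with hYL
    set μ := a ^ q with hμ
    have hμ0 : μ ≠ 0 := pow_ne_zero _ ha
    have h1 := congrArg φ hroot
    rw [RingHom.map_det, map_zero] at h1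
    have h2 : φ.mapMatrix (Matrix.scalar (Fin n) a - YL) =
        μ • 1 - (((Y⁻¹ : GL (Fin n) F) : Matrix (Fin n) (Fin n) F).map ι')ᵀ := by
      rw [map_sub, RingHom.mapMatrix_apply, RingHom.mapMatrix_apply, Matrix.scalar_apply, Matrix.diagonal_map (map_zero φ),
        Matrix.smul_one_eq_diagonal, hYL, Matrix.map_map, ← Matrix.transpose_map, ← hYm, Matrix.map_map]
      congr 1
      · exact congrArg Matrix.diagonal (funext fun _ => hφ a)
      · refine Matrix.ext fun i j => ?_
        simp [hφ, ι']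
    rw [h2] at h1
    have h3 : (μ • YL - 1).det = 0 := by
      have h4 := congrArg (fun t => t * YLᵀ.det) h1
      simp only [zero_mul] at h4
      rw [← Matrix.det_mul, sub_mul, Matrix.smul_mul, one_mul, ← Matrix.transpose_mul, hYL, ← Matrix.map_mul,
        Units.mul_inv, Matrix.map_one _ (map_zero _) (map_one _), Matrix.transpose_one, ← Matrix.det_transpose,
        Matrix.transpose_sub, Matrix.transpose_smul, Matrix.transpose_transpose, Matrix.transpose_one] at h4
      exact h4
    rw [Matrix.scalar_apply, ← Matrix.smul_one_eq_diagonal,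
      show μ⁻¹ • (1 : Matrix (Fin n) (Fin n) L) - YL = (-μ⁻¹) • (μ • YL - 1) by
        rw [smul_sub, smul_smul, neg_mul, inv_mul_cancel₀ hμ0]; module, Matrix.det_smul, h3, mul_zero]
  -- the multiplicity of one
  set yA : Module.End F (Fin n → F) := Matrix.toLin' A with hyA
  have hss : yA.IsSemisimple :=
    Module.End.isSemisimple_of_squarefree_aeval_eq_zero
      (separable_X_pow_sub_C (1 : F) hr one_ne_zero).squarefree (by simp [hxr])
  have hfix : ∀ v ∈ fix yA, yA v ∈ fix yA := fun v hv => inv_apply (inv_fix yA) hv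
  obtain ⟨U, hRU, hU⟩ := Semisimple.exists_isCompl hss hfix
  have hone : yA.restrict hfix = 1 := LinearMap.ext fun v => Subtype.ext (mem_fix.mp v.2)
  have hdvd : (X - C (1 : F)) ^ (n - e) ∣ A.charpoly := by
    rw [← Matrix.charpoly_toLin', ← hyA, Semisimple.charpoly_eq_mul hRU hfix hU, hone, LinearMap.charpoly_one]
    refine Dvd.intro ((yA.restrict hU).charpoly) ?_
    rw [hxf, one_mul, C_1]
  -- some root differs from one, and has order `r`
  have hsplit : Multiset.card P.roots = n := by rw [← hPd]; exact (IsAlgClosed.splits P).natDegree_eq_card_roots.symm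
  obtain ⟨a, ha, ha1⟩ : ∃ a ∈ P.roots, a ≠ 1 := by
    by_contra hcon
    push Not at hcon
    have h1 : P = (X - C 1) ^ n := by
      rw [← prod_multiset_X_sub_C_of_monic_of_roots_card_eq hPm (hsplit.trans hPd.symm),
        Multiset.eq_replicate.mpr ⟨hsplit, hcon⟩, Multiset.map_replicate, Multiset.prod_replicate]
    have h2 : A.charpoly = (X - C 1) ^ n := Polynomial.map_injective ι' ι'.injective (by
      rw [← hP, h1, Polynomial.map_pow, Polynomial.map_sub, Polynomial.map_X, Polynomial.map_C, map_one]; simp)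
    have h3 := Matrix.aeval_self_charpoly A
    rw [h2, map_pow, map_sub, aeval_X, aeval_C, map_one] at h3
    have h4 : (A - 1) ^ (p ^ n) = 0 := pow_eq_zero_of_le (Nat.lt_pow_self (Fact.out : p.Prime).one_lt).le h3
    haveI : Nonempty (Fin n) := ⟨⟨0, hn⟩⟩
    haveI : CharP (Matrix (Fin n) (Fin n) F) p :=
      charP_of_injective_algebraMap (FaithfulSMul.algebraMap_injective F (Matrix (Fin n) (Fin n) F)) p
    rw [sub_pow_char_pow_of_commute (p := p) (n := n) (h := Commute.one_right A), one_pow, sub_eq_zero] at h4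
    have h5 : A = 1 := by
      have h6 := pow_gcd_eq_one.mpr ⟨h4, hAr⟩
      rwa [Nat.Coprime.pow_left n ((Nat.coprime_primes (Fact.out : p.Prime) (Fact.out : r.Prime)).mpr (Ne.symm hrp)),
        pow_one] at h6
    exact hxn 1 (h5.trans (one_smul F _).symm)
  rw [Polynomial.mem_roots hPm.ne_zero] at ha
  have har : a ^ r = 1 := by
    have h1 : ∃ v : Fin n → L, v ≠ 0 ∧ (A.map ι') *ᵥ v = a • v := by
      rw [hP, IsRoot, ← Matrix.charpoly_map, Matrix.eval_charpoly, ← Matrix.exists_mulVec_eq_zero_iff] at ha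
      obtain ⟨v, hv, hv'⟩ := ha
      refine ⟨v, hv, ?_⟩
      rw [Matrix.sub_mulVec, Matrix.scalar_apply, ← Matrix.smul_one_eq_diagonal, Matrix.smul_mulVec,
        Matrix.one_mulVec, sub_eq_zero] at hv'
      exact hv'.symm
    obtain ⟨v, hv, hv'⟩ := h1
    have h2 : ∀ j, (A.map ι') ^ j *ᵥ v = a ^ j • v := by
      intro j
      induction j with
      | zero => simp
      | succ j ih => rw [pow_succ, ← Matrix.mulVec_mulVec, hv', Matrix.mulVec_smul, ih, smul_smul, pow_succ']
    have h3 := h2 r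
    rw [← Matrix.map_pow, hAr, Matrix.map_one _ (map_zero _) (map_one _), Matrix.one_mulVec] at h3
    exact (smul_left_injective L hv (h3.symm.trans (one_smul L v).symm))
  have hao : orderOf a = r := orderOf_eq_prime har ha1
  set N := (r - 1) * q with hN
  have hNb : (N : ZMod r) = -(q : ZMod r) := by
    rw [hN, Nat.cast_mul, Nat.cast_sub (Fact.out : r.Prime).one_lt.le, ZMod.natCast_self]; ring
  have horbit : ∀ i, P.IsRoot (a ^ N ^ i) := by
    intro i
    induction i with
    | zero => simpa using ha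
    | succ i ih =>
      have ha0 : a ≠ 0 := fun h => by rw [h, zero_pow (Fact.out : r.Prime).ne_zero] at har; exact zero_ne_one har
      have h1 := hclosed _ (pow_ne_zero _ ha0) ih
      convert h1 using 1
      refine eq_inv_of_mul_eq_one_left ?_
      rw [← pow_mul, ← pow_add, ← orderOf_dvd_iff_pow_eq_one, hao, pow_succ, ← mul_add]
      refine dvd_mul_of_dvd_right ⟨q, ?_⟩ _
      rw [hN]; nth_rw 2 [← one_mul q]
      rw [← add_mul, Nat.sub_add_cancel (Fact.out : r.Prime).one_lt.le]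
  have hNi : ∀ i, ¬ r ∣ N ^ i := fun i h => by
    rw [← ZMod.natCast_eq_zero_iff, Nat.cast_pow, hNb] at h
    have h0 := eq_zero_of_pow_eq_zero h
    rw [h0, orderOf_zero] at hb
    omega
  set Z : Finset L := (Finset.range (2 * e)).image fun i => a ^ N ^ i with hZ
  have hZc : Z.card = 2 * e := by
    rw [hZ, Finset.card_image_of_injOn, Finset.card_range]
    intro i hi j hj hij
    have hu : ∀ s t : ℕ, a ^ s = a ^ t → s ≡ t [MOD r] := fun s t h => by
      have ha0 : a ≠ 0 := fun h => by rw [h, zero_pow (Fact.out : r.Prime).ne_zero] at har; exact zero_ne_one har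
      have h' : Units.mk0 a ha0 ^ s = Units.mk0 a ha0 ^ t := Units.ext (by simpa using h)
      rwa [pow_eq_pow_iff_modEq, ← orderOf_units, Units.val_mk0, hao] at h'
    have h1 := (ZMod.natCast_eq_natCast_iff _ _ _).mpr (hu _ _ hij)
    rw [Nat.cast_pow, Nat.cast_pow, hNb] at h1
    rw [Finset.coe_range, Set.mem_Iio, ← hb] at hi hj
    exact pow_injOn_Iio_orderOf hi hj h1
  have hle : Multiset.replicate (n - e) (1 : L) + Z.val ≤ P.roots := by
    rw [Multiset.le_iff_count]
    intro t
    rw [Multiset.count_add, Multiset.count_replicate, Polynomial.count_roots]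
    split_ifs with h1
    · subst h1
      rw [Multiset.count_eq_zero.mpr ?_, add_zero]
      · rw [Polynomial.le_rootMultiplicity_iff hPm.ne_zero]
        have := Polynomial.map_dvd ι' hdvd
        rwa [Polynomial.map_pow, Polynomial.map_sub, Polynomial.map_X, Polynomial.map_C, map_one] at this
      · intro hmem
        rw [Finset.mem_val, hZ, Finset.mem_image] at hmem
        obtain ⟨i, -, hi⟩ := hmem
        rw [← orderOf_dvd_iff_pow_eq_one, hao] at hi
        exact hNi i hi
    · rw [zero_add]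
      by_cases h2 : t ∈ Z.val
      · rw [Multiset.count_eq_one_of_mem Z.nodup h2, Nat.succ_le_iff, Polynomial.rootMultiplicity_pos hPm.ne_zero]
        rw [Finset.mem_val, hZ, Finset.mem_image] at h2
        obtain ⟨i, -, rfl⟩ := h2
        exact horbit i
      · rw [Multiset.count_eq_zero.mpr h2]; exact Nat.zero_le _
  have := Multiset.card_le_card hle
  rw [Multiset.card_add, Multiset.card_replicate, hsplit, ← Finset.card_def, hZc] at this
  omega

/-- A form preserved by a matrix that is monomially paired by a diagonal matrix. -/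
theorem exists_pair_form (hF : Fintype.card F = q ^ 2) (σ : Fin n → Fin n) (hσ : Function.Involutive σ)
    (B : GL (Fin n) F) :
    ∃ h : (Fin n → F) → (Fin n → F) → F, IsHerm q h ∧ Nondeg h ∧
      ∀ u v, h ((B : Matrix (Fin n) (Fin n) F) *ᵥ u) ((B : Matrix (Fin n) (Fin n) F) *ᵥ v) = ∑ i, u i * v (σ i) ^ q := by
  classical
  set B' : Matrix (Fin n) (Fin n) F := ((B⁻¹ : GL (Fin n) F) : Matrix (Fin n) (Fin n) F) with hB'
  refine ⟨fun u v => ∑ i, (B' *ᵥ u) i * (B' *ᵥ v) (σ i) ^ q, ⟨fun x y z => ?_, fun c x z => ?_, fun x y => ?_⟩,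
    fun x hx => ?_, fun u v => ?_⟩
  · simp [Matrix.mulVec_add, add_mul, Finset.sum_add_distrib]
  · simp [Matrix.mulVec_smul, Finset.mul_sum, mul_assoc]
  · simp only [Unitary.sum_pow_q hF, mul_pow, Unitary.pow_q_pow_q hF]
    refine (Fintype.sum_equiv hσ.toPerm _ _ fun i => ?_)
    rw [Function.Involutive.coe_toPerm, hσ i, mul_comm]
  · have h0 : B' *ᵥ x = 0 := funext fun i => by
      have h := hx ((B : Matrix (Fin n) (Fin n) F) *ᵥ Pi.single (σ i) 1)
      simp only [hB', Matrix.mulVec_mulVec, Units.inv_mul, Matrix.one_mulVec] at h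
      rw [Finset.sum_eq_single i (fun j _ hj => by
        rw [Pi.single_eq_of_ne (fun e => hj (hσ.injective e)), Unitary.zero_pow_q hF, mul_zero]) (by simp)] at h
      simpa [hB'] using h
    have := congrArg ((B : Matrix (Fin n) (Fin n) F) *ᵥ ·) h0
    simpa [hB', Matrix.mulVec_mulVec] using this
  · simp [hB', Matrix.mulVec_mulVec]

/-- A matrix diagonal in some coordinates preserves a paired form. -/
theorem exists_diag_form (hF : Fintype.card F = q ^ 2) (σ : Fin n → Fin n) (hσ : Function.Involutive σ)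
    (B : GL (Fin n) F) (X : Matrix (Fin n) (Fin n) F) (d : Fin n → F)
    (hX : X * (B : Matrix (Fin n) (Fin n) F) = (B : Matrix (Fin n) (Fin n) F) * Matrix.diagonal d) (c : F)
    (hd : ∀ i, d i * d (σ i) ^ q = c) :
    ∃ h : (Fin n → F) → (Fin n → F) → F, IsHerm q h ∧ Nondeg h ∧
      ∀ u v, h (X *ᵥ u) (X *ᵥ v) = c * h u v := by
  classical
  obtain ⟨h, H, hnd, hB⟩ := exists_pair_form hF σ hσ B
  refine ⟨h, H, hnd, fun u v => ?_⟩
  obtain ⟨u, rfl⟩ := Matrix.mulVec_surjective_iff_isUnit.mpr B.isUnit u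
  obtain ⟨v, rfl⟩ := Matrix.mulVec_surjective_iff_isUnit.mpr B.isUnit v
  rw [Matrix.mulVec_mulVec, Matrix.mulVec_mulVec, hX, ← Matrix.mulVec_mulVec, ← Matrix.mulVec_mulVec, hB, hB,
    Finset.mul_sum]
  refine Finset.sum_congr rfl fun i _ => ?_
  rw [Matrix.mulVec_diagonal, Matrix.mulVec_diagonal, mul_pow, ← hd i]
  ring

/-- Unipotent involutions. -/
theorem exists_unipotent_form (hF : Fintype.card F = q ^ 2) (h2 : (2 : F) = 0) (X : Matrix (Fin n) (Fin n) F)
    (hX : (X - 1) * (X - 1) = 0) :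
    ∃ h : (Fin n → F) → (Fin n → F) → F, IsHerm q h ∧ Nondeg h ∧ ∀ u v, h (X *ᵥ u) (X *ᵥ v) = h u v := by
  classical
  set g : Module.End F (Fin n → F) := Matrix.toLin' (X - 1) with hg
  have hgg : ∀ v, g (g v) = 0 := fun v => by
    simp only [hg, Matrix.toLin'_apply, Matrix.mulVec_mulVec, hX, Matrix.zero_mulVec]
  obtain ⟨W, hW⟩ := Submodule.exists_isCompl (LinearMap.ker g)
  obtain ⟨Z, hZ⟩ := Submodule.exists_isCompl (LinearMap.range g)
  set Y : Submodule F (Fin n → F) := Z ⊓ LinearMap.ker g with hYdef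
  have hrk : LinearMap.range g ≤ LinearMap.ker g := by rintro _ ⟨w, rfl⟩; exact hgg w
  have hYsup : LinearMap.range g ⊔ Y = LinearMap.ker g := by
    rw [hYdef, ← sup_inf_assoc_of_le Z hrk, hZ.sup_eq_top, top_inf_eq]
  have hYinf : LinearMap.range g ⊓ Y = ⊥ := by
    rw [hYdef, ← inf_assoc, hZ.inf_eq_bot, bot_inf_eq]
  let bW := Module.finBasis F W
  let bY := Module.finBasis F Y
  let fam : (Fin (Module.finrank F W) ⊕ Fin (Module.finrank F W)) ⊕ Fin (Module.finrank F Y) → Fin n → F :=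
    Sum.elim (Sum.elim (fun i => g (bW i)) (fun i => (bW i : Fin n → F))) (fun i => (bY i : Fin n → F))
  have hker : ∀ i, g (bY i : Fin n → F) = 0 := fun i => (bY i).2.2
  have hWz : ∀ d : Fin (Module.finrank F W) → F, g (∑ i, d i • (bW i : Fin n → F)) = 0 → ∀ i, d i = 0 := by
    intro d hd
    have hmem : ∑ i, d i • (bW i : Fin n → F) ∈ LinearMap.ker g ⊓ W :=
      ⟨hd, W.sum_mem fun i _ => W.smul_mem _ (bW i).2⟩
    rw [hW.inf_eq_bot, Submodule.mem_bot] at hmem
    refine Fintype.linearIndependent_iff.mp bW.linearIndependent d (Subtype.ext ?_)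
    simpa using hmem
  have hind : LinearIndependent F fam := by
    rw [Fintype.linearIndependent_iff]
    intro a ha
    simp only [Fintype.sum_sum_type, fam, Sum.elim_inl, Sum.elim_inr] at ha
    have h1 := congrArg g ha
    simp only [map_add, map_sum, map_smul, hgg, hker, smul_zero, Finset.sum_const_zero, zero_add, add_zero, map_zero] at h1
    have hr1 : ∀ i, a (Sum.inl (Sum.inr i)) = 0 := hWz _ (by simpa [map_sum, map_smul] using h1)
    simp only [hr1, zero_smul, Finset.sum_const_zero, add_zero] at ha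
    set y : Fin n → F := ∑ i, a (Sum.inr i) • (bY i : Fin n → F) with hy
    have hy2 : y = 0 := by
      have hyY : y ∈ Y := Y.sum_mem fun i _ => Y.smul_mem _ (bY i).2
      have hyR : y ∈ LinearMap.range g := by
        refine ⟨-∑ i, a (Sum.inl (Sum.inl i)) • (bW i : Fin n → F), ?_⟩
        rw [map_neg, map_sum, neg_eq_iff_add_eq_zero, ← ha, hy]
        simp [map_smul]
      have h3 : y ∈ LinearMap.range g ⊓ Y := ⟨hyR, hyY⟩
      rwa [hYinf, Submodule.mem_bot] at h3
    have hr3 : ∀ i, a (Sum.inr i) = 0 := by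
      refine Fintype.linearIndependent_iff.mp bY.linearIndependent _ (Subtype.ext ?_)
      simpa [hy] using hy2
    rw [hy2, add_zero] at ha
    have hr0 : ∀ i, a (Sum.inl (Sum.inl i)) = 0 := hWz _ (by simpa [map_sum, map_smul] using ha)
    rintro ((i | i) | i)
    exacts [hr0 i, hr1 i, hr3 i]
  have hcard : Fintype.card ((Fin (Module.finrank F W) ⊕ Fin (Module.finrank F W)) ⊕ Fin (Module.finrank F Y)) = n := by
    simp only [Fintype.card_sum, Fintype.card_fin]
    have h1 := Submodule.finrank_add_eq_of_isCompl hW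
    have h4 := LinearMap.finrank_range_add_finrank_ker g
    have h5 := Submodule.finrank_sup_add_finrank_inf_eq (LinearMap.range g) Y
    rw [hYsup, hYinf, finrank_bot, add_zero] at h5
    rw [Module.finrank_fin_fun] at h1 h4
    omega
  let ε := Fintype.equivFinOfCardEq hcard
  let Qm : Matrix (Fin n) (Fin n) F := Matrix.of fun a k => fam (ε.symm k) a
  have hQ : Qm.det ≠ 0 :=
    ((Matrix.isUnit_iff_isUnit_det Qm).mp (Matrix.linearIndependent_cols_iff_isUnit.mp
      (hind.comp _ ε.symm.injective : LinearIndependent F Qm.col))).ne_zero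
  let sw : Fin n → Fin n := fun k => ε (Sum.map Sum.swap id (ε.symm k))
  have hsw : Function.Involutive sw := fun k => by
    obtain ⟨s, rfl⟩ := ε.surjective k
    rcases s with (i | i) | i <;> simp [sw]
  obtain ⟨h, H, hnd, hB⟩ := exists_pair_form hF sw hsw (GeneralLinearGroup.mkOfDetNeZero Qm hQ)
  refine ⟨h, H, hnd, fun u v => ?_⟩
  obtain ⟨u, rfl⟩ := Matrix.mulVec_surjective_iff_isUnit.mpr (GeneralLinearGroup.mkOfDetNeZero Qm hQ).isUnit u
  obtain ⟨v, rfl⟩ := Matrix.mulVec_surjective_iff_isUnit.mpr (GeneralLinearGroup.mkOfDetNeZero Qm hQ).isUnit v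
  -- the coordinates of the image
  let nu : (Fin n → F) → Fin n → F := fun w k =>
    w k + Sum.elim (Sum.elim (fun i => w (ε (Sum.inl (Sum.inr i)))) (fun _ => 0)) (fun _ => 0) (ε.symm k)
  have hmv : ∀ w : Fin n → F, Qm *ᵥ w = ∑ s, w (ε s) • fam s := fun w => by
    funext a
    rw [Matrix.mulVec, dotProduct, ← ε.sum_comp, Finset.sum_apply]
    refine Finset.sum_congr rfl fun j _ => ?_
    simp only [Qm, Matrix.of_apply, Equiv.symm_apply_apply, Pi.smul_apply, smul_eq_mul]
    rw [mul_comm]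
  have hXQ : ∀ w : Fin n → F, X *ᵥ (Qm *ᵥ w) = Qm *ᵥ nu w := fun w => by
    have e1 : X *ᵥ (Qm *ᵥ w) = Qm *ᵥ w + g (Qm *ᵥ w) := by
      rw [hg, Matrix.toLin'_apply, Matrix.sub_mulVec, Matrix.one_mulVec, add_sub_cancel]
    rw [e1, hmv, hmv, map_sum]
    simp only [Fintype.sum_sum_type, map_smul, fam, Sum.elim_inl, Sum.elim_inr, nu, Equiv.symm_apply_apply, add_smul,
      Finset.sum_add_distrib, hgg, hker, smul_zero, zero_smul, Finset.sum_const_zero, add_zero, zero_add]
  show h (X *ᵥ (Qm *ᵥ u)) (X *ᵥ (Qm *ᵥ v)) = h (Qm *ᵥ u) (Qm *ᵥ v)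
  rw [hXQ, hXQ]
  refine (hB _ _).trans (Eq.trans ?_ (hB u v).symm)
  rw [← ε.sum_comp, ← ε.sum_comp (fun k => u k * v (sw k) ^ q)]
  simp only [Fintype.sum_sum_type, sw, nu, Equiv.symm_apply_apply, Sum.map_inl, Sum.map_inr, Sum.swap_inl,
    Sum.swap_inr, id, Sum.elim_inl, Sum.elim_inr, add_zero, Unitary.add_pow_q hF, add_mul, mul_add,
    Finset.sum_add_distrib, zero_mul, mul_zero, Unitary.zero_pow_q hF, Finset.sum_const_zero]
  set T := ∑ i : Fin (Module.finrank F W), u (ε (Sum.inl (Sum.inr i))) * v (ε (Sum.inl (Sum.inr i))) ^ q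
  linear_combination T * h2

/-- Two eigenvalues whose multiplicities occur once. -/
theorem exists_unique_levels [DecidableEq F] {r : ℕ} [Fact r.Prime] (hr2 : r ≠ 2) (hn : 3 ≤ n)
    (hgap : ¬ (n = 6 ∧ r = 3)) (hr1 : r ∣ Fintype.card F - 1)
    (hR : ¬ (r = n ∧ (r = 3 ∨ r = 5) ∧ padicValNat r (Fintype.card F - 1) = 1)) :
    ∃ (d : Fin n → F) (z : F) (A B : Fin n), (∀ i, d i ^ r = z) ∧ ∏ i, d i = 1 ∧ d A ≠ d B ∧
      (∀ j, (Finset.univ.filter fun i => d i = d j).card = (Finset.univ.filter fun i => d i = d A).card → d j = d A) ∧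
      (∀ j, (Finset.univ.filter fun i => d i = d j).card = (Finset.univ.filter fun i => d i = d B).card → d j = d B) := by
  have hrP : r.Prime := Fact.out
  have hr3 : 3 ≤ r := by have := hrP.two_le; omega
  have hq1 : Fintype.card F - 1 ≠ 0 := Nat.sub_ne_zero_of_lt Fintype.one_lt_card
  obtain ⟨u, hu⟩ := exists_prime_orderOf_dvd_card (G := Fˣ) r (by rw [Fintype.card_units]; exact hr1)
  set ζ : F := (u : F) with hζdef
  have hζ0 : ζ ≠ 0 := u.ne_zero
  have hζo : orderOf ζ = r := by rw [hζdef, orderOf_units, hu]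
  have hζr : ζ ^ r = 1 := hζo ▸ pow_orderOf_eq_one ζ
  have hζiff : ∀ m : ℕ, ζ ^ m = 1 ↔ r ∣ m := fun m => by rw [← hζo]; exact orderOf_dvd_iff_pow_eq_one.symm
  by_contra hcon
  have two : ∀ (a : ℕ) (A B : F), 0 < a → a < n → n ≠ 2 * a → A ≠ B → A ^ r = B ^ r →
      B ^ a * A ^ (n - a) = 1 → False := by
    intro a A B ha han hna hAB hABr hprod
    let d : Fin n → F := fun i => if (i : ℕ) < a then B else A
    have hcB : (Finset.univ.filter fun i => d i = B).card = a := by
      rw [Finset.filter_congr (q := fun i : Fin n => (i : ℕ) < a) (fun i _ => by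
        simp only [d]; split_ifs with h <;> simp [hAB, h]), Fin.card_filter_val_lt, min_eq_right han.le]
    have hcA : (Finset.univ.filter fun i => d i = A).card = n - a := by
      have h := Finset.card_filter_add_card_filter_not (s := (Finset.univ : Finset (Fin n))) (fun i => d i = B)
      rw [hcB, Finset.card_univ, Fintype.card_fin] at h
      rw [Finset.filter_congr (q := fun i : Fin n => ¬ d i = B) (fun i _ => by
        simp only [d]; split_ifs <;> simp [hAB, Ne.symm hAB])]
      omega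
    have hval : ∀ j, d j = A ∨ d j = B := fun j => by simp only [d]; split_ifs <;> simp
    have hdA : d ⟨a, han⟩ = A := by simp [d]
    have hdB : d ⟨0, by omega⟩ = B := by simp [d, ha]
    refine hcon ⟨d, A ^ r, ⟨a, han⟩, ⟨0, by omega⟩, fun i => by rcases hval i with h | h <;> rw [h]; exact hABr.symm,
      ?_, by rwa [hdA, hdB], fun j hj => ?_, fun j hj => ?_⟩
    · have h := Finset.prod_ite (s := (Finset.univ : Finset (Fin n))) (p := fun i : Fin n => (i : ℕ) < a)
        (fun _ => B) (fun _ => A)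
      have h2 := Finset.card_filter_add_card_filter_not (s := (Finset.univ : Finset (Fin n))) (fun i : Fin n => (i : ℕ) < a)
      rw [Fin.card_filter_val_lt, min_eq_right han.le, Finset.card_univ, Fintype.card_fin] at h2
      rw [Finset.prod_const, Finset.prod_const, Fin.card_filter_val_lt, min_eq_right han.le,
        show (Finset.univ.filter fun i : Fin n => ¬(i : ℕ) < a).card = n - a by omega, hprod] at h
      exact h
    · rw [hdA] at hj ⊢
      rcases hval j with h | h <;> rw [h] at hj ⊢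
      omega
    · rw [hdB] at hj ⊢
      rcases hval j with h | h <;> rw [h] at hj ⊢
      omega
  have single : ∀ A : F, A ≠ 0 → A ^ n ≠ 1 → (A ^ n) ^ r = 1 → False := by
    intro A hA hAn hAnr
    have hAn' : A ^ n = A ^ (n - 1) * A := by rw [← pow_succ, Nat.sub_add_cancel (by omega)]
    refine two 1 A (A ^ (n - 1))⁻¹ one_pos (by omega) (by omega) (fun h => hAn ?_) ?_
      (by rw [pow_one, inv_mul_cancel₀ (pow_ne_zero _ hA)])
    · rw [hAn']; nth_rw 2 [h]; exact mul_inv_cancel₀ (pow_ne_zero _ hA)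
    · rw [inv_pow]; refine eq_inv_of_mul_eq_one_left ?_
      rw [← mul_pow, mul_comm, ← hAn', hAnr]
  by_cases hrn : r ∣ n
  swap
  · exact single ζ hζ0 (fun h => hrn ((hζiff n).mp h)) (by rw [← pow_mul, mul_comm, pow_mul, hζr, one_pow])
  obtain ⟨m, hm⟩ := hrn
  have hm0 : m ≠ 0 := fun h => by rw [h, mul_zero] at hm; omega
  by_cases h35 : m = 1 ∧ (r = 3 ∨ r = 5)
  · obtain ⟨rfl, h35⟩ := h35
    rw [mul_one] at hm
    have hv2 : 2 ≤ padicValNat r (Fintype.card F - 1) := by
      have h1 := one_le_padicValNat_of_dvd hq1 hr1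
      have h2 : padicValNat r (Fintype.card F - 1) ≠ 1 := fun h => hR ⟨hm.symm, h35, h⟩
      omega
    obtain ⟨f, hf⟩ : r ^ 2 ∣ Fintype.card F - 1 := (padicValNat_dvd_iff_le hq1).mpr hv2
    obtain ⟨g, hg⟩ := IsCyclic.exists_ofOrder_eq_natCard (α := Fˣ)
    rw [Nat.card_units, Nat.card_eq_fintype_card] at hg
    have hA : ∀ i, ((g ^ f : Fˣ) : F) ^ i = 1 ↔ r ^ 2 ∣ i := fun i => by
      have hf0 : 0 < f := Nat.pos_of_ne_zero fun h => by rw [h, mul_zero] at hf; exact hq1 hf
      rw [← Units.val_pow_eq_pow_val, Units.val_eq_one, ← pow_mul, ← orderOf_dvd_iff_pow_eq_one, hg, hf, mul_comm f i]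
      exact Nat.mul_dvd_mul_iff_right hf0
    refine single _ (g ^ f).ne_zero (fun h => ?_) (by rw [← pow_mul, hA, hm, pow_two])
    rw [hA, hm] at h
    have := Nat.le_of_dvd hrP.pos h
    have : r * 2 ≤ r ^ 2 := by rw [pow_two]; exact Nat.mul_le_mul_left _ hrP.two_le
    omega
  by_cases hr5 : 5 ≤ r
  · -- three levels
    have hn6 : 6 ≤ n := by
      rcases Nat.lt_or_ge m 2 with h | h
      · have hm1 : m = 1 := by omega
        rw [hm1, mul_one] at hm
        have : r ≠ 6 := fun h6 => by subst h6; norm_num at hrP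
        have : r ≠ 5 := fun h5 => h35 ⟨hm1, Or.inr h5⟩
        omega
      · have := Nat.mul_le_mul hr5 h
        omega
    let C : F := ζ ^ (r - 2)
    have hC1 : C ≠ 1 := fun h => by
      have := Nat.le_of_dvd (by omega) ((hζiff (r - 2)).mp h); omega
    have hζ1 : ζ ≠ 1 := fun h => by rw [h, orderOf_one] at hζo; omega
    have hCζ : C ≠ ζ := fun h => by
      have h' : ζ ^ (r - 3) = 1 := by
        refine mul_right_cancel₀ hζ0 ?_
        rw [← pow_succ, one_mul, show r - 3 + 1 = r - 2 by omega]; exact h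
      have := Nat.le_of_dvd (by omega) ((hζiff (r - 3)).mp h'); omega
    let d : Fin n → F := fun i => if (i : ℕ) < 1 then C else if (i : ℕ) < 3 then ζ else 1
    have hval : ∀ i, d i = C ∨ d i = ζ ∨ d i = 1 := fun i => by simp only [d]; split_ifs <;> simp
    have cC : (Finset.univ.filter fun i => d i = C).card = 1 := by
      rw [Finset.filter_congr (q := fun i : Fin n => (i : ℕ) < 1) (fun i _ => by
        simp only [d]; split_ifs with h1 h2 <;> simp [h1, Ne.symm hC1, Ne.symm hCζ]), Fin.card_filter_val_lt,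
        min_eq_right (by omega)]
    have cζ : (Finset.univ.filter fun i => d i = ζ).card = 2 := by
      have h := Finset.card_filter_add_card_filter_not (s := Finset.univ.filter fun i : Fin n => (i : ℕ) < 3)
        (fun i : Fin n => (i : ℕ) < 1)
      rw [Finset.filter_filter, Finset.filter_filter, Fin.card_filter_val_lt, min_eq_right (by omega),
        Finset.filter_congr (p := fun i : Fin n => (i : ℕ) < 3 ∧ (i : ℕ) < 1) (q := fun i : Fin n => (i : ℕ) < 1)
          (fun i _ => by omega), Fin.card_filter_val_lt, min_eq_right (by omega)] at h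
      rw [Finset.filter_congr (q := fun i : Fin n => (i : ℕ) < 3 ∧ ¬(i : ℕ) < 1) (fun i _ => by
        simp only [d]; split_ifs with h1 h2 <;> simp [h1, hCζ, Ne.symm hζ1] <;> omega)]
      omega
    have c1 : 3 ≤ (Finset.univ.filter fun i => d i = 1).card := by
      have h3 : ({⟨3, by omega⟩, ⟨4, by omega⟩, ⟨5, by omega⟩} : Finset (Fin n)) ⊆
          Finset.univ.filter fun i => d i = 1 := by
        intro i hi
        simp only [Finset.mem_insert, Finset.mem_singleton] at hi
        rcases hi with rfl | rfl | rfl <;> simp [d]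
      have := Finset.card_le_card h3
      rw [Finset.card_insert_of_notMem (by simp), Finset.card_insert_of_notMem (by simp), Finset.card_singleton] at this
      exact this
    have hd0 : d ⟨0, by omega⟩ = C := by simp [d]
    have hd1 : d ⟨1, by omega⟩ = ζ := by simp [d]
    refine hcon ⟨d, 1, ⟨0, by omega⟩, ⟨1, by omega⟩, fun i => ?_, ?_, by rwa [hd0, hd1],
      fun j hj => ?_, fun j hj => ?_⟩
    · rcases hval i with h | h | h <;> rw [h]
      · rw [← pow_mul, mul_comm, pow_mul, hζr, one_pow]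
      · exact hζr
      · exact one_pow r
    · rw [Finset.prod_congr rfl (fun i _ => (show d i = C ^ (if d i = C then 1 else 0) * ζ ^ (if d i = ζ then 1 else 0) by
        rcases hval i with h | h | h <;> simp [h, hCζ, Ne.symm hCζ, Ne.symm hC1, Ne.symm hζ1])),
        Finset.prod_mul_distrib, Finset.prod_pow_eq_pow_sum, Finset.prod_pow_eq_pow_sum, Finset.sum_boole,
        Finset.sum_boole, Nat.cast_id, Nat.cast_id, cC, cζ, pow_one, ← pow_add,
        Nat.sub_add_cancel (by omega), hζr]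
    · rw [hd0] at hj ⊢
      rcases hval j with h | h | h <;> rw [h] at hj ⊢ <;> omega
    · rw [hd1] at hj ⊢
      rcases hval j with h | h | h <;> rw [h] at hj ⊢ <;> omega
  have hr' : r = 3 := by
    have : r ≠ 4 := fun h => by subst h; norm_num at hrP
    omega
  subst hr'
  have hm3 : 3 ≤ m := by
    rcases Nat.lt_or_ge m 3 with h | h
    · interval_cases m
      · exact absurd rfl hm0
      · exact absurd ⟨rfl, Or.inl rfl⟩ h35
      · exact absurd ⟨hm.trans rfl, rfl⟩ hgap
    · exact h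
  exact two 3 1 ζ (by omega) (by omega) (by omega)
    (fun h => by rw [← h, orderOf_one] at hζo; omega) (by rw [one_pow, hζr]) (by rw [one_pow, mul_one, hζr])

/-- Determinants of centralisers of unipotent involutions are the squares, that is everything. -/
theorem exists_unipotent_det {A : Matrix (Fin n) (Fin n) F} {c : F} (hc : c ≠ 0) (h2 : (2 : F) = 0)
    (hA : A * A = (c * c) • 1) (hns : ∀ z : F, A ≠ z • 1) (s : F) (hs : s ≠ 0) :
    ∃ C : Matrix (Fin n) (Fin n) F, C.det = s * s ∧ C * A = A * C := by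
  classical
  set g : Module.End F (Fin n → F) := Matrix.toLin' (A - c • 1) with hg
  have hgg : ∀ v, g (g v) = 0 := fun v => by
    have hN2 : (A - c • 1) * (A - c • 1) = 0 := by
      simp only [mul_sub, sub_mul, Matrix.mul_smul, Matrix.smul_mul, one_mul, mul_one, hA]
      match_scalars <;> first | linear_combination (c * c) * h2 | linear_combination (-c) * h2
    simp only [hg, Matrix.toLin'_apply, Matrix.mulVec_mulVec, hN2, Matrix.zero_mulVec]
  obtain ⟨v, hv⟩ : ∃ v, g v ≠ 0 := by
    by_contra hcon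
    push Not at hcon
    refine hns c (sub_eq_zero.mp (Matrix.toLin'.injective ?_))
    rw [map_zero]
    exact LinearMap.ext hcon
  obtain ⟨φ, hφ⟩ := LinearMap.exists_leftInverse_of_injective (LinearMap.toSpanSingleton F _ (g v))
    (LinearMap.ker_eq_bot.mpr (smul_left_injective F hv))
  have hφ1 : φ (g v) = 1 := by simpa using LinearMap.congr_fun hφ 1
  let P : Submodule F (Fin n → F) := Submodule.span F (Set.range ![v, g v])
  let U : Submodule F (Fin n → F) := LinearMap.ker φ ⊓ LinearMap.ker (φ.comp g)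
  have hP : Inv g P := by
    refine Submodule.map_le_iff_le_comap.mpr (Submodule.span_le.mpr ?_)
    rintro _ ⟨i, rfl⟩
    fin_cases i
    · exact Submodule.subset_span ⟨1, rfl⟩
    · show g (g v) ∈ P
      rw [hgg]; exact P.zero_mem
  have hU : Inv g U := by
    rintro _ ⟨w, ⟨-, hw2⟩, rfl⟩
    exact ⟨hw2, by show φ (g (g w)) = 0; rw [hgg, map_zero]⟩
  have hli : LinearIndependent F ![v, g v] := by
    rw [LinearIndependent.pair_iff]
    intro a b hab
    have h1 := congrArg g hab
    rw [map_add, map_smul, map_smul, hgg, smul_zero, add_zero, map_zero, smul_eq_zero] at h1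
    have ha := h1.resolve_right hv
    rw [ha, zero_smul, zero_add, smul_eq_zero] at hab
    exact ⟨ha, hab.resolve_right hv⟩
  have hcompl : IsCompl P U := by
    refine ⟨disjoint_iff_inf_le.mpr ?_, codisjoint_iff_le_sup.mpr ?_⟩
    · rintro w ⟨hwP, hw1, hw2⟩
      obtain ⟨a, ha⟩ := (Submodule.mem_span_range_iff_exists_fun F).mp hwP
      simp only [Fin.sum_univ_two, Matrix.cons_val_zero, Matrix.cons_val_one] at ha
      subst ha
      simp only [SetLike.mem_coe, LinearMap.mem_ker, LinearMap.comp_apply, map_add, map_smul, hgg, hφ1, smul_zero,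
        add_zero, smul_eq_mul, mul_one, mul_zero, map_zero] at hw1 hw2
      rw [hw2, zero_mul, zero_add] at hw1
      rw [hw2, hw1, zero_smul, zero_smul, add_zero]
      exact Submodule.zero_mem _
    · intro w _
      refine Submodule.mem_sup.mpr ⟨φ (g w) • v + (φ w - φ (g w) * φ v) • g v, ?_, _, ⟨?_, ?_⟩,
        add_sub_cancel _ w⟩
      · exact P.add_mem (P.smul_mem _ (Submodule.subset_span ⟨0, rfl⟩)) (P.smul_mem _ (Submodule.subset_span ⟨1, rfl⟩))
      · show φ (w - _) = 0
        simp only [map_sub, map_add, map_smul, hφ1, smul_eq_mul]; ring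
      · show φ (g (w - _)) = 0
        simp only [map_sub, map_add, map_smul, hgg, hφ1, smul_eq_mul, smul_zero, add_zero]; ring
  obtain ⟨C, hC, hCd⟩ := exists_commuting_det hP hU hcompl s
  rw [show finrank F P = 2 from (finrank_span_eq_card hli).trans (Fintype.card_fin 2)] at hCd
  refine ⟨LinearMap.toMatrix' C, by rw [LinearMap.det_toMatrix', hCd, pow_two], ?_⟩
  refine Matrix.toLin'.injective ?_
  rw [Matrix.toLin'_mul, Matrix.toLin'_mul, Matrix.toLin'_toMatrix']
  have hAg : Matrix.toLin' A = g + c • 1 := by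
    rw [hg, map_sub, map_smul, Matrix.toLin'_one, show (LinearMap.id : Module.End F (Fin n → F)) = 1 from rfl,
      sub_add_cancel]
  rw [hAg]
  exact (hC.add_right ((Commute.one_right C).smul_right c)).eq

/-- Elements of prime order of PSL_n(q), q = q₀², and the subgroups of unitary type. Here `T = PSL_n(F)` for a field `F` with `q = q₀²` elements (`n ≥ 3`), `f` is a non-degenerate unitary form on `F^n` for the involutory automorphism `x ↦ x^{q₀}`, and `H` is the subgroup of matrices of determinant 1 that preserve `f` up to a scalar — a subgroup of type GU_n(q₀) (maximality is not assumed); Ω is the set of cosets of `H` in `T`, so an element of `T` of prime order `r` (a matrix `x` of determinant 1 with `x^r` scalar, `x` not scalar) fixes a point of Ω exactly when some conjugate of `x` by a matrix of determinant 1 preserves `f` up to a scalar. Let `r` be a prime dividing the index of `H`, with `r = 2` or `r` different from the characteristic `p`, and with `(n, r) ≠ (6,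 3)`. Then every element of `T` of order `r` fixes a point of Ω if and only if either `r = 2` and (`p = 2` or `(n)_2 ≤ (q − 1)_2`), or `r ∈ {3, 5}`, `n = r` and `(q₀ − 1)_r = r`. (Odd `r = p` and the case `(n, r) = (6, 3)` are not covered by this statement.) -/
theorem result {F : Type*} [Field F] [Fintype F] {p : ℕ} [Fact p.Prime] [CharP F p] {q : ℕ} (hq : Fintype.card F = q)
    (q₀ : ℕ) (hq₀ : q = q₀ ^ 2) (n : ℕ) (hn : 3 ≤ n) (f : (Fin n → F) → (Fin n → F) → F) (hf : Cfsg.Geo.IsUnitaryFormPow q₀ f)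
    (r : ℕ) [Fact r.Prime] (hr : r = 2 ∨ r ≠ p) (hgap : ¬ (n = 6 ∧ r = 3))
    (hΩ : r ∣ (Cfsg.Geo.similarityGroup f).relIndex (Cfsg.Geo.specialLinear (Fin n) F)) :
    (∀ x ∈ Cfsg.Geo.specialLinear (Fin n) F, (∃ z : F, ((x ^ r : GL (Fin n) F) : Matrix (Fin n) (Fin n) F) = z • (1 : Matrix (Fin n) (Fin n) F)) →
      (∀ z : F, (x : Matrix (Fin n) (Fin n) F) ≠ z • (1 : Matrix (Fin n) (Fin n) F)) →
      ∃ g ∈ Cfsg.Geo.specialLinear (Fin n) F, g⁻¹ * x * g ∈ Cfsg.Geo.similarityGroup f) ↔
    ((r = 2 ∧ (p = 2 ∨ padicValNat 2 n ≤ padicValNat 2 (q - 1))) ∨ ((r = 3 ∨ r = 5) ∧ n = r ∧ padicValNat r (q₀ - 1) = 1)) := by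
  classical
  subst hq
  obtain ⟨Hf, hfn⟩ := isHerm_of_pow hf
  set S := Cfsg.Geo.specialLinear (Fin n) F with hS
  have hrP : r.Prime := Fact.out
  have hn0 : 0 < n := by omega
  haveI : Nonempty (Fin n) := ⟨⟨0, hn0⟩⟩
  have hq02 : 2 ≤ q₀ := Unitary.two_le_q hq₀
  have hq1 : Fintype.card F - 1 ≠ 0 := Nat.sub_ne_zero_of_lt Fintype.one_lt_card
  -- every scalar is a power
  have hz0 : ∀ x ∈ S, ∀ z : F, ((x ^ r : GL (Fin n) F) : Matrix (Fin n) (Fin n) F) = z • 1 → z ≠ 0 := by
    intro x hx z hz h0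
    rw [h0, zero_smul] at hz
    exact Units.ne_zero (x ^ r) hz
  have hsl : ∀ x ∈ S, ∀ z : F, ((x ^ r : GL (Fin n) F) : Matrix (Fin n) (Fin n) F) = z • 1 →
      ∃ x' : Matrix.SpecialLinearGroup (Fin n) F, (x' : Matrix (Fin n) (Fin n) F) = x ∧
        (Matrix.toLin' (x' : Matrix (Fin n) (Fin n) F) : Module.End F (Fin n → F)) ^ r =
          z • (1 : Module.End F (Fin n → F)) := by
    intro x hx z hz
    let x' : Matrix.SpecialLinearGroup (Fin n) F := ⟨x, mem_specialLinear.mp hx⟩
    have hx'v : (x' : Matrix (Fin n) (Fin n) F) = x := rfl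
    refine ⟨x', hx'v, (pow_eq_smul_iff _ r z).mp ?_⟩
    rw [Matrix.SpecialLinearGroup.coe_pow, hx'v]
    rw [Units.val_pow_eq_pow_val] at hz
    exact hz
  by_cases hr2 : r = 2
  · subst hr2
    by_cases hp2 : p = 2
    · -- characteristic two
      subst hp2
      refine iff_of_true (fun x hxS hxr hns => ?_) (Or.inl ⟨rfl, Or.inl rfl⟩)
      obtain ⟨z, hz⟩ := hxr
      have h2 : (2 : F) = 0 := CharTwo.two_eq_zero
      have hring : ringChar F = 2 := ringChar.eq F 2
      obtain ⟨c, rfl⟩ := FiniteField.isSquare_of_char_two hring z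
      have hc : c ≠ 0 := (mul_ne_zero_iff.mp (hz0 x hxS _ hz)).1
      rw [Units.val_pow_eq_pow_val, pow_two] at hz
      set A : Matrix (Fin n) (Fin n) F := (x : Matrix (Fin n) (Fin n) F) with hA
      have hU : (c⁻¹ • A - 1) * (c⁻¹ • A - 1) = 0 := by
        simp only [mul_sub, sub_mul, Matrix.mul_smul, Matrix.smul_mul, one_mul, mul_one, hz, smul_smul]
        match_scalars
        · field_simp
          linear_combination h2
        · linear_combination (-c⁻¹) * h2
      obtain ⟨h, H, hnd, hh⟩ := exists_unipotent_form hq₀ h2 _ hU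
      obtain ⟨d₀, hd₀⟩ : ∃ e : Matrix.SpecialLinearGroup (Fin n) F, (e : Matrix (Fin n) (Fin n) F) = A :=
        ⟨⟨A, mem_specialLinear.mp hxS⟩, rfl⟩
      refine mem_of_form hq₀ Hf hfn x ?_ H hnd (pow_ne_zero (q₀ + 1) hc) fun u v => ?_
      · -- determinants from a transvection
        intro d hd
        obtain ⟨s, hs⟩ := FiniteField.isSquare_of_char_two hring d
        obtain ⟨C, hC1, hC2⟩ := exists_unipotent_det hc h2 hz hns s (by rintro rfl; exact hd (by rw [hs, mul_zero]))
        exact ⟨C, hC1.trans hs.symm, hC2⟩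
      · rw [show A *ᵥ u = c • ((c⁻¹ • A) *ᵥ u) by rw [Matrix.smul_mulVec, smul_smul, mul_inv_cancel₀ hc, one_smul],
          show A *ᵥ v = c • ((c⁻¹ • A) *ᵥ v) by rw [Matrix.smul_mulVec, smul_smul, mul_inv_cancel₀ hc, one_smul],
          H.smul_left, H.smul_right, hh, pow_succ']
        ring
    · -- involutions, odd characteristic
      have hr : ((2 : ℕ) : F) ≠ 0 := natCast_ne_zero_of_ne (p := p) (Ne.symm hp2)
      have hodd : Fintype.card F % 2 = 1 :=
        FiniteField.odd_card_of_char_ne_two (by rw [ringChar.eq F p]; exact hp2)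
      have hq0odd : q₀ % 2 = 1 := by
        rw [hq₀, Nat.pow_mod] at hodd
        rcases Nat.mod_two_eq_zero_or_one q₀ with h | h
        · rw [h] at hodd; simp at hodd
        · exact h
      have h21 : 2 ∣ Fintype.card F - 1 := by omega
      have h4 : Fintype.card F % 4 = 1 := by
        obtain ⟨a, ha⟩ : ∃ a, q₀ = 2 * a + 1 := ⟨q₀ / 2, by omega⟩
        rw [hq₀, ha, show (2 * a + 1) ^ 2 = 4 * (a * a + a) + 1 by ring]
        omega
      constructor
      · intro hall
        refine Or.inl ⟨rfl, Or.inr ?_⟩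
        refine ((no_nonpower_iff (F := F) (by omega) h21).mp fun x z hz hx => ?_).1
        have hx' := (pow_eq_smul_iff x 2 z).mpr hx
        rw [Matrix.SpecialLinearGroup.coe_pow] at hx'
        set X : GL (Fin n) F := Matrix.SpecialLinearGroup.toGL x with hX
        obtain ⟨g, -, hg⟩ := hall X (mem_specialLinear.mpr x.2)
          ⟨z, by rw [Units.val_pow_eq_pow_val]; exact hx'⟩ (nonscalar_of_nonpower hn0 hz hx)
        obtain ⟨G, Y, c, hc, hXY, hY⟩ := conj_unfold hq₀ Hf hfn X g hg
        have hX2 : (X : Matrix (Fin n) (Fin n) F) ^ 2 = z • 1 := hx'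
        have hY2 : (Y : Matrix (Fin n) (Fin n) F) ^ 2 = z • 1 := by
          rw [show Y = G⁻¹ * X * G by rw [hXY]; group, Units.val_mul, Units.val_mul, Units.conj_pow' G, hX2,
            Matrix.mul_smul, mul_one, Matrix.smul_mul, Units.inv_mul]
        -- the multiplier lies in the subfield
        have hcq : c ^ q₀ = c := by
          have h1 := congrFun (congrFun hY ⟨0, hn0⟩) ⟨0, hn0⟩
          rw [Matrix.smul_apply, Matrix.one_apply_eq, smul_eq_mul, mul_one, Matrix.mul_apply] at h1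
          simp only [Matrix.transpose_apply, Matrix.map_apply, Unitary.conjHom_apply] at h1
          rw [← h1, Unitary.sum_pow_q hq₀]
          refine Finset.sum_congr rfl fun i _ => ?_
          rw [mul_pow, Unitary.pow_q_pow_q hq₀, mul_comm]
        have hm := congrArg (fun M => M ^ 2) (map_eq_of_sim hq₀ hY)
        rw [← Matrix.map_pow, hY2, ← Matrix.transpose_pow, _root_.smul_pow, ← Units.val_pow_eq_pow_val, inv_pow] at hm
        have hm' := congrArg (fun M : Matrix (Fin n) (Fin n) F => Mᵀ * (Y : Matrix (Fin n) (Fin n) F) ^ 2) hm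
        simp only [Matrix.transpose_transpose, Matrix.smul_mul, ← Units.val_pow_eq_pow_val, Units.inv_mul] at hm'
        rw [Units.val_pow_eq_pow_val, hY2, Matrix.mul_smul, mul_one] at hm'
        have hzc : z ^ q₀ * z = c ^ 2 := by
          have h2 := congrFun (congrFun hm' ⟨0, hn0⟩) ⟨0, hn0⟩
          simpa [mul_comm] using h2
        have hz0' : z ≠ 0 := fun h => hz 0 (by rw [h, zero_pow two_ne_zero])
        have hsq : IsSquare z := by
          rw [FiniteField.isSquare_iff (by rw [ringChar.eq F p]; exact hp2) hz0']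
          obtain ⟨a, ha⟩ : ∃ a, q₀ = 2 * a + 1 := ⟨q₀ / 2, by omega⟩
          rw [show Fintype.card F / 2 = (q₀ + 1) * a by
            rw [hq₀, ha, show (2 * a + 1) ^ 2 = 2 * ((2 * a + 1 + 1) * a) + 1 by ring]; omega,
            pow_mul, pow_succ, hzc, ← pow_mul]
          refine mul_right_cancel₀ hc ?_
          rw [← pow_succ, ← ha, hcq, one_mul]
        obtain ⟨w, hw⟩ := hsq
        exact hz w (by rw [hw, pow_two])
      · rintro (⟨-, h⟩ | ⟨h, -⟩)
        swap
        · rcases h with h | h <;> simp at h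
        intro x hxS hxr hns
        obtain ⟨z, hz⟩ := hxr
        obtain ⟨x', hx'v, hx'⟩ := hsl x hxS z hz
        obtain ⟨w, hw⟩ : ∃ w, w ^ 2 = z := by
          by_contra hne
          push Not at hne
          exact (no_nonpower_iff (by omega) h21).mpr ⟨h.resolve_left hp2, fun _ _ => h4⟩ x' z hne hx'
        have hw0 : w ≠ 0 := fun h => hz0 x hxS z hz (by rw [← hw, h, zero_pow two_ne_zero])
        rw [Units.val_pow_eq_pow_val, ← hw] at hz
        obtain ⟨B, d, hB, hd, hBd⟩ := exists_diag (r := 2) h21 hr (w⁻¹ • (x : Matrix (Fin n) (Fin n) F)) (by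
          rw [← pow_toLin', _root_.smul_pow, hz, smul_smul, inv_pow, inv_mul_cancel₀ (pow_ne_zero _ hw0), one_smul]
          exact Matrix.toLin'_one)
        obtain ⟨h', H, hnd, hh⟩ := exists_diag_form hq₀ id (fun _ => rfl) (GeneralLinearGroup.mkOfDetNeZero B hB) _ d
          hBd 1 (fun i => by
            obtain ⟨a, ha⟩ : ∃ a, q₀ + 1 = 2 * a := ⟨(q₀ + 1) / 2, by omega⟩
            rw [id, ← pow_succ', ha, pow_mul, hd, one_pow])
        refine mem_of_form hq₀ Hf hfn x (fun d hd => exists_det_commute hn0 hr (pow_ne_zero _ hw0) _ hz d hd)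
          H hnd (pow_ne_zero (q₀ + 1) hw0) fun u v => ?_
        have hxw : ∀ a, (x : Matrix (Fin n) (Fin n) F) *ᵥ a = w • ((w⁻¹ • (x : Matrix (Fin n) (Fin n) F)) *ᵥ a) := fun a => by
          rw [Matrix.smul_mulVec, smul_smul, mul_inv_cancel₀ hw0, one_smul]
        rw [hxw u, hxw v, H.smul_left, H.smul_right, hh, pow_succ']
        ring
  -- odd `r`
  have hrp : r ≠ p := hr.resolve_left hr2
  have hr' : (r : F) ≠ 0 := natCast_ne_zero_of_ne hrp
  have hr3 : 3 ≤ r := by have := hrP.two_le; omega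
  set b : ZMod r := -(q₀ : ZMod r) with hbdef
  have hqb : (Fintype.card F : ZMod r) = b ^ 2 := by rw [hq₀, Nat.cast_pow, hbdef, neg_sq]
  have hq0r : (q₀ : ZMod r) ≠ 0 := fun h => natCast_ne_zero (F := F) hr' (by rw [hqb, hbdef, h]; ring)
  obtain ⟨j, hj2, hjn, hjb⟩ := exists_of_dvd_index hq₀ hn0 Hf hfn hq0r hΩ
  rw [← hbdef] at hjb
  have hneg1 : (-1 : ZMod r) ≠ 1 := by
    intro h
    have h2 : ((2 : ℕ) : ZMod r) = 0 := by push_cast; linear_combination -h
    rw [ZMod.natCast_eq_zero_iff] at h2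
    have := Nat.le_of_dvd two_pos h2
    omega
  have hev : 2 ∣ orderOf b := by
    by_contra h
    apply hneg1
    rw [← hjb, ← orderOf_dvd_iff_pow_eq_one]
    have h1 : orderOf b ∣ 2 * j := orderOf_dvd_of_pow_eq_one (by rw [mul_comm, pow_mul, hjb, neg_one_sq])
    exact ((Nat.Prime.coprime_iff_not_dvd Nat.prime_two).mpr h).symm.dvd_of_dvd_mul_left h1
  set e := orderOf (Fintype.card F : ZMod r) with hedef
  have he0 : orderOf b = 2 * e := by
    rw [hedef, hqb, orderOf_pow' b two_ne_zero, Nat.gcd_eq_right hev, Nat.mul_div_cancel' hev]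
  have hvd : padicValNat r (q₀ - 1) = 1 → b = -1 := fun h => by
    have hd : r ∣ q₀ - 1 := dvd_of_one_le_padicValNat h.ge
    rw [← ZMod.natCast_eq_zero_iff, Nat.cast_sub (by omega), sub_eq_zero, Nat.cast_one] at hd
    rw [hbdef, hd]
  by_cases he1 : e = 1
  swap
  · have hepos : 0 < e := orderOf_card_pos hr'
    have hen : e ≤ n := by
      refine le_trans (Nat.le_of_dvd (by omega) ?_) hjn
      rw [hedef, hqb, orderOf_dvd_iff_pow_eq_one, ← pow_mul, mul_comm, pow_mul, hjb, neg_one_sq]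
    refine iff_of_false (fun hall => ?_) ?_
    · obtain ⟨x, hxS, hx, hxn, hbad⟩ := bad_orbit (p := p) hq₀ Hf hfn hrp hn0 (by omega) hen (hbdef ▸ he0)
      exact hbad (hall x hxS hx hxn)
    · rintro (⟨h, -⟩ | ⟨-, -, hv⟩)
      · exact hr2 h
      · apply he1
        rw [hedef, orderOf_eq_one_iff, hqb, hvd hv, neg_one_sq]
  have hb2 : b ^ 2 = 1 := by rw [← hqb]; exact orderOf_eq_one_iff.mp he1
  have hbm : b = -1 := by
    rcases sq_eq_one_iff.mp hb2 with h | h
    · rw [h, orderOf_one, he1] at he0; omega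
    · exact h
  have hq01 : (q₀ : ZMod r) = 1 := by rw [hbdef, neg_inj] at hbm; exact hbm
  have hrd : r ∣ q₀ - 1 := by rw [← ZMod.natCast_eq_zero_iff, Nat.cast_sub (by omega), hq01, Nat.cast_one, sub_self]
  have hr1 : r ∣ Fintype.card F - 1 := orderOf_card_eq_one_iff.mp he1
  have hvq : padicValNat r (Fintype.card F - 1) = padicValNat r (q₀ - 1) := by
    rw [hq₀, show q₀ ^ 2 - 1 = (q₀ - 1) * (q₀ + 1) by
      rw [← one_pow (M := ℕ) 2, Nat.sq_sub_sq, mul_comm, one_pow],
      padicValNat.mul (by omega) (by omega),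
      padicValNat.eq_zero_of_not_dvd (n := q₀ + 1) (fun h => hneg1 (by
        rw [← ZMod.natCast_eq_zero_iff, Nat.cast_add, hq01, Nat.cast_one] at h
        linear_combination -h)), add_zero]
  obtain ⟨u, hu⟩ := exists_prime_orderOf_dvd_card (G := Fˣ) r (by rw [Fintype.card_units]; exact hr1)
  set ζ : F := (u : F) with hζdef
  have hζo : orderOf ζ = r := by rw [hζdef, orderOf_units, hu]
  have hζiff : ∀ m : ℕ, ζ ^ m = 1 ↔ r ∣ m := fun m => by rw [← hζo]; exact orderOf_dvd_iff_pow_eq_one.symm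
  have hζeq : ∀ m l : ℕ, ζ ^ m = ζ ^ l ↔ m ≡ l [MOD r] := fun m l => by
    rw [hζdef, ← Units.val_pow_eq_pow_val, ← Units.val_pow_eq_pow_val, Units.val_inj, pow_eq_pow_iff_modEq, hu]
  by_cases hR : (r = 3 ∨ r = 5) ∧ n = r ∧ padicValNat r (q₀ - 1) = 1
  · refine iff_of_true (fun x hxS hxr hns => ?_) (Or.inr hR)
    obtain ⟨h35, hnr, hv⟩ := hR
    obtain ⟨z, hz⟩ := hxr
    have hv1 : padicValNat r (Fintype.card F - 1) = 1 := hvq.trans hv
    obtain ⟨x', hx'v, hx'⟩ := hsl x hxS z hz
    obtain ⟨w, hw⟩ : ∃ w, w ^ r = z := by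
      by_contra hne
      push Not at hne
      exact (no_nonpower_iff (by omega) hr1).mpr
        ⟨by rw [hv1, hnr, padicValNat_self], fun h => absurd h hr2⟩ x' z hne hx'
    have hw0 : w ≠ 0 := fun h => hz0 x hxS z hz (by rw [← hw, h, zero_pow hrP.ne_zero])
    have hw1 : w ^ r = 1 := by
      have h := congrArg Matrix.det hz
      rw [Units.val_pow_eq_pow_val, Matrix.det_pow, mem_specialLinear.mp hxS, one_pow, Matrix.det_smul,
        Matrix.det_one, mul_one, Fintype.card_fin, hnr, ← hw, ← pow_mul] at h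
      have hd1 : orderOf (Units.mk0 w hw0) ∣ r ^ 2 := by
        rw [orderOf_dvd_iff_pow_eq_one, pow_two]
        exact Units.ext (by rw [Units.val_pow_eq_pow_val, Units.val_mk0, ← h, Units.val_one])
      obtain ⟨i, hi, hi'⟩ := (Nat.dvd_prime_pow hrP).mp hd1
      have hd2 : r ^ i ∣ Fintype.card F - 1 := by rw [← hi', ← Fintype.card_units]; exact orderOf_dvd_card
      have hi1 : i ≤ 1 := by
        have := (padicValNat_dvd_iff_le hq1).mp hd2
        omega
      have h2 : orderOf (Units.mk0 w hw0) ∣ r := hi' ▸ (pow_dvd_pow r hi1).trans (pow_one r).dvd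
      exact congrArg Units.val (orderOf_dvd_iff_pow_eq_one.mp h2)
    rw [Units.val_pow_eq_pow_val, ← hw, hw1] at hz
    obtain ⟨B, d, hB, hd, hBd⟩ := exists_diag (r := r) hr1 hr' (x : Matrix (Fin n) (Fin n) F) (by
      rw [← pow_toLin', hz, one_smul]; exact Matrix.toLin'_one)
    have hdprod : ∏ i, d i = 1 := by
      have h := congrArg Matrix.det hBd
      rw [Matrix.det_mul, Matrix.det_mul, Matrix.det_diagonal, mem_specialLinear.mp hxS, one_mul] at h
      exact mul_left_cancel₀ hB (h.symm.trans (mul_one _).symm)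
    have hprim : IsPrimitiveRoot ζ r := IsPrimitiveRoot.iff_orderOf.mpr hζo
    choose ex hex1 hex2 using fun i => hprim.eq_pow_of_pow_eq_one (hd i)
    have hsum : ∑ i, ((ex i : ℕ) : ZMod r) = 0 := by
      rw [← Nat.cast_sum, ZMod.natCast_eq_zero_iff, ← hζiff, ← Finset.prod_pow_eq_pow_sum]
      simp only [hex2, hdprod]
    obtain ⟨σ, hσ, hsym⟩ : ∃ σ : Fin n → Fin n, Function.Involutive σ ∧ ∀ i,
        (ex (σ i) : ZMod r) + (ex i : ZMod r) =
          (ex (σ ⟨0, hn0⟩) : ZMod r) + (ex ⟨0, hn0⟩ : ZMod r) := by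
      subst hnr
      rcases h35 with h | h <;> subst h
      · exact S5965.symm_three _ hsum
      · exact S5965.symm_five _ hsum
    have hd0 : ∀ i, d i ≠ 0 := fun i h => by
      have := hd i
      rw [h, zero_pow hrP.ne_zero] at this
      exact zero_ne_one this
    obtain ⟨h', H, hnd, hh⟩ := exists_diag_form hq₀ σ hσ (GeneralLinearGroup.mkOfDetNeZero B hB) _ d hBd
      (d ⟨0, hn0⟩ * d (σ ⟨0, hn0⟩)) (fun i => by
        have hdq : ∀ l, d l ^ q₀ = d l := fun l => by
          obtain ⟨m, hm⟩ := hrd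
          rw [show q₀ = r * m + 1 by omega, pow_succ, pow_mul, hd, one_pow, one_mul]
        rw [hdq, mul_comm (d i), mul_comm (d ⟨0, hn0⟩)]
        rw [← hex2, ← hex2 i, ← hex2, ← hex2 ⟨0, _⟩, ← pow_add, ← pow_add]
        have h := hsym i
        rw [← Nat.cast_add, ← Nat.cast_add, ZMod.natCast_eq_natCast_iff] at h
        exact (hζeq _ _).mpr h)
    exact mem_of_form hq₀ Hf hfn x (fun d hd => exists_det_commute hn0 hr' one_ne_zero _ hz d hd)
      H hnd (mul_ne_zero (hd0 _) (hd0 _)) hh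
  refine iff_of_false (fun hall => ?_) (fun h => h.elim (fun h' => hr2 h'.1) hR)
  obtain ⟨d, z, A, B, hdz, hdp, hAB, hA, hB⟩ := exists_unique_levels (F := F) (n := n) (r := r) hr2 hn hgap hr1
    (fun ⟨h1, h2, h3⟩ => hR ⟨h2, h1.symm, hvq ▸ h3⟩)
  obtain ⟨x₀, hxd, ⟨z', hxr⟩, hxn⟩ := S5965.exists_diag_elt d hdp hdz
  have hd0 : ∀ i, d i ≠ 0 := fun i h =>
    zero_ne_one (α := F) (by rw [← hdp]; exact (Finset.prod_eq_zero (Finset.mem_univ i) h).symm)
  set x : GL (Fin n) F := Matrix.SpecialLinearGroup.toGL x₀ with hx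
  obtain ⟨T, hT, hcnt⟩ := count_twist hq₀ Hf hfn x d hd0 hxd
    (hall x (mem_specialLinear.mpr x₀.2) ⟨z', by rw [hx, ← map_pow]; exact hxr⟩ (hxn A B hAB))
  have hfix : ∀ C, (∀ j, (Finset.univ.filter fun i => d i = d j).card =
      (Finset.univ.filter fun i => d i = d C).card → d j = d C) → T (d C) = d C := by
    intro C hC
    have h0 : 0 < (Finset.univ.filter fun i => d i = T (d C)).card := by
      rw [hcnt _ (hd0 C)]; exact Finset.card_pos.mpr ⟨C, by simp⟩
    obtain ⟨l, hl⟩ := Finset.card_pos.mp h0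
    rw [Finset.mem_filter] at hl
    rw [← hl.2]
    exact hC l (by rw [hl.2, hcnt _ (hd0 C)])
  have h1 := hT (d A) (d B)
  rw [hfix A hA, hfix B hB] at h1
  have hρ : d A / d B ≠ 1 := fun e => hAB ((div_eq_one_iff_eq (hd0 B)).mp e)
  have hord : orderOf (d A / d B) = r :=
    orderOf_eq_prime (by rw [div_pow, hdz, hdz, div_self (by rw [← hdz B]; exact pow_ne_zero _ (hd0 B))]) hρ
  have h2 : (d A / d B) ^ (q₀ + 1) = 1 := by
    rw [pow_succ]
    nth_rw 2 [h1]
    rw [← mul_pow, show d A / d B * (d B / d A) = 1 by field_simp [hd0 A, hd0 B], one_pow]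
  rw [← orderOf_dvd_iff_pow_eq_one, hord] at h2
  rw [← ZMod.natCast_eq_zero_iff, Nat.cast_add, hq01, Nat.cast_one] at h2
  exact hneg1 (by linear_combination -h2)

end Cfsg.Agent.S5982
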