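import Cfsg.Statements.S5981
import Cfsg.Agent.Lib.Orth.SLSimilitude
import Cfsg.Agent.Lib.PrimeOrderElt.Rational
import Cfsg.Agent.Lib.PrimeOrderElt.Subfield
import Cfsg.Agent.Lib.Linear.QuadExt
import Cfsg.Agent.S5965
import Cfsg.Agent.S5982

set_option autoImplicit false
open scoped MatrixGroups
open Cfsg

namespace Cfsg.Agent.S5981


open Matrix Module Polynomial Cfsg.Agent.PrimeOrderElt
open QuadraticMap (polar)

variable {F : Type*} [Field F] [Fintype F] {n : ℕ}

/-- A matrix in adapted coordinates scaling a symmetric matrix gives a conjugate similitude. -/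
theorem mem_of_model (h2 : (2 : F) ≠ 0) {Q : QuadraticForm F (Fin n → F)} (hQ : Q.polarBilin.Nondegenerate)
    (x B : GL (Fin n) F) {D R : Matrix (Fin n) (Fin n) F}
    (hdet : ∀ d : F, d ≠ 0 → ∃ C : Matrix (Fin n) (Fin n) F, C.det = d ∧
      C * (x : Matrix (Fin n) (Fin n) F) = (x : Matrix (Fin n) (Fin n) F) * C)
    (hxB : (x : Matrix (Fin n) (Fin n) F) * (B : Matrix (Fin n) (Fin n) F) = (B : Matrix (Fin n) (Fin n) F) * D)
    (hR : Rᵀ = R) (hR0 : R.det ≠ 0) (hsq : IsSquare (QuadClass.disc Q * R.det)) {c : F} (hc : c ≠ 0)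
    (hD : Dᵀ * R * D = c • R) :
    ∃ g ∈ Geo.specialLinear (Fin n) F, g⁻¹ * x * g ∈ Geo.quadSimilarityGroup ⇑Q := by
  set Bi : Matrix (Fin n) (Fin n) F := ((B⁻¹ : GL (Fin n) F) : Matrix (Fin n) (Fin n) F) with hBi
  have hxi : Bi * (x : Matrix (Fin n) (Fin n) F) = D * Bi := by
    have h := congrArg (fun M => Bi * M * Bi) hxB
    simp only [hBi, mul_assoc, Units.mul_inv, mul_one] at h
    rw [← mul_assoc _ (B : Matrix (Fin n) (Fin n) F), Units.inv_mul, one_mul] at h
    exact h
  refine Orth.mem_of_gram h2 hQ x hdet (S := Biᵀ * R * Bi) ?_ ?_ ?_ hc ?_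
  · rw [Matrix.transpose_mul, Matrix.transpose_mul, Matrix.transpose_transpose, hR, mul_assoc]
  · rw [Matrix.det_mul, Matrix.det_mul, Matrix.det_transpose]
    exact mul_ne_zero (mul_ne_zero (B⁻¹).det_ne_zero hR0) (B⁻¹).det_ne_zero
  · obtain ⟨u, hu⟩ := hsq
    exact ⟨u * Bi.det, by rw [Matrix.det_mul, Matrix.det_mul, Matrix.det_transpose]; linear_combination Bi.det ^ 2 * hu⟩
  · calc (x : Matrix (Fin n) (Fin n) F)ᵀ * (Biᵀ * R * Bi) * (x : Matrix (Fin n) (Fin n) F)
        = (Bi * (x : Matrix (Fin n) (Fin n) F))ᵀ * R * (Bi * (x : Matrix (Fin n) (Fin n) F)) := by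
          simp only [Matrix.transpose_mul, mul_assoc]
      _ = Biᵀ * (Dᵀ * R * D) * Bi := by rw [hxi]; simp only [Matrix.transpose_mul, mul_assoc]
      _ = _ := by rw [hD, Matrix.mul_smul, Matrix.smul_mul]

/-- No conjugate of a transvection is a similitude. -/
theorem transvection_bad (h2 : (2 : F) ≠ 0) {Q : QuadraticForm F (Fin n → F)} (hQ : Q.polarBilin.Nondegenerate)
    (hn : 2 ≤ n) (r : ℕ) [Fact r.Prime] [CharP F r] :
    ∃ x ∈ Geo.specialLinear (Fin n) F,
      (∃ z : F, ((x ^ r : GL (Fin n) F) : Matrix (Fin n) (Fin n) F) = z • (1 : Matrix (Fin n) (Fin n) F)) ∧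
      (∀ z : F, (x : Matrix (Fin n) (Fin n) F) ≠ z • (1 : Matrix (Fin n) (Fin n) F)) ∧
      ¬ ∃ g ∈ Geo.specialLinear (Fin n) F, g⁻¹ * x * g ∈ Geo.quadSimilarityGroup ⇑Q := by
  let i0 : Fin n := ⟨0, by omega⟩
  let i1 : Fin n := ⟨1, by omega⟩
  have h01 : i0 ≠ i1 := by simp [i0, i1, Fin.ext_iff]
  set A := Matrix.transvection i0 i1 (1 : F) with hA
  have hA1 : A.det = 1 := Matrix.det_transvection_of_ne i0 i1 h01 1
  let x : GL (Fin n) F := GeneralLinearGroup.mkOfDetNeZero A (by rw [hA1]; exact one_ne_zero)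
  have hx : (x : Matrix (Fin n) (Fin n) F) = A := rfl
  have hpow : ∀ k : ℕ, A ^ k = Matrix.transvection i0 i1 (k : F) := by
    intro k
    induction k with
    | zero => simp
    | succ k ih => rw [pow_succ, ih, hA, Matrix.transvection_mul_transvection_same i0 i1 h01, Nat.cast_succ]
  have hxr : x ^ r = 1 := Units.ext (by
    rw [Units.val_pow_eq_pow_val, hx, hpow, CharP.cast_eq_zero, Matrix.transvection_zero, Units.val_one])
  refine ⟨x, Orth.mem_specialLinear_iff.2 (hx ▸ hA1), ⟨1, by rw [hxr, one_smul, Units.val_one]⟩, fun z hz => ?_, ?_⟩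
  · have := congrFun (congrFun hz i0) i1
    simp [hx, hA, Matrix.transvection, h01] at this
  rintro ⟨g, -, c, hc⟩
  set y : GL (Fin n) F := g⁻¹ * x * g with hy
  have hyr : y ^ r = 1 := by
    rw [hy, show (g⁻¹ * x * g) ^ r = g⁻¹ * x ^ r * g from by simpa using conj_pow (a := g⁻¹) (b := x) (i := r),
      hxr]; group
  -- the multiplier is one
  have hit : ∀ k : ℕ, ∀ v, Q (((y ^ k : GL (Fin n) F) : Matrix (Fin n) (Fin n) F) *ᵥ v) = (c : F) ^ k * Q v := by
    intro k
    induction k with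
    | zero => intro v; simp
    | succ k ih => intro v; rw [pow_succ, Units.val_mul, ← Matrix.mulVec_mulVec, ih, hc, pow_succ]; ring
  obtain ⟨w, hw⟩ : ∃ w, Q w ≠ 0 := by
    by_contra h
    push Not at h
    have : (Pi.single i0 1 : Fin n → F) = 0 := hQ.1 _ fun v => by
      rw [QuadraticMap.polarBilin_apply_apply, polar, h, h, h]; ring
    simpa using congrFun this i0
  have hcr : (c : F) ^ r = 1 := by
    have h := hit r w
    rw [hyr, Units.val_one, Matrix.one_mulVec] at h
    exact mul_right_cancel₀ hw (h.symm.trans (one_mul _).symm)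
  have hc1 : (c : F) = 1 := by
    have h : ((c : F) - 1) ^ r = 0 := by rw [sub_pow_char, hcr, one_pow, sub_self]
    exact sub_eq_zero.1 (eq_zero_of_pow_eq_zero h)
  -- rank one
  set a : Fin n → F := ((g⁻¹ : GL (Fin n) F) : Matrix (Fin n) (Fin n) F) *ᵥ Pi.single i0 1 with ha
  let φ : (Fin n → F) → F := fun v => ((g : Matrix (Fin n) (Fin n) F) *ᵥ v) i1
  have hyv : ∀ v, (y : Matrix (Fin n) (Fin n) F) *ᵥ v = v + φ v • a := fun v => by
    have e : A *ᵥ ((g : Matrix (Fin n) (Fin n) F) *ᵥ v) = (g : Matrix (Fin n) (Fin n) F) *ᵥ v + φ v • Pi.single i0 1 := by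
      rw [hA, Matrix.transvection, Matrix.add_mulVec, Matrix.one_mulVec, Matrix.single_mulVec]
      funext j
      by_cases hj : j = i0 <;> simp [φ, hj, Pi.single_apply]
    rw [hy, Units.val_mul, Units.val_mul, ← Matrix.mulVec_mulVec, ← Matrix.mulVec_mulVec, hx, e,
      Matrix.mulVec_add, Matrix.mulVec_smul, Matrix.mulVec_mulVec, Units.inv_mul, Matrix.one_mulVec]
  have hpol : ∀ u v, polar ⇑Q (u + φ u • a) (v + φ v • a) = polar ⇑Q u v := fun u v => by
    rw [← hyv, ← hyv, polar, polar, ← Matrix.mulVec_add, hc, hc, hc, hc1]; ring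
  have hbl : ∀ u v s t, polar ⇑Q (u + s • a) (v + t • a) =
      polar ⇑Q u v + t * polar ⇑Q u a + s * polar ⇑Q a v + s * t * polar ⇑Q a a := fun u v s t => by
    simp only [QuadraticMap.polar_add_left, QuadraticMap.polar_add_right, QuadraticMap.polar_smul_left,
      QuadraticMap.polar_smul_right, smul_eq_mul]
    ring
  have key : ∀ u v, φ v * polar ⇑Q u a + φ u * polar ⇑Q a v + φ u * φ v * polar ⇑Q a a = 0 := fun u v => by
    linear_combination hpol u v - hbl u v (φ u) (φ v)
  have hga : (g : Matrix (Fin n) (Fin n) F) *ᵥ a = Pi.single i0 1 := by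
    rw [ha, Matrix.mulVec_mulVec, Units.mul_inv, Matrix.one_mulVec]
  have hφa : φ a = 0 := by simp [φ, hga, h01.symm]
  set u1 : Fin n → F := ((g⁻¹ : GL (Fin n) F) : Matrix (Fin n) (Fin n) F) *ᵥ Pi.single i1 1 with hu1
  have hgu : (g : Matrix (Fin n) (Fin n) F) *ᵥ u1 = Pi.single i1 1 := by
    rw [hu1, Matrix.mulVec_mulVec, Units.mul_inv, Matrix.one_mulVec]
  have hφu : φ u1 = 1 := by simp [φ, hgu]
  have haa : polar ⇑Q a a = 0 := by
    have := key u1 a
    rw [hφa, hφu] at this
    linear_combination this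
  have hau : polar ⇑Q a u1 = 0 := by
    have := key u1 u1
    rw [hφu, haa, QuadraticMap.polar_comm ⇑Q u1 a] at this
    exact (mul_eq_zero.1 (show (2 : F) * polar ⇑Q a u1 = 0 by linear_combination this)).resolve_left h2
  have ha0 : a = 0 := hQ.1 a fun v => by
    rw [QuadraticMap.polarBilin_apply_apply]
    have := key u1 v
    rw [hφu, haa, QuadraticMap.polar_comm ⇑Q u1 a, hau] at this
    linear_combination this
  rw [ha0, Matrix.mulVec_zero] at hga
  simpa using congrFun hga i0

/-- Semisimple elements of prime order with too few fixed vectors. -/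
theorem orbit_bad (h2 : (2 : F) ≠ 0) {Q : QuadraticForm F (Fin n → F)} (hQ : Q.polarBilin.Nondegenerate)
    (hn : 3 ≤ n) {r p : ℕ} [Fact r.Prime] [Fact p.Prime] [CharP F p] (hrp : r ≠ p) (hr2 : r ≠ 2)
    (he2 : 2 ≤ orderOf (Fintype.card F : ZMod r))
    (hcase : (∃ j, Odd j ∧ j ≤ n ∧ r ∣ Fintype.card F ^ j - 1) ∨
      (r ∣ Fintype.card F ^ n - 1 ∧ ¬ r ∣ Nat.card {v : Fin n → F // Q v = 0} - 1)) :
    ∃ x ∈ Geo.specialLinear (Fin n) F,
      (∃ z : F, ((x ^ r : GL (Fin n) F) : Matrix (Fin n) (Fin n) F) = z • (1 : Matrix (Fin n) (Fin n) F)) ∧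
      (∀ z : F, (x : Matrix (Fin n) (Fin n) F) ≠ z • (1 : Matrix (Fin n) (Fin n) F)) ∧
      ¬ ∃ g ∈ Geo.specialLinear (Fin n) F, g⁻¹ * x * g ∈ Geo.quadSimilarityGroup ⇑Q := by
  classical
  have hr : (r : F) ≠ 0 := natCast_ne_zero_of_ne hrp
  set e := orderOf (Fintype.card F : ZMod r) with he
  have hdiv : ∀ j, r ∣ Fintype.card F ^ j - 1 → e ∣ j := fun j h => (dvd_pow_sub_one_iff j).mp h
  obtain ⟨s, hs, hsn, hgoal⟩ : ∃ s, 0 < s ∧ s * e ≤ n ∧
      ((Odd e ∧ s = 1) ∨ (s * e = n ∧ ¬ r ∣ Nat.card {v : Fin n → F // Q v = 0} - 1)) := by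
    rcases hcase with ⟨j, hj, hjn, hd⟩ | ⟨hd, hz⟩
    · have hej := hdiv j hd
      exact ⟨1, one_pos, by rw [one_mul]; exact (Nat.le_of_dvd hj.pos hej).trans hjn,
        .inl ⟨hj.of_dvd_nat hej, rfl⟩⟩
    · obtain ⟨s, hs⟩ := hdiv n hd
      exact ⟨s, Nat.pos_of_ne_zero (by rintro rfl; omega), by rw [mul_comm, ← hs], .inr ⟨by rw [mul_comm, ← hs], hz⟩⟩
  obtain ⟨x₀, hxr, hxf, hxn⟩ := exists_type (F := F) (n := n) (r := r) (p := p) s hs he2 hsn
  set x : GL (Fin n) F := Matrix.SpecialLinearGroup.toGL x₀ with hxdef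
  have hxv : (x : Matrix (Fin n) (Fin n) F) = (x₀ : Matrix (Fin n) (Fin n) F) := rfl
  have hx1 : x ^ r = 1 := by
    have := (pow_eq_smul_iff x₀ r 1).mpr (by rw [one_smul]; exact hxr)
    rw [Matrix.SpecialLinearGroup.coe_pow, one_smul] at this
    exact Units.ext (by rw [Units.val_pow_eq_pow_val, hxv, this, Units.val_one])
  refine ⟨x, Orth.mem_specialLinear_iff.mpr x₀.2, ⟨1, by rw [hx1, one_smul, Units.val_one]⟩, hxn, ?_⟩
  rintro ⟨g, -, c, hc⟩
  set y : GL (Fin n) F := g⁻¹ * x * g with hy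
  have hyr : y ^ r = 1 := by
    rw [hy, show (g⁻¹ * x * g) ^ r = g⁻¹ * x ^ r * g from by simpa using conj_pow (a := g⁻¹) (b := x) (i := r),
      hx1]; group
  set T : Module.End F (Fin n → F) := Matrix.toLin' (y : Matrix (Fin n) (Fin n) F) with hT
  have hTr : T ^ r = 1 := by
    rw [hT, ← pow_toLin', ← Units.val_pow_eq_pow_val, hyr]
    exact Matrix.toLin'_one
  have hit : ∀ k : ℕ, ∀ v, Q ((T ^ k) v) = (c : F) ^ k * Q v := by
    intro k
    induction k with
    | zero => intro v; simp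
    | succ k ih => intro v; rw [pow_succ, Module.End.mul_apply, ih, hT, Matrix.toLin'_apply, hc, pow_succ]; ring
  have hc1 : (c : F) = 1 := by
    obtain ⟨w, hw⟩ : ∃ w, Q w ≠ 0 := by
      by_contra h
      push Not at h
      have : (Pi.single (⟨0, by omega⟩ : Fin n) 1 : Fin n → F) = 0 := hQ.1 _ fun v => by
        rw [QuadraticMap.polarBilin_apply_apply, polar, h, h, h]; ring
      simpa using congrFun this ⟨0, by omega⟩
    have hcr : (c : F) ^ r = 1 := by
      have h := hit r w
      rw [hTr, Module.End.one_apply] at h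
      exact mul_right_cancel₀ hw (h.symm.trans (one_mul _).symm)
    by_contra hne
    have hord : orderOf c = r := by rw [← orderOf_units]; exact orderOf_eq_prime hcr hne
    have h1 : r ∣ Fintype.card F - 1 := by rw [← Fintype.card_units, ← hord]; exact orderOf_dvd_card
    rw [← orderOf_card_eq_one_iff, ← he] at h1
    omega
  have hTQ : ∀ v, Q (T v) = Q v := fun v => by simpa [hc1] using hit 1 v
  -- dimension of the fixed space
  have hfd : finrank F (fix T) = n - s * e := by
    rw [← hxf]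
    have hmap : fix T = (fix (Matrix.toLin' (x₀ : Matrix (Fin n) (Fin n) F) : Module.End F (Fin n → F))).map
        (Forms.glLinEquiv g⁻¹ : (Fin n → F) →ₗ[F] (Fin n → F)) := by
      ext v
      rw [mem_fix, Submodule.mem_map]
      constructor
      · intro hv
        refine ⟨(g : Matrix (Fin n) (Fin n) F) *ᵥ v, mem_fix.2 ?_, ?_⟩
        · rw [Matrix.toLin'_apply, ← hxv, Matrix.mulVec_mulVec, ← Units.val_mul,
            show x * g = g * y by rw [hy]; group, Units.val_mul, ← Matrix.mulVec_mulVec]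
          rw [hT, Matrix.toLin'_apply] at hv
          rw [hv]
        · show Forms.glLinEquiv g⁻¹ _ = v
          rw [Forms.glLinEquiv_apply, Matrix.mulVec_mulVec, Units.inv_mul, Matrix.one_mulVec]
      · rintro ⟨w, hw, rfl⟩
        rw [mem_fix, Matrix.toLin'_apply, ← hxv] at hw
        show T (Forms.glLinEquiv g⁻¹ w) = Forms.glLinEquiv g⁻¹ w
        rw [hT, Matrix.toLin'_apply, Forms.glLinEquiv_apply, Matrix.mulVec_mulVec, ← Units.val_mul,
          show y * g⁻¹ = g⁻¹ * x by rw [hy]; group, Units.val_mul, ← Matrix.mulVec_mulVec, hw]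
    rw [hmap, LinearEquiv.finrank_map_eq]
  rcases hgoal with ⟨hodd, rfl⟩ | ⟨hse, hz⟩
  swap
  · refine hz (Orth.dvd_zeros_sub_one Q T hTQ hTr fun v hv => ?_)
    rw [hse, Nat.sub_self, Submodule.finrank_eq_zero] at hfd
    have : v ∈ fix T := mem_fix.2 hv
    rwa [hfd, Submodule.mem_bot] at this
  -- the moved space
  have hpol : ∀ u v, polar ⇑Q (T u) (T v) = polar ⇑Q u v := fun u v => by
    rw [polar, polar, ← map_add, hTQ, hTQ, hTQ]
  set W : Submodule F (Fin n → F) := LinearMap.range (T - 1) with hW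
  have hnofix : ∀ w ∈ W, T w = w → w = 0 := by
    rintro _ ⟨u, rfl⟩ hu
    set w := (T - 1) u with hwdef
    have hk : ∀ k : ℕ, (T ^ k) u = u + (k : F) • w := by
      intro k
      induction k with
      | zero => simp
      | succ k ih =>
        rw [pow_succ', Module.End.mul_apply, ih, map_add, map_smul, hu, Nat.cast_succ, add_smul, one_smul, hwdef,
          LinearMap.sub_apply, Module.End.one_apply]
        abel
    have h := hk r
    rw [hTr, Module.End.one_apply, left_eq_add, smul_eq_zero] at h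
    exact h.resolve_left hr
  have hWinv : ∀ w ∈ W, T w ∈ W := by
    rintro _ ⟨u, rfl⟩
    exact ⟨T u, by simp⟩
  have hWd : finrank F W = e := by
    have h1 := LinearMap.finrank_range_add_finrank_ker (T - 1)
    rw [show LinearMap.ker (T - 1) = fix T by ext v; simp [mem_fix, sub_eq_zero], hfd, one_mul,
      Module.finrank_fin_fun] at h1
    rw [hW]; omega
  set QW : QuadraticForm F W := Q.comp W.subtype with hQW
  have hQWnd : (QuadraticMap.polarBilin QW).Nondegenerate := by
    refine (Forms.nondegenerate_polarBilin_iff _).2 fun w hw => Subtype.ext ?_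
    refine hnofix w w.2 ?_
    refine sub_eq_zero.1 (hQ.1 _ fun v => ?_)
    rw [QuadraticMap.polarBilin_apply_apply]
    obtain ⟨u, rfl⟩ : ∃ u, T u = v := ⟨(T ^ (r - 1)) v, by
      rw [← Module.End.mul_apply, ← pow_succ', Nat.sub_add_cancel (Fact.out : r.Prime).one_lt.le, hTr,
        Module.End.one_apply]⟩
    have h : polar ⇑Q (w : Fin n → F) ((T - 1) u) = 0 := hw ⟨(T - 1) u, ⟨u, rfl⟩⟩
    rw [LinearMap.sub_apply, Module.End.one_apply, sub_eq_add_neg, QuadraticMap.polar_add_right,
      QuadraticMap.polar_neg_right] at h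
    rw [sub_eq_add_neg, QuadraticMap.polar_add_left, QuadraticMap.polar_neg_left, hpol]
    linear_combination -h
  obtain ⟨k, hk⟩ := hodd
  obtain ⟨-, c', f, hc', hf⟩ := Forms.classify_odd QW hQWnd (hWd.trans hk)
  have h := Orth.dvd_zeros_sub_one QW (T.restrict hWinv) (fun v => hTQ _) (by
      refine LinearMap.ext fun v => Subtype.ext ?_
      have hres : ∀ j : ℕ, (((T.restrict hWinv) ^ j) v : Fin n → F) = (T ^ j) v := by
        intro j
        induction j with
        | zero => simp
        | succ j ih => rw [pow_succ', pow_succ', Module.End.mul_apply, Module.End.mul_apply, LinearMap.coe_restrict_apply, ih]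
      rw [hres, hTr]
      rfl) (fun v hv => Subtype.ext (hnofix v v.2 (congrArg Subtype.val hv)))
  rw [Forms.card_zeros_congr (⇑(Forms.qfOdd k F)) (⇑QW) f c' hc' hf, Forms.card_zeros_qfOdd,
    Nat.card_eq_fintype_card] at h
  have := hdiv _ h
  have h1 : e ∣ 1 := by
    have h' : e ∣ 2 * k + 1 := by rw [← hk]
    exact (Nat.dvd_add_right this).1 h'
  rw [Nat.dvd_one] at h1
  omega

/-- Multiplicities of eigenvalues of a similitude. -/
theorem count_twist [DecidableEq F] {Q : QuadraticForm F (Fin n → F)} (hQ : Q.polarBilin.Nondegenerate)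
    (x : GL (Fin n) F) (d : Fin n → F) (hd : ∀ i, d i ≠ 0)
    (hxd : (x : Matrix (Fin n) (Fin n) F) = Matrix.diagonal d)
    (h : ∃ g ∈ Geo.specialLinear (Fin n) F, g⁻¹ * x * g ∈ Geo.quadSimilarityGroup ⇑Q) :
    ∃ c : F, ∀ t, t ≠ 0 → (Finset.univ.filter fun i => d i = c / t).card =
      (Finset.univ.filter fun i => d i = t).card := by
  obtain ⟨g, -, c, hc⟩ := h
  refine ⟨c, fun t ht => ?_⟩
  have h1 := Orth.charpoly_twist hQ hc
  have hxi : ((x⁻¹ : GL (Fin n) F) : Matrix (Fin n) (Fin n) F) = Matrix.diagonal fun i => (d i)⁻¹ := by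
    refine Units.inv_eq_of_mul_eq_one_left ?_
    rw [hxd, Matrix.diagonal_mul_diagonal, ← Matrix.diagonal_one]
    exact congrArg _ (funext fun i => inv_mul_cancel₀ (hd i))
  rw [show (g⁻¹ * x * g)⁻¹ = g⁻¹ * x⁻¹ * g by group, Units.val_mul, Units.val_mul, Units.val_mul, Units.val_mul,
    show ((g⁻¹ : GL (Fin n) F) : Matrix (Fin n) (Fin n) F) = (g : Matrix (Fin n) (Fin n) F)⁻¹ from
      Matrix.coe_units_inv g, ← Matrix.smul_mul, ← Matrix.mul_smul, Matrix.charpoly_units_conj',
    Matrix.charpoly_units_conj', hxd, hxi, ← Matrix.diagonal_smul, Matrix.charpoly_diagonal,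
    Matrix.charpoly_diagonal] at h1
  have hms : (Finset.univ.val.map fun i => d i) = Finset.univ.val.map fun i => (c : F) / d i := by
    have := congrArg Polynomial.roots h1
    rw [Finset.prod_eq_multiset_prod, Finset.prod_eq_multiset_prod] at this
    rw [show (Finset.univ.val.map fun i => X - C (d i)) =
        (Finset.univ.val.map fun i => d i).map (fun a => X - C a) by rw [Multiset.map_map]; rfl,
      show (Finset.univ.val.map fun i => X - C (((c : F) • fun i => (d i)⁻¹) i)) =
        (Finset.univ.val.map fun i => (c : F) / d i).map (fun a => X - C a) by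
          rw [Multiset.map_map]; simp [div_eq_mul_inv],
      roots_multiset_prod_X_sub_C, roots_multiset_prod_X_sub_C] at this
    exact this
  have hcnt := congrArg (Multiset.count t) hms
  rw [Multiset.count_map, Multiset.count_map] at hcnt
  change (Finset.univ.filter fun i => t = d i).card = (Finset.univ.filter fun i => t = (c : F) / d i).card at hcnt
  rw [Finset.filter_congr (q := fun i => d i = t) (fun i _ => eq_comm),
    Finset.filter_congr (p := fun i => t = (c : F) / d i) (q := fun i => d i = (c : F) / t) (fun i _ => by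
      rw [eq_div_iff (hd i), eq_div_iff ht, mul_comm])] at hcnt
  exact hcnt.symm

/-- Elements of prime order of PSL_n(q), q odd, and the subgroups of orthogonal type. Here `T = PSL_n(F)` for a field `F` with `q` elements, `q` odd, `n ≥ 3`; `Q` is a non-degenerate quadratic form on `F^n` (of either type when `n` is even) and `H` is the subgroup of matrices of determinant 1 that preserve `Q` up to a scalar — a subgroup of type O^ε_n(q) (maximality is not assumed); Ω is the set of cosets of `H` in `T`, so an element of `T` of prime order `r` (a matrix `x` of determinant 1 with `x^r` scalar, `x` not scalar) fixes a point of Ω exactly when some conjugate of `x` by a matrix of determinant 1 preserves `Q` up to a scalar. Let `r` be a prime dividing the index of `H`, with `(n, r) ≠ (6, 3)`. Then every element of `T` of order `r` fixes a point of Ω if and only if `r = 2`, or `r ∈ {3, 5}`, `n = r` and `(q − 1)_r = r` (the `r`-part of `q − 1` is exactly `r`). The case `(n, r) = (6,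 3)` is not covered by this statement. -/
theorem result {F : Type*} [Field F] [Fintype F] {p : ℕ} [Fact p.Prime] [CharP F p] {q : ℕ} (hq : Fintype.card F = q)
    (hodd : Odd q) (n : ℕ) (hn : 3 ≤ n) (Q : (Fin n → F) → F) (hQ : Cfsg.Geo.IsNondegenerateQuadraticForm Q)
    (r : ℕ) [Fact r.Prime] (hgap : ¬ (n = 6 ∧ r = 3))
    (hΩ : r ∣ (Cfsg.Geo.quadSimilarityGroup Q).relIndex (Cfsg.Geo.specialLinear (Fin n) F)) :
    (∀ x ∈ Cfsg.Geo.specialLinear (Fin n) F, (∃ z : F, ((x ^ r : GL (Fin n) F) : Matrix (Fin n) (Fin n) F) = z • (1 : Matrix (Fin n) (Fin n) F)) →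
      (∀ z : F, (x : Matrix (Fin n) (Fin n) F) ≠ z • (1 : Matrix (Fin n) (Fin n) F)) →
      ∃ g ∈ Cfsg.Geo.specialLinear (Fin n) F, g⁻¹ * x * g ∈ Cfsg.Geo.quadSimilarityGroup Q) ↔
    (r = 2 ∨ ((r = 3 ∨ r = 5) ∧ n = r ∧ padicValNat r (q - 1) = 1)) := by
  classical
  subst hq
  have hrP : r.Prime := Fact.out
  have hn0 : 0 < n := by omega
  haveI : Nonempty (Fin n) := ⟨⟨0, hn0⟩⟩
  have h2 : (2 : F) ≠ 0 := fun h2 => by
    have hc : ringChar F = 2 := CharP.ringChar_of_prime_eq_zero Nat.prime_two (by exact_mod_cast h2)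
    have := (FiniteField.even_card_iff_char_two).1 hc
    rw [Nat.odd_iff] at hodd
    omega
  have hq2 : 2 ≤ Fintype.card F := Fintype.one_lt_card
  have hq1 : Fintype.card F - 1 ≠ 0 := by omega
  set Qf := Orth.ofND hQ with hQf
  have hnd : Qf.polarBilin.Nondegenerate := Orth.ofND_nondeg hQ
  have hQeq : Cfsg.Geo.quadSimilarityGroup Q = Cfsg.Geo.quadSimilarityGroup ⇑Qf := rfl
  rw [hQeq] at hΩ ⊢
  set S := Cfsg.Geo.specialLinear (Fin n) F with hS
  have hz0 : ∀ x ∈ S, ∀ z : F, ((x ^ r : GL (Fin n) F) : Matrix (Fin n) (Fin n) F) = z • 1 → z ≠ 0 := by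
    intro x hx z hz h0
    rw [h0, zero_smul] at hz
    exact Units.ne_zero (x ^ r) hz
  have hsl : ∀ x ∈ S, ∀ z : F, ((x ^ r : GL (Fin n) F) : Matrix (Fin n) (Fin n) F) = z • 1 →
      ∃ x' : Matrix.SpecialLinearGroup (Fin n) F, (x' : Matrix (Fin n) (Fin n) F) = x ∧
        (Matrix.toLin' (x' : Matrix (Fin n) (Fin n) F) : Module.End F (Fin n → F)) ^ r =
          z • (1 : Module.End F (Fin n → F)) := by
    intro x hx z hz
    let x' : Matrix.SpecialLinearGroup (Fin n) F := ⟨x, Orth.mem_specialLinear_iff.mp hx⟩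
    have hx'v : (x' : Matrix (Fin n) (Fin n) F) = x := rfl
    refine ⟨x', hx'v, (pow_eq_smul_iff _ r z).mp ?_⟩
    rw [Matrix.SpecialLinearGroup.coe_pow, hx'v]
    rw [Units.val_pow_eq_pow_val] at hz
    exact hz
  have hδ : QuadClass.disc Qf ≠ 0 := QuadClass.disc_ne_zero Qf hnd
  set δ := QuadClass.disc Qf with hδdef
  by_cases hr2 : r = 2
  · -- involutions always fix a point
    subst hr2
    refine iff_of_true (fun x hxS hxr hns => ?_) (Or.inl rfl)
    obtain ⟨z, hz⟩ := hxr
    have hzne : z ≠ 0 := hz0 x hxS z hz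
    have hr : ((2 : ℕ) : F) ≠ 0 := by exact_mod_cast h2
    have h21 : 2 ∣ Fintype.card F - 1 := by rw [Nat.odd_iff] at hodd; omega
    rw [Units.val_pow_eq_pow_val] at hz
    have hdet := fun d hd => exists_det_commute hn0 hr hzne (x : Matrix (Fin n) (Fin n) F) hz d hd
    by_cases hsq : IsSquare z
    · obtain ⟨w, rfl⟩ := hsq
      have hw0 : w ≠ 0 := (mul_ne_zero_iff.1 hzne).1
      obtain ⟨B, d, hB, hd, hBd⟩ := exists_diag (r := 2) h21 hr (w⁻¹ • (x : Matrix (Fin n) (Fin n) F)) (by
        rw [← pow_toLin', _root_.smul_pow, hz, smul_smul, inv_pow, pow_two, inv_mul_cancel₀ hzne, one_smul]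
        exact Matrix.toLin'_one)
      set i0 : Fin n := ⟨0, hn0⟩
      let a : Fin n → F := Function.update 1 i0 δ
      have ha : ∏ i, a i = δ := by
        rw [Finset.prod_eq_single i0 (fun i _ hi => by simp [a, hi]) (by simp)]
        simp [a]
      refine mem_of_model h2 hnd x (GeneralLinearGroup.mkOfDetNeZero B hB)
        (D := w • Matrix.diagonal d) (R := Matrix.diagonal a) hdet ?_ (Matrix.diagonal_transpose a) ?_ ?_ hzne ?_
      · show (x : Matrix (Fin n) (Fin n) F) * B = B * _
        rw [Matrix.mul_smul, ← hBd, Matrix.smul_mul, smul_smul, mul_inv_cancel₀ hw0, one_smul]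
      · rw [Matrix.det_diagonal, ha]; exact hδ
      · rw [Matrix.det_diagonal, ha]; exact ⟨δ, rfl⟩
      · rw [Matrix.transpose_smul, Matrix.diagonal_transpose, Matrix.smul_mul, Matrix.mul_smul, Matrix.smul_mul,
          Matrix.diagonal_mul_diagonal, Matrix.diagonal_mul_diagonal, smul_smul]
        congr 1
        refine congrArg Matrix.diagonal (funext fun i => ?_)
        have := hd i
        rw [pow_two] at this
        linear_combination a i * this
    · have hno : ∀ c : F, c * c ≠ 0 * c + z := fun c hc => hsq ⟨c, by linear_combination -hc⟩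
      obtain ⟨hev, hpairs⟩ := Linear.exists_pairs (x : Matrix (Fin n) (Fin n) F) 0 z
        (by rw [zero_smul, zero_add, ← pow_two, hz]) hno
      obtain ⟨m, hm⟩ := hev
      let e : Fin 2 × Fin m ≃ Fin n := finProdFinEquiv.trans (finCongr (by omega))
      obtain ⟨P, hP⟩ := hpairs m e
      have hm0 : 0 < m := by omega
      obtain ⟨u, v, huv⟩ := Linear.exists_norm_eq 0 z (-(δ * (-1) ^ (m - 1))) hno
      let M : Fin m → Matrix (Fin 2) (Fin 2) F :=
        fun i => if i = ⟨0, hm0⟩ then !![v, u; u, z * v] else !![0, 1; 1, 0]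
      have hMd : ∏ i, (M i).det = δ * ((-1) ^ (m - 1) * (-1) ^ (m - 1)) := by
        rw [← Finset.mul_prod_erase _ _ (Finset.mem_univ (⟨0, hm0⟩ : Fin m)),
          Finset.prod_congr rfl (fun i hi => by
            rw [show M i = !![0, 1; 1, 0] from if_neg (Finset.ne_of_mem_erase hi)]), Finset.prod_const,
          Finset.card_erase_of_mem (Finset.mem_univ _), Finset.card_univ, Fintype.card_fin,
          show M ⟨0, hm0⟩ = !![v, u; u, z * v] from if_pos rfl, Matrix.det_fin_two, Matrix.det_fin_two]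
        simp only [Matrix.of_apply, Matrix.cons_val', Matrix.cons_val_zero, Matrix.cons_val_one,
          Matrix.empty_val', Matrix.cons_val_fin_one, zero_mul, one_mul, zero_sub]
        linear_combination (-(-1 : F) ^ (m - 1)) * huv
      have hRd : (Matrix.reindexAlgEquiv F F e (Matrix.blockDiagonal M)).det = δ := by
        rw [Matrix.det_reindexAlgEquiv, Matrix.det_blockDiagonal, hMd, ← mul_pow, neg_one_mul, neg_neg, one_pow,
          mul_one]
      refine mem_of_model h2 hnd x P (D := Matrix.reindexAlgEquiv F F e (Matrix.blockDiagonal fun _ => Linear.comp2 0 z))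
        (R := Matrix.reindexAlgEquiv F F e (Matrix.blockDiagonal M)) hdet ?_ ?_ (by rw [hRd]; exact hδ)
        (by rw [hRd]; exact ⟨δ, rfl⟩) hzne ?_
      · rw [hP]
        show _ * _ * ((P⁻¹ : GL (Fin n) F) : Matrix (Fin n) (Fin n) F) * (P : Matrix (Fin n) (Fin n) F) = _
        rw [mul_assoc, Units.inv_mul, mul_one]
      · rw [Matrix.reindexAlgEquiv_apply, Matrix.transpose_reindex, Matrix.blockDiagonal_transpose]
        congr 2
        funext i
        show (M i)ᵀ = M i
        simp only [M]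
        split_ifs <;> ext a b <;> fin_cases a <;> fin_cases b <;> rfl
      · have ht : (Matrix.reindexAlgEquiv F F e (Matrix.blockDiagonal fun _ => Linear.comp2 0 z))ᵀ =
            Matrix.reindexAlgEquiv F F e (Matrix.blockDiagonal fun _ => (Linear.comp2 0 z)ᵀ) := by
          rw [Matrix.reindexAlgEquiv_apply, Matrix.reindexAlgEquiv_apply, Matrix.transpose_reindex,
            Matrix.blockDiagonal_transpose]
        rw [ht, ← map_mul, ← map_mul, ← map_smul, ← Matrix.blockDiagonal_mul, ← Matrix.blockDiagonal_mul,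
          ← Matrix.blockDiagonal_smul]
        congr 2
        funext i
        show (Linear.comp2 0 z)ᵀ * M i * Linear.comp2 0 z = z • M i
        simp only [M]
        split_ifs <;> ext a b <;> fin_cases a <;> fin_cases b <;>
          simp [Linear.comp2, Matrix.mul_apply, Fin.sum_univ_two] <;> ring
  have hr3 : 3 ≤ r := by have := hrP.two_le; omega
  by_cases hrp : r = p
  · -- unipotent elements
    subst hrp
    refine iff_of_false (fun hall => ?_) ?_
    · obtain ⟨x, hxS, hx, hxn, hbad⟩ := transvection_bad h2 hnd (by omega) r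
      exact hbad (hall x hxS hx hxn)
    · rintro (h | ⟨-, -, hv⟩)
      · exact hr2 h
      · have hd : r ∣ Fintype.card F - 1 := dvd_of_one_le_padicValNat hv.ge
        obtain ⟨k, hk, hcard⟩ := FiniteField.card F r
        have h' : r ∣ Fintype.card F := by rw [hcard]; exact dvd_pow_self r k.ne_zero
        have h1 : r ∣ 1 := by
          have := Nat.dvd_sub h' hd
          rwa [show Fintype.card F - (Fintype.card F - 1) = 1 by omega] at this
        rw [Nat.dvd_one] at h1
        omega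
  have hr' : (r : F) ≠ 0 := natCast_ne_zero_of_ne hrp
  have hqr0 : (Fintype.card F : ZMod r) ≠ 0 := natCast_ne_zero hr'
  by_cases he1 : orderOf (Fintype.card F : ZMod r) = 1
  swap
  · have hepos := orderOf_card_pos (F := F) hr'
    refine iff_of_false (fun hall => ?_) ?_
    · obtain ⟨x, hxS, hx, hxn, hbad⟩ := orbit_bad (p := p) h2 hnd hn hrp hr2 (by omega)
        (Orth.index_cases h2 hn hnd hr2 (fun h => hqr0 ((ZMod.natCast_eq_zero_iff _ _).2 h))
          (fun h => he1 (orderOf_card_eq_one_iff.2 h)) hΩ)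
      exact hbad (hall x hxS hx hxn)
    · rintro (h | ⟨-, -, hv⟩)
      · exact hr2 h
      · exact he1 (orderOf_card_eq_one_iff.2 (dvd_of_one_le_padicValNat hv.ge))
  have hr1 : r ∣ Fintype.card F - 1 := orderOf_card_eq_one_iff.mp he1
  obtain ⟨u, hu⟩ := exists_prime_orderOf_dvd_card (G := Fˣ) r (by rw [Fintype.card_units]; exact hr1)
  set ζ : F := (u : F) with hζdef
  have hζo : orderOf ζ = r := by rw [hζdef, orderOf_units, hu]
  have hζiff : ∀ m : ℕ, ζ ^ m = 1 ↔ r ∣ m := fun m => by rw [← hζo]; exact orderOf_dvd_iff_pow_eq_one.symm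
  have hζeq : ∀ m l : ℕ, ζ ^ m = ζ ^ l ↔ m ≡ l [MOD r] := fun m l => by
    rw [hζdef, ← Units.val_pow_eq_pow_val, ← Units.val_pow_eq_pow_val, Units.val_inj, pow_eq_pow_iff_modEq, hu]
  by_cases hR : (r = 3 ∨ r = 5) ∧ n = r ∧ padicValNat r (Fintype.card F - 1) = 1
  · refine iff_of_true (fun x hxS hxr hns => ?_) (Or.inr hR)
    obtain ⟨h35, hnr, hv1⟩ := hR
    obtain ⟨z, hz⟩ := hxr
    obtain ⟨x', hx'v, hx'⟩ := hsl x hxS z hz
    obtain ⟨w, hw⟩ : ∃ w, w ^ r = z := by
      by_contra hne
      push Not at hne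
      exact (no_nonpower_iff (by omega) hr1).mpr
        ⟨by rw [hv1, hnr, padicValNat_self], fun h => absurd h hr2⟩ x' z hne hx'
    have hw0 : w ≠ 0 := fun h => hz0 x hxS z hz (by rw [← hw, h, zero_pow hrP.ne_zero])
    have hw1 : w ^ r = 1 := by
      have h := congrArg Matrix.det hz
      rw [Units.val_pow_eq_pow_val, Matrix.det_pow, Orth.mem_specialLinear_iff.mp hxS, one_pow, Matrix.det_smul,
        Matrix.det_one, mul_one, Fintype.card_fin, hnr, ← hw, ← pow_mul] at h
      have hd1 : orderOf (Units.mk0 w hw0) ∣ r ^ 2 := by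
        rw [orderOf_dvd_iff_pow_eq_one, pow_two]
        exact Units.ext (by rw [Units.val_pow_eq_pow_val, Units.val_mk0, ← h, Units.val_one])
      obtain ⟨i, hi, hi'⟩ := (Nat.dvd_prime_pow hrP).mp hd1
      have hd2 : r ^ i ∣ Fintype.card F - 1 := by rw [← hi', ← Fintype.card_units]; exact orderOf_dvd_card
      have hi1 : i ≤ 1 := by
        have := (padicValNat_dvd_iff_le hq1).mp hd2
        omega
      have h2 : orderOf (Units.mk0 w hw0) ∣ r := hi' ▸ (pow_dvd_pow r hi1).trans (pow_one r).dvd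
      exact congrArg Units.val (orderOf_dvd_iff_pow_eq_one.mp h2)
    rw [Units.val_pow_eq_pow_val, ← hw, hw1] at hz
    obtain ⟨B, d, hB, hd, hBd⟩ := exists_diag (r := r) hr1 hr' (x : Matrix (Fin n) (Fin n) F) (by
      rw [← pow_toLin', hz, one_smul]; exact Matrix.toLin'_one)
    have hdprod : ∏ i, d i = 1 := by
      have h := congrArg Matrix.det hBd
      rw [Matrix.det_mul, Matrix.det_mul, Matrix.det_diagonal, Orth.mem_specialLinear_iff.mp hxS, one_mul] at h
      exact mul_left_cancel₀ hB (h.symm.trans (mul_one _).symm)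
    have hprim : IsPrimitiveRoot ζ r := IsPrimitiveRoot.iff_orderOf.mpr hζo
    choose ex hex1 hex2 using fun i => hprim.eq_pow_of_pow_eq_one (hd i)
    have hsum : ∑ i, ((ex i : ℕ) : ZMod r) = 0 := by
      rw [← Nat.cast_sum, ZMod.natCast_eq_zero_iff, ← hζiff, ← Finset.prod_pow_eq_pow_sum]
      simp only [hex2, hdprod]
    obtain ⟨σ, hσ, hsym⟩ : ∃ σ : Fin n → Fin n, Function.Involutive σ ∧ ∀ i,
        (ex (σ i) : ZMod r) + (ex i : ZMod r) =
          (ex (σ ⟨0, hn0⟩) : ZMod r) + (ex ⟨0, hn0⟩ : ZMod r) := by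
      subst hnr
      rcases h35 with h | h <;> subst h
      · exact S5965.symm_three _ hsum
      · exact S5965.symm_five _ hsum
    have hd0 : ∀ i, d i ≠ 0 := fun i h => by
      have := hd i
      rw [h, zero_pow hrP.ne_zero] at this
      exact zero_ne_one this
    set c := d ⟨0, hn0⟩ * d (σ ⟨0, hn0⟩) with hcdef
    have hdc : ∀ i, d i * d (σ i) = c := fun i => by
      rw [hcdef, ← hex2 i, ← hex2 (σ i), ← hex2 ⟨0, hn0⟩, ← hex2 (σ ⟨0, hn0⟩), ← pow_add, ← pow_add, hζeq,
        ← ZMod.natCast_eq_natCast_iff]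
      push_cast
      linear_combination hsym i
    -- the pairing matrix, rescaled
    let R₀ : Matrix (Fin n) (Fin n) F := Matrix.of fun i j => if j = σ i then 1 else 0
    have hR2 : R₀ * R₀ = 1 := by
      ext i j
      rw [Matrix.mul_apply, Finset.sum_eq_single (σ i) (fun b _ hb => by simp [R₀, hb]) (by simp)]
      simp [R₀, hσ i, Matrix.one_apply, eq_comm]
    have hR0 : R₀.det ≠ 0 := fun h => by
      have := congrArg Matrix.det hR2
      rw [Matrix.det_mul, h, zero_mul, Matrix.det_one] at this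
      exact zero_ne_one this
    set lam := δ * R₀.det with hlam
    have hlam0 : lam ≠ 0 := mul_ne_zero hδ hR0
    have hnodd : Odd n := hnr ▸ hrP.odd_of_ne_two hr2
    refine mem_of_model h2 hnd x (GeneralLinearGroup.mkOfDetNeZero B hB) (D := Matrix.diagonal d) (R := lam • R₀)
      (fun d hd => exists_det_commute hn0 hr' one_ne_zero _ hz d hd) hBd ?_ ?_ ?_
      (c := c) (mul_ne_zero (hd0 _) (hd0 _)) ?_
    · ext i j
      have : (i = σ j) ↔ (j = σ i) := ⟨fun h => by rw [h, hσ j], fun h => by rw [h, hσ i]⟩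
      simp [R₀, this]
    · rw [Matrix.det_smul]; exact mul_ne_zero (pow_ne_zero _ hlam0) hR0
    · rw [Matrix.det_smul, Fintype.card_fin]
      obtain ⟨k, hk⟩ := hnodd
      refine ⟨lam ^ (k + 1), ?_⟩
      rw [← hδdef, show lam ^ n = lam ^ (2 * k + 1) from congrArg _ hk, hlam]; ring
    · rw [Matrix.diagonal_transpose, Matrix.mul_smul, Matrix.smul_mul, smul_comm]
      congr 1
      ext i j
      rw [Matrix.mul_diagonal, Matrix.diagonal_mul, Matrix.smul_apply, smul_eq_mul]
      by_cases hj : j = σ i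
      · subst hj
        simp [R₀, hdc i]
      · simp [R₀, hj]
  refine iff_of_false (fun hall => ?_) (fun h => h.elim hr2 hR)
  obtain ⟨d, z, A, B, hdz, hdp, hAB, hA, hB⟩ := S5982.exists_unique_levels (F := F) (n := n) (r := r) hr2 hn hgap hr1
    (fun ⟨h1, h2, h3⟩ => hR ⟨h2, h1.symm, h3⟩)
  obtain ⟨x₀, hxd, ⟨z', hxr⟩, hxn⟩ := S5965.exists_diag_elt d hdp hdz
  have hd0 : ∀ i, d i ≠ 0 := fun i h =>
    zero_ne_one (α := F) (by rw [← hdp]; exact (Finset.prod_eq_zero (Finset.mem_univ i) h).symm)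
  set x : GL (Fin n) F := Matrix.SpecialLinearGroup.toGL x₀ with hx
  obtain ⟨c, hcnt⟩ := count_twist hnd x d hd0 hxd
    (hall x (Orth.mem_specialLinear_iff.mpr x₀.2) ⟨z', by rw [hx, ← map_pow]; exact hxr⟩ (hxn A B hAB))
  have hfix : ∀ C, (∀ j, (Finset.univ.filter fun i => d i = d j).card =
      (Finset.univ.filter fun i => d i = d C).card → d j = d C) → c = d C * d C := by
    intro C hC
    have h0 : 0 < (Finset.univ.filter fun i => d i = c / d C).card := by
      rw [hcnt _ (hd0 C)]; exact Finset.card_pos.mpr ⟨C, by simp⟩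
    obtain ⟨l, hl⟩ := Finset.card_pos.mp h0
    rw [Finset.mem_filter] at hl
    have := hC l (by rw [hl.2, hcnt _ (hd0 C)])
    rw [hl.2, div_eq_iff (hd0 C)] at this
    exact this
  set ρ := d A / d B with hρdef
  have h2' : ρ ^ 2 = 1 := by
    have := (hfix A hA).symm.trans (hfix B hB)
    rw [hρdef, div_pow, pow_two, pow_two, this, div_self (mul_ne_zero (hd0 B) (hd0 B))]
  have hρr : ρ ^ r = 1 := by
    rw [hρdef, div_pow, hdz, hdz, div_self (by rw [← hdz B]; exact pow_ne_zero _ (hd0 B))]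
  have hρ1 : ρ = 1 := by
    obtain ⟨k, hk⟩ := hrP.odd_of_ne_two hr2
    rw [hk, pow_succ, pow_mul, h2', one_pow, one_mul] at hρr
    exact hρr
  exact hAB ((div_eq_one_iff_eq (hd0 B)).mp hρ1)

end Cfsg.Agent.S5981
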