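import Cfsg.Statements.S5983
import Cfsg.Agent.Lib.Orth.EvenSymp
import Cfsg.Agent.Lib.Forms.Count

set_option autoImplicit false
open scoped MatrixGroups
open Cfsg

namespace Cfsg.Agent.S5983

open Cfsg.Agent Cfsg.Agent.Orth Module
open QuadraticMap (polar)
open scoped Matrix

set_option linter.unusedSectionVars false
set_option linter.unusedSimpArgs false
set_option linter.unusedVariables false

variable {F : Type*} [Field F] [Fintype F] [CharP F 2] {d : ℕ}

theorem polar_plus (u v : Fin d ⊕ Fin d → F) :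
    polar ⇑(quadPlus d F) u v = sympForm d F u v := by
  rw [coe_quadPlus, polar_quadPlus, Linear.sympForm_eq_sum]
  refine Finset.sum_congr rfl fun i _ => ?_
  linear_combination (u (.inl i) * v (.inr i)) * CharTwo.two_eq_zero (R := F)

theorem nd_of_polar {P : QuadraticForm F (Fin d ⊕ Fin d → F)}
    (h : ∀ u v, polar ⇑P u v = sympForm d F u v) : P.polarBilin.Nondegenerate := by
  rw [show P.polarBilin = (quadPlus d F).polarBilin from
    LinearMap.ext₂ fun u v => (h u v).trans (polar_plus u v).symm]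
  exact quadPlus_nondeg d

theorem mem_spGL_of_form {P : QuadraticForm F (Fin d ⊕ Fin d → F)}
    (h : ∀ u v, polar ⇑P u v = sympForm d F u v) {g : GL (Fin d ⊕ Fin d) F}
    (hg : ∀ v, P (g.1 *ᵥ v) = P v) : g ∈ spGL d F := by
  intro u v
  show sympForm d F (g.1 *ᵥ u) (g.1 *ᵥ v) = sympForm d F u v
  rw [← h, ← h]
  simp only [polar, ← Matrix.mulVec_add, hg]

theorem scalar_eq_one {x : GL (Fin d ⊕ Fin d) F} (hx : x ∈ spGL d F) (hd : 0 < d) {z : F}
    (hz : (x : Matrix (Fin d ⊕ Fin d) (Fin d ⊕ Fin d) F) = z • (1 : Matrix (Fin d ⊕ Fin d) (Fin d ⊕ Fin d) F)) :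
    x = 1 := by
  let i : Fin d := ⟨0, hd⟩
  have h : sympForm d F (x.1 *ᵥ Pi.single (.inl i) 1) (x.1 *ᵥ Pi.single (.inr i) 1) =
      sympForm d F (Pi.single (.inl i) 1) (Pi.single (.inr i) 1) := hx _ _
  rw [hz, Matrix.smul_mulVec, Matrix.one_mulVec, Matrix.smul_mulVec, Matrix.one_mulVec,
    Linear.sympForm_smul_left, Linear.sympForm_smul_right, Linear.sympForm_single_inl_left] at h
  simp at h
  have hz1 : z = 1 := CharTwo.add_eq_zero.1 (mul_self_eq_zero.1
    (show (z + 1) * (z + 1) = 0 by linear_combination h + (z + 1) * CharTwo.two_eq_zero (R := F)))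
  exact Units.ext (by rw [hz, hz1, one_smul]; rfl)

theorem plus_iff {Q : (Fin d ⊕ Fin d → F) → F} (hQ : Geo.IsNondegenerateQuadraticForm Q) :
    Geo.IsPlusTypeOn Q ⊤ ↔ IsPlusForm (ofND hQ) := by
  constructor
  · rintro ⟨U, -, hU, hd⟩
    rw [finrank_top] at hd
    exact ⟨U, hU, hd.ge⟩
  · rintro ⟨U, hU, hd⟩
    refine ⟨U, le_top, hU, ?_⟩
    have := Forms.two_mul_finrank_singular_le (ofND hQ) (ofND_nondeg hQ) U hU
    rw [finrank_top]
    omega

/-- A conjugate preserves `Q` iff the element preserves a form of the type of `Q`. -/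
theorem conj_iff (hd : 0 < d) {Q : (Fin d ⊕ Fin d → F) → F} (hQ : Geo.IsNondegenerateQuadraticForm Q)
    (hQf : ∀ u v, polar Q u v = sympForm d F u v) (x : GL (Fin d ⊕ Fin d) F) (hx : x ∈ spGL d F) :
    (∃ g ∈ spGL d F, g⁻¹ * x * g ∈ Geo.quadSimilarityGroup Q) ↔
      ∃ P : QuadraticForm F (Fin d ⊕ Fin d → F), (∀ u v, polar ⇑P u v = sympForm d F u v) ∧
        (IsPlusForm P ↔ IsPlusForm (ofND hQ)) ∧ ∀ v, P (x.1 *ᵥ v) = P v := by
  constructor
  · rintro ⟨g, hg, c, hc⟩
    have hy : g⁻¹ * x * g ∈ spGL d F := mul_mem (mul_mem (inv_mem hg) hx) hg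
    let i : Fin d := ⟨0, hd⟩
    have hc1 : (c : F) = 1 := by
      have hne : sympForm d F (Pi.single (.inl i) 1) (Pi.single (.inr i) 1) ≠ 0 := by
        rw [Linear.sympForm_single_inl_left]; simp
      have h : sympForm d F ((g⁻¹ * x * g).1 *ᵥ Pi.single (.inl i) 1)
          ((g⁻¹ * x * g).1 *ᵥ Pi.single (.inr i) 1) =
          (c : F) * sympForm d F (Pi.single (.inl i) 1) (Pi.single (.inr i) 1) := by
        rw [← hQf, ← hQf]
        simp only [polar, ← Matrix.mulVec_add, hc]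
        ring
      rw [show sympForm d F ((g⁻¹ * x * g).1 *ᵥ Pi.single (.inl i) 1)
          ((g⁻¹ * x * g).1 *ᵥ Pi.single (.inr i) 1) = _ from hy _ _] at h
      exact mul_right_cancel₀ hne (by rw [one_mul]; exact h.symm)
    let e : (Fin d ⊕ Fin d → F) ≃ₗ[F] (Fin d ⊕ Fin d → F) := Forms.glLinEquiv g⁻¹
    refine ⟨(ofND hQ).comp e.toLinearMap, fun u v => ?_, ⟨?_, ?_⟩, fun v => ?_⟩
    · have h : sympForm d F ((g⁻¹).1 *ᵥ u) ((g⁻¹).1 *ᵥ v) = sympForm d F u v := inv_mem hg u v
      rw [← h, ← hQf]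
      simp only [polar, QuadraticMap.comp_apply, map_add]
      rfl
    · rintro ⟨U, hU, hU'⟩
      refine ⟨U.map e.toLinearMap, ?_, ?_⟩
      · rintro _ ⟨u, hu, rfl⟩; exact hU u hu
      · rwa [show finrank F ↥(U.map e.toLinearMap) = finrank F U from LinearEquiv.finrank_map_eq e U]
    · rintro ⟨U, hU, hU'⟩
      refine ⟨U.map e.symm.toLinearMap, ?_, ?_⟩
      · rintro _ ⟨u, hu, rfl⟩
        simpa using hU u hu
      · rwa [show finrank F ↥(U.map e.symm.toLinearMap) = finrank F U from LinearEquiv.finrank_map_eq e.symm U]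
    · show Q ((g⁻¹).1 *ᵥ (x.1 *ᵥ v)) = Q ((g⁻¹).1 *ᵥ v)
      have h := hc ((g⁻¹).1 *ᵥ v)
      rw [hc1, one_mul, Matrix.mulVec_mulVec, ← Units.val_mul, mul_inv_cancel_right, Units.val_mul,
        ← Matrix.mulVec_mulVec] at h
      exact h
  · rintro ⟨P, hPf, hPt, hPx⟩
    obtain ⟨m, hm⟩ : ∃ m, d = m + 1 := ⟨d - 1, by omega⟩
    obtain ⟨e, he⟩ := exists_equiv_of_type (P := ofND hQ) (P' := P) (ofND_nondeg hQ) (nd_of_polar hPf)
      (m := m) (by rw [Module.finrank_pi]; simp only [Fintype.card_sum, Fintype.card_fin]; omega) hPt.symm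
    set G : GL (Fin d ⊕ Fin d) F := Forms.glLinEquiv.symm e
    have hG : ∀ v, G.1 *ᵥ v = e v := fun v => by
      rw [← Forms.glLinEquiv_apply, MulEquiv.apply_symm_apply]
    have hGsp : G ∈ spGL d F := by
      intro u v
      show sympForm d F (G.1 *ᵥ u) (G.1 *ᵥ v) = sympForm d F u v
      rw [← hQf, ← hPf]
      simp only [polar, ← Matrix.mulVec_add]
      simp only [hG, ← he]
      rfl
    refine ⟨G⁻¹, inv_mem hGsp, 1, fun v => ?_⟩
    rw [inv_inv, Units.val_one, one_mul, Units.val_mul, Units.val_mul, ← Matrix.mulVec_mulVec,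
      ← Matrix.mulVec_mulVec, hG]
    show (ofND hQ) _ = _
    rw [he, hPx, ← he, ← hG, Matrix.mulVec_mulVec, Units.mul_inv, Matrix.one_mulVec]
    rfl

/-- The forms of both types have isometries without fixed vectors of suitable prime orders. -/
theorem exists_fpf_form {m r : ℕ} [Fact r.Prime] (hr2 : r ≠ 2) (T : Prop)
    (hr : (T ∧ r ∣ Fintype.card F ^ (m + 1) - 1) ∨ (¬ T ∧ r ∣ Fintype.card F ^ (m + 1) + 1)) :
    ∃ (P : QuadraticForm F (Fin (m + 1) ⊕ Fin (m + 1) → F))
      (S : (Fin (m + 1) ⊕ Fin (m + 1) → F) →ₗ[F] (Fin (m + 1) ⊕ Fin (m + 1) → F)),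
      (∀ u v, polar ⇑P u v = sympForm (m + 1) F u v) ∧ (IsPlusForm P ↔ T) ∧
      (∀ v, P (S v) = P v) ∧ S ^ r = 1 ∧ ∀ v, S v = v → v = 0 := by
  rcases hr with ⟨hT, hr⟩ | ⟨hT, hr⟩
  · obtain ⟨S, hS, hSr, hfix⟩ := exists_fpf_plus (m + 1) hr
    exact ⟨quadPlus (m + 1) F, S, polar_plus, iff_of_true (isPlusForm_of_plus (LinearEquiv.refl F _)
      fun v => by rw [Forms.qfPlus_apply]; rfl) hT, hS, hSr, hfix⟩
  · obtain ⟨ζ, -, hζ⟩ := Forms.exists_no_root (F := F)
    obtain ⟨S, hS, hSr, hfix⟩ := exists_fpf_minus (m + 1) hr2 hr hζ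
    let φ : ((Fin m ⊕ Fin m) ⊕ Fin 2 → F) ≃ₗ[F] (Fin (m + 1) ⊕ Fin (m + 1) → F) :=
      { toFun := fun v => Sum.elim (Fin.snoc (fun i => v (.inl (.inl i))) (v (.inr 0)))
          (Fin.snoc (fun i => v (.inl (.inr i))) (v (.inr 1)))
        invFun := fun w => Sum.elim (Sum.elim (fun i => w (.inl i.castSucc)) (fun i => w (.inr i.castSucc)))
          ![w (.inl (Fin.last m)), w (.inr (Fin.last m))]
        map_add' := fun v w => by
          funext s; rcases s with i | i <;> refine Fin.lastCases ?_ (fun j => ?_) i <;> simp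
        map_smul' := fun c v => by
          funext s; rcases s with i | i <;> refine Fin.lastCases ?_ (fun j => ?_) i <;> simp
        left_inv := fun v => by
          funext s
          rcases s with (i | i) | i
          · simp
          · simp
          · fin_cases i <;> simp
        right_inv := fun w => by
          funext s; rcases s with i | i <;> refine Fin.lastCases ?_ (fun j => ?_) i <;> simp }
    let P := (Forms.qfMinus m F 1 ζ).comp φ.symm.toLinearMap
    have hPφ : ∀ v, P (φ v) = Forms.qfMinus m F 1 ζ v := fun v => by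
      show Forms.qfMinus m F 1 ζ (φ.symm (φ v)) = _
      rw [φ.symm_apply_apply]
    refine ⟨P, φ.toLinearMap ∘ₗ S ∘ₗ φ.symm.toLinearMap, fun u v => ?_,
      iff_of_false (not_isPlusForm_of_minus hζ φ hPφ) hT, fun v => ?_, ?_, fun v hv => ?_⟩
    · obtain ⟨u, rfl⟩ := φ.surjective u
      obtain ⟨v, rfl⟩ := φ.surjective v
      simp only [polar, ← map_add, hPφ]
      change polar ⇑(Forms.qfMinus m F 1 ζ) u v = _
      rw [Forms.qfMinus_eq, polar_quadMinus, Linear.sympForm_eq_sum, Fin.sum_univ_castSucc]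
      have hsum : ∀ i : Fin m, φ u (.inr i.castSucc) * φ v (.inl i.castSucc) -
          φ u (.inl i.castSucc) * φ v (.inr i.castSucc) =
          u (.inl (.inl i)) * v (.inl (.inr i)) + v (.inl (.inl i)) * u (.inl (.inr i)) := fun i => by
        simp [φ, CharTwo.sub_eq_add]; ring
      rw [Finset.sum_congr rfl fun i _ => hsum i]
      simp [φ, CharTwo.sub_eq_add]
      linear_combination (u (.inr 0) * v (.inr 0) + ζ * (u (.inr 1) * v (.inr 1))) * CharTwo.two_eq_zero (R := F)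
    · obtain ⟨v, rfl⟩ := φ.surjective v
      simp only [LinearMap.comp_apply, LinearEquiv.coe_coe, φ.symm_apply_apply, hPφ, Forms.qfMinus_apply]
      exact hS v
    · show (φ.conjAlgEquiv F S) ^ r = 1
      rw [← map_pow, hSr, map_one]
    · obtain ⟨v, rfl⟩ := φ.surjective v
      simp only [LinearMap.comp_apply, LinearEquiv.coe_coe, φ.symm_apply_apply, φ.injective.eq_iff] at hv
      rw [hfix v hv, map_zero]

/-- An involution all of whose invariant forms are of plus type. -/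
theorem exists_plus_involution (hd : 0 < d) (hde : Even d) :
    ∃ S : (Fin d ⊕ Fin d → F) →ₗ[F] (Fin d ⊕ Fin d → F),
      (∀ v, quadPlus d F (S v) = quadPlus d F v) ∧ (∀ v, S (S v) = v) ∧ (∃ v, S v ≠ v) ∧
      ∀ P : QuadraticForm F (Fin d ⊕ Fin d → F), (∀ u v, polar ⇑P u v = sympForm d F u v) →
        (∀ v, P (S v) = P v) → IsPlusForm P := by
  let A : (Fin d ⊕ Fin d → F) →ₗ[F] (Fin d ⊕ Fin d → F) :=
    LinearMap.pi (Sum.elim (fun i => LinearMap.proj (.inr i.rev)) (fun _ => 0))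
  have hA : ∀ v i, A v (.inl i) = v (.inr i.rev) := fun v i => rfl
  have hA' : ∀ v i, A v (.inr i) = 0 := fun v i => rfl
  have hrev : ∀ i : Fin d, i.rev ≠ i := fun i h => by
    have := congrArg Fin.val h
    rw [Fin.val_rev] at this
    have := i.isLt
    rw [Nat.even_iff] at hde
    omega
  refine ⟨LinearMap.id + A, fun v => ?_, fun v => ?_,
    ⟨Pi.single (.inr ⟨0, hd⟩) 1, fun h => ?_⟩, fun P hPf hP => ?_⟩
  · rw [coe_quadPlus]
    simp only [quadFormPlus, LinearMap.add_apply, LinearMap.id_apply, Pi.add_apply, hA, hA', add_zero,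
      add_mul, Finset.sum_add_distrib]
    rw [add_eq_left]
    exact Finset.sum_involution (fun i _ => i.rev)
      (fun i _ => by rw [Fin.rev_rev, mul_comm, CharTwo.add_self_eq_zero])
      (fun i _ _ => hrev i) (fun i _ => Finset.mem_univ _) fun i _ => Fin.rev_rev i
  · funext s
    rcases s with i | i
    · simp only [LinearMap.add_apply, LinearMap.id_apply, Pi.add_apply, hA, hA']
      rw [add_assoc, add_zero, CharTwo.add_self_eq_zero, add_zero]
    · simp only [LinearMap.add_apply, LinearMap.id_apply, Pi.add_apply, hA', add_zero]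
  · have h' := congrFun h (.inl (Fin.rev ⟨0, hd⟩))
    simp only [LinearMap.add_apply, LinearMap.id_apply, Pi.add_apply, hA, Fin.rev_rev] at h'
    simp at h'
  · refine ⟨Forms.plusMax₁ (F := F) d, fun u hu => ?_, ?_⟩
    · obtain ⟨v, rfl⟩ : ∃ v, A v = u := ⟨Sum.elim 0 (fun i => u (.inl i.rev)), funext fun s => by
        rcases s with i | i
        · rw [hA]; simp
        · rw [hA', (Forms.mem_plusMax₁ d u).1 hu]⟩
      have hq : ∀ w, quadPlus d F (A w) = 0 := fun w => by
        rw [coe_quadPlus]; simp [quadFormPlus, hA']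
      have h1 := diff_add (P := P) (P' := quadPlus d F) (fun a b => (hPf a b).trans (polar_plus a b).symm) (A v) v
      set S : (Fin d ⊕ Fin d → F) →ₗ[F] (Fin d ⊕ Fin d → F) := LinearMap.id + A with hSdef
      have e : A v + v = S v := by rw [hSdef, LinearMap.add_apply, LinearMap.id_apply, add_comm]
      have h2 : quadPlus d F (S v) = quadPlus d F v := by
        rw [hSdef, coe_quadPlus]
        simp only [quadFormPlus, LinearMap.add_apply, LinearMap.id_apply, Pi.add_apply, hA, hA', add_zero,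
          add_mul, Finset.sum_add_distrib]
        rw [add_eq_left]
        exact Finset.sum_involution (fun i _ => i.rev)
          (fun i _ => by rw [Fin.rev_rev, mul_comm, CharTwo.add_self_eq_zero])
          (fun i _ _ => hrev i) (fun i _ => Finset.mem_univ _) fun i _ => Fin.rev_rev i
      rw [e, hP, h2, hq, add_zero, right_eq_add] at h1
      exact h1
    · rw [Forms.finrank_plusMax₁, Module.finrank_pi]
      simp only [Fintype.card_sum, Fintype.card_fin]
      omega

theorem inf_eq_isometry {Q : (Fin d ⊕ Fin d → F) → F} (hd : 0 < d)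
    (hQf : ∀ u v, polar Q u v = sympForm d F u v) :
    Geo.quadSimilarityGroup Q ⊓ spGL d F = isometryGroup F Q := by
  ext g
  constructor
  · rintro ⟨⟨c, hc⟩, hg⟩
    let i : Fin d := ⟨0, hd⟩
    have hne : sympForm d F (Pi.single (.inl i) 1) (Pi.single (.inr i) 1) ≠ 0 := by
      rw [Linear.sympForm_single_inl_left]; simp
    have h : sympForm d F (g.1 *ᵥ Pi.single (.inl i) 1) (g.1 *ᵥ Pi.single (.inr i) 1) =
        (c : F) * sympForm d F (Pi.single (.inl i) 1) (Pi.single (.inr i) 1) := by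
      rw [← hQf, ← hQf]
      simp only [polar, ← Matrix.mulVec_add, hc]
      ring
    rw [show sympForm d F (g.1 *ᵥ Pi.single (.inl i) 1) (g.1 *ᵥ Pi.single (.inr i) 1) = _ from hg _ _] at h
    have hc1 : (c : F) = 1 := mul_right_cancel₀ hne (by rw [one_mul]; exact h.symm)
    exact (Forms.mem_isometryGroup Q g).2 fun v => by rw [hc, hc1, one_mul]
  · intro hg
    have h := (Forms.mem_isometryGroup Q g).1 hg
    refine ⟨⟨1, fun v => by rw [h, Units.val_one, one_mul]⟩, fun u v => ?_⟩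
    show sympForm d F (g.1 *ᵥ u) (g.1 *ᵥ v) = sympForm d F u v
    rw [← hQf, ← hQf]
    simp only [polar, ← Matrix.mulVec_add, h]

theorem dvd_index {m r : ℕ} [hr : Fact r.Prime] (hr2 : r ≠ 2)
    {Q : (Fin (m + 1) ⊕ Fin (m + 1) → F) → F} (hQ : Geo.IsNondegenerateQuadraticForm Q)
    (hQf : ∀ u v, polar Q u v = sympForm (m + 1) F u v)
    (h : r ∣ (Geo.quadSimilarityGroup Q).relIndex (spGL (m + 1) F)) :
    (IsPlusForm (ofND hQ) ∧ r ∣ Fintype.card F ^ (m + 1) + 1) ∨
      (¬ IsPlusForm (ofND hQ) ∧ r ∣ Fintype.card F ^ (m + 1) - 1) := by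
  classical
  set q := Fintype.card F with hqdef
  have hq : Nat.card F = q := Nat.card_eq_fintype_card
  have hq2 : 2 ≤ q := Fintype.one_lt_card
  have hrq : ∀ k, ¬ r ∣ q ^ k := fun k hk => by
    obtain ⟨n, -, hn⟩ := FiniteField.card F 2
    exact hr2 ((Nat.prime_dvd_prime_iff_eq hr.out Nat.prime_two).1
      (hr.out.dvd_of_dvd_pow (show r ∣ 2 ^ ((n : ℕ) * k) by rw [pow_mul, ← hn]; exact hk)))
  obtain ⟨ζ, -, hζ⟩ := Forms.exists_no_root (F := F)
  have hSp : Nat.card ↥(spGL (m + 1) F) = q ^ ((m + 1) ^ 2) * ∏ i ∈ Finset.range (m + 1), (q ^ (2 * (i + 1)) - 1) := by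
    rw [← Nat.card_congr (Linear.spEquiv (m + 1) F).toEquiv, GLOrder.card_Sp, hq]
  set N := (Geo.quadSimilarityGroup Q).relIndex (spGL (m + 1) F)
  have hN : N * Nat.card ↥(isometryGroup F Q) = Nat.card ↥(spGL (m + 1) F) := by
    have h' := Subgroup.index_mul_card ((isometryGroup F Q).subgroupOf (spGL (m + 1) F))
    rw [Nat.card_congr (Subgroup.subgroupOfEquivOfLe
      (inf_eq_isometry (Nat.succ_pos m) hQf ▸ inf_le_right)).toEquiv] at h'
    rw [← h']
    congr 1
    show (Geo.quadSimilarityGroup Q).relIndex (spGL (m + 1) F) = (isometryGroup F Q).relIndex (spGL (m + 1) F)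
    rw [← inf_eq_isometry (Nat.succ_pos m) hQf, Subgroup.inf_relIndex_right]
  have hfin : ∀ (a b : ℕ), 0 < a → (q ^ (2 * (m + 1)) - 1) = a * b →
      N * (2 * q ^ ((m + 1) * m) * a * ∏ i ∈ Finset.range m, (q ^ (2 * (i + 1)) - 1)) =
        q ^ ((m + 1) ^ 2) * ∏ i ∈ Finset.range (m + 1), (q ^ (2 * (i + 1)) - 1) → r ∣ b := by
    intro a b ha hab heq
    rw [Finset.prod_range_succ, hab, show (m + 1) ^ 2 = (m + 1) * m + (m + 1) by ring, pow_add] at heq
    have hpos : 0 < q ^ ((m + 1) * m) * a * ∏ i ∈ Finset.range m, (q ^ (2 * (i + 1)) - 1) := by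
      refine Nat.mul_pos (Nat.mul_pos (pow_pos (by omega) _) ha) (Finset.prod_pos fun i _ => ?_)
      have : 1 < q ^ (2 * (i + 1)) := Nat.one_lt_pow (by omega) hq2
      omega
    have h2 : N * 2 * (q ^ ((m + 1) * m) * a * ∏ i ∈ Finset.range m, (q ^ (2 * (i + 1)) - 1)) =
        q ^ (m + 1) * b * (q ^ ((m + 1) * m) * a * ∏ i ∈ Finset.range m, (q ^ (2 * (i + 1)) - 1)) := by
      linear_combination heq
    have h3 : r ∣ q ^ (m + 1) * b := by
      rw [← Nat.eq_of_mul_eq_mul_right hpos h2]; exact dvd_mul_of_dvd_left h 2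
    exact ((Nat.Prime.dvd_mul hr.out).1 h3).resolve_left (hrq _)
  have hsq : q ^ (2 * (m + 1)) - 1 = (q ^ (m + 1) + 1) * (q ^ (m + 1) - 1) := by
    rw [← Nat.sq_sub_sq, ← pow_mul, one_pow, mul_comm 2]
  have hpos : 1 < q ^ (m + 1) := Nat.one_lt_pow (by omega) hq2
  rcases classify_type (ofND hQ) (ofND_nondeg hQ) (m := m)
      (by rw [Module.finrank_pi]; simp only [Fintype.card_sum, Fintype.card_fin]; omega) hζ with
    ⟨h1, e, he⟩ | ⟨h1, e, he⟩
  · refine .inl ⟨h1, hfin (q ^ (m + 1) - 1) _ (by omega) (by rw [hsq, mul_comm]) ?_⟩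
    rw [← hSp, ← hN, Nat.card_congr (Forms.isometryGroupEquiv Q).toEquiv,
      ← Nat.card_congr (Forms.preservingFunCongr (⇑(Forms.qfPlus (m + 1) F)) Q e 1 one_ne_zero
        (fun v => (he v).trans (one_mul _).symm)).toEquiv, Forms.card_preservingFun_qfPlus, hq]
  · refine .inr ⟨h1, hfin (q ^ (m + 1) + 1) _ (by omega) hsq ?_⟩
    rw [← hSp, ← hN, Nat.card_congr (Forms.isometryGroupEquiv Q).toEquiv,
      ← Nat.card_congr (Forms.preservingFunCongr (⇑(Forms.qfMinus m F 1 ζ)) Q e 1 one_ne_zero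
        (fun v => (he v).trans (one_mul _).symm)).toEquiv, Forms.card_preservingFun_qfMinus hζ, hq]

/-- Elements of prime order of PSp_n(q), q even, and the subgroups of orthogonal type. Here `T = Sp_{2d}(F)` for a field `F` of characteristic 2 with `q` elements (`d ≥ 2`, `(d, q) ≠ (2, 2)`), realised as the invertible matrices preserving the standard alternating form; `Q` is a non-degenerate quadratic form on `F^{2d}` whose polar form is that alternating form, and `H` is the subgroup of `T` preserving `Q` up to a scalar (equivalently preserving `Q`) — a subgroup of type O^±_{2d}(q) (maximality is not assumed); `Q` is of plus type when `F^{2d}` contains a `d`-dimensional subspace on which `Q` vanishes, of minus type otherwise. Ω is the set of cosets of `H` in `T`, so an element of `T` of prime order `r` (`x ∈ T` with `x^r` scalar, `x` not scalar) fixes a point of Ω exactly when some `T`-conjugate of `x` preserves `Q`. Let `r` be a prime dividing the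 index of `H`. Then every element of `T` of order `r` fixes a point of Ω if and only if `r = 2` and either `Q` is of plus type or `d` is odd. -/
theorem result {F : Type*} [Field F] [Fintype F] {p : ℕ} [Fact p.Prime] [CharP F p] {q : ℕ} (hq : Fintype.card F = q)
    (hp : p = 2) (d : ℕ) (hd : 2 ≤ d) (hT : (d, q) ≠ (2, 2)) (Q : (Fin d ⊕ Fin d → F) → F) (hQ : Cfsg.Geo.IsNondegenerateQuadraticForm Q)
    (hQf : ∀ u v, QuadraticMap.polar Q u v = Cfsg.sympForm d F u v)
    (r : ℕ) [Fact r.Prime]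
    (hΩ : r ∣ (Cfsg.Geo.quadSimilarityGroup Q).relIndex (Cfsg.spGL d F)) :
    (∀ x ∈ Cfsg.spGL d F, (∃ z : F, ((x ^ r : GL (Fin d ⊕ Fin d) F) : Matrix (Fin d ⊕ Fin d) (Fin d ⊕ Fin d) F) = z • (1 : Matrix (Fin d ⊕ Fin d) (Fin d ⊕ Fin d) F)) →
      (∀ z : F, (x : Matrix (Fin d ⊕ Fin d) (Fin d ⊕ Fin d) F) ≠ z • (1 : Matrix (Fin d ⊕ Fin d) (Fin d ⊕ Fin d) F)) →
      ∃ g ∈ Cfsg.spGL d F, g⁻¹ * x * g ∈ Cfsg.Geo.quadSimilarityGroup Q) ↔
    (r = 2 ∧ (Cfsg.Geo.IsPlusTypeOn Q ⊤ ∨ Odd d)) := by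
  subst hp
  subst hq
  obtain ⟨m, rfl⟩ : ∃ m, d = m + 1 := ⟨d - 1, by omega⟩
  have hdim : finrank F (Fin (m + 1) ⊕ Fin (m + 1) → F) = 2 * (m + 1) := by
    rw [Module.finrank_pi]; simp only [Fintype.card_sum, Fintype.card_fin]; omega
  have hr : r.Prime := Fact.out
  -- a preserved form for an element of `spGL`
  have hGL : ∀ (P : QuadraticForm F (Fin (m + 1) ⊕ Fin (m + 1) → F))
      (S : (Fin (m + 1) ⊕ Fin (m + 1) → F) →ₗ[F] (Fin (m + 1) ⊕ Fin (m + 1) → F)),
      (∀ u v, QuadraticMap.polar ⇑P u v = sympForm (m + 1) F u v) → (∀ v, P (S v) = P v) → S ^ r = 1 →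
      (∃ v, S v ≠ v) → ∃ x : GL (Fin (m + 1) ⊕ Fin (m + 1)) F, x ∈ spGL (m + 1) F ∧
        (∃ z : F, ((x ^ r : GL (Fin (m + 1) ⊕ Fin (m + 1)) F) : Matrix (Fin (m + 1) ⊕ Fin (m + 1)) (Fin (m + 1) ⊕ Fin (m + 1)) F) = z • (1 : Matrix (Fin (m + 1) ⊕ Fin (m + 1)) (Fin (m + 1) ⊕ Fin (m + 1)) F)) ∧
        (∀ z : F, (x : Matrix (Fin (m + 1) ⊕ Fin (m + 1)) (Fin (m + 1) ⊕ Fin (m + 1)) F) ≠ z • (1 : Matrix (Fin (m + 1) ⊕ Fin (m + 1)) (Fin (m + 1) ⊕ Fin (m + 1)) F)) ∧ ∀ v, x.1 *ᵥ v = S v := by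
    intro P S hPf hS hSr hne
    obtain ⟨g, hg⟩ := exists_isoGrp_of_preserve (nd_of_polar hPf) S hS
    have hgr : g ^ r = 1 := ext_ap fun v => by rw [ap_pow, hg, hSr, ap_one, Module.End.one_apply]
    have hsp : (g : GL (Fin (m + 1) ⊕ Fin (m + 1)) F) ∈ spGL (m + 1) F :=
      mem_spGL_of_form hPf fun v => Q_ap g v
    refine ⟨g, hsp, ⟨1, by rw [← SubgroupClass.coe_pow, hgr, one_smul]; rfl⟩, fun z hz => ?_,
      fun v => by rw [← hg]; rfl⟩
    obtain ⟨v, hv⟩ := hne
    refine hv ?_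
    rw [← hg, ap_apply, scalar_eq_one hsp (Nat.succ_pos m) hz]
    simp
  rw [plus_iff hQ]
  constructor
  · intro hyp
    have hr2 : r = 2 := by
      by_contra hr2
      obtain ⟨P, S, hPf, hPt, hS, hSr, hfix⟩ := exists_fpf_form (F := F) (m := m) (r := r) hr2
        (¬ IsPlusForm (ofND hQ)) (by
          rcases dvd_index hr2 hQ hQf hΩ with ⟨h1, h2⟩ | ⟨h1, h2⟩
          · exact .inr ⟨not_not.2 h1, h2⟩
          · exact .inl ⟨h1, h2⟩)
      have hne : ∃ v, S v ≠ v := ⟨Pi.single (.inl 0) 1, fun h => by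
        have := congrFun (hfix _ h) (.inl 0)
        simp at this⟩
      obtain ⟨x, hx, hxz, hxn, hxS⟩ := hGL P S hPf hS hSr hne
      obtain ⟨P', hP'f, hP't, hP'x⟩ := (conj_iff (Nat.succ_pos m) hQ hQf x hx).1 (hyp x hx hxz hxn)
      have := eq_of_fixedPointFree (fun u v => (hPf u v).trans (hP'f u v).symm) S hS
        (fun v => by rw [← hxS]; exact hP'x v) hfix
      subst this
      exact iff_not_self (hP't.symm.trans hPt)
    subst hr2
    refine ⟨rfl, ?_⟩
    by_contra hcon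
    push Not at hcon
    obtain ⟨S, hS, hSS, hne, hall⟩ := exists_plus_involution (F := F) (Nat.succ_pos m)
      (Nat.not_odd_iff_even.1 hcon.2)
    obtain ⟨x, hx, hxz, hxn, hxS⟩ := hGL (quadPlus (m + 1) F) S polar_plus hS
      (LinearMap.ext fun v => by rw [sq, Module.End.mul_apply, hSS, Module.End.one_apply]) hne
    obtain ⟨P', hP'f, hP't, hP'x⟩ := (conj_iff (Nat.succ_pos m) hQ hQf x hx).1 (hyp x hx hxz hxn)
    exact hcon.1 (hP't.1 (hall P' hP'f fun v => by rw [← hxS]; exact hP'x v))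
  · rintro ⟨rfl, hcond⟩ x hx ⟨z, hz⟩ -
    rw [conj_iff (Nat.succ_pos m) hQ hQf x hx]
    have hx2 : x ^ 2 = 1 := scalar_eq_one (pow_mem hx 2) (Nat.succ_pos m) hz
    set g : Module.End F (Fin (m + 1) ⊕ Fin (m + 1) → F) := Matrix.toLin' x.1
    have hg : ∀ v, g v = x.1 *ᵥ v := fun v => Matrix.toLin'_apply _ _
    have hgg : ∀ v, g (g v) = v := fun v => by
      rw [hg, hg, Matrix.mulVec_mulVec, ← Units.val_mul, ← sq, hx2]; simp
    have hpol : ∀ u v, sympForm (m + 1) F (g u) (g v) = sympForm (m + 1) F u v := fun u v => by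
      rw [hg, hg]; exact hx u v
    obtain ⟨P, hPf, hPg⟩ := exists_preserved (quadPlus (m + 1) F) g hgg
      (fun u v => by rw [polar_plus, polar_plus]; exact hpol u v)
    simp only [polar_plus] at hPf
    by_cases hw : ∃ w, g w = w ∧ P w ≠ 0
    · obtain ⟨w, hgw, hPw⟩ := hw
      obtain ⟨c, hc⟩ := exists_type_shift P (nd_of_polar hPf) (m := m) hdim hPw (IsPlusForm (ofND hQ))
      refine ⟨_, fun u v => ?_, hc, fun v => ?_⟩
      · rw [← hPf]
        simp only [QuadraticMap.polar, add_apply, smul_apply, QuadraticMap.linMulLin_apply, map_add, smul_eq_mul]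
        linear_combination c * P.polarBilin w u * P.polarBilin w v * CharTwo.two_eq_zero (R := F)
      · have hfw : P.polarBilin w (g v) = P.polarBilin w v := by
          rw [QuadraticMap.polarBilin_apply_apply, QuadraticMap.polarBilin_apply_apply, hPf, hPf]
          conv_lhs => rw [← hgw]
          exact hpol w v
        simp only [add_apply, smul_apply, QuadraticMap.linMulLin_apply, ← hg, hPg, hfw]
    · push Not at hw
      obtain ⟨h1, h2⟩ := plus_of_fix_singular P (nd_of_polar hPf) (d := m + 1) hdim g hgg hPg hw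
      have hQp : IsPlusForm (ofND hQ) := hcond.resolve_right (Nat.not_odd_iff_even.2 h2)
      exact ⟨P, hPf, iff_of_true h1 hQp, fun v => by rw [← hg]; exact hPg v⟩

end Cfsg.Agent.S5983
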