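import Cfsg.Statements.S5984
import Cfsg.Agent.EqLemmas
import Cfsg.Agent.Lib.PrimeOrderElt.Polar
import Cfsg.Agent.Lib.PrimeOrderElt.Criteria
import Cfsg.Agent.Lib.GLOrder.Basic
import Cfsg.Agent.Lib.Unitary.Center
import Cfsg.Agent.Lib.Unitary.Transvection

set_option autoImplicit false
open scoped MatrixGroups
open Cfsg

namespace Cfsg.Agent.S5984

open Cfsg.Agent.PrimeOrderElt Cfsg.Agent.Unitary Module
open scoped Matrix

variable {F : Type*} [Field F] [Fintype F] {q m n : ℕ}

/-- The eigenspace of a matrix. -/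
abbrev eig (M : Matrix (Fin n) (Fin n) F) (c : F) : Submodule F (Fin n → F) :=
  LinearMap.ker ((Matrix.toLin' M : Module.End F (Fin n → F)) - c • 1)

omit [Fintype F] in
theorem mem_eig {M : Matrix (Fin n) (Fin n) F} {c : F} {v : Fin n → F} : v ∈ eig M c ↔ M *ᵥ v = c • v := by
  rw [LinearMap.mem_ker, LinearMap.sub_apply, sub_eq_zero, LinearMap.smul_apply, Module.End.one_apply, Matrix.toLin'_apply]

omit [Fintype F] in
theorem eig_scalar (hn : 0 < n) (c d : F) (M : Matrix (Fin n) (Fin n) F) (hM : M = d • 1) :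
    finrank F (eig M c) = 0 ∨ finrank F (eig M c) = n := by
  subst hM
  by_cases h : d = c
  · right
    rw [show eig (d • (1 : Matrix (Fin n) (Fin n) F)) c = ⊤ from eq_top_iff.mpr fun v _ => mem_eig.mpr (by
      rw [Matrix.smul_mulVec, Matrix.one_mulVec, h]), finrank_top, Module.finrank_fin_fun]
  · left
    rw [show eig (d • (1 : Matrix (Fin n) (Fin n) F)) c = ⊥ from eq_bot_iff.mpr fun v hv => (Submodule.mem_bot F).mpr ?_,
      finrank_bot]
    have h1 := mem_eig.mp hv
    rw [Matrix.smul_mulVec, Matrix.one_mulVec, ← sub_eq_zero, ← sub_smul, smul_eq_zero] at h1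
    exact h1.resolve_left (sub_ne_zero.mpr h)

omit [Fintype F] in
theorem eig_diagonal (d : Fin n → F) (c : F) :
    finrank F (eig (Matrix.diagonal d) c) = Nat.card {i // d i = c} := by
  classical
  have h1 : (Matrix.toLin' (Matrix.diagonal d) : Module.End F (Fin n → F)) - c • 1 =
      Matrix.toLin' (Matrix.diagonal fun i => d i - c) := by
    refine LinearMap.ext fun v => funext fun i => ?_
    rw [LinearMap.sub_apply, LinearMap.smul_apply, Module.End.one_apply, Pi.sub_apply, Pi.smul_apply,
      Matrix.toLin'_apply, Matrix.toLin'_apply, Matrix.mulVec_diagonal, Matrix.mulVec_diagonal, smul_eq_mul, sub_mul]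
  have hr := Matrix.rank_diagonal (fun i => d i - c)
  have hn := LinearMap.finrank_range_add_finrank_ker
    (Matrix.toLin' (Matrix.diagonal fun i => d i - c) : (Fin n → F) →ₗ[F] (Fin n → F))
  rw [Module.finrank_fin_fun] at hn
  rw [eig, h1]
  rw [show Matrix.rank (Matrix.diagonal fun i => d i - c) =
      finrank F ↥(LinearMap.range (Matrix.toLin' (Matrix.diagonal fun i => d i - c))) from rfl] at hr
  have hc : Fintype.card {i // d i - c ≠ 0} = n - Fintype.card {i // d i = c} := by
    rw [Fintype.card_congr (Equiv.subtypeEquivRight (fun i => (by rw [Ne, sub_eq_zero] : d i - c ≠ 0 ↔ ¬ d i = c))),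
      Fintype.card_subtype_compl, Fintype.card_fin]
  have hle : Fintype.card {i // d i = c} ≤ n := (Fintype.card_subtype_le _).trans_eq (Fintype.card_fin n)
  rw [Nat.card_eq_fintype_card]
  omega

omit [Fintype F] in
theorem eig_conj (g : GL (Fin n) F) (X : GL (Fin n) F) (c : F) :
    finrank F (eig ((g⁻¹ * X * g : GL (Fin n) F) : Matrix (Fin n) (Fin n) F) c) =
      finrank F (eig (X : Matrix (Fin n) (Fin n) F) c) := by
  let f : (Fin n → F) →ₗ[F] (Fin n → F) := Matrix.toLin' (g : Matrix (Fin n) (Fin n) F)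
  have hf : Function.Injective f := fun a b hab => by
    simp only [f, Matrix.toLin'_apply] at hab
    exact Matrix.mulVec_injective_of_isUnit g.isUnit hab
  rw [(Submodule.equivMapOfInjective f hf (eig ((g⁻¹ * X * g : GL (Fin n) F) : Matrix (Fin n) (Fin n) F) c)).finrank_eq]
  have : (eig ((g⁻¹ * X * g : GL (Fin n) F) : Matrix (Fin n) (Fin n) F) c).map f = eig (X : Matrix (Fin n) (Fin n) F) c := by
    ext v
    constructor
    · rintro ⟨w, hw, rfl⟩
      have h1 := mem_eig.mp hw
      refine mem_eig.mpr ?_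
      show (X : Matrix (Fin n) (Fin n) F) *ᵥ (f w) = c • f w
      rw [show f w = (g : Matrix (Fin n) (Fin n) F) *ᵥ w from Matrix.toLin'_apply _ _, ← Matrix.mulVec_smul, ← h1,
        Matrix.mulVec_mulVec, Matrix.mulVec_mulVec, ← Units.val_mul, ← Units.val_mul]
      congr 2
      group
    · intro hv
      refine ⟨((g⁻¹ : GL (Fin n) F) : Matrix (Fin n) (Fin n) F) *ᵥ v, mem_eig.mpr ?_, ?_⟩
      · rw [← Matrix.mulVec_smul, ← mem_eig.mp hv, Matrix.mulVec_mulVec, Matrix.mulVec_mulVec, ← Units.val_mul, ← Units.val_mul]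
        congr 2
        group
      · rw [show f _ = _ from Matrix.toLin'_apply _ _, Matrix.mulVec_mulVec, ← Units.val_mul, mul_inv_cancel,
          Units.val_one, Matrix.one_mulVec]
  rw [this]

omit [Fintype F] in
theorem mem_specialLinear (g : GL (Fin n) F) :
    g ∈ Cfsg.Geo.specialLinear (Fin n) F ↔ (g : Matrix (Fin n) (Fin n) F).det = 1 := by
  rw [Cfsg.Geo.specialLinear, MonoidHom.mem_ker, Units.ext_iff]
  rfl

/-- No stabiliser contains an element with an odd eigenspace on the unit circle. -/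
theorem not_conj (hF : Fintype.card F = q ^ 2) (hm : 1 ≤ m) {D : Fin 2 → Submodule F (Fin (m + m) → F)}
    (hP : IsPolarPair q (D 0) (D 1)) {x g : GL (Fin (m + m)) F} (hx : x ∈ Cfsg.GU (m + m) F q)
    (hg : g ∈ Cfsg.GU (m + m) F q) {c : F} (hc : c ^ (q + 1) = 1)
    (hodd : Odd (finrank F (eig (x : Matrix (Fin (m + m)) (Fin (m + m)) F) c)))
    (hcase : m < finrank F (eig (x : Matrix (Fin (m + m)) (Fin (m + m)) F) c) ∨
      ∃ (r : ℕ) (z : F), Odd r ∧ ((x ^ r : GL (Fin (m + m)) F) : Matrix (Fin (m + m)) (Fin (m + m)) F) = z • 1) :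
    g⁻¹ * x * g ∉ Cfsg.Geo.decompositionStabilizer D := by
  classical
  rintro ⟨σ, hσ⟩
  rw [← eig_conj g] at hodd hcase
  set y := g⁻¹ * x * g with hy
  have hyU : y ∈ Cfsg.GU (m + m) F q := Subgroup.mul_mem _ (Subgroup.mul_mem _ (Subgroup.inv_mem _ hg) hx) hg
  obtain ⟨h0, h1⟩ := hP.finrank_half hF
  have hσ' : σ 0 = 0 ∧ σ 1 = 1 ∨ σ 0 = 1 ∧ σ 1 = 0 := by
    rcases Fin.exists_fin_two.mp ⟨σ 0, rfl⟩ with e | e <;> rcases Fin.exists_fin_two.mp ⟨σ 1, rfl⟩ with e' | e'
    · exact absurd (σ.injective (e.trans e'.symm)) (by decide)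
    · exact Or.inl ⟨e, e'⟩
    · exact Or.inr ⟨e, e'⟩
    · exact absurd (σ.injective (e.trans e'.symm)) (by decide)
  rcases hσ' with ⟨e0, e1⟩ | ⟨e0, e1⟩
  · exact (Nat.not_even_iff_odd.mpr hodd) (even_eigen_of_fix hF hP hyU (by rw [hσ 0, e0]) (by rw [hσ 1, e1]) hc)
  · have hdis := hP.disjoint hF
    rcases hcase with hlt | ⟨r, z, ⟨k, hk⟩, hz⟩
    · have := eigen_le_of_swap (A := D 0) (B := D 1) hdis (by rw [h0, h1])
        (Matrix.toLin' (y : Matrix (Fin (m + m)) (Fin (m + m)) F))
        (fun a b hab => by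
          rw [Matrix.toLin'_apply, Matrix.toLin'_apply] at hab
          exact Matrix.mulVec_injective_of_isUnit y.isUnit hab)
        (by rw [hσ 0, e0]) c
      rw [h1] at this
      exact absurd this (not_le.mpr hlt)
    · have hyz : ((y ^ r : GL (Fin (m + m)) F) : Matrix (Fin (m + m)) (Fin (m + m)) F) = z • 1 := by
        rw [hy, show g⁻¹ * x * g = g⁻¹ * x * (g⁻¹)⁻¹ by rw [inv_inv], conj_pow, inv_inv, Units.val_mul, Units.val_mul, hz,
          Matrix.mul_smul, mul_one, Matrix.smul_mul, ← Units.val_mul, inv_mul_cancel, Units.val_one]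
      have hpow : ∀ j : ℕ, (D 0).map (Matrix.toLin' ((y ^ j : GL (Fin (m + m)) F) : Matrix (Fin (m + m)) (Fin (m + m)) F)) =
          D (if Even j then 0 else 1) := by
        intro j
        induction j with
        | zero => simp
        | succ j ih =>
          rw [pow_succ', Units.val_mul, Matrix.toLin'_mul, Submodule.map_comp, ih, hσ]
          rcases Nat.even_or_odd j with he | ho
          · rw [if_pos he, if_neg (by simpa [Nat.even_add_one] using he), e0]
          · rw [if_neg (Nat.not_even_iff_odd.mpr ho), if_pos (Nat.even_add_one.mpr (Nat.not_even_iff_odd.mpr ho)), e1]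
      have h3 := hpow r
      rw [if_neg (Nat.not_even_iff_odd.mpr ⟨k, hk⟩), hyz] at h3
      have h4 : D 1 ≤ D 0 := h3.symm.le.trans (by
        rintro _ ⟨v, hv, rfl⟩
        rw [Matrix.toLin'_apply, Matrix.smul_mulVec, Matrix.one_mulVec]
        exact (D 0).smul_mem z hv)
      rw [inf_eq_right.mpr h4] at hdis
      rw [hdis, finrank_bot] at h1
      omega

omit [Fintype F] in
theorem prod_range_two_mul (f : ℕ → ℕ) (m : ℕ) :
    ∏ i ∈ Finset.range (m + m), f i =
      (∏ j ∈ Finset.range m, f (2 * j)) * ∏ j ∈ Finset.range m, f (2 * j + 1) := by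
  induction m with
  | zero => simp
  | succ m ih =>
    rw [show m + 1 + (m + 1) = m + m + 1 + 1 by omega, Finset.prod_range_succ, Finset.prod_range_succ, ih,
      Finset.prod_range_succ, Finset.prod_range_succ, show 2 * m = m + m by omega]
    ring

/-- Prime divisors of the degree prime to `q` divide some `q^(odd) + 1`. -/
theorem exists_odd_factor (hF : Fintype.card F = q ^ 2) (hm : 1 ≤ m) {D : Fin 2 → Submodule F (Fin (m + m) → F)}
    (hP : IsPolarPair q (D 0) (D 1)) {r : ℕ} (hr : r.Prime) (hrq : ¬ r ∣ q)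
    (hΩ : r ∣ (Cfsg.Geo.decompositionStabilizer D).relIndex
      (Cfsg.GU (m + m) F q ⊓ Cfsg.Geo.specialLinear (Fin (m + m)) F)) :
    ∃ j < m, r ∣ q ^ (2 * j + 1) + 1 := by
  classical
  set S := Cfsg.GU (m + m) F q ⊓ Cfsg.Geo.specialLinear (Fin (m + m)) F with hS
  set H := Cfsg.Geo.decompositionStabilizer D with hH
  have hScard : Nat.card (Cfsg.GU (m + m) F q) = (q + 1) * Nat.card S := by
    rw [card_GU_eq_succ_mul_card_SU hF (by omega)]
    congr 1
    rw [Nat.card_congr (suEquivKer (m + m) F q).toEquiv]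
    have hle : S ≤ Cfsg.GU (m + m) F q := inf_le_left
    rw [← Nat.card_congr (Subgroup.subgroupOfEquivOfLe hle).toEquiv]
    congr 1
    suffices (detHom (m + m) F q).ker = S.subgroupOf (Cfsg.GU (m + m) F q) by rw [this]
    ext g
    rw [MonoidHom.mem_ker, Subgroup.mem_subgroupOf, hS, Subgroup.mem_inf]
    constructor
    · exact fun h => ⟨g.2, MonoidHom.mem_ker.mpr h⟩
    · exact fun h => MonoidHom.mem_ker.mp h.2
  obtain ⟨Q, hQ⟩ := exists_frame hF hP
  let φ : GL (Fin m) F →* GL (Fin (m + m)) F := frameHom hF Q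
  let δ : GL (Fin m) F →* Fˣ := Matrix.GeneralLinearGroup.det.comp φ
  have hinj : Function.Injective φ := by
    intro X Y h
    refine Units.ext (Matrix.ext_iff_mulVec.2 fun a => ?_)
    have h1 := frameHom_apply hF (Q := Q) X a 0
    rw [show frameHom hF Q X = frameHom hF Q Y from h, frameHom_apply] at h1
    have h2 := Matrix.mulVec_injective_of_isUnit Q.isUnit h1
    funext i
    have := congrFun h2 (Fin.castAdd m i)
    rw [Fin.append_left, Fin.append_left] at this
    exact this.symm
  have hsub : δ.ker.map φ ≤ H ⊓ S := by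
    rintro _ ⟨X, hX, rfl⟩
    refine ⟨⟨1, fun i => ?_⟩, frameHom_mem_GU hF hQ X, hX⟩
    fin_cases i
    · exact (frameHom_map hF hQ X).1
    · exact (frameHom_map hF hQ X).2
  have hKdvd : Nat.card δ.ker ∣ Nat.card (H.subgroupOf S) := by
    rw [Nat.card_congr (Subgroup.equivMapOfInjective δ.ker φ hinj).toEquiv, ← Subgroup.inf_subgroupOf_right,
      Nat.card_congr (Subgroup.subgroupOfEquivOfLe (inf_le_right : H ⊓ S ≤ S)).toEquiv]
    exact Subgroup.card_dvd_of_le hsub
  have hrange : Nat.card δ.range ∣ q + 1 := by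
    have hle : δ.range ≤ (powMonoidHom (q + 1) : Fˣ →* Fˣ).ker := by
      rintro _ ⟨X, rfl⟩
      refine Units.ext ?_
      have := IsUnitary.det_norm hF (fun u v => (mem_GU_iff _).1 (frameHom_mem_GU hF hQ X) u v)
      exact this
    refine (Subgroup.card_dvd_of_le hle).trans (dvd_of_eq ?_)
    rw [IsCyclic.card_powMonoidHom_ker, Unitary.card_units hF, Nat.gcd_eq_right (q_succ_dvd q)]
  obtain ⟨a, ha⟩ := hKdvd
  obtain ⟨b, hb⟩ := hrange
  have hGLm : Nat.card δ.ker * Nat.card δ.range = Nat.card (GL (Fin m) F) := by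
    rw [← Subgroup.index_ker, Subgroup.card_mul_index]
  have hidx := Subgroup.card_mul_index (H.subgroupOf S)
  have hGU := card_GU hF (m + m)
  rw [hScard, ← hidx, ha, hb, prod_range_two_mul] at hGU
  have hE : ∀ j, (if Even (2 * j + 1) then q ^ (2 * j + 1 + 1) + 1 else q ^ (2 * j + 1 + 1) - 1) =
      (q ^ 2) ^ (j + 1) - 1 := fun j => by
    rw [if_neg (Nat.not_even_iff_odd.mpr ⟨j, rfl⟩), ← pow_mul, Nat.mul_add]
  rw [Finset.prod_congr rfl (fun j _ => hE j)] at hGU
  have hGL := GLOrder.card_GL' (F := F) m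
  rw [← hGLm, Nat.card_eq_fintype_card (α := F), hF] at hGL
  set E := ∏ j ∈ Finset.range m, ((q ^ 2) ^ (j + 1) - 1)
  have hEpos : 0 < E := Finset.prod_pos fun j _ => Nat.sub_pos_of_lt (Nat.one_lt_pow (Nat.succ_ne_zero j)
    (Nat.one_lt_pow two_ne_zero (by have := two_le_q hF; omega)))
  set O := ∏ j ∈ Finset.range m, (if Even (2 * j) then q ^ (2 * j + 1) + 1 else q ^ (2 * j + 1) - 1) with hO
  have key : (q ^ 2) ^ (m * (m - 1) / 2) * (a * b * (H.subgroupOf S).index) = q ^ ((m + m) * (m + m - 1) / 2) * O := by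
    refine Nat.eq_of_mul_eq_mul_right hEpos ?_
    rw [mul_assoc (q ^ ((m + m) * (m + m - 1) / 2)) O E, ← hGU,
      show (q ^ 2) ^ (m * (m - 1) / 2) * (a * b * (H.subgroupOf S).index) * E =
        (q ^ 2) ^ (m * (m - 1) / 2) * E * (a * b * (H.subgroupOf S).index) by ring, ← hGL]
    ring
  have hr' : r ∣ q ^ ((m + m) * (m + m - 1) / 2) * O := key ▸ Dvd.dvd.mul_left (Dvd.dvd.mul_left hΩ _) _
  rcases hr.dvd_mul.mp hr' with h | h
  · exact absurd (hr.dvd_of_dvd_pow h) hrq
  · obtain ⟨j, hj, hd⟩ := (hr.prime.dvd_finsetProd_iff _).mp h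
    rw [if_pos (even_two_mul j)] at hd
    exact ⟨j, Finset.mem_range.mp hj, hd⟩

/-- The 2-part condition. -/
theorem neg_one_pow_root (hF : Fintype.card F = q ^ 2) (h2 : (2 : F) ≠ 0) {N : ℕ} (hN : N ≠ 0) :
    (∃ ζ : F, ζ ^ (q + 1) = 1 ∧ ζ ^ N = -1) ↔ padicValNat 2 N < padicValNat 2 (q + 1) := by
  have : Fact (Nat.Prime 2) := ⟨Nat.prime_two⟩
  have hne1 : (-1 : F) ≠ 1 := fun h => h2 (by linear_combination -h)
  set α := padicValNat 2 N with hα
  set β := padicValNat 2 (q + 1) with hβ
  obtain ⟨u, hu⟩ : 2 ^ α ∣ N := pow_padicValNat_dvd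
  obtain ⟨w, hw⟩ : 2 ^ β ∣ q + 1 := pow_padicValNat_dvd
  have hu2 : Odd u := by
    rw [← Nat.not_even_iff_odd]
    rintro ⟨k, rfl⟩
    exact pow_succ_padicValNat_not_dvd (p := 2) hN ⟨k, by rw [← hα, hu, pow_succ]; ring⟩
  have hw2 : Odd w := by
    rw [← Nat.not_even_iff_odd]
    rintro ⟨k, rfl⟩
    exact pow_succ_padicValNat_not_dvd (p := 2) (show q + 1 ≠ 0 by omega) ⟨k, by rw [← hβ, hw, pow_succ]; ring⟩
  constructor
  · rintro ⟨ζ, hζ, hζN⟩
    by_contra hcon
    obtain ⟨d, hd⟩ := Nat.exists_eq_add_of_le (not_lt.mp hcon)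
    have h1 : (ζ ^ N) ^ w = (ζ ^ (q + 1)) ^ (2 ^ d * u) := by
      rw [← pow_mul, ← pow_mul, hu, hw, hd, pow_add]; ring_nf
    rw [hζ, one_pow, hζN, hw2.neg_one_pow] at h1
    exact hne1 h1
  · intro hlt
    obtain ⟨a, ha1, haord⟩ := exists_norm_one_gen hF
    obtain ⟨d, hd⟩ := Nat.exists_eq_add_of_lt hlt
    refine ⟨a ^ (2 ^ d * w), by rw [← pow_mul, mul_comm, pow_mul, ha1, one_pow], ?_⟩
    have hsq : ((a ^ (2 ^ (α + d) * w)) : F) ^ 2 = 1 := by
      rw [← pow_mul, show 2 ^ (α + d) * w * 2 = q + 1 by rw [hw, hd, pow_succ]; ring, ha1]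
    have hne : (a ^ (2 ^ (α + d) * w) : F) ≠ 1 := by
      intro h
      have := orderOf_dvd_of_pow_eq_one h
      rw [haord, hw, hd, pow_succ] at this
      have hpos : 0 < 2 ^ (α + d) * w := Nat.mul_pos (by positivity) hw2.pos
      have := Nat.le_of_dvd hpos this
      nlinarith
    rw [← pow_mul, hu, show 2 ^ d * w * (2 ^ α * u) = 2 ^ (α + d) * w * u by rw [pow_add]; ring, pow_mul,
      (sq_eq_one_iff.mp hsq).resolve_left hne, hu2.neg_one_pow]

omit [Fintype F] in
theorem blockMatrix_pow {k l : ℕ} (A : Matrix (Fin k) (Fin k) F) (B : Matrix (Fin l) (Fin l) F) (j : ℕ) :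
    blockMatrix A B ^ j = blockMatrix (A ^ j) (B ^ j) := by
  induction j with
  | zero =>
    refine Matrix.ext_iff_mulVec.2 fun w => ?_
    rw [← append_split w, pow_zero, pow_zero, pow_zero, blockMatrix_mulVec, Matrix.one_mulVec, Matrix.one_mulVec,
      Matrix.one_mulVec]
  | succ j ih => rw [pow_succ, ih, ← blockMatrix_mul, ← pow_succ, ← pow_succ]

omit [Fintype F] in
theorem eig_block {k l : ℕ} (A : Matrix (Fin k) (Fin k) F) (B : Matrix (Fin l) (Fin l) F) (c : F) :
    finrank F (eig (blockMatrix A B) c) = finrank F (eig A c) + finrank F (eig B c) := by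
  let ι₁ : (Fin k → F) →ₗ[F] (Fin (k + l) → F) :=
    { toFun := fun a => Fin.append a 0
      map_add' := fun a b => funext fun i => by induction i using Fin.addCases <;> simp
      map_smul' := fun a b => funext fun i => by induction i using Fin.addCases <;> simp }
  let ι₂ : (Fin l → F) →ₗ[F] (Fin (k + l) → F) :=
    { toFun := fun a => Fin.append 0 a
      map_add' := fun a b => funext fun i => by induction i using Fin.addCases <;> simp
      map_smul' := fun a b => funext fun i => by induction i using Fin.addCases <;> simp }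
  have h1 : Function.Injective ι₁ := fun a b h => funext fun i => by
    have := congrFun h (Fin.castAdd l i)
    simpa [ι₁] using this
  have h2 : Function.Injective ι₂ := fun a b h => funext fun i => by
    have := congrFun h (Fin.natAdd k i)
    simpa [ι₂] using this
  have hsplit : eig (blockMatrix A B) c = (eig A c).map ι₁ ⊔ (eig B c).map ι₂ := by
    refine le_antisymm (fun v hv => ?_) (sup_le ?_ ?_)
    · have h := mem_eig.mp hv
      rw [← append_split v, blockMatrix_mulVec] at h
      refine Submodule.mem_sup.mpr ⟨_, ⟨fun i => v (Fin.castAdd l i), mem_eig.mpr ?_, rfl⟩, _,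
        ⟨fun i => v (Fin.natAdd k i), mem_eig.mpr ?_, rfl⟩, ?_⟩
      · funext i
        have := congrFun h (Fin.castAdd l i)
        simpa using this
      · funext i
        have := congrFun h (Fin.natAdd k i)
        simpa using this
      · funext i
        show Fin.append (fun i => v (Fin.castAdd l i)) (0 : Fin l → F) i + Fin.append (0 : Fin k → F) (fun i => v (Fin.natAdd k i)) i = v i
        induction i using Fin.addCases <;> simp
    · rintro _ ⟨a, ha, rfl⟩
      refine mem_eig.mpr ?_
      show blockMatrix A B *ᵥ Fin.append a 0 = c • Fin.append a 0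
      rw [blockMatrix_mulVec, mem_eig.mp ha, Matrix.mulVec_zero]
      funext i; induction i using Fin.addCases <;> simp
    · rintro _ ⟨a, ha, rfl⟩
      refine mem_eig.mpr ?_
      show blockMatrix A B *ᵥ Fin.append 0 a = c • Fin.append 0 a
      rw [blockMatrix_mulVec, mem_eig.mp ha, Matrix.mulVec_zero]
      funext i; induction i using Fin.addCases <;> simp
  have hdis : (eig A c).map ι₁ ⊓ (eig B c).map ι₂ = ⊥ := by
    rw [eq_bot_iff]
    rintro _ ⟨⟨a, -, rfl⟩, b, -, hb⟩
    refine (Submodule.mem_bot F).mpr (funext fun i => ?_)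
    induction i using Fin.addCases with
    | left j =>
      have := congrFun hb (Fin.castAdd l j)
      simpa [ι₁, ι₂] using this.symm
    | right j => simp [ι₁]
  have h := Submodule.finrank_sup_add_finrank_inf_eq ((eig A c).map ι₁) ((eig B c).map ι₂)
  rw [← hsplit, hdis, finrank_bot, ← (Submodule.equivMapOfInjective ι₁ h1 _).finrank_eq,
    ← (Submodule.equivMapOfInjective ι₂ h2 _).finrank_eq] at h
  omega

/-- An element of GU_e(q) of prime order r without fixed vectors, as a block in a larger space. -/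
theorem exists_block_witness {p : ℕ} [Fact p.Prime] [CharP F p] (hF : Fintype.card F = q ^ 2) {r : ℕ} [Fact r.Prime]
    (hrp : r ≠ p) (he : Odd (orderOf (Fintype.card F : ZMod r))) (hq1 : ¬ r ∣ q + 1)
    (hre : r ∣ q ^ orderOf (Fintype.card F : ZMod r) + 1) (l : ℕ) {N : ℕ}
    (hN : N = orderOf (Fintype.card F : ZMod r) + l) :
    ∃ M : Matrix (Fin N) (Fin N) F, IsUnitary q M ∧ M.det = 1 ∧ M ^ r = 1 ∧ finrank F (eig M 1) = l := by
  classical
  subst hN
  set e := orderOf (Fintype.card F : ZMod r) with hedef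
  have hrdvd : r ∣ Nat.card (Cfsg.GU e F q) := by
    rw [card_GU hF e]
    refine Dvd.dvd.mul_left (hre.trans (dvd_trans (dvd_of_eq ?_) (Finset.dvd_prod_of_mem _
      (Finset.mem_range.mpr (show e - 1 < e from Nat.sub_lt he.pos Nat.one_pos))))) _
    rw [if_pos (Nat.Odd.sub_odd he odd_one), Nat.sub_add_cancel he.pos]
  obtain ⟨Y, hY⟩ := exists_prime_orderOf_dvd_card' r hrdvd
  set Ym : Matrix (Fin e) (Fin e) F := ((Y : GL (Fin e) F) : Matrix (Fin e) (Fin e) F) with hYm
  have hYu : IsUnitary q Ym := fun u v => GU_apply Y u v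
  have hYr : Ym ^ r = 1 := by
    rw [hYm, ← Units.val_pow_eq_pow_val, show (Y : GL (Fin e) F) ^ r = ((Y ^ r : Cfsg.GU e F q) : GL (Fin e) F) from rfl,
      ← hY, pow_orderOf_eq_one]
    rfl
  have hY1 : Ym ≠ 1 := fun h => by
    rw [show Y = 1 from Subtype.ext (Units.ext h), orderOf_one] at hY
    exact (Fact.out : r.Prime).ne_one hY.symm
  have hdet : Ym.det = 1 := by
    have h1 : Ym.det ^ r = 1 := by rw [← Matrix.det_pow, hYr, Matrix.det_one]
    have h2 := hYu.det_norm hF
    have h3 := pow_gcd_eq_one.mpr ⟨h1, h2⟩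
    rwa [show Nat.gcd r (q + 1) = 1 from (Nat.Prime.coprime_iff_not_dvd Fact.out).mpr hq1, pow_one] at h3
  have hlin : (Matrix.toLin' Ym : Module.End F (Fin e → F)) ^ r = 1 := by
    rw [← pow_toLin', hYr, Matrix.toLin'_one]; rfl
  obtain ⟨s, hs, -⟩ := exists_dims (natCast_ne_zero_of_ne hrp) hlin (W := ⊤) le_top
  rw [finrank_top, top_inf_eq, Module.finrank_fin_fun, ← hedef] at hs
  have hfix : finrank F (eig Ym 1) = 0 := by
    rw [eig, one_smul]
    rcases s with _ | s
    · exfalso
      rw [Nat.zero_mul, Nat.add_zero] at hs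
      refine hY1 (Matrix.toLin'.injective (LinearMap.ext fun v => ?_))
      rw [Matrix.toLin'_one, LinearMap.id_apply]
      refine mem_fix.mp ?_
      rw [Submodule.eq_top_of_finrank_eq (hs.symm.trans (Module.finrank_fin_fun F).symm)]
      trivial
    · rw [Nat.add_mul, Nat.one_mul] at hs
      have : finrank F ↥(fix (Matrix.toLin' Ym : Module.End F (Fin e → F))) = 0 := by omega
      exact this
  refine ⟨blockMatrix Ym 1, isUnitary_block hYu IsUnitary.one, by rw [det_blockMatrix, hdet, Matrix.det_one, one_mul], ?_, ?_⟩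
  · have h0 := blockMatrix_pow (F := F) (1 : Matrix (Fin e) (Fin e) F) (1 : Matrix (Fin l) (Fin l) F) 0
    rw [pow_zero, pow_zero, pow_zero] at h0
    rw [blockMatrix_pow, hYr, one_pow, ← h0]
  · rw [eig_block, hfix, Nat.zero_add,
      show eig (1 : Matrix (Fin l) (Fin l) F) 1 = ⊤ from eq_top_iff.mpr fun v _ => mem_eig.mpr (by
        rw [Matrix.one_mulVec, one_smul]), finrank_top, Module.finrank_fin_fun]


set_option maxHeartbeats 1600000 in
/-- Elements of prime order of PSU_n(q) and the stabilizers of pairs of complementary totally singular subspaces. Here `T = PSU_n(q)` is realised through `SU_n(q)`, the matrices of determinant 1 over the field `F` with `q²` elements preserving the hermitian form `Σ uᵢ vᵢ^q`, with `n ≥ 4` even; `D` is a pair of complementary subspaces of dimension `n/2` on each of which the form vanishes identically, and `H` is the subgroup of `SU_n(q)` fixing or interchanging the two members — a subgroup of type GL_{n/2}(q²).2 (maximality is not assumed). Ω is the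 set of cosets of `H`, so an element of `T` of prime order `r` (`x ∈ SU_n(q)` with `x^r` scalar, `x` not scalar) fixes a point of Ω exactly when some `SU_n(q)`-conjugate of `x` lies in `H`. Let `r` be a prime dividing the index of `H`. Then every element of `T` of order `r` fixes a point of Ω if and only if `r = 2`, `q` is odd and `(q + 1)_2 ≤ (n)_2` (2-parts). -/
theorem result {F : Type*} [Field F] [Fintype F] {p : ℕ} [Fact p.Prime] [CharP F p] {q : ℕ} (hq : Fintype.card F = q ^ 2)
    (n : ℕ) (hn : 4 ≤ n) (he : Even n) (D : Fin 2 → Submodule F (Fin n → F)) (hD : Cfsg.Geo.IsMDecomposition (n / 2) D)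
    (hDs : ∀ i, Cfsg.Geo.IsTotallySingularFor (Cfsg.hermForm n F q) (D i))
    (r : ℕ) [Fact r.Prime]
    (hΩ : r ∣ (Cfsg.Geo.decompositionStabilizer D).relIndex (Cfsg.GU n F q ⊓ Cfsg.Geo.specialLinear (Fin n) F)) :
    (∀ x ∈ Cfsg.GU n F q ⊓ Cfsg.Geo.specialLinear (Fin n) F, (∃ z : F, ((x ^ r : GL (Fin n) F) : Matrix (Fin n) (Fin n) F) = z • (1 : Matrix (Fin n) (Fin n) F)) →
      (∀ z : F, (x : Matrix (Fin n) (Fin n) F) ≠ z • (1 : Matrix (Fin n) (Fin n) F)) →
      ∃ g ∈ Cfsg.GU n F q ⊓ Cfsg.Geo.specialLinear (Fin n) F, g⁻¹ * x * g ∈ Cfsg.Geo.decompositionStabilizer D) ↔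
    (r = 2 ∧ Odd q ∧ padicValNat 2 (q + 1) ≤ padicValNat 2 n) := by
  classical
  have hF := hq
  obtain ⟨m, rfl⟩ := he
  have hm2 : 2 ≤ m := by omega
  have hhalf : (m + m) / 2 = m := by omega
  have hP : IsPolarPair q (D 0) (D 1) := ⟨hDs 0, hDs 1, by
    rw [eq_top_iff, ← hD.iSup_eq_top]
    exact iSup_le fun i => by
      fin_cases i
      · exact le_sup_left
      · exact le_sup_right⟩
  set S := Cfsg.GU (m + m) F q ⊓ Cfsg.Geo.specialLinear (Fin (m + m)) F with hS
  have hq2 : 2 ≤ q := two_le_q hF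
  obtain ⟨e₁, -, he₁⟩ := FiniteField.card F p
  have hpq : p ∣ q := (Fact.out : p.Prime).dvd_of_dvd_pow (n := 2) (by rw [← hF, he₁]; exact dvd_pow_self p e₁.ne_zero)
  have hqp : ∀ l : ℕ, l.Prime → l ∣ q → l = p := fun l hl h =>
    (Nat.prime_dvd_prime_iff_eq hl Fact.out).mp (hl.dvd_of_dvd_pow (n := (e₁ : ℕ)) (by
      rw [← he₁, hF]; exact h.trans (dvd_pow_self q two_ne_zero)))
  have mkWitness : ∀ (M : Matrix (Fin (m + m)) (Fin (m + m)) F) (c : F), IsUnitary q M → M.det = 1 →
      (∃ z : F, M ^ r = z • 1) → c ^ (q + 1) = 1 → Odd (finrank F (eig M c)) →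
      (m < finrank F (eig M c) ∨ Odd r) →
      ¬ (∀ x ∈ S, (∃ z : F, ((x ^ r : GL (Fin (m + m)) F) : Matrix (Fin (m + m)) (Fin (m + m)) F) = z • 1) →
        (∀ z : F, (x : Matrix (Fin (m + m)) (Fin (m + m)) F) ≠ z • 1) →
        ∃ g ∈ S, g⁻¹ * x * g ∈ Cfsg.Geo.decompositionStabilizer D) := by
    intro M c hM hMd hMz hc hodd hcase h
    obtain ⟨z, hz⟩ := hMz
    let x : GL (Fin (m + m)) F := Matrix.GeneralLinearGroup.mkOfDetNeZero M (by rw [hMd]; exact one_ne_zero)
    have hxS : x ∈ S := ⟨(mem_GU_iff _).2 hM, (mem_specialLinear x).mpr hMd⟩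
    have hxr : ((x ^ r : GL (Fin (m + m)) F) : Matrix (Fin (m + m)) (Fin (m + m)) F) = z • 1 := by
      rw [Units.val_pow_eq_pow_val]; exact hz
    obtain ⟨g, hg, hgx⟩ := h x hxS ⟨z, hxr⟩ (fun d hd => by
      rcases eig_scalar (by omega) c d M hd with e | e
      · rw [e] at hodd; exact Nat.not_odd_zero hodd
      · rw [e] at hodd; exact Nat.not_odd_iff_even.mpr (⟨m, rfl⟩) hodd)
    exact not_conj hF (by omega) hP hxS.1 hg.1 hc hodd (hcase.imp_right fun ho => ⟨r, z, ho, hxr⟩) hgx
  by_cases hrp : r = p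
  · subst hrp
    constructor
    · intro h
      exfalso
      obtain ⟨d, hd0, hd⟩ := exists_skew hF
      obtain ⟨ε, hε⟩ := exists_eps hF
      let v : Fin (m + m) → F := Pi.single ⟨0, by omega⟩ 1 + ε • Pi.single ⟨1, by omega⟩ 1
      have H := hermForm_isHerm hF (m + m)
      have hne01 : (⟨0, by omega⟩ : Fin (m + m)) ≠ ⟨1, by omega⟩ := fun h => by simp at h
      have hv0 : Cfsg.hermForm (m + m) F q v v = 0 := by
        have ho := single_orthonormal hF (m + m)
        rw [H.add_left, H.add_right hF, H.add_right hF, H.smul_left, H.smul_left, H.smul_right, H.smul_right,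
          ho.apply, ho.apply, ho.apply, ho.apply]
        rw [if_pos rfl, if_neg hne01, if_neg hne01.symm, if_pos rfl, mul_zero, mul_zero, add_zero, zero_add, mul_one,
          ← pow_succ', hε, add_neg_cancel]
      have hv : Cfsg.hermForm (m + m) F q (Pi.single ⟨0, by omega⟩ 1) v = 1 := by
        rw [hermForm_single_left]
        simp [v, hne01]
      have hv' : v ≠ 0 := fun h0 => by rw [h0, H.zero_right hF] at hv; exact zero_ne_one hv
      have hpow : ∀ k : ℕ, (Cfsg.unitaryTransvection (m + m) q v d) ^ k = Cfsg.unitaryTransvection (m + m) q v ((k : F) * d) := by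
        intro k
        induction k with
        | zero => rw [pow_zero, Nat.cast_zero, zero_mul, transvection_zero]
        | succ k ih => rw [pow_succ, ih, transvection_mul v hv0, Nat.cast_succ, add_mul, one_mul]
      have hker : finrank F (eig (Cfsg.unitaryTransvection (m + m) q v d) 1) = m + m - 1 := by
        set T : Module.End F (Fin (m + m) → F) :=
          (Matrix.toLin' (Cfsg.unitaryTransvection (m + m) q v d) : Module.End F (Fin (m + m) → F)) - (1 : F) • 1 with hT
        have hTa : ∀ w, T w = (d * Cfsg.hermForm (m + m) F q w v) • v := fun w => by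
          rw [hT, LinearMap.sub_apply, one_smul, Module.End.one_apply, Matrix.toLin'_apply, transvection_mulVec,
            add_sub_cancel_left]
        have hrange : LinearMap.range T = Submodule.span F {v} := by
          refine le_antisymm ?_ ((Submodule.span_singleton_le_iff_mem _ _).mpr ⟨d⁻¹ • Pi.single ⟨0, by omega⟩ 1, ?_⟩)
          · rintro _ ⟨w, rfl⟩
            rw [hTa]
            exact Submodule.smul_mem _ _ (Submodule.mem_span_singleton_self v)
          · rw [hTa, H.smul_left, hv, mul_one, mul_inv_cancel₀ hd0, one_smul]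
        have hn := LinearMap.finrank_range_add_finrank_ker T
        rw [Module.finrank_fin_fun, hrange, finrank_span_singleton hv'] at hn
        show finrank F (LinearMap.ker T) = _
        omega
      refine mkWitness (Cfsg.unitaryTransvection (m + m) q v d) 1
        (transvection_isUnitary hF v hv0 (by rw [hd]; exact add_neg_cancel d)) (transvection_det v hv0 d) ⟨1, ?_⟩
        (one_pow _) (by rw [hker]; exact ⟨m - 1, by omega⟩) (Or.inl (by rw [hker]; omega)) h
      rw [hpow, CharP.cast_eq_zero, zero_mul, transvection_zero, one_smul]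
    · rintro ⟨hr2, hodd, -⟩
      subst hr2
      exact absurd (even_iff_two_dvd.mpr hpq) (Nat.not_even_iff_odd.mpr hodd)
  have hr0 : (r : F) ≠ 0 := natCast_ne_zero_of_ne hrp
  by_cases hr2 : r = 2
  · subst hr2
    have h2F : (2 : F) ≠ 0 := by simpa using hr0
    have hqodd : Odd q := by
      rw [← Nat.not_even_iff_odd]
      exact fun h => hrp (hqp 2 Nat.prime_two h.two_dvd)
    have hrhs : (2 = 2 ∧ Odd q ∧ padicValNat 2 (q + 1) ≤ padicValNat 2 (m + m)) ↔
        ¬ (padicValNat 2 (m + m) < padicValNat 2 (q + 1)) :=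
      ⟨fun h => not_lt.mpr h.2.2, fun h => ⟨rfl, hqodd, not_lt.mp h⟩⟩
    rw [hrhs, ← neg_one_pow_root hF h2F (by omega)]
    constructor
    · rintro h ⟨ζ, hζ, hζn⟩
      let i0 : Fin (m + m) := ⟨0, by omega⟩
      let d : Fin (m + m) → F := Function.update (fun _ => ζ) i0 (-ζ)
      have hζ0 : ζ ≠ 0 := fun h0 => by rw [h0, zero_pow (Nat.succ_ne_zero q)] at hζ; exact zero_ne_one hζ
      have hne : -ζ ≠ ζ := fun h => h2F (mul_right_cancel₀ hζ0 (by linear_combination -h))
      have hd : ∀ i, d i = ζ ∨ d i = -ζ := fun i => by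
        simp only [d, Function.update_apply]; split_ifs <;> simp
      refine mkWitness (Matrix.diagonal d) ζ (isUnitary_diagonal hF fun i => ?_) ?_ ⟨ζ ^ 2, ?_⟩ hζ ?_ (Or.inl ?_) h
      · rcases hd i with e | e <;> rw [e]
        · exact hζ
        · rw [pow_succ, neg_pow_q hF, neg_mul_neg, ← pow_succ, hζ]
      · rw [Matrix.det_diagonal, Finset.prod_update_of_mem (Finset.mem_univ _), Finset.prod_const,
          Finset.card_sdiff_of_subset (Finset.singleton_subset_iff.mpr (Finset.mem_univ _)), Finset.card_univ,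
          Fintype.card_fin, Finset.card_singleton, neg_mul, ← pow_succ', Nat.sub_add_cancel (by omega), hζn, neg_neg]
      · rw [Matrix.diagonal_pow, show d ^ 2 = fun _ => ζ ^ 2 from funext fun i => by
          rcases hd i with e | e <;> rw [Pi.pow_apply, e]
          rw [neg_sq], Matrix.smul_one_eq_diagonal]
      all_goals
        have hcard : Nat.card {i // d i = ζ} = m + m - 1 := by
          rw [Nat.card_congr (Equiv.subtypeEquivRight (q := fun i => ¬ i = i0) fun i => ?_), Nat.card_eq_fintype_card,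
            Fintype.card_subtype_compl, Fintype.card_fin, Fintype.card_subtype_eq]
          simp only [d, Function.update_apply]
          split_ifs with hi <;> simp [hi, hne]
        rw [eig_diagonal, hcard]
      · exact ⟨m - 1, by omega⟩
      · omega
    · intro hno x hx ⟨z, hz⟩ _
      obtain ⟨hxU, hxd⟩ := hx
      have hxd' : (x : Matrix (Fin (m + m)) (Fin (m + m)) F).det = 1 := (mem_specialLinear x).mp hxd
      set L : Module.End F (Fin (m + m) → F) := Matrix.toLin' (x : Matrix (Fin (m + m)) (Fin (m + m)) F) with hL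
      have H := hermForm_isHerm hF (m + m)
      have hLU : ∀ u v, Cfsg.hermForm (m + m) F q (L u) (L v) = Cfsg.hermForm (m + m) F q u v := fun u v => by
        rw [hL, Matrix.toLin'_apply, Matrix.toLin'_apply]; exact (mem_GU_iff _).1 hxU u v
      have hz2 : ∀ v, L (L v) = z • v := fun v => by
        rw [hL, Matrix.toLin'_apply, Matrix.toLin'_apply, Matrix.mulVec_mulVec, ← pow_two, ← Units.val_pow_eq_pow_val,
          hz, Matrix.smul_mulVec, Matrix.one_mulVec]
      let e0 : Fin (m + m) → F := Pi.single ⟨0, by omega⟩ 1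
      have he0 : Cfsg.hermForm (m + m) F q e0 e0 = 1 := (single_orthonormal hF (m + m)).1 _
      have hzn : z ^ (q + 1) = 1 := by
        have h1 := hLU (L e0) (L e0)
        rw [hz2, H.smul_left, H.smul_right, hLU, he0, mul_one] at h1
        rw [pow_succ']; exact h1
      have hz0 : z ≠ 0 := fun h0 => by rw [h0, zero_pow (Nat.succ_ne_zero q)] at hzn; exact zero_ne_one hzn
      obtain ⟨t, ht⟩ := hqodd
      obtain ⟨ζ, hζ⟩ : IsSquare z := by
        refine (FiniteField.isSquare_iff ?_ hz0).mpr ?_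
        · rw [ringChar.eq F p]
          exact fun h => hrp h.symm
        · rw [hF, show q ^ 2 / 2 = (q + 1) * t by
            rw [ht, show (2 * t + 1) ^ 2 = 2 * ((2 * t + 1 + 1) * t) + 1 by ring]; omega, pow_mul, hzn, one_pow]
      have hζ0 : ζ ≠ 0 := fun h0 => hz0 (by rw [hζ, h0, mul_zero])
      have hζn : ζ ^ (q + 1) = 1 ∨ ζ ^ (q + 1) = -1 := by
        refine sq_eq_one_iff.mp ?_
        rw [← pow_mul, mul_comm, pow_mul, pow_two, ← hζ, hzn]
      set y : Module.End F (Fin (m + m) → F) := ζ⁻¹ • L with hy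
      have hyy : ∀ v, y (y v) = v := fun v => by
        rw [hy, LinearMap.smul_apply, LinearMap.smul_apply, map_smul, hz2, smul_smul, smul_smul, hζ]
        rw [show ζ⁻¹ * ζ⁻¹ * (ζ * ζ) = 1 by field_simp, one_smul]
      have hLy : ∀ v, L v = ζ • y v := fun v => by
        rw [hy, LinearMap.smul_apply, smul_smul, mul_inv_cancel₀ hζ0, one_smul]
      have hyU : ∀ u v, ζ ^ (q + 1) * Cfsg.hermForm (m + m) F q (y u) (y v) = Cfsg.hermForm (m + m) F q u v := fun u v => by
        rw [← hLU u v, hLy u, hLy v, H.smul_left, H.smul_right, pow_succ', mul_assoc]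
      let Ep : Submodule F (Fin (m + m) → F) := LinearMap.ker (y - 1)
      let Em : Submodule F (Fin (m + m) → F) := LinearMap.ker (y + 1)
      have hEp : ∀ v, v ∈ Ep ↔ y v = v := fun v => mem_fix
      have hEm : ∀ v, v ∈ Em ↔ y v = -v := fun v => by
        rw [LinearMap.mem_ker, LinearMap.add_apply, Module.End.one_apply, add_eq_zero_iff_eq_neg]
      have hsup : Ep ⊔ Em = ⊤ := by
        refine eq_top_iff.mpr fun v _ => Submodule.mem_sup.mpr
          ⟨(2 : F)⁻¹ • (v + y v), (hEp _).mpr ?_, (2 : F)⁻¹ • (v - y v), (hEm _).mpr ?_, ?_⟩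
        · rw [map_smul, map_add, hyy, add_comm (y v)]
        · rw [map_smul, map_sub, hyy, ← smul_neg, neg_sub]
        · rw [← smul_add, show v + y v + (v - y v) = (2 : F) • v by rw [two_smul]; abel, smul_smul,
            inv_mul_cancel₀ h2F, one_smul]
      -- an invariant polar pair
      obtain ⟨P0, P1, hPP, hinv0, hinv1⟩ : ∃ P0 P1 : Submodule F (Fin (m + m) → F), IsPolarPair q P0 P1 ∧
          (∀ v ∈ P0, L v ∈ P0) ∧ (∀ v ∈ P1, L v ∈ P1) := by
        rcases hζn with hn1 | hn1
        · -- isometry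
          have hyU' : ∀ u v, Cfsg.hermForm (m + m) F q (y u) (y v) = Cfsg.hermForm (m + m) F q u v := fun u v => by
            have := hyU u v
            rwa [hn1, one_mul] at this
          have horth : ∀ u ∈ Ep, ∀ v ∈ Em, Cfsg.hermForm (m + m) F q u v = 0 := fun u hu v hv => by
            have h1 := hyU' u v
            rw [(hEp u).mp hu, (hEm v).mp hv, H.neg_right hF] at h1
            exact (mul_eq_zero.mp (show (2 : F) * Cfsg.hermForm (m + m) F q u v = 0 by linear_combination -h1)).resolve_left h2F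
          have hnd : ∀ P R : Submodule F (Fin (m + m) → F), (∀ u ∈ P, ∀ v ∈ R, Cfsg.hermForm (m + m) F q u v = 0) →
              P ⊔ R = ⊤ → ∀ u ∈ P, (∀ v ∈ P, Cfsg.hermForm (m + m) F q u v = 0) → u = 0 := by
            intro P R hor hs u hu h0
            refine hermForm_nondeg hF (m + m) u fun w => ?_
            obtain ⟨a, ha, b, hb, rfl⟩ := Submodule.mem_sup.mp (hs.ge (Submodule.mem_top : w ∈ ⊤))
            rw [H.add_right hF, h0 a ha, hor u hu b hb, add_zero]
          have hinf : Ep ⊓ Em = ⊥ := eq_bot_iff.mpr fun v hv => (Submodule.mem_bot F).mpr (by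
            have h1 := (hEp v).mp hv.1
            rw [(hEm v).mp hv.2] at h1
            have : (2 : F) • v = 0 := by rw [two_smul]; exact add_eq_zero_iff_eq_neg.mpr h1.symm
            exact (smul_eq_zero.mp this).resolve_left h2F)
          have hdims : finrank F Ep + finrank F Em = m + m := by
            have := Submodule.finrank_sup_add_finrank_inf_eq Ep Em
            rw [hsup, hinf, finrank_top, finrank_bot, Module.finrank_fin_fun] at this
            omega
          have hdety : LinearMap.det y = (-1) ^ finrank F Em := by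
            let ee := Ep.prodEquivOfIsCompl Em (IsCompl.of_eq hinf hsup)
            have : y = ee.conj (LinearMap.prodMap LinearMap.id ((-1 : F) • LinearMap.id)) := by
              refine LinearMap.ext fun v => ?_
              obtain ⟨⟨a, b⟩, rfl⟩ := ee.surjective v
              rw [LinearEquiv.conj_apply_apply, LinearEquiv.symm_apply_apply]
              simp [ee, (hEp a.1).mp a.2, (hEm b.1).mp b.2]
            rw [this, show LinearMap.det (ee.conj _) = _ from LinearMap.det_conj _ ee, LinearMap.det_prodMap,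
              LinearMap.det_id, LinearMap.det_smul, LinearMap.det_id, mul_one, one_mul]
          have hbeven : Even (finrank F Em) := by
            rw [← Nat.not_odd_iff_even]
            intro hb
            refine hno ⟨ζ, hn1, ?_⟩
            have h1 : LinearMap.det L = ζ ^ (m + m) * LinearMap.det y := by
              rw [show L = ζ • y from LinearMap.ext hLy, LinearMap.det_smul, Module.finrank_fin_fun]
            rw [hL, LinearMap.det_toLin', hxd', hdety, hb.neg_one_pow, mul_neg, mul_one] at h1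
            rw [← neg_neg (ζ ^ (m + m)), ← h1]
          have haeven : Even (finrank F Ep) := by
            obtain ⟨k, hk⟩ := hbeven
            exact ⟨m - k, by omega⟩
          obtain ⟨A1, B1, hs1, hA1, hB1⟩ := exists_singular_split hF h2F Ep (hnd Ep Em horth hsup) haeven
          obtain ⟨A2, B2, hs2, hA2, hB2⟩ := exists_singular_split hF h2F Em
            (hnd Em Ep (fun u hu v hv => (H.eq_zero_symm hF).mp (horth v hv u hu)) (by rw [sup_comm, hsup])) hbeven
          have hA1' : A1 ≤ Ep := hs1 ▸ le_sup_left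
          have hB1' : B1 ≤ Ep := hs1 ▸ le_sup_right
          have hA2' : A2 ≤ Em := hs2 ▸ le_sup_left
          have hB2' : B2 ≤ Em := hs2 ▸ le_sup_right
          have hsing : ∀ P R : Submodule F (Fin (m + m) → F), P ≤ Ep → R ≤ Em →
              (∀ u ∈ P, ∀ v ∈ P, Cfsg.hermForm (m + m) F q u v = 0) → (∀ u ∈ R, ∀ v ∈ R, Cfsg.hermForm (m + m) F q u v = 0) →
              (∀ u ∈ P ⊔ R, ∀ v ∈ P ⊔ R, Cfsg.hermForm (m + m) F q u v = 0) ∧ (∀ v ∈ P ⊔ R, L v ∈ P ⊔ R) := by
            intro P R hP' hR' hPs hRs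
            constructor
            · intro u hu v hv
              obtain ⟨a, ha, b, hb, rfl⟩ := Submodule.mem_sup.mp hu
              obtain ⟨c, hc, d, hd, rfl⟩ := Submodule.mem_sup.mp hv
              rw [H.add_left, H.add_right hF, H.add_right hF, hPs a ha c hc, hRs b hb d hd, horth a (hP' ha) d (hR' hd),
                (H.eq_zero_symm hF).mp (horth c (hP' hc) b (hR' hb))]
              simp
            · intro v hv
              obtain ⟨a, ha, b, hb, rfl⟩ := Submodule.mem_sup.mp hv
              rw [map_add, hLy a, hLy b, (hEp a).mp (hP' ha), (hEm b).mp (hR' hb)]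
              exact Submodule.add_mem_sup (P.smul_mem ζ ha) (R.smul_mem ζ (R.neg_mem hb))
          obtain ⟨hs0, hi0⟩ := hsing A1 A2 hA1' hA2' hA1 hA2
          obtain ⟨hs1', hi1⟩ := hsing B1 B2 hB1' hB2' hB1 hB2
          exact ⟨A1 ⊔ A2, B1 ⊔ B2, ⟨hs0, hs1', by rw [sup_sup_sup_comm, hs1, hs2, hsup]⟩, hi0, hi1⟩
        · -- anti-isometry
          refine ⟨Ep, Em, ⟨fun u hu v hv => ?_, fun u hu v hv => ?_, hsup⟩, fun v hv => ?_, fun v hv => ?_⟩
          · have h1 := hyU u v
            rw [(hEp u).mp hu, (hEp v).mp hv, hn1] at h1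
            exact (mul_eq_zero.mp (show (2 : F) * Cfsg.hermForm (m + m) F q u v = 0 by linear_combination -h1)).resolve_left h2F
          · have h1 := hyU u v
            rw [(hEm u).mp hu, (hEm v).mp hv, hn1, H.neg_left, H.neg_right hF, neg_neg] at h1
            exact (mul_eq_zero.mp (show (2 : F) * Cfsg.hermForm (m + m) F q u v = 0 by linear_combination -h1)).resolve_left h2F
          · rw [hLy v, (hEp v).mp hv]; exact Ep.smul_mem ζ hv
          · rw [hLy v, (hEm v).mp hv]; exact Em.smul_mem ζ (Em.neg_mem hv)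
      obtain ⟨g, hgU, hgd, hg0, hg1⟩ := exists_su_map hF (by omega) hP hPP
      refine ⟨g, ⟨hgU, (mem_specialLinear g).mpr hgd⟩, 1, fun i => ?_⟩
      have key : ∀ (Dd P : Submodule F (Fin (m + m) → F)),
          Dd.map (Matrix.toLin' (g : Matrix (Fin (m + m)) (Fin (m + m)) F)) = P → (∀ v ∈ P, L v ∈ P) →
          Dd.map (Matrix.toLin' ((g⁻¹ * x * g : GL (Fin (m + m)) F) : Matrix (Fin (m + m)) (Fin (m + m)) F)) = Dd := by
        intro Dd P hmap hinv
        refine map_eq_of_le _ (fun v hv => ?_) le_rfl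
        have h1 : (g : Matrix (Fin (m + m)) (Fin (m + m)) F) *ᵥ v ∈ P :=
          hmap ▸ ⟨v, hv, Matrix.toLin'_apply _ _⟩
        obtain ⟨w, hw, hwe⟩ := hmap.ge (hinv _ h1)
        rw [Units.val_mul, Units.val_mul, ← Matrix.mulVec_mulVec, ← Matrix.mulVec_mulVec,
          show (x : Matrix (Fin (m + m)) (Fin (m + m)) F) *ᵥ ((g : Matrix (Fin (m + m)) (Fin (m + m)) F) *ᵥ v) =
            (g : Matrix (Fin (m + m)) (Fin (m + m)) F) *ᵥ w by
            rw [← Matrix.toLin'_apply (g : Matrix (Fin (m + m)) (Fin (m + m)) F) w, hwe, hL, Matrix.toLin'_apply],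
          Matrix.mulVec_mulVec, ← Units.val_mul, inv_mul_cancel, Units.val_one, Matrix.one_mulVec]
        exact hw
      fin_cases i
      · exact key _ _ hg0 hinv0
      · exact key _ _ hg1 hinv1
  constructor
  swap
  · rintro ⟨h, -⟩
    exact absurd h hr2
  intro h
  exfalso
  have hrodd : Odd r := (Fact.out : r.Prime).odd_of_ne_two hr2
  obtain ⟨j, hj, hjd⟩ := exists_odd_factor hF (by omega) hP Fact.out (fun h => hrp (hqp r Fact.out h)) hΩ
  by_cases hq1 : r ∣ q + 1
  · obtain ⟨u, hu⟩ : ∃ u : F, u ^ r = 1 ∧ u ≠ 1 ∧ u ^ (q + 1) = 1 := by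
      obtain ⟨a, ha1, haord⟩ := exists_norm_one_gen (F := F) hF
      obtain ⟨k, hk⟩ := hq1
      refine ⟨a ^ k, by rw [← pow_mul, mul_comm, ← hk, ha1], fun h => ?_, by rw [← pow_mul, mul_comm, pow_mul, ha1, one_pow]⟩
      have := orderOf_dvd_of_pow_eq_one h
      rw [haord, hk] at this
      have hk0 : 0 < k := Nat.pos_of_ne_zero fun h0 => by subst h0; simp at hk
      have := Nat.le_of_dvd hk0 this
      have := (Fact.out : r.Prime).two_le
      nlinarith
    obtain ⟨hur, hu1, huq⟩ := hu
    have hu0 : u ≠ 0 := fun h0 => by rw [h0, zero_pow (Nat.succ_ne_zero q)] at huq; exact zero_ne_one huq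
    have huinv : u⁻¹ ≠ u := by
      intro h
      have h2 : u ^ 2 = 1 := by rw [pow_two]; nth_rewrite 1 [← h]; exact inv_mul_cancel₀ hu0
      have h3 := pow_gcd_eq_one.mpr ⟨hur, h2⟩
      rw [show Nat.gcd r 2 = 1 from (Nat.coprime_primes Fact.out Nat.prime_two).mpr hr2, pow_one] at h3
      exact hu1 h3
    let i0 : Fin (m + m) := ⟨0, by omega⟩
    let i1 : Fin (m + m) := ⟨1, by omega⟩
    have h01 : i0 ≠ i1 := fun h => by simp [i0, i1] at h
    let d : Fin (m + m) → F := Function.update (Function.update 1 i0 u) i1 u⁻¹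
    refine mkWitness (Matrix.diagonal d) u (isUnitary_diagonal hF fun i => ?_) ?_ ⟨1, ?_⟩ huq ?_ (Or.inr hrodd) h
    · simp only [d, Function.update_apply]
      split_ifs
      · rw [inv_pow, huq, inv_one]
      · exact huq
      · rw [Pi.one_apply, one_pow]
    · rw [Matrix.det_diagonal, Finset.prod_update_of_mem (Finset.mem_univ _),
        Finset.prod_update_of_mem (by simp [h01])]
      simp [hu0]
    · rw [Matrix.diagonal_pow, one_smul, show d ^ r = 1 from funext fun i => by
        simp only [d, Pi.pow_apply, Function.update_apply]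
        split_ifs
        · rw [inv_pow, hur, inv_one]; rfl
        · exact hur
        · rw [Pi.one_apply, one_pow], Matrix.diagonal_one']
    · rw [eig_diagonal, Nat.card_congr (Equiv.subtypeEquivRight (q := fun i => i = i0) fun i => ?_)]
      · simp
      simp only [d, Function.update_apply]
      split_ifs with hi hi'
      · subst hi; simp [huinv, h01.symm]
      · simp [hi']
      · simp [Ne.symm hu1, hi']
  · set e := orderOf (Fintype.card F : ZMod r) with hedef
    have hqr : ((q : ZMod r)) ^ (2 * j + 1) = -1 := by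
      have := (ZMod.natCast_eq_zero_iff _ r).mpr hjd
      push_cast at this
      exact eq_neg_of_add_eq_zero_left this
    have he2 : e ∣ 2 * j + 1 := by
      refine orderOf_dvd_of_pow_eq_one ?_
      rw [hF, Nat.cast_pow, ← pow_mul, mul_comm, pow_mul, hqr, neg_one_sq]
    have heodd : Odd e := Odd.of_dvd_nat ⟨j, rfl⟩ he2
    have hre : r ∣ q ^ e + 1 := by
      refine (ZMod.natCast_eq_zero_iff _ r).mp ?_
      push_cast
      have hsq : ((q : ZMod r) ^ e) ^ 2 = 1 := by
        rw [← pow_mul, mul_comm, pow_mul, ← Nat.cast_pow, ← hF, hedef, pow_orderOf_eq_one]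
      rcases sq_eq_one_iff.mp hsq with h1 | h1
      · exfalso
        obtain ⟨t, ht⟩ := he2
        rw [ht, pow_mul, h1, one_pow] at hqr
        have h2 : ((2 : ℕ) : ZMod r) = 0 := by push_cast; linear_combination hqr
        rw [ZMod.natCast_eq_zero_iff, Nat.prime_dvd_prime_iff_eq Fact.out Nat.prime_two] at h2
        exact hr2 h2
      · rw [h1, neg_add_cancel]
    have hen : e ≤ m + m := (Nat.le_of_dvd (by omega) he2).trans (by omega)
    obtain ⟨M, hMU, hMd, hMr, hMe⟩ := exists_block_witness hF hrp heodd hq1 hre (m + m - e) (N := m + m) (by omega)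
    refine mkWitness M 1 hMU hMd ⟨1, by rw [hMr, one_smul]⟩ (one_pow _) ?_ (Or.inr hrodd) h
    rw [hMe]
    obtain ⟨k, hk⟩ := heodd
    exact ⟨m - k - 1, by omega⟩

end Cfsg.Agent.S5984
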