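import Cfsg.Statements.S5985
import Cfsg.Agent.Lib.Orth.Derange

set_option autoImplicit false
open scoped MatrixGroups
open Cfsg

namespace Cfsg.Agent.S5985

/-- Elements of prime order of Ω⁺_n(q), q even, with no fixed nonsingular 1-space. Here `T = PΩ⁺_n(F)`, `n = 2d ≥ 8`, realised through `Ω⁺_n(q)`, the commutator subgroup of the isometry group of `Q = Σ xᵢyᵢ` over the field `F` with `q` elements; an element of `T` of prime order `r` is an element `x` of `Ω⁺_n(q)` with `x^r` scalar and `x` not scalar; `q` is even (so the centre is trivial). Let Ω be the set of 1-dimensional subspaces spanned by a vector `v` with `Q(v) ≠ 0`, and let `r` be a prime dividing their number. Then every element of `T` of order `r` fixes some nonsingular 1-space if and only if `r = 2` and `n ≡ 2 (mod 4)` (that is, `d` is odd). -/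
theorem result {F : Type*} [Field F] [Fintype F] {p : ℕ} [Fact p.Prime] [CharP F p] {q : ℕ} (hq : Fintype.card F = q)
    (hp : p = 2) (d : ℕ) (hd : 4 ≤ d) (r : ℕ) [Fact r.Prime]
    (hrΩ : r ∣ Nat.card {W : Submodule F (Fin d ⊕ Fin d → F) // Module.finrank F ↥W = 1 ∧ ∃ v ∈ W, Cfsg.quadFormPlus d F v ≠ 0}) :
    (∀ x : GL (Fin d ⊕ Fin d) F, x ∈ Cfsg.Geo.omegaGL (Cfsg.quadFormPlus d F) →
      (∃ z : F, ((x ^ r : GL (Fin d ⊕ Fin d) F) : Matrix (Fin d ⊕ Fin d) (Fin d ⊕ Fin d) F) = z • (1 : Matrix (Fin d ⊕ Fin d) (Fin d ⊕ Fin d) F)) →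
      (∀ z : F, (x : Matrix (Fin d ⊕ Fin d) (Fin d ⊕ Fin d) F) ≠ z • (1 : Matrix (Fin d ⊕ Fin d) (Fin d ⊕ Fin d) F)) →
      ∃ W : Submodule F (Fin d ⊕ Fin d → F), (Module.finrank F ↥W = 1 ∧ ∃ v ∈ W, Cfsg.quadFormPlus d F v ≠ 0) ∧ W.map (Matrix.toLin' (x : Matrix (Fin d ⊕ Fin d) (Fin d ⊕ Fin d) F)) ≤ W) ↔ (r = 2 ∧ Odd d) := by
  classical
  have h2 : (2 : F) = 0 := by subst hp; exact_mod_cast CharP.cast_eq_zero F 2
  have hnd := Cfsg.Agent.Orth.quadPlus_nondeg (F := F) d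
  have hG : Cfsg.Agent.Orth.Good (Cfsg.Agent.Orth.quadPlus d F) :=
    Cfsg.Agent.Orth.Good.of_card hnd (.inr (by simp; omega))
  have hex : ∃ w, Cfsg.Agent.Orth.quadPlus d F w ≠ 0 := by
    obtain ⟨w, hw⟩ := Cfsg.Agent.Orth.exists_Q_eq hnd (by simp; omega) 1
    exact ⟨w, by rw [hw]; exact one_ne_zero⟩
  obtain ⟨m, rfl⟩ : ∃ m, d = m + 1 := ⟨d - 1, by omega⟩
  constructor
  · intro hall
    by_contra hno
    by_cases hr2 : r = 2
    · subst hr2
      obtain ⟨k, hk⟩ : Even (m + 1) := by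
        by_contra h; exact hno ⟨rfl, Nat.not_even_iff_odd.1 h⟩
      rw [hk] at hall hex
      obtain ⟨g, hgΩ, hgr, hgfix⟩ := Cfsg.Agent.Orth.exists_involution_plus (F := F) h2 k (by omega)
      exact Cfsg.Agent.Orth.not_forall_point h2 hgΩ hgr hgfix hex hall
    · haveI : NeZero (m + 1) := ⟨by omega⟩
      have hzeros := Cfsg.Agent.Forms.card_zeros_qfPlus (F := F) m
      rw [Cfsg.Agent.Forms.qfPlus_eq, Nat.card_eq_fintype_card (α := F)] at hzeros
      have hpts := Cfsg.Agent.Orth.card_points_mul (Cfsg.Agent.Orth.quadPlus (m + 1) F)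
      have hcompl := Cfsg.Agent.Orth.card_nonsingular_add_zeros (Cfsg.Agent.Orth.quadPlus (m + 1) F)
      simp only [Cfsg.Agent.Orth.coe_quadPlus, Fintype.card_sum, Fintype.card_fin] at hpts hcompl
      have hN : Nat.card {W : Submodule F (Fin (m + 1) ⊕ Fin (m + 1) → F) //
          Module.finrank F ↥W = 1 ∧ ∃ v ∈ W, Cfsg.quadFormPlus (m + 1) F v ≠ 0} =
          Fintype.card F ^ m * (Fintype.card F ^ (m + 1) - 1) := by
        have hq1 : 1 < Fintype.card F := Fintype.one_lt_card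
        refine Nat.eq_of_mul_eq_mul_right (show 0 < Fintype.card F - 1 by omega) (hpts.trans ?_)
        have h1 : 1 ≤ Fintype.card F ^ (m + 1) := Nat.one_le_pow _ _ (by omega)
        zify [h1, hq1.le] at hcompl ⊢
        linear_combination hcompl - hzeros
      have hdvd : r ∣ Fintype.card F ^ (m + 1) - 1 :=
        (Cfsg.Agent.Orth.eq_two_or_dvd Fact.out h2 (hN ▸ hrΩ)).resolve_left hr2
      obtain ⟨T, hTQ, hTr, hTfix⟩ := Cfsg.Agent.Orth.exists_fpf_plus (F := F) (m + 1) hdvd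
      obtain ⟨g, hgΩ, hgr, hgfix⟩ := Cfsg.Agent.Orth.exists_omega_fpf hG
        ((Fact.out : r.Prime).odd_of_ne_two hr2) T hTQ hTr hTfix
      exact Cfsg.Agent.Orth.not_forall_point h2 hgΩ hgr
        (fun v hv hgv => hv (by rw [hgfix v hgv, QuadraticMap.map_zero])) hex hall
  · rintro ⟨rfl, hdodd⟩
    rw [← Cfsg.Agent.Orth.coe_quadPlus]
    refine Cfsg.Agent.Orth.forall_point_two hG h2 hex fun U hU hle => ?_
    have h := Cfsg.Agent.Forms.two_mul_finrank_singular_le _ hnd U hU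
    simp only [Module.finrank_fintype_fun_eq_card, Fintype.card_sum, Fintype.card_fin] at h hle
    rw [show Module.finrank F U = m + 1 by omega]; exact hdodd

end Cfsg.Agent.S5985
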