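import Cfsg.Statements.S5986
import Cfsg.Agent.Lib.Orth.Derange
import Cfsg.Agent.S2617

set_option autoImplicit false
open scoped MatrixGroups
open Cfsg

namespace Cfsg.Agent.S5986

/-- Elements of prime order of Ω⁻_n(q), q even, with no fixed nonsingular 1-space. Here `T = PΩ⁻_n(F)`, `n = 2d ≥ 8`, realised through `Ω⁻_n(q)`, the commutator subgroup of the isometry group of `Q = Σ_{i<d−1} xᵢyᵢ + z₁² + a z₁z₂ + b z₂²` with `z₁² + a z₁z₂ + b z₂²` anisotropic, over the field `F` with `q` elements; an element of `T` of prime order `r` is an element `x` of `Ω⁻_n(q)` with `x^r` scalar and `x` not scalar; `q` is even (so the centre is trivial). Let Ω be the set of 1-dimensional subspaces spanned by a vector `v` with `Q(v) ≠ 0`, and let `r` be a prime dividing their number. Then every element of `T` of order `r` fixes some nonsingular 1-space if and only if `r = 2`. -/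
theorem result {F : Type*} [Field F] [Fintype F] {p : ℕ} [Fact p.Prime] [CharP F p] {q : ℕ} (hq : Fintype.card F = q)
    (hp : p = 2) (d : ℕ) (hd : 4 ≤ d) (a b : F) (hab : ∀ x y : F, x ^ 2 + a * x * y + b * y ^ 2 = 0 → x = 0 ∧ y = 0) (r : ℕ) [Fact r.Prime]
    (hrΩ : r ∣ Nat.card {W : Submodule F ((Fin (d - 1) ⊕ Fin (d - 1)) ⊕ Fin 2 → F) // Module.finrank F ↥W = 1 ∧ ∃ v ∈ W, Cfsg.quadFormMinus (d - 1) F a b v ≠ 0}) :
    (∀ x : GL ((Fin (d - 1) ⊕ Fin (d - 1)) ⊕ Fin 2) F, x ∈ Cfsg.Geo.omegaGL (Cfsg.quadFormMinus (d - 1) F a b) →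
      (∃ z : F, ((x ^ r : GL ((Fin (d - 1) ⊕ Fin (d - 1)) ⊕ Fin 2) F) : Matrix ((Fin (d - 1) ⊕ Fin (d - 1)) ⊕ Fin 2) ((Fin (d - 1) ⊕ Fin (d - 1)) ⊕ Fin 2) F) = z • (1 : Matrix ((Fin (d - 1) ⊕ Fin (d - 1)) ⊕ Fin 2) ((Fin (d - 1) ⊕ Fin (d - 1)) ⊕ Fin 2) F)) →
      (∀ z : F, (x : Matrix ((Fin (d - 1) ⊕ Fin (d - 1)) ⊕ Fin 2) ((Fin (d - 1) ⊕ Fin (d - 1)) ⊕ Fin 2) F) ≠ z • (1 : Matrix ((Fin (d - 1) ⊕ Fin (d - 1)) ⊕ Fin 2) ((Fin (d - 1) ⊕ Fin (d - 1)) ⊕ Fin 2) F)) →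
      ∃ W : Submodule F ((Fin (d - 1) ⊕ Fin (d - 1)) ⊕ Fin 2 → F), (Module.finrank F ↥W = 1 ∧ ∃ v ∈ W, Cfsg.quadFormMinus (d - 1) F a b v ≠ 0) ∧ W.map (Matrix.toLin' (x : Matrix ((Fin (d - 1) ⊕ Fin (d - 1)) ⊕ Fin 2) ((Fin (d - 1) ⊕ Fin (d - 1)) ⊕ Fin 2) F)) ≤ W) ↔ r = 2 := by
  classical
  have h2 : (2 : F) = 0 := by subst hp; exact_mod_cast CharP.cast_eq_zero F 2
  have hnd := Cfsg.Agent.Orth.quadMinus_nondeg (F := F) (d - 1) hab
  have hG : Cfsg.Agent.Orth.Good (Cfsg.Agent.Orth.quadMinus (d - 1) F a b) :=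
    Cfsg.Agent.Orth.Good.of_card hnd (.inr (by simp; omega))
  have hex : ∃ w, Cfsg.Agent.Orth.quadMinus (d - 1) F a b w ≠ 0 := by
    obtain ⟨w, hw⟩ := Cfsg.Agent.Orth.exists_Q_eq hnd (by simp) 1
    exact ⟨w, by rw [hw]; exact one_ne_zero⟩
  constructor
  · intro hall
    by_contra hr2
    obtain ⟨m, rfl⟩ : ∃ m, d = m + 1 := ⟨d - 1, by omega⟩
    haveI : NeZero (m + 1) := ⟨by omega⟩
    have hzeros := Cfsg.Agent.Forms.card_zeros_qfMinus (F := F) hab m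
    rw [Cfsg.Agent.Forms.qfMinus_eq, Nat.card_eq_fintype_card (α := F)] at hzeros
    have hpts := Cfsg.Agent.Orth.card_points_mul (Cfsg.Agent.Orth.quadMinus m F a b)
    have hcompl := Cfsg.Agent.Orth.card_nonsingular_add_zeros (Cfsg.Agent.Orth.quadMinus m F a b)
    simp only [Cfsg.Agent.Orth.coe_quadMinus, Fintype.card_sum, Fintype.card_fin] at hpts hcompl
    have hN : Nat.card {W : Submodule F ((Fin m ⊕ Fin m) ⊕ Fin 2 → F) //
        Module.finrank F ↥W = 1 ∧ ∃ v ∈ W, Cfsg.quadFormMinus m F a b v ≠ 0} =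
        Fintype.card F ^ m * (Fintype.card F ^ (m + 1) + 1) := by
      have hq1 : 1 < Fintype.card F := Fintype.one_lt_card
      refine Nat.eq_of_mul_eq_mul_right (show 0 < Fintype.card F - 1 by omega) (hpts.trans ?_)
      zify [hq1.le] at hcompl ⊢
      linear_combination hcompl - hzeros
    have hdvd : r ∣ Fintype.card F ^ (m + 1) + 1 :=
      (Cfsg.Agent.Orth.eq_two_or_dvd Fact.out h2 (hN ▸ hrΩ)).resolve_left hr2
    obtain ⟨T, hTQ, hTr, hTfix⟩ := Cfsg.Agent.Orth.exists_fpf_minus (F := F) (m + 1) hr2 hdvd hab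
    obtain ⟨g, hgΩ, hgr, hgfix⟩ := Cfsg.Agent.Orth.exists_omega_fpf hG
      ((Fact.out : r.Prime).odd_of_ne_two hr2) T hTQ hTr hTfix
    exact Cfsg.Agent.Orth.not_forall_point h2 hgΩ hgr
      (fun v hv hgv => hv (by rw [hgfix v hgv, QuadraticMap.map_zero])) hex hall
  · rintro rfl
    rw [← Cfsg.Agent.Orth.coe_quadMinus]
    refine Cfsg.Agent.Orth.forall_point_two hG h2 hex fun U hU hle => ?_
    exfalso
    have h := Cfsg.Agent.S2617.minus_singular_le (k := d - 1) a b hab U hU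
    simp only [Fintype.card_sum, Fintype.card_fin] at hle
    omega

end Cfsg.Agent.S5986
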