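import Cfsg.Agent.EqLemmas
import Cfsg.Agent.Lib.OrthPrime.RowTools
import Cfsg.Agent.Lib.OrthPrime.SingCrit
import Cfsg.Agent.Lib.OrthPrime.SingTwo
import Cfsg.Agent.Lib.OrthPrime.SingChar

set_option autoImplicit false
open scoped MatrixGroups
open Cfsg

namespace Cfsg.Agent.S5987

theorem mod_pred {d i : ℕ} (hi : 0 < i) (hd : 1 ≤ d) :
    (d - 1) % i = if d % i = 0 then i - 1 else d % i - 1 := by
  have h := Nat.div_add_mod d i
  have hlt := Nat.mod_lt d hi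
  split_ifs with h0
  · have h1 : 1 ≤ d / i := Nat.div_pos (Nat.le_of_dvd hd (Nat.dvd_of_mod_eq_zero h0)) hi
    have h2 : i * (d / i) = i * (d / i - 1) + i := by
      conv_lhs => rw [show d / i = d / i - 1 + 1 by omega, Nat.mul_add, Nat.mul_one]
    rw [show d - 1 = i * (d / i - 1) + (i - 1) by omega, Nat.mul_add_mod, Nat.mod_eq_of_lt (by omega)]
  · rw [show d - 1 = i * (d / i) + (d % i - 1) by omega, Nat.mul_add_mod, Nat.mod_eq_of_lt (by omega)]

/-- Elements of prime order of PΩ⁻_n(q) with no fixed totally singular `m`-space. Here `T = PΩ⁻_n(F)`, `n = 2d ≥ 8`, realised through `Ω⁻_n(q)`, the commutator subgroup of the isometry group of `Q = Σ_{i<d−1} xᵢyᵢ + z₁² + a z₁z₂ + b z₂²` with `z₁² + a z₁z₂ + b z₂²` anisotropic, over the field `F` with `q` elements; an element of `T` of prime order `r` is an element `x` of `Ω⁻_n(q)` with `x^r` scalar and `x` not scalar. Let `1 ≤ m ≤ d − 1` and let `r` be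 a prime dividing the number of totally singular `m`-spaces (subspaces of dimension `m` on which `Q` vanishes); for `r ≠ p` let `i` be the multiplicative order of `q` modulo `r`, `c = i` for `i` even and `c = 2i` for `i` odd, and write `k = n mod c`, `ℓ = m mod i`, `n' = ⌊n/i⌋`, `m' = ⌊m/i⌋`, `t = (r−1)/i`. Then every element of `T` of order `r` fixes some totally singular `m`-space if and only if one of: (i) `r = 2 ≠ p` and (`n ≡ 0 (mod 4)`, or `m` is even, or `q ≢ 7 (mod 8)`); (ii) `r ≠ p` odd, `i` odd, `i ≤ m` and (`k = 0` or `k > 2ℓ`); (iii) `r ≠ p` odd, `i` even, `i ≤ m`, `n' − 2m' ≥ t`, and one of: (a) `i ≥ 2ℓ`, `k = 0`, `n/i` even and `n' − 2m' > t` (all four); (b) `k ≥ 2ℓ` and `n'` odd; (c) `k > 2ℓ` and `n'` even. -/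
theorem result {F : Type*} [Field F] [Fintype F] {p : ℕ} [Fact p.Prime] [CharP F p] {q : ℕ} (hq : Fintype.card F = q)
    (d m : ℕ) (hd : 4 ≤ d) (hm : 1 ≤ m) (hmd : m + 1 ≤ d) (a b : F) (hab : ∀ x y : F, x ^ 2 + a * x * y + b * y ^ 2 = 0 → x = 0 ∧ y = 0)
    (r : ℕ) [Fact r.Prime]
    (hrΩ : r ∣ Nat.card {W : Submodule F ((Fin (d - 1) ⊕ Fin (d - 1)) ⊕ Fin 2 → F) // Module.finrank F ↥W = m ∧ Cfsg.Geo.IsTotallySingularQuad (Cfsg.quadFormMinus (d - 1) F a b) W})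
    (i c : ℕ) (hi : i = orderOf (q : ZMod r)) (hc : c = if Even i then i else 2 * i) :
    (∀ x : GL ((Fin (d - 1) ⊕ Fin (d - 1)) ⊕ Fin 2) F, x ∈ Cfsg.Geo.omegaGL (Cfsg.quadFormMinus (d - 1) F a b) →
      (∃ z : F, ((x ^ r : GL ((Fin (d - 1) ⊕ Fin (d - 1)) ⊕ Fin 2) F) : Matrix ((Fin (d - 1) ⊕ Fin (d - 1)) ⊕ Fin 2) ((Fin (d - 1) ⊕ Fin (d - 1)) ⊕ Fin 2) F) = z • (1 : Matrix ((Fin (d - 1) ⊕ Fin (d - 1)) ⊕ Fin 2) ((Fin (d - 1) ⊕ Fin (d - 1)) ⊕ Fin 2) F)) →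
      (∀ z : F, (x : Matrix ((Fin (d - 1) ⊕ Fin (d - 1)) ⊕ Fin 2) ((Fin (d - 1) ⊕ Fin (d - 1)) ⊕ Fin 2) F) ≠ z • (1 : Matrix ((Fin (d - 1) ⊕ Fin (d - 1)) ⊕ Fin 2) ((Fin (d - 1) ⊕ Fin (d - 1)) ⊕ Fin 2) F)) →
      ∃ W : Submodule F ((Fin (d - 1) ⊕ Fin (d - 1)) ⊕ Fin 2 → F), (Module.finrank F ↥W = m ∧ Cfsg.Geo.IsTotallySingularQuad (Cfsg.quadFormMinus (d - 1) F a b) W) ∧ W.map (Matrix.toLin' (x : Matrix ((Fin (d - 1) ⊕ Fin (d - 1)) ⊕ Fin 2) ((Fin (d - 1) ⊕ Fin (d - 1)) ⊕ Fin 2) F)) ≤ W) ↔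
    ((r = 2 ∧ p ≠ 2 ∧ (Even d ∨ Even m ∨ q % 8 ≠ 7)) ∨
     (r ≠ p ∧ 2 < r ∧ Odd i ∧ i ≤ m ∧ ((2 * d) % c = 0 ∨ 2 * (m % i) < (2 * d) % c)) ∨
     (r ≠ p ∧ 2 < r ∧ Even i ∧ i ≤ m ∧ (r - 1) / i + 2 * (m / i) ≤ (2 * d) / i ∧
       ((2 * (m % i) ≤ i ∧ (2 * d) % c = 0 ∧ Even ((2 * d) / i) ∧ (r - 1) / i + 2 * (m / i) < (2 * d) / i) ∨
        (2 * (m % i) ≤ (2 * d) % c ∧ Odd ((2 * d) / i)) ∨
        (2 * (m % i) < (2 * d) % c ∧ Even ((2 * d) / i))))) := by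
  classical
  subst hq
  obtain ⟨Q, hQf⟩ : ∃ Q, Q = Orth.quadMinus (d - 1) F a b := ⟨_, rfl⟩
  rw [← Orth.coe_quadMinus, ← hQf] at hrΩ ⊢
  have hA : ∀ (W : Submodule F ((Fin (d - 1) ⊕ Fin (d - 1)) ⊕ Fin 2 → F)),
      (Module.finrank F W = m ∧ Cfsg.Geo.IsTotallySingularQuad (⇑Q) W) ↔ OrthPrime.Sing Q m W := fun W => Iff.rfl
  simp only [hA] at hrΩ ⊢
  have hQ : Q.polarBilin.Nondegenerate := hQf ▸ Orth.quadMinus_nondeg (d - 1) hab
  have hcard : Fintype.card ((Fin (d - 1) ⊕ Fin (d - 1)) ⊕ Fin 2) = 2 * d := by simp; omega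
  have hG : Orth.Good Q := Orth.Good.of_card hQ (.inr (by rw [hcard]; omega))
  have hH : ¬ OrthPrime.Half Q (⊤ : Submodule F ((Fin (d - 1) ⊕ Fin (d - 1)) ⊕ Fin 2 → F)) :=
    hQf ▸ OrthPrime.not_half_quadMinus (d - 1) hab
  have hex : ∃ v, Q v ≠ 0 := by
    refine ⟨Pi.single (.inr 0) 1, ?_⟩
    rw [hQf, Orth.coe_quadMinus]
    simp [Cfsg.quadFormMinus, Pi.single_apply]
  have hrp : r ≠ p := fun h => OrthPrime.not_dvd_card_sing p Q hQ (m := m)
    (by rw [Module.finrank_fintype_fun_eq_card, hcard]; omega) (h ▸ hrΩ)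
  by_cases hr2 : r = 2
  · subst hr2
    have hodd : Odd (Fintype.card F) := by
      obtain ⟨k, hp, hk⟩ := FiniteField.card F p
      rw [hk]; exact (hp.odd_of_ne_two (Ne.symm hrp)).pow
    obtain ⟨-, -, h2, hcard2⟩ := OrthPrime.odd_char (F := F) p hodd
    have hq4 := OrthPrime.isSquare_neg_one_iff' (F := F) hcard2
    have hq8 := OrthPrime.isSquare_two_iff' (F := F) hcard2
    simp only [true_and, lt_irrefl, false_and, and_false, or_false, ne_eq, Ne.symm hrp, not_false_eq_true]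
    constructor
    · intro hyp
      by_contra hc
      simp only [not_or, not_not] at hc
      obtain ⟨hdo, hmo, h8⟩ := hc
      have hsq : ¬ IsSquare (-1 : F) := fun h => by have := hq4.1 h; omega
      obtain ⟨g, hg, hJ⟩ := (OrthPrime.exists_j_omega_iff hG h2 hcard).2
        ⟨iff_of_false hH (fun h => h.elim hsq hdo), Or.inr (hq8.2 (Or.inr h8))⟩
      exact hmo (OrthPrime.at_j h2 hex hyp hg hJ hsq)
    · intro hR
      refine OrthPrime.forall_two_sing h2 hG hex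
        (fun g hg hg2 => OrthPrime.invol_minus h2 hQ hcard (by omega) hH (fun v => Orth.Q_ap g v) hg2)
        fun g hg hJ => ?_
      obtain ⟨hJ1, hJ2⟩ := (OrthPrime.exists_j_omega_iff hG h2 hcard).1 ⟨g, hg, hJ⟩
      have hsq : ¬ IsSquare (-1 : F) := fun h => hH (hJ1.2 (Or.inl h))
      have hdo : ¬ Even d := fun h => hH (hJ1.2 (Or.inr h))
      obtain ⟨e, he⟩ : Even m := by
        refine ((hR.resolve_left hdo).resolve_right fun h => h ?_)
        have := hq8.1 (hJ2.resolve_left hdo)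
        have := mt hq4.2 hsq
        omega
      obtain ⟨W, -, hW, hWi⟩ := OrthPrime.j_even h2 hJ hsq e (OrthPrime.ndeg_top hQ)
        (fun _ _ => Submodule.mem_top) (by rw [finrank_top, Module.finrank_fintype_fun_eq_card, hcard]; omega)
      exact ⟨W, by rwa [show 2 * e = m by omega] at hW, hWi⟩
  obtain ⟨hrF, hi', hi0⟩ := OrthPrime.order_params p rfl hrp hi
  refine (OrthPrime.forall_omegaGL_iff hr2 hG hex (OrthPrime.Sing Q m)).trans ?_
  rw [OrthPrime.singular_main (π := 1) hrF hi' hi0 hr2 hQ hcard one_lt_two (iff_of_false hH one_ne_zero) hm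
    (by omega) hrΩ]
  have hr3 : 2 < r := lt_of_le_of_ne (Fact.out : r.Prime).two_le (Ne.symm hr2)
  simp only [hr2, false_and, false_or, hrp, ne_eq, not_false_eq_true, true_and, hr3]
  rcases Nat.even_or_odd i with hie | hio
  · rw [show c = i by rw [hc, if_pos hie]]
    simp only [hie, Nat.not_odd_iff_even.2 hie, false_and, false_or, true_and, Nat.even_iff, Nat.odd_iff]
    refine and_congr_right fun _ => and_congr_right fun _ => ?_
    generalize 2 * d % i = k, 2 * d / i = n', m % i = l, (r - 1) / i + 2 * (m / i) = T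
    omega
  · rw [show c = 2 * i by rw [hc, if_neg (Nat.not_even_iff_odd.2 hio)], Nat.mul_mod_mul_left,
      mod_pred hi0 (by omega)]
    simp only [hio, Nat.not_even_iff_odd.2 hio, false_and, or_false, true_and]
    refine and_congr_right fun _ => ?_
    have := Nat.mod_lt m hi0
    split_ifs <;> omega

end Cfsg.Agent.S5987
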