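import Cfsg.Agent.EqLemmas
import Cfsg.Agent.Lib.OrthPrime.RowTools
import Cfsg.Agent.Lib.OrthPrime.PEven

set_option autoImplicit false
open scoped MatrixGroups
open Cfsg

namespace Cfsg.Agent.S5988

theorem exists_elliptic {F : Type*} [Field F] [Fintype F] {d h : ℕ}
    {Q : QuadraticForm F (Fin d ⊕ Fin d → F)} (hQf : Q = Orth.quadPlus d F) (h0 : 0 < h) (hmd : h + h < d) :
    ∃ W : Submodule F (Fin d ⊕ Fin d → F), Module.finrank F W = 2 * h ∧ OrthPrime.NDeg Q W ∧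
      ¬ OrthPrime.Half Q W := by
  obtain ⟨ζ, -, hab⟩ := Forms.exists_no_root (F := F)
  obtain ⟨n, rfl⟩ : ∃ n, h = n + 1 := ⟨h - 1, by omega⟩
  obtain ⟨j, hj⟩ := (OrthPrime.emb_minus_plus (F := F) n 1 ζ).trans
    (OrthPrime.emb_plus_plus (F := F) (show n + 2 ≤ d by omega))
  have hm : (Forms.qfMinus n F 1 ζ).polarBilin.Nondegenerate := by
    rw [← show Orth.quadMinus n F 1 ζ = Forms.qfMinus n F 1 ζ from
      DFunLike.coe_injective ((Orth.coe_quadMinus n 1 ζ).trans (Forms.qfMinus_eq n 1 ζ).symm)]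
    exact Orth.quadMinus_nondeg n hab
  have hinj := OrthPrime.Emb.injective hm j hj
  have hj' : ∀ v, Q (j v) = Forms.qfMinus n F 1 ζ v := fun v => by
    rw [← hj v, hQf, Orth.coe_quadPlus, Forms.qfPlus_eq]
  refine ⟨LinearMap.range j, ?_, ?_, fun hH => OrthPrime.not_half_qfMinus hab n ?_⟩
  · rw [LinearMap.finrank_range_of_inj hinj, Module.finrank_fintype_fun_eq_card]
    simp
    omega
  · rintro _ ⟨x, rfl⟩ hxy
    rw [(Forms.nondegenerate_polarBilin_iff _).1 hm x fun y => ?_, map_zero]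
    rw [← hxy _ ⟨y, rfl⟩]
    simp only [QuadraticMap.polar, ← map_add, hj']
  · rw [← OrthPrime.half_range (Q := Q) j hinj hj', Submodule.map_top]
    exact hH

theorem arith_even_eq {a b a' k l k' C : ℕ} (hlk : l = k)
    (hcases : (l ≤ k ∧ a' + b = a ∧ k' + l = k) ∨ (k < l ∧ a' + b + 1 = a ∧ k' + l = C + k))
    (h1 : (if l = 0 ∧ b % 2 = 0 then b - 1 else b) < if k = 0 ∧ a % 2 = 1 then a - 1 else a)
    (h2 : (if k' = 0 ∧ a' % 2 = 0 then a' - 1 else a') < if k = 0 ∧ a % 2 = 1 then a - 1 else a) :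
    (if k = 0 ∧ a % 2 = 1 then a - 1 else a) ≤
        (if l = 0 ∧ b % 2 = 0 then b - 1 else b) + (if k' = 0 ∧ a' % 2 = 0 then a' - 1 else a') ↔
      (k = 0 ∧ (a % 2 = 1 ∨ l = 0 ∧ b % 2 = 1)) ∨
        0 < b ∧ (0 < l ∧ l < k ∨ 0 < l ∧ l = k ∧ (a + b) % 2 = 1 ∨ l = 0 ∧ 0 < k ∧ b % 2 = 1) := by
  subst hlk
  obtain rfl : k' = 0 := by omega
  rcases Nat.eq_zero_or_pos l with rfl | hl <;> split_ifs at * <;> omega

theorem arith_even_ne {a b a' k l k' C : ℕ} {X : Prop} (hlk : l ≠ k) (hlC : l < C)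
    (hcases : (l ≤ k ∧ a' + b = a ∧ k' + l = k) ∨ (k < l ∧ a' + b + 1 = a ∧ k' + l = C + k))
    (h1 : (if l = 0 ∧ b % 2 = 0 then b - 1 else b) < if k = 0 ∧ a % 2 = 1 then a - 1 else a)
    (h2 : (if k' = 0 ∧ a' % 2 = 0 then a' - 1 else a') < if k = 0 ∧ a % 2 = 1 then a - 1 else a) :
    (if k = 0 ∧ a % 2 = 1 then a - 1 else a) ≤
        (if l = 0 ∧ b % 2 = 0 then b - 1 else b) + (if k' = 0 ∧ a' % 2 = 0 then a' - 1 else a') ↔
      (k = 0 ∧ (a % 2 = 1 ∨ l = 0 ∧ b % 2 = 1)) ∨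
        0 < b ∧ (0 < l ∧ l < k ∨ 0 < l ∧ l = k ∧ X ∨ l = 0 ∧ 0 < k ∧ b % 2 = 1) := by
  simp only [hlk, false_and, and_false, false_or]
  rcases hcases with ⟨c1, c2, c3⟩ | ⟨c1, c2, c3⟩ <;> split_ifs at * <;> omega

theorem arith_odd {a b a' k l k' C : ℕ} (hlC : l < C)
    (hcases : (l ≤ k ∧ a' + b = a ∧ k' + l = k) ∨ (k < l ∧ a' + b + 1 = a ∧ k' + l = C + k))
    (h1 : (if l = 0 then b - 1 else b) < a) (h2 : (if k' = 0 then a' - 1 else a') < a) :
    a ≤ (if l = 0 then b - 1 else b) + (if k' = 0 then a' - 1 else a') ↔ 0 < b ∧ 0 < l ∧ l < k := by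
  rcases hcases with ⟨c1, c2, c3⟩ | ⟨c1, c2, c3⟩ <;> split_ifs at * <;> omega

theorem elusive_odd_r {F : Type*} [Field F] [Fintype F] {d h p : ℕ}
    {Q : QuadraticForm F (Fin d ⊕ Fin d → F)} (hQf : Q = Orth.quadPlus d F) (hQ : Q.polarBilin.Nondegenerate)
    (hG : Orth.Good Q)
    (hH : OrthPrime.Half Q (⊤ : Submodule F (Fin d ⊕ Fin d → F))) (hex : ∃ v, Q v ≠ 0)
    (hcard : Fintype.card (Fin d ⊕ Fin d) = 2 * d) (h0 : 0 < h) (hmd : h + h < d) {r : ℕ} [Fact r.Prime]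
    (hrΩ : r ∣ Nat.card {W : Submodule F (Fin d ⊕ Fin d → F) //
      Module.finrank F W = h + h ∧ OrthPrime.NDeg Q W ∧ ¬ OrthPrime.Half Q W})
    (hr2 : r ≠ 2) (hrp : r ≠ p) {i c : ℕ} (hrF : (r : F) ≠ 0)
    (hi' : ∀ k : ℕ, (Fintype.card F : ZMod r) ^ k = 1 ↔ i ∣ k) (hi0 : 0 < i)
    (hc : c = if Even i then i else 2 * i) :
    (∀ x : GL (Fin d ⊕ Fin d) F, x ∈ Cfsg.Geo.omegaGL ⇑Q →
      (∃ z : F, ((x ^ r : GL (Fin d ⊕ Fin d) F) : Matrix (Fin d ⊕ Fin d) (Fin d ⊕ Fin d) F) = z • 1) →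
      (∀ z : F, (x : Matrix (Fin d ⊕ Fin d) (Fin d ⊕ Fin d) F) ≠ z • 1) →
      ∃ W : Submodule F (Fin d ⊕ Fin d → F), (Module.finrank F W = h + h ∧ OrthPrime.NDeg Q W ∧ ¬ OrthPrime.Half Q W) ∧
        W.map (Matrix.toLin' (x : Matrix (Fin d ⊕ Fin d) (Fin d ⊕ Fin d) F)) ≤ W) ↔
    ((r = 2 ∧ p ≠ 2 ∧ ((Even d ∧ Fintype.card F % 4 = 3 ∧ (h + h) % 4 = 2) ∨ (Odd d ∧ Fintype.card F % 8 ≠ 1))) ∨
     (r ≠ p ∧ 2 < r ∧ Odd i ∧ c ≤ h + h ∧ 0 < (h + h) % c ∧ (h + h) % c < (2 * d) % c) ∨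
     (r ≠ p ∧ 2 < r ∧ Even i ∧
       (((2 * d) % c = 0 ∧ (Odd ((2 * d) / i) ∨ ((h + h) % c = 0 ∧ Odd ((h + h) / i)))) ∨
        (i ≤ h + h ∧ ((0 < (h + h) % c ∧ (h + h) % c < (2 * d) % c) ∨
                  (0 < (h + h) % c ∧ (h + h) % c = (2 * d) % c ∧
                    Odd ((2 * d + (h + h) - 2 * ((2 * d) % c)) / i)) ∨
                  ((h + h) % c = 0 ∧ 0 < (2 * d) % c ∧ Odd ((h + h) / i))))))) := by
  classical
  simp only [← two_mul] at hrΩ ⊢
  let P : Submodule F (Fin d ⊕ Fin d → F) → Prop := fun W =>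
    Module.finrank F W = 2 * h ∧ OrthPrime.NDeg Q W ∧ ¬ OrthPrime.Half Q W
  rw [show c = OrthPrime.bsize i from hc, OrthPrime.forall_omegaGL_iff hr2 hG hex]
  have hc' : Even i → OrthPrime.bsize i = i := fun h => if_pos h
  have h2d : 2 * h + 1 ≤ 2 * d := by omega
  obtain ⟨hiff, h1, h2'⟩ := OrthPrime.elusive_main hrF hi' hi0 hr2 hQ P (fun W hW => hW.2.1)
    (fun W hW k hk => ⟨by rw [LinearEquiv.finrank_map_eq]; exact hW.1, hW.2.1.map k hk,
      fun h' => hW.2.2 ((OrthPrime.Half.map k hk W).1 h')⟩)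
    (fun W W' hW hW' => OrthPrime.isometric_of_half hW.2.1 hW'.2.1 hW.1 hW'.1 (iff_of_false hW.2.2 hW'.2.2))
    (exists_elliptic hQf h0 (by omega)) hrΩ
    (M := OrthPrime.capP i (2 * d)) (M₁ := OrthPrime.capM i (2 * h)) (M₂ := OrthPrime.capM i (2 * d - 2 * h))
    (OrthPrime.has_half hrF hi' hi0 hr2 (OrthPrime.ndeg_top hQ) (by rw [finrank_top]; simp; omega) hH)
    (fun W hW => OrthPrime.has_not_half hrF hi' hi0 hr2 hW.2.1 hW.1 hW.2.2)
    (fun W hW B => by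
      have hd' := OrthPrime.finrank_perp hQ hW.2.1
      rw [hW.1, hcard] at hd'
      rw [OrthPrime.has_not_half hrF hi' hi0 hr2 (OrthPrime.ndeg_perp hQ hW.2.1) (h := d - h) (by omega)
        (fun hh => hW.2.2 (((OrthPrime.half_perp_iff hQ hW.2.1 hW.1 (h' := d - h) (by omega)).1 hh).1 hH)),
        show 2 * (d - h) = 2 * d - 2 * h by omega])
  refine hiff.trans ?_
  obtain ⟨a, k, hak, hk, hadiv, hkmod⟩ := OrthPrime.decomp hi0 (2 * d)
  obtain ⟨b, l, hbl, hl, hbdiv, hlmod⟩ := OrthPrime.decomp hi0 (2 * h)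
  obtain ⟨a', k', hsub, hk', hba, hcases⟩ := OrthPrime.decomp_sub hk hl (a := a) (b := b) (by omega)
  obtain ⟨e, he⟩ := OrthPrime.even_bsize i
  have hkeven : k % 2 = 0 := by
    have h' : OrthPrime.bsize i * a = 2 * (e * a) := by rw [he, add_mul, two_mul]
    omega
  have hleven : l % 2 = 0 := by
    have h' : OrthPrime.bsize i * b = 2 * (e * b) := by rw [he, add_mul, two_mul]
    omega
  have hr3 : 2 < r := lt_of_le_of_ne (Fact.out : r.Prime).two_le (Ne.symm hr2)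
  rcases Nat.even_or_odd i with hie | hio
  · have hia : (OrthPrime.bsize i * a + k) / i = a := by
      conv_lhs => rw [hc' hie]
      rw [hc' hie] at hk
      rw [Nat.mul_add_div hi0, Nat.div_eq_of_lt hk, add_zero]
    have hib : (OrthPrime.bsize i * b + l) / i = b := by
      conv_lhs => rw [hc' hie]
      rw [hc' hie] at hl
      rw [Nat.mul_add_div hi0, Nat.div_eq_of_lt hl, add_zero]
    have hle : i ≤ OrthPrime.bsize i * b + l ↔ 0 < b := by
      have := OrthPrime.le_iff_pos (b := b) hl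
      rwa [hc' hie] at this ⊢
    have hsum : l = k → (OrthPrime.bsize i * a + k + (OrthPrime.bsize i * b + l) - 2 * k) / i = a + b := by
      intro hlk
      conv_lhs => rw [hc' hie, hlk, show i * a + k + (i * b + k) - 2 * k = i * (a + b) by rw [Nat.mul_add]; omega]
      rw [Nat.mul_div_cancel_left _ hi0]
    have hi2 : i % 2 = 0 := Nat.even_iff.1 hie
    simp only [hak, hbl, hsub, OrthPrime.capP_add hk, OrthPrime.capM_add hk', OrthPrime.capM_add hl] at h1 h2' ⊢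
    simp only [Nat.mul_add_mod, Nat.mod_eq_of_lt hl, Nat.mod_eq_of_lt hk]
    rw [hia, hib, hle, OrthPrime.le_iff_pos hl]
    simp only [hi2, true_and, zero_ne_one, false_or] at h1 h2' ⊢
    simp only [hr2, false_and, false_or, hrp, ne_eq, not_false_eq_true, true_and, hr3, hie,
      Nat.not_odd_iff_even.2 hie, Nat.odd_iff] at *
    rcases eq_or_ne l k with hlk | hlk
    · rw [hsum hlk]
      clear hsum hle hia hib hiff hbdiv hadiv hlmod hkmod hak hbl hsub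
      exact arith_even_eq hlk hcases h1 h2'
    · clear hsum hle hia hib hiff hbdiv hadiv hlmod hkmod hak hbl hsub
      exact arith_even_ne hlk hl hcases h1 h2'
  · have hi2 : i % 2 = 1 := Nat.odd_iff.1 hio
    simp only [hak, hbl, hsub, OrthPrime.capP_add hk, OrthPrime.capM_add hk', OrthPrime.capM_add hl] at h1 h2' ⊢
    simp only [Nat.mul_add_mod, Nat.mod_eq_of_lt hl, Nat.mod_eq_of_lt hk]
    rw [OrthPrime.le_iff_pos hl]
    simp only [hi2, one_ne_zero, false_and, and_false, true_or, and_true, if_false] at h1 h2' ⊢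
    simp only [hr2, false_and, false_or, hrp, ne_eq, not_false_eq_true, true_and, hr3, hio,
      Nat.not_even_iff_odd.2 hio, or_false] at *
    exact arith_odd hl hcases h1 h2'

/-- Elements of prime order of PΩ⁺_n(q) with no fixed elliptic `m`-space. Here `T = PΩ⁺_n(F)`, `n = 2d ≥ 8`, realised through `Ω⁺_n(q)`, the commutator subgroup of the isometry group of `Q = Σ xᵢyᵢ` over the field `F` with `q` elements; an element of `T` of prime order `r` is an element `x` of `Ω⁺_n(q)` with `x^r` scalar and `x` not scalar; a nondegenerate `m`-space (even `m`) is a subspace on which the polar form of `Q` is nondegenerate; it is hyperbolic if it contains an `m/2`-dimensional subspace on which `Q` vanishes, elliptic otherwise. Let `m` be even with `2 ≤ m < n/2` and let `r` be a prime dividing the number of elliptic `m`-spaces; for `r ≠ p` let `i` be the multiplicative order of `q` modulo `r`, `c = i` for `i` even and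 `c = 2i` for `i` odd, and write `k = n mod c`, `ℓ = m mod i`, `ℓ' = m mod c`, `n' = ⌊n/i⌋`, `m' = ⌊m/i⌋`, `t = (r−1)/i`. Then every element of `T` of order `r` fixes some elliptic `m`-space if and only if one of: (i) `r = 2 ≠ p` and either `n ≡ 0 (mod 4)`, `q ≡ 3 (mod 4)` and `m ≡ 2 (mod 4)`, or `n ≡ 2 (mod 4)` and `q ≢ 1 (mod 8)`; (ii) `r ≠ p` odd, `i` odd, `c ≤ m` and `k > ℓ' > 0`; (iii) `r ≠ p` odd, `i` even, and either `k = 0` and (`n/i` odd, or `ℓ' = 0` and `m/i` odd), or `i ≤ m` and (`k > ℓ' > 0`, or `k = ℓ' > 0` and `(n + m − 2k)/i` odd, or `k > ℓ' = 0` and `m/i` odd). (For `r = p` there is always an element of order `p` fixing no elliptic `m`-space.) -/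
theorem result {F : Type*} [Field F] [Fintype F] {p : ℕ} [Fact p.Prime] [CharP F p] {q : ℕ} (hq : Fintype.card F = q)
    (d m : ℕ) (hd : 4 ≤ d) (hm : 2 ≤ m) (hme : Even m) (hmd : m < d)
    (r : ℕ) [Fact r.Prime]
    (hrΩ : r ∣ Nat.card {W : Submodule F (Fin d ⊕ Fin d → F) // Module.finrank F ↥W = m ∧ Cfsg.Geo.IsNondegenerateOn (QuadraticMap.polar (Cfsg.quadFormPlus d F)) W ∧ ¬ Cfsg.Geo.IsPlusTypeOn (Cfsg.quadFormPlus d F) W})
    (i c : ℕ) (hi : i = orderOf (q : ZMod r)) (hc : c = if Even i then i else 2 * i) :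
    (∀ x : GL (Fin d ⊕ Fin d) F, x ∈ Cfsg.Geo.omegaGL (Cfsg.quadFormPlus d F) →
      (∃ z : F, ((x ^ r : GL (Fin d ⊕ Fin d) F) : Matrix (Fin d ⊕ Fin d) (Fin d ⊕ Fin d) F) = z • (1 : Matrix (Fin d ⊕ Fin d) (Fin d ⊕ Fin d) F)) →
      (∀ z : F, (x : Matrix (Fin d ⊕ Fin d) (Fin d ⊕ Fin d) F) ≠ z • (1 : Matrix (Fin d ⊕ Fin d) (Fin d ⊕ Fin d) F)) →
      ∃ W : Submodule F (Fin d ⊕ Fin d → F), (Module.finrank F ↥W = m ∧ Cfsg.Geo.IsNondegenerateOn (QuadraticMap.polar (Cfsg.quadFormPlus d F)) W ∧ ¬ Cfsg.Geo.IsPlusTypeOn (Cfsg.quadFormPlus d F) W) ∧ W.map (Matrix.toLin' (x : Matrix (Fin d ⊕ Fin d) (Fin d ⊕ Fin d) F)) ≤ W) ↔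
    ((r = 2 ∧ p ≠ 2 ∧ ((Even d ∧ q % 4 = 3 ∧ m % 4 = 2) ∨ (Odd d ∧ q % 8 ≠ 1))) ∨
     (r ≠ p ∧ 2 < r ∧ Odd i ∧ c ≤ m ∧ 0 < m % c ∧ m % c < (2 * d) % c) ∨
     (r ≠ p ∧ 2 < r ∧ Even i ∧
       (((2 * d) % c = 0 ∧ (Odd ((2 * d) / i) ∨ (m % c = 0 ∧ Odd (m / i)))) ∨
        (i ≤ m ∧ ((0 < m % c ∧ m % c < (2 * d) % c) ∨
                  (0 < m % c ∧ m % c = (2 * d) % c ∧ Odd ((2 * d + m - 2 * ((2 * d) % c)) / i)) ∨
                  (m % c = 0 ∧ 0 < (2 * d) % c ∧ Odd (m / i))))))) := by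
  classical
  subst hq
  obtain ⟨h, rfl⟩ := hme
  obtain ⟨Q, hQf⟩ : ∃ Q, Q = Orth.quadPlus d F := ⟨_, rfl⟩
  rw [← Orth.coe_quadPlus, ← hQf] at hrΩ ⊢
  have hQ : Q.polarBilin.Nondegenerate := hQf ▸ Orth.quadPlus_nondeg d
  have hcard : Fintype.card (Fin d ⊕ Fin d) = 2 * d := by simp; omega
  have hG : Orth.Good Q := Orth.Good.of_card hQ (.inr (by rw [hcard]; omega))
  have hH : OrthPrime.Half Q (⊤ : Submodule F (Fin d ⊕ Fin d → F)) := hQf ▸ OrthPrime.half_quadPlus d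
  simp only [OrthPrime.isNondegOn_iff, OrthPrime.isPlusOn_iff] at hrΩ ⊢
  let P : Submodule F (Fin d ⊕ Fin d → F) → Prop := fun W =>
    Module.finrank F W = h + h ∧ OrthPrime.NDeg Q W ∧ ¬ OrthPrime.Half Q W
  have hex : ∃ v, Q v ≠ 0 := by
    refine ⟨Pi.single (.inl ⟨0, by omega⟩) 1 + Pi.single (.inr ⟨0, by omega⟩) 1, ?_⟩
    rw [hQf, Orth.coe_quadPlus]
    simp [Cfsg.quadFormPlus, Pi.single_apply]
  -- elements of order `p` whose fixed subspaces are all of plus type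
  have hpfalse : ∀ g : Orth.IsoGrp Q, g ∈ Cfsg.Omega F ⇑Q → g ^ r = 1 → g ≠ 1 →
      (∀ (W : Submodule F (Fin d ⊕ Fin d → F)) (h : ℕ), OrthPrime.NDeg Q W → (∀ v ∈ W, Orth.ap g v ∈ W) →
        Module.finrank F W = 2 * h → OrthPrime.Half Q W) → r = p →
      ¬ ∀ x : GL (Fin d ⊕ Fin d) F, x ∈ Cfsg.Geo.omegaGL ⇑Q →
        (∃ z : F, ((x ^ r : GL (Fin d ⊕ Fin d) F) : Matrix (Fin d ⊕ Fin d) (Fin d ⊕ Fin d) F) = z • 1) →
        (∀ z : F, (x : Matrix (Fin d ⊕ Fin d) (Fin d ⊕ Fin d) F) ≠ z • 1) →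
        ∃ W, P W ∧ W.map (Matrix.toLin' (x : Matrix (Fin d ⊕ Fin d) (Fin d ⊕ Fin d) F)) ≤ W := by
    intro g hg hgr hg1 hall hrp hyp
    subst hrp
    obtain ⟨W, ⟨hWd, hWn, hWh⟩, hWm⟩ := hyp g (Orth.coe_mem_omegaGL.2 hg)
      ⟨1, by rw [one_smul, ← Subgroup.coe_pow, hgr]; rfl⟩ (fun z hz => hg1 (Orth.ext_ap fun v => by
        have hap : ∀ y, Orth.ap g y = z • y := fun y => by
          rw [Orth.ap_apply, hz, Matrix.smul_mulVec, Matrix.one_mulVec]
        obtain ⟨w, hw⟩ := hex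
        have h1 : z ^ r = 1 := by
          have hpow : ∀ (n : ℕ) y, ((Orth.ap g : Module.End F _) ^ n) y = z ^ n • y := fun n => by
            induction n with
            | zero => intro y; simp
            | succ n ih => intro y; rw [pow_succ, Module.End.mul_apply, hap, map_smul, ih, smul_smul, pow_succ']
          have h' := congrArg (fun k : Orth.IsoGrp Q => Orth.ap k w) hgr
          simp only [Orth.ap_one] at h'
          rw [Orth.ap_pow, hpow] at h'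
          by_contra hne
          have h3 : (z ^ r - 1) • w = 0 := by rw [sub_smul, h', one_smul, sub_self]
          rw [smul_eq_zero, sub_eq_zero] at h3
          exact hw (by rw [h3.resolve_left hne, QuadraticMap.map_zero])
        rw [hap, Orth.ap_one, PrimeOrderElt.eq_one_of_pow_char (p := r) h1, one_smul]))
    exact hWh (hall W h hWn (fun v hv => hWm ⟨v, hv, rfl⟩) (by omega))
  by_cases hp2 : p = 2
  · subst hp2
    have h2 : (2 : F) = 0 := by exact_mod_cast CharP.cast_eq_zero F 2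
    by_cases hr2 : r = 2
    · subst hr2
      refine iff_of_false ?_ (by omega)
      subst hQf
      obtain ⟨g, hg, hg2, hg1, hall⟩ := OrthPrime.exists_two_only_half (F := F) h2 d (by omega)
      exact hpfalse g hg hg2 hg1 hall rfl
    obtain ⟨hrF, hi', hi0⟩ := OrthPrime.order_params 2 rfl hr2 hi
    exact elusive_odd_r hQf hQ hG hH hex hcard (by omega) hmd hrΩ hr2 hr2 hrF hi' hi0 hc
  have hodd : Odd (Fintype.card F) := by
    obtain ⟨k, hp, hk⟩ := FiniteField.card F p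
    rw [hk]; exact (hp.odd_of_ne_two hp2).pow
  obtain ⟨hp, hp3, h2, hcard2⟩ := OrthPrime.odd_char (F := F) p hodd
  by_cases hr2 : r = 2
  · subst hr2
    rw [OrthPrime.forall_two_even_iff hG h2 hex hcard (h := h) (by omega) (by omega) False P
      (fun W => by simp only [P, iff_false]; rw [two_mul]),
      OrthPrime.isSquare_two_iff' hcard2, OrthPrime.isSquare_neg_one_iff' hcard2, iff_true_left hH, false_iff]
    simp only [Nat.even_iff, Nat.odd_iff, ne_eq, true_and, hp2, not_false_eq_true, lt_irrefl, false_and, and_false,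
      or_false]
    omega
  by_cases hrp : r = p
  · subst hrp
    refine iff_of_false ?_ (by omega)
    subst hQf
    obtain ⟨g, hg, hgr, hg1, hall⟩ := OrthPrime.exists_p_only_half (F := F) hp hp3 d hd
    exact hpfalse g hg hgr hg1 hall rfl
  obtain ⟨hrF, hi', hi0⟩ := OrthPrime.order_params p rfl hrp hi
  exact elusive_odd_r hQf hQ hG hH hex hcard (by omega) hmd hrΩ hr2 hrp hrF hi' hi0 hc

end Cfsg.Agent.S5988
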