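import Cfsg.Agent.EqLemmas
import Cfsg.Agent.Lib.OrthPrime.RowTools

set_option autoImplicit false
open scoped MatrixGroups
open Cfsg

namespace Cfsg.Agent.S5989

/-- Elements of prime order of PΩ⁺_n(q), q odd, with no fixed nondegenerate `m`-space of odd dimension. Here `T = PΩ⁺_n(F)`, `n = 2d ≥ 8`, realised through `Ω⁺_n(q)`, the commutator subgroup of the isometry group of `Q = Σ xᵢyᵢ` over the field `F` with `q` elements; an element of `T` of prime order `r` is an element `x` of `Ω⁺_n(q)` with `x^r` scalar and `x` not scalar; `q` and `m` are odd, `1 ≤ m < n/2`. The nondegenerate `m`-spaces (subspaces on which the polar form is nondegenerate) fall into two isometry classes, each an orbit of `T`, and the two actions are equivalent; fix one such space `W₀` and let Ω be the set of nondegenerate `m`-spaces isometric to `W₀` (some linear isomorphism preserves `Q`). Let `r` be a prime dividing the size of Ω; for `r ≠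 p` let `i` be the multiplicative order of `q` modulo `r`, `c = i` for `i` even and `c = 2i` for `i` odd, and write `k = n mod c`, `ℓ = m mod i`, `ℓ' = m mod c`, `n' = ⌊n/i⌋`, `m' = ⌊m/i⌋`, `t = (r−1)/i`. Then every element of `T` of order `r` fixes a member of Ω if and only if one of: (i) `r = 2`, `n ≡ 2 (mod 4)` and `q ≢ 1 (mod 8)`; (ii) `r ≠ p` odd, `i` odd, `c ≤ m` and `k > ℓ' > 0`; (iii) `r ≠ p` odd, `i` even, and either `k = 0` and `n/i` odd, or `i ≤ m` and `k > ℓ' > 0`. (For `r = p` there is always an element of order `p` fixing no member of Ω.) -/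
theorem result {F : Type*} [Field F] [Fintype F] {p : ℕ} [Fact p.Prime] [CharP F p] {q : ℕ} (hq : Fintype.card F = q)
    (hodd : Odd q) (d m : ℕ) (hd : 4 ≤ d) (hm : Odd m) (hmd : m < d)
    (W₀ : Submodule F (Fin d ⊕ Fin d → F)) (hW₀ : Module.finrank F ↥W₀ = m ∧ Cfsg.Geo.IsNondegenerateOn (QuadraticMap.polar (Cfsg.quadFormPlus d F)) W₀)
    (r : ℕ) [Fact r.Prime]
    (hrΩ : r ∣ Nat.card {W : Submodule F (Fin d ⊕ Fin d → F) // Module.finrank F ↥W = m ∧ Cfsg.Geo.IsNondegenerateOn (QuadraticMap.polar (Cfsg.quadFormPlus d F)) W ∧ Cfsg.Geo.AreIsometricFor (Cfsg.quadFormPlus d F) W W₀})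
    (i c : ℕ) (hi : i = orderOf (q : ZMod r)) (hc : c = if Even i then i else 2 * i) :
    (∀ x : GL (Fin d ⊕ Fin d) F, x ∈ Cfsg.Geo.omegaGL (Cfsg.quadFormPlus d F) →
      (∃ z : F, ((x ^ r : GL (Fin d ⊕ Fin d) F) : Matrix (Fin d ⊕ Fin d) (Fin d ⊕ Fin d) F) = z • (1 : Matrix (Fin d ⊕ Fin d) (Fin d ⊕ Fin d) F)) →
      (∀ z : F, (x : Matrix (Fin d ⊕ Fin d) (Fin d ⊕ Fin d) F) ≠ z • (1 : Matrix (Fin d ⊕ Fin d) (Fin d ⊕ Fin d) F)) →
      ∃ W : Submodule F (Fin d ⊕ Fin d → F), (Module.finrank F ↥W = m ∧ Cfsg.Geo.IsNondegenerateOn (QuadraticMap.polar (Cfsg.quadFormPlus d F)) W ∧ Cfsg.Geo.AreIsometricFor (Cfsg.quadFormPlus d F) W W₀) ∧ W.map (Matrix.toLin' (x : Matrix (Fin d ⊕ Fin d) (Fin d ⊕ Fin d) F)) ≤ W) ↔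
    ((r = 2 ∧ Odd d ∧ q % 8 ≠ 1) ∨
     (r ≠ p ∧ 2 < r ∧ Odd i ∧ c ≤ m ∧ 0 < m % c ∧ m % c < (2 * d) % c) ∨
     (r ≠ p ∧ 2 < r ∧ Even i ∧ (((2 * d) % c = 0 ∧ Odd ((2 * d) / i)) ∨ (i ≤ m ∧ 0 < m % c ∧ m % c < (2 * d) % c)))) := by
  classical
  subst hq
  obtain ⟨hp, hp3, h2, hcard2⟩ := OrthPrime.odd_char (F := F) p hodd
  obtain ⟨Q, hQf⟩ : ∃ Q, Q = Orth.quadPlus d F := ⟨_, rfl⟩
  rw [← Orth.coe_quadPlus, ← hQf] at hrΩ hW₀ ⊢
  have hQ : Q.polarBilin.Nondegenerate := hQf ▸ Orth.quadPlus_nondeg d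
  have hG : Orth.Good Q := Orth.Good.of_two_ne_zero hQ h2
  have hH : OrthPrime.Half Q (⊤ : Submodule F (Fin d ⊕ Fin d → F)) := hQf ▸ OrthPrime.half_quadPlus d
  have hcard : Fintype.card (Fin d ⊕ Fin d) = 2 * d := by simp; omega
  simp only [OrthPrime.isNondegOn_iff, Cfsg.Geo.AreIsometricFor] at hrΩ hW₀ ⊢
  obtain ⟨hW₀d, hW₀n⟩ := hW₀
  obtain ⟨h, rfl⟩ := hm
  have hne : ∃ W, OrthPrime.InClass Q W₀ W := ⟨W₀, rfl, hW₀n, LinearEquiv.refl F _, fun _ => rfl⟩
  have hP : ∀ W : Submodule F (Fin d ⊕ Fin d → F), (Module.finrank F W = 2 * h + 1 ∧ OrthPrime.NDeg Q W ∧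
      ∃ e : W ≃ₗ[F] W₀, ∀ w : W, Q (e w : Fin d ⊕ Fin d → F) = Q (w : Fin d ⊕ Fin d → F)) ↔
      OrthPrime.InClass Q W₀ W := fun W => by rw [OrthPrime.InClass, hW₀d]
  simp only [hP] at hrΩ ⊢
  have hex : ∃ v, Q v ≠ 0 := by
    obtain ⟨e, -, he⟩ := OrthPrime.exists_aniso hW₀n (by omega)
    exact ⟨e, he⟩
  by_cases hr2 : r = 2
  · subst hr2
    rw [OrthPrime.forall_two_odd_iff hG h2 hex hcard _
      (fun W hW => ⟨hW.2.1, by rw [hW.1, hW₀d]; exact odd_two_mul_add_one h⟩)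
      (fun y hy hy2 => by
        obtain ⟨W, hWd, hWn, hWe, hWi⟩ :=
          OrthPrime.exists_fixed_involution_odd h2 hQ y hy hy2 hW₀n hW₀d (by omega)
        exact ⟨W, ⟨hWd.trans hW₀d.symm, hWn, hWe⟩, hWi⟩),
      OrthPrime.isSquare_two_iff' hcard2, OrthPrime.isSquare_neg_one_iff' hcard2, iff_true_left hH]
    simp only [Nat.even_iff, Nat.odd_iff]
    simp only [true_and, lt_irrefl, false_and, and_false, or_false]; omega
  by_cases hrp : r = p
  · subst hrp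
    refine iff_of_false (fun hyp => ?_) (by omega)
    obtain ⟨μ, hμ, hev, hsum, -, hbad⟩ :=
      OrthPrime.exists_bad_type (d := d) hp3 hd (odd_two_mul_add_one h)
    subst hQf
    have : Nonempty (Fin d) := ⟨⟨0, by omega⟩⟩
    exact hbad (Orth.exists_sub_type (Q := Orth.quadPlus d F) hQ hp (m := 2 * h + 1)
      (P := OrthPrime.InClass (Orth.quadPlus d F) W₀)
      (by rw [hcard]; omega) (fun W hW => ⟨hW.1.trans hW₀d, (OrthPrime.isNondegOn_iff W).2 hW.2.1⟩)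
      (fun x hx _ => hyp x hx) hμ (by rw [hcard, hsum])
      (Orth.exists_unipotent_plus hp (by omega) μ hμ hev hsum)).1
  obtain ⟨hrF, hi', hi0⟩ := OrthPrime.order_params p rfl hrp hi
  rw [show c = OrthPrime.bsize i from hc, OrthPrime.forall_omegaGL_iff hr2 hG hex]
  have hc' : Even i → OrthPrime.bsize i = i := fun h => if_pos h
  obtain ⟨hiff, h1, h2'⟩ := OrthPrime.elusive_main hrF hi' hi0 hr2 hQ (OrthPrime.InClass Q W₀) (fun W hW => hW.2.1)
    (fun W hW k hk => hW.map k hk) (fun W W' hW hW' => hW.iso hW') hne hrΩ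
    (M := OrthPrime.capP i (2 * d)) (M₁ := (2 * h + 1) / OrthPrime.bsize i)
    (M₂ := (2 * d - (2 * h + 1)) / OrthPrime.bsize i)
    (OrthPrime.has_half hrF hi' hi0 hr2 (OrthPrime.ndeg_top hQ) (by rw [finrank_top]; simp; omega) hH)
    (fun W hW => OrthPrime.has_odd hrF hi' hi0 hr2 hW.2.1 (hW.1.trans hW₀d))
    (fun W hW B => by
      have hd' := OrthPrime.finrank_perp hQ hW.2.1
      rw [hW.1, hW₀d, hcard] at hd'
      rw [OrthPrime.has_odd hrF hi' hi0 hr2 (OrthPrime.ndeg_perp hQ hW.2.1) (h := d - h - 1) (by omega),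
        show 2 * (d - h - 1) + 1 = 2 * d - (2 * h + 1) by omega])
  refine hiff.trans ?_
  obtain ⟨a, k, hak, hk, hadiv, hkmod⟩ := OrthPrime.decomp hi0 (2 * d)
  obtain ⟨b, l, hbl, hl, hbdiv, hlmod⟩ := OrthPrime.decomp hi0 (2 * h + 1)
  obtain ⟨a', k', hsub, hk', hba, hcases⟩ := OrthPrime.decomp_sub hk hl (a := a) (b := b) (by omega)
  obtain ⟨e, he⟩ := OrthPrime.even_bsize i
  have hkeven : k % 2 = 0 := by
    have h' : OrthPrime.bsize i * a = 2 * (e * a) := by rw [he, add_mul, two_mul]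
    omega
  have hlodd : l % 2 = 1 := by
    have h' : OrthPrime.bsize i * b = 2 * (e * b) := by rw [he, add_mul, two_mul]
    omega
  have hr3 : 2 < r := lt_of_le_of_ne (Fact.out : r.Prime).two_le (Ne.symm hr2)
  simp only [hak, hbl, hsub, OrthPrime.add_div hl, OrthPrime.add_div hk', OrthPrime.capP_add hk] at h1 h2' ⊢
  rw [Nat.mul_add_mod, Nat.mod_eq_of_lt hl, Nat.mul_add_mod, Nat.mod_eq_of_lt hk]
  rw [OrthPrime.le_iff_pos hl]
  rcases Nat.even_or_odd i with hie | hio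
  · have hia : (OrthPrime.bsize i * a + k) / i = a := by
      conv_lhs => rw [hc' hie]
      rw [hc' hie] at hk
      rw [Nat.mul_add_div hi0, Nat.div_eq_of_lt hk, add_zero]
    have hle : i ≤ OrthPrime.bsize i * b + l ↔ 0 < b := by
      have := OrthPrime.le_iff_pos (b := b) hl
      rwa [hc' hie] at this ⊢
    rw [hia, hle]
    simp only [Nat.even_iff, Nat.odd_iff] at *
    split_ifs at * <;> omega
  · simp only [Nat.even_iff, Nat.odd_iff] at *
    split_ifs at * <;> omega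

end Cfsg.Agent.S5989
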