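import Cfsg.Agent.EqLemmas
import Cfsg.Agent.Lib.OrthPrime.RowTools
import Cfsg.Agent.Lib.OrthPrime.Char2Elt

set_option autoImplicit false
open scoped MatrixGroups
open Cfsg

namespace Cfsg.Agent.S5990

theorem arith_even_eq {a b a' k l k' C : ℕ} (hlk : l = k) (hlC : l < C)
    (hcases : (l ≤ k ∧ a' + b = a ∧ k' + l = k) ∨ (k < l ∧ a' + b + 1 = a ∧ k' + l = C + k))
    (h1 : (if l = 0 ∧ b % 2 = 0 then b - 1 else b) < if k = 0 ∧ a % 2 = 0 then a - 1 else a)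
    (h2 : (if k' = 0 ∧ a' % 2 = 1 then a' - 1 else a') < if k = 0 ∧ a % 2 = 0 then a - 1 else a) :
    (if k = 0 ∧ a % 2 = 0 then a - 1 else a) ≤
        (if l = 0 ∧ b % 2 = 0 then b - 1 else b) + (if k' = 0 ∧ a' % 2 = 1 then a' - 1 else a') ↔
      (k = 0 ∧ (a % 2 = 0 ∨ l = 0 ∧ b % 2 = 1)) ∨
        0 < k ∧ 0 < b ∧ (0 < l ∧ l < k ∨ l = 0 ∧ b % 2 = 1 ∨ l = k ∧ (a + b) % 2 = 0) := by
  subst hlk
  obtain rfl : k' = 0 := by omega
  rcases Nat.eq_zero_or_pos l with rfl | hl <;> split_ifs at * <;> omega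

theorem arith_even_ne {a b a' k l k' C : ℕ} {X : Prop} (hlk : l ≠ k) (hlC : l < C)
    (hcases : (l ≤ k ∧ a' + b = a ∧ k' + l = k) ∨ (k < l ∧ a' + b + 1 = a ∧ k' + l = C + k))
    (h1 : (if l = 0 ∧ b % 2 = 0 then b - 1 else b) < if k = 0 ∧ a % 2 = 0 then a - 1 else a)
    (h2 : (if k' = 0 ∧ a' % 2 = 1 then a' - 1 else a') < if k = 0 ∧ a % 2 = 0 then a - 1 else a) :
    (if k = 0 ∧ a % 2 = 0 then a - 1 else a) ≤
        (if l = 0 ∧ b % 2 = 0 then b - 1 else b) + (if k' = 0 ∧ a' % 2 = 1 then a' - 1 else a') ↔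
      (k = 0 ∧ (a % 2 = 0 ∨ l = 0 ∧ b % 2 = 1)) ∨
        0 < k ∧ 0 < b ∧ (0 < l ∧ l < k ∨ l = 0 ∧ b % 2 = 1 ∨ l = k ∧ X) := by
  simp only [hlk, false_and, or_false]
  rcases hcases with ⟨c1, c2, c3⟩ | ⟨c1, c2, c3⟩ <;> split_ifs at * <;> omega

theorem arith_odd {a b a' k l k' C : ℕ} (hlC : l < C)
    (hcases : (l ≤ k ∧ a' + b = a ∧ k' + l = k) ∨ (k < l ∧ a' + b + 1 = a ∧ k' + l = C + k))
    (h1 : (if l = 0 then b - 1 else b) < if k = 0 then a - 1 else a)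
    (h2 : a' < if k = 0 then a - 1 else a) :
    (if k = 0 then a - 1 else a) ≤ (if l = 0 then b - 1 else b) + a' ↔ k = 0 ∨ 0 < b ∧ 0 < l ∧ l ≤ k := by
  rcases hcases with ⟨c1, c2, c3⟩ | ⟨c1, c2, c3⟩ <;> split_ifs at * <;> omega

theorem elusive_odd_r {F : Type*} [Field F] [Fintype F] {d h p : ℕ}
    {Q : QuadraticForm F ((Fin (d - 1) ⊕ Fin (d - 1)) ⊕ Fin 2 → F)} (hQ : Q.polarBilin.Nondegenerate) (hG : Orth.Good Q)
    (hH : ¬ OrthPrime.Half Q (⊤ : Submodule F ((Fin (d - 1) ⊕ Fin (d - 1)) ⊕ Fin 2 → F))) (hex : ∃ v, Q v ≠ 0)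
    (hcard : Fintype.card ((Fin (d - 1) ⊕ Fin (d - 1)) ⊕ Fin 2) = 2 * d) (h0 : 0 < h) (hmd : h < d) {r : ℕ} [Fact r.Prime]
    (hrΩ : r ∣ Nat.card {W : Submodule F ((Fin (d - 1) ⊕ Fin (d - 1)) ⊕ Fin 2 → F) //
      Module.finrank F W = 2 * h ∧ OrthPrime.NDeg Q W ∧ ¬ OrthPrime.Half Q W})
    (hr2 : r ≠ 2) (hrp : r ≠ p) {i c : ℕ} (hrF : (r : F) ≠ 0)
    (hi' : ∀ k : ℕ, (Fintype.card F : ZMod r) ^ k = 1 ↔ i ∣ k) (hi0 : 0 < i)
    (hc : c = if Even i then i else 2 * i) :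
    (∀ x : GL ((Fin (d - 1) ⊕ Fin (d - 1)) ⊕ Fin 2) F, x ∈ Cfsg.Geo.omegaGL ⇑Q →
      (∃ z : F, ((x ^ r : GL ((Fin (d - 1) ⊕ Fin (d - 1)) ⊕ Fin 2) F) : Matrix ((Fin (d - 1) ⊕ Fin (d - 1)) ⊕ Fin 2) ((Fin (d - 1) ⊕ Fin (d - 1)) ⊕ Fin 2) F) = z • 1) →
      (∀ z : F, (x : Matrix ((Fin (d - 1) ⊕ Fin (d - 1)) ⊕ Fin 2) ((Fin (d - 1) ⊕ Fin (d - 1)) ⊕ Fin 2) F) ≠ z • 1) →
      ∃ W : Submodule F ((Fin (d - 1) ⊕ Fin (d - 1)) ⊕ Fin 2 → F), (Module.finrank F W = 2 * h ∧ OrthPrime.NDeg Q W ∧ ¬ OrthPrime.Half Q W) ∧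
        W.map (Matrix.toLin' (x : Matrix ((Fin (d - 1) ⊕ Fin (d - 1)) ⊕ Fin 2) ((Fin (d - 1) ⊕ Fin (d - 1)) ⊕ Fin 2) F)) ≤ W) ↔
    ((r = 2 ∧ p = 2 ∧ (Even d ∨ (h + h) % 4 = 2)) ∨
     (r = 2 ∧ p ≠ 2 ∧ (Even d ∨ Fintype.card F % 8 ≠ 7 ∨ (h + h) % 4 = 2)) ∨
     (r ≠ p ∧ 2 < r ∧ Odd i ∧ ((2 * d) % c = 0 ∨ (c ≤ (h + h) ∧ 0 < (h + h) % c ∧ (h + h) % c ≤ (2 * d) % c))) ∨
     (r ≠ p ∧ 2 < r ∧ Even i ∧
       (((2 * d) % c = 0 ∧ (Even ((2 * d) / i) ∨ ((h + h) % c = 0 ∧ Odd ((h + h) / i)))) ∨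
        (0 < (2 * d) % c ∧ i ≤ (h + h) ∧ ((0 < (h + h) % c ∧ (h + h) % c < (2 * d) % c) ∨ ((h + h) % c = 0 ∧ Odd ((h + h) / i)) ∨
                                    ((h + h) % c = (2 * d) % c ∧ Even ((2 * d + (h + h) - 2 * ((2 * d) % c)) / i))))))) := by
  classical
  rw [← two_mul h]
  let P : Submodule F ((Fin (d - 1) ⊕ Fin (d - 1)) ⊕ Fin 2 → F) → Prop := fun W =>
    Module.finrank F W = 2 * h ∧ OrthPrime.NDeg Q W ∧ ¬ OrthPrime.Half Q W
  rw [show c = OrthPrime.bsize i from hc, OrthPrime.forall_omegaGL_iff hr2 hG hex]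
  have hc' : Even i → OrthPrime.bsize i = i := fun h => if_pos h
  obtain ⟨hiff, h1, h2'⟩ := OrthPrime.elusive_main hrF hi' hi0 hr2 hQ P (fun W hW => hW.2.1)
    (fun W hW k hk => ⟨by rw [LinearEquiv.finrank_map_eq]; exact hW.1, hW.2.1.map k hk,
      fun h' => hW.2.2 ((OrthPrime.Half.map k hk W).1 h')⟩)
    (fun W W' hW hW' => OrthPrime.isometric_of_half hW.2.1 hW'.2.1 hW.1 hW'.1 (iff_of_false hW.2.2 hW'.2.2))
    (by
      obtain ⟨S, -, hSn, hSd, hSh⟩ := OrthPrime.exists_sub_half (Q := Q) (OrthPrime.ndeg_top hQ) (n := d) (h := h)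
        (by rw [finrank_top, Module.finrank_fintype_fun_eq_card, hcard]) h0 (by omega) False (fun he => by omega)
      exact ⟨S, hSd, hSn, hSh.1⟩) hrΩ
    (M := OrthPrime.capM i (2 * d)) (M₁ := OrthPrime.capM i (2 * h)) (M₂ := OrthPrime.capP i (2 * d - 2 * h))
    (OrthPrime.has_not_half hrF hi' hi0 hr2 (OrthPrime.ndeg_top hQ) (by rw [finrank_top]; simp; omega) hH)
    (fun W hW => OrthPrime.has_not_half hrF hi' hi0 hr2 hW.2.1 hW.1 hW.2.2)
    (fun W hW B => by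
      have hd' := OrthPrime.finrank_perp hQ hW.2.1
      rw [hW.1, hcard] at hd'
      rw [OrthPrime.has_half hrF hi' hi0 hr2 (OrthPrime.ndeg_perp hQ hW.2.1) (h := d - h) (by omega)
        ((OrthPrime.half_perp_iff hQ hW.2.1 hW.1 (h' := d - h) (by omega)).2 (iff_of_false hH hW.2.2)),
        show 2 * (d - h) = 2 * d - 2 * h by omega])
  refine hiff.trans ?_
  obtain ⟨a, k, hak, hk, hadiv, hkmod⟩ := OrthPrime.decomp hi0 (2 * d)
  obtain ⟨b, l, hbl, hl, hbdiv, hlmod⟩ := OrthPrime.decomp hi0 (2 * h)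
  obtain ⟨a', k', hsub, hk', hba, hcases⟩ := OrthPrime.decomp_sub hk hl (a := a) (b := b) (by omega)
  have hr3 : 2 < r := lt_of_le_of_ne (Fact.out : r.Prime).two_le (Ne.symm hr2)
  rcases Nat.even_or_odd i with hie | hio
  · have hia : (OrthPrime.bsize i * a + k) / i = a := by
      conv_lhs => rw [hc' hie]
      rw [hc' hie] at hk
      rw [Nat.mul_add_div hi0, Nat.div_eq_of_lt hk, add_zero]
    have hib : (OrthPrime.bsize i * b + l) / i = b := by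
      conv_lhs => rw [hc' hie]
      rw [hc' hie] at hl
      rw [Nat.mul_add_div hi0, Nat.div_eq_of_lt hl, add_zero]
    have hle : i ≤ OrthPrime.bsize i * b + l ↔ 0 < b := by
      have := OrthPrime.le_iff_pos (b := b) hl
      rwa [hc' hie] at this ⊢
    have hsum : l = k → (OrthPrime.bsize i * a + k + (OrthPrime.bsize i * b + l) - 2 * k) / i = a + b := by
      intro hlk
      conv_lhs => rw [hc' hie, hlk, show i * a + k + (i * b + k) - 2 * k = i * (a + b) by rw [Nat.mul_add]; omega]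
      rw [Nat.mul_div_cancel_left _ hi0]
    have hi2 : i % 2 = 0 := Nat.even_iff.1 hie
    simp only [hak, hbl, hsub, OrthPrime.capM_add hk, OrthPrime.capP_add hk', OrthPrime.capM_add hl] at h1 h2' ⊢
    simp only [Nat.mul_add_mod, Nat.mod_eq_of_lt hl, Nat.mod_eq_of_lt hk]
    rw [hia, hib, hle, OrthPrime.le_iff_pos hl]
    simp only [hi2, true_and, zero_ne_one, false_or] at h1 h2' ⊢
    simp only [hr2, false_and, false_or, hrp, ne_eq, not_false_eq_true, true_and, hr3, hie,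
      Nat.not_odd_iff_even.2 hie, Nat.odd_iff, Nat.even_iff] at *
    rcases eq_or_ne l k with hlk | hlk
    · rw [hsum hlk]
      exact arith_even_eq hlk hl hcases h1 h2'
    · exact arith_even_ne hlk hl hcases h1 h2'
  · have hi2 : i % 2 = 1 := Nat.odd_iff.1 hio
    simp only [hak, hbl, hsub, OrthPrime.capM_add hk, OrthPrime.capP_add hk', OrthPrime.capM_add hl] at h1 h2' ⊢
    simp only [Nat.mul_add_mod, Nat.mod_eq_of_lt hl, Nat.mod_eq_of_lt hk]
    rw [OrthPrime.le_iff_pos hl]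
    simp only [hi2, one_ne_zero, false_and, and_false, if_false, true_or, and_true] at h1 h2' ⊢
    simp only [hr2, false_and, false_or, hrp, ne_eq, not_false_eq_true, true_and, hr3, hio,
      Nat.not_even_iff_odd.2 hio, or_false] at *
    exact arith_odd hl hcases h1 h2'

/-- Elements of prime order of PΩ⁻_n(q) with no fixed elliptic `m`-space. Here `T = PΩ⁻_n(F)`, `n = 2d ≥ 8`, realised through `Ω⁻_n(q)`, the commutator subgroup of the isometry group of `Q = Σ_{i<d−1} xᵢyᵢ + z₁² + a z₁z₂ + b z₂²` with `z₁² + a z₁z₂ + b z₂²` anisotropic, over the field `F` with `q` elements; an element of `T` of prime order `r` is an element `x` of `Ω⁻_n(q)` with `x^r` scalar and `x` not scalar; a nondegenerate `m`-space (even `m`) is a subspace on which the polar form of `Q` is nondegenerate; it is hyperbolic if it contains an `m/2`-dimensional subspace on which `Q` vanishes, elliptic otherwise. Let `m` be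 even with `2 ≤ m ≤ n − 2` (no restriction `m < n/2`: fixing an elliptic `m`-space is the same as fixing its hyperbolic orthogonal complement) and let `r` be a prime dividing the number of elliptic `m`-spaces, with `r = 2` or `r ≠ p`; for `r ≠ p` let `i` be the multiplicative order of `q` modulo `r`, `c = i` for `i` even and `c = 2i` for `i` odd, and write `k = n mod c`, `ℓ = m mod i`, `ℓ' = m mod c`, `n' = ⌊n/i⌋`, `m' = ⌊m/i⌋`, `t = (r−1)/i`. Then every element of `T` of order `r` fixes some elliptic `m`-space if and only if one of: (i) `r = p = 2` and (`n ≡ 0 (mod 4)` or `m ≡ 2 (mod 4)`); (ii) `r = 2 ≠ p` and (`n ≡ 0 (mod 4)`, or `q ≢ 7 (mod 8)`, or `m ≡ 2 (mod 4)`); (iii) `r ≠ p` odd, `i` odd, and `k = 0` or (`c ≤ m` and `k ≥ ℓ' > 0`); (iv) `r ≠ p` odd, `i` even, and either `k = 0` and (`n/i` even, or `ℓ' = 0` and `m/i` odd), or `k > 0`, `i ≤ m` and (`k > ℓ' > 0`, or `ℓ' = 0` and `m/i` odd,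 or `k = ℓ'` and `(n + m − 2k)/i` even). (Odd `r = p` is not covered by this statement.) -/
theorem result {F : Type*} [Field F] [Fintype F] {p : ℕ} [Fact p.Prime] [CharP F p] {q : ℕ} (hq : Fintype.card F = q)
    (d m : ℕ) (hd : 4 ≤ d) (hm : 2 ≤ m) (hme : Even m) (hmn : m + 2 ≤ 2 * d) (a b : F) (hab : ∀ x y : F, x ^ 2 + a * x * y + b * y ^ 2 = 0 → x = 0 ∧ y = 0)
    (r : ℕ) [Fact r.Prime] (hr : r = 2 ∨ r ≠ p)
    (hrΩ : r ∣ Nat.card {W : Submodule F ((Fin (d - 1) ⊕ Fin (d - 1)) ⊕ Fin 2 → F) // Module.finrank F ↥W = m ∧ Cfsg.Geo.IsNondegenerateOn (QuadraticMap.polar (Cfsg.quadFormMinus (d - 1) F a b)) W ∧ ¬ Cfsg.Geo.IsPlusTypeOn (Cfsg.quadFormMinus (d - 1) F a b) W})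
    (i c : ℕ) (hi : i = orderOf (q : ZMod r)) (hc : c = if Even i then i else 2 * i) :
    (∀ x : GL ((Fin (d - 1) ⊕ Fin (d - 1)) ⊕ Fin 2) F, x ∈ Cfsg.Geo.omegaGL (Cfsg.quadFormMinus (d - 1) F a b) →
      (∃ z : F, ((x ^ r : GL ((Fin (d - 1) ⊕ Fin (d - 1)) ⊕ Fin 2) F) : Matrix ((Fin (d - 1) ⊕ Fin (d - 1)) ⊕ Fin 2) ((Fin (d - 1) ⊕ Fin (d - 1)) ⊕ Fin 2) F) = z • (1 : Matrix ((Fin (d - 1) ⊕ Fin (d - 1)) ⊕ Fin 2) ((Fin (d - 1) ⊕ Fin (d - 1)) ⊕ Fin 2) F)) →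
      (∀ z : F, (x : Matrix ((Fin (d - 1) ⊕ Fin (d - 1)) ⊕ Fin 2) ((Fin (d - 1) ⊕ Fin (d - 1)) ⊕ Fin 2) F) ≠ z • (1 : Matrix ((Fin (d - 1) ⊕ Fin (d - 1)) ⊕ Fin 2) ((Fin (d - 1) ⊕ Fin (d - 1)) ⊕ Fin 2) F)) →
      ∃ W : Submodule F ((Fin (d - 1) ⊕ Fin (d - 1)) ⊕ Fin 2 → F), (Module.finrank F ↥W = m ∧ Cfsg.Geo.IsNondegenerateOn (QuadraticMap.polar (Cfsg.quadFormMinus (d - 1) F a b)) W ∧ ¬ Cfsg.Geo.IsPlusTypeOn (Cfsg.quadFormMinus (d - 1) F a b) W) ∧ W.map (Matrix.toLin' (x : Matrix ((Fin (d - 1) ⊕ Fin (d - 1)) ⊕ Fin 2) ((Fin (d - 1) ⊕ Fin (d - 1)) ⊕ Fin 2) F)) ≤ W) ↔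
    ((r = 2 ∧ p = 2 ∧ (Even d ∨ m % 4 = 2)) ∨
     (r = 2 ∧ p ≠ 2 ∧ (Even d ∨ q % 8 ≠ 7 ∨ m % 4 = 2)) ∨
     (r ≠ p ∧ 2 < r ∧ Odd i ∧ ((2 * d) % c = 0 ∨ (c ≤ m ∧ 0 < m % c ∧ m % c ≤ (2 * d) % c))) ∨
     (r ≠ p ∧ 2 < r ∧ Even i ∧
       (((2 * d) % c = 0 ∧ (Even ((2 * d) / i) ∨ (m % c = 0 ∧ Odd (m / i)))) ∨
        (0 < (2 * d) % c ∧ i ≤ m ∧ ((0 < m % c ∧ m % c < (2 * d) % c) ∨ (m % c = 0 ∧ Odd (m / i)) ∨
                                    (m % c = (2 * d) % c ∧ Even ((2 * d + m - 2 * ((2 * d) % c)) / i))))))) := by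
  classical
  subst hq
  obtain ⟨h, rfl⟩ := hme
  obtain ⟨Q, hQf⟩ : ∃ Q, Q = Orth.quadMinus (d - 1) F a b := ⟨_, rfl⟩
  rw [← Orth.coe_quadMinus, ← hQf] at hrΩ ⊢
  have hQ : Q.polarBilin.Nondegenerate := hQf ▸ Orth.quadMinus_nondeg (d - 1) hab
  have hcard : Fintype.card ((Fin (d - 1) ⊕ Fin (d - 1)) ⊕ Fin 2) = 2 * d := by simp; omega
  have hG : Orth.Good Q := Orth.Good.of_card hQ (.inr (by rw [hcard]; omega))
  have hH : ¬ OrthPrime.Half Q (⊤ : Submodule F ((Fin (d - 1) ⊕ Fin (d - 1)) ⊕ Fin 2 → F)) :=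
    hQf ▸ OrthPrime.not_half_quadMinus (d - 1) hab
  simp only [OrthPrime.isNondegOn_iff, OrthPrime.isPlusOn_iff, ← two_mul h] at hrΩ ⊢
  have hex : ∃ v, Q v ≠ 0 := by
    refine ⟨Pi.single (.inr 0) 1, ?_⟩
    rw [hQf, Orth.coe_quadMinus]
    simp [Cfsg.quadFormMinus, Pi.single_apply]
  by_cases hr2 : r = 2
  · subst hr2
    by_cases hp2 : p = 2
    · subst hp2
      have h2 : (2 : F) = 0 := by exact_mod_cast CharP.cast_eq_zero F 2
      rw [OrthPrime.forall_char_two_iff h2 hex]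
      simp only [true_and, lt_irrefl, false_and, and_false, or_false, false_or, ne_eq, not_true_eq_false,
        Nat.even_iff]
      by_cases hgood : d % 2 = 0 ∨ h % 2 = 1
      · refine iff_of_true (fun g _ hg2 _ => ?_) (by omega)
        obtain ⟨W, hWd, hWn, hWh, hWi⟩ := OrthPrime.exists_char_two (OrthPrime.isInv_ap h2 hg2) hQ hcard
          (h := h) (by omega) (by omega) False (fun e he htop => by
            have hlt : 2 * e < d := lt_of_le_of_ne he fun heq => hH (htop heq)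
            have hff : ∀ (j : ℕ), 0 < j → j = d - 2 * e →
                (OrthPrime.Half Q (⊤ : Submodule F ((Fin (d - 1) ⊕ Fin (d - 1)) ⊕ Fin 2 → F)) ↔ False) :=
              fun _ _ _ => iff_of_false hH id
            by_cases hh : h % 2 = 1
            · rcases le_or_gt h (2 * e + 1) with hle | hgt
              · exact ⟨1, by omega, by omega, by omega, fun h0 => absurd h0 (by omega), hff 1⟩
              · exact ⟨h - 2 * e, by omega, by omega, by omega, fun h0 => absurd h0 (by omega), hff _⟩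
            · rcases le_or_gt h (2 * e + 2) with hle | hgt
              · exact ⟨2, by omega, by omega, by omega, fun h0 => absurd h0 (by omega), hff 2⟩
              · exact ⟨h - 2 * e, by omega, by omega, by omega, fun h0 => absurd h0 (by omega), hff _⟩)
        exact ⟨W, ⟨hWd, hWn, hWh.1⟩, hWi⟩
      · refine iff_of_false (fun hyp => ?_) (by omega)
        subst hQf
        obtain ⟨g, hg, hg2, hg1, halt, hfix⟩ := OrthPrime.exists_blocks_minus (F := F) h2 (n := d - 1) (by omega)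
          (Nat.even_iff.2 (by omega)) hab
        obtain ⟨W, ⟨hWd, hWn, hWh⟩, hWi⟩ := hyp g hg hg2 hg1
        obtain ⟨e, he1, he2, he3⟩ := OrthPrime.blocks_half (OrthPrime.isInv_ap h2 hg2) halt
          (LinearMap.funLeft F F (Sum.inr : Fin 2 → (Fin (d - 1) ⊕ Fin (d - 1)) ⊕ Fin 2))
          (fun x y hx hy hz => by
            have z0 : x (.inr 0) = 0 := by simpa [LinearMap.funLeft_apply] using congrFun hz 0
            have z1 : x (.inr 1) = 0 := by simpa [LinearMap.funLeft_apply] using congrFun hz 1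
            rw [show ⇑(Orth.quadMinus (d - 1) F a b) = quadFormMinus (d - 1) F a b from
              Orth.coe_quadMinus (d - 1) a b, Orth.polar_quadMinus]
            simp [hfix x hx, hfix y hy, z0, z1]) hWn hWi
        simp only [Fintype.card_fin] at he2
        exact hWh (he3 (by omega))
    have hodd : Odd (Fintype.card F) := by
      obtain ⟨k, hp, hk⟩ := FiniteField.card F p
      rw [hk]; exact (hp.odd_of_ne_two hp2).pow
    obtain ⟨hp, hp3, h2, hcard2⟩ := OrthPrime.odd_char (F := F) p hodd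
    rw [OrthPrime.forall_two_even_iff hG h2 hex hcard (h := h) (by omega) (by omega) False _
      (fun W => by rw [iff_false]),
      OrthPrime.isSquare_two_iff' hcard2, OrthPrime.isSquare_neg_one_iff' hcard2, iff_false_left hH, false_iff]
    simp only [Nat.even_iff, true_and, ne_eq, hp2, not_false_eq_true, lt_irrefl, false_and, and_false, or_false,
      false_or]
    omega
  have hrp : r ≠ p := hr.resolve_left hr2
  obtain ⟨hrF, hi', hi0⟩ := OrthPrime.order_params p rfl hrp hi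
  simpa only [two_mul] using elusive_odd_r hQ hG hH hex hcard (by omega) (by omega) hrΩ hr2 hrp hrF hi' hi0 hc

end Cfsg.Agent.S5990
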