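import Cfsg.Agent.EqLemmas
import Cfsg.Agent.Lib.OrthPrime.RowTools

set_option autoImplicit false
open scoped MatrixGroups
open Cfsg

namespace Cfsg.Agent.S5991

/-- Elements of prime order of PΩ⁻_n(q), q odd, with no fixed nondegenerate `m`-space of odd dimension. Here `T = PΩ⁻_n(F)`, `n = 2d ≥ 8`, realised through `Ω⁻_n(q)`, the commutator subgroup of the isometry group of `Q = Σ_{i<d−1} xᵢyᵢ + z₁² + a z₁z₂ + b z₂²` with `z₁² + a z₁z₂ + b z₂²` anisotropic, over the field `F` with `q` elements; an element of `T` of prime order `r` is an element `x` of `Ω⁻_n(q)` with `x^r` scalar and `x` not scalar; `q` and `m` are odd, `1 ≤ m < n/2`. The nondegenerate `m`-spaces fall into two isometry classes, each an orbit of `T`, with equivalent actions; fix one such space `W₀` and let Ω be the set of nondegenerate `m`-spaces isometric to `W₀`. Let `r` be a prime dividing the size of Ω; for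 `r ≠ p` let `i` be the multiplicative order of `q` modulo `r`, `c = i` for `i` even and `c = 2i` for `i` odd, and write `k = n mod c`, `ℓ = m mod i`, `ℓ' = m mod c`, `n' = ⌊n/i⌋`, `m' = ⌊m/i⌋`, `t = (r−1)/i`. Then every element of `T` of order `r` fixes a member of Ω if and only if one of: (i) `r = 2` and (`n ≡ 0 (mod 4)` or `q ≢ 7 (mod 8)`); (ii) `r ≠ p` odd, `i` odd, and `k = 0` or (`c ≤ m` and `k > ℓ' > 0`); (iii) `r ≠ p` odd, `i` even, and either `k = 0` and `n/i` even, or `k > 0`, `i ≤ m` and `k > ℓ' > 0`. (For `r = p` there is always an element of order `p` fixing no member of Ω.) -/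
theorem result {F : Type*} [Field F] [Fintype F] {p : ℕ} [Fact p.Prime] [CharP F p] {q : ℕ} (hq : Fintype.card F = q)
    (hodd : Odd q) (d m : ℕ) (hd : 4 ≤ d) (hm : Odd m) (hmd : m < d) (a b : F) (hab : ∀ x y : F, x ^ 2 + a * x * y + b * y ^ 2 = 0 → x = 0 ∧ y = 0)
    (W₀ : Submodule F ((Fin (d - 1) ⊕ Fin (d - 1)) ⊕ Fin 2 → F)) (hW₀ : Module.finrank F ↥W₀ = m ∧ Cfsg.Geo.IsNondegenerateOn (QuadraticMap.polar (Cfsg.quadFormMinus (d - 1) F a b)) W₀)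
    (r : ℕ) [Fact r.Prime]
    (hrΩ : r ∣ Nat.card {W : Submodule F ((Fin (d - 1) ⊕ Fin (d - 1)) ⊕ Fin 2 → F) // Module.finrank F ↥W = m ∧ Cfsg.Geo.IsNondegenerateOn (QuadraticMap.polar (Cfsg.quadFormMinus (d - 1) F a b)) W ∧ Cfsg.Geo.AreIsometricFor (Cfsg.quadFormMinus (d - 1) F a b) W W₀})
    (i c : ℕ) (hi : i = orderOf (q : ZMod r)) (hc : c = if Even i then i else 2 * i) :
    (∀ x : GL ((Fin (d - 1) ⊕ Fin (d - 1)) ⊕ Fin 2) F, x ∈ Cfsg.Geo.omegaGL (Cfsg.quadFormMinus (d - 1) F a b) →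
      (∃ z : F, ((x ^ r : GL ((Fin (d - 1) ⊕ Fin (d - 1)) ⊕ Fin 2) F) : Matrix ((Fin (d - 1) ⊕ Fin (d - 1)) ⊕ Fin 2) ((Fin (d - 1) ⊕ Fin (d - 1)) ⊕ Fin 2) F) = z • (1 : Matrix ((Fin (d - 1) ⊕ Fin (d - 1)) ⊕ Fin 2) ((Fin (d - 1) ⊕ Fin (d - 1)) ⊕ Fin 2) F)) →
      (∀ z : F, (x : Matrix ((Fin (d - 1) ⊕ Fin (d - 1)) ⊕ Fin 2) ((Fin (d - 1) ⊕ Fin (d - 1)) ⊕ Fin 2) F) ≠ z • (1 : Matrix ((Fin (d - 1) ⊕ Fin (d - 1)) ⊕ Fin 2) ((Fin (d - 1) ⊕ Fin (d - 1)) ⊕ Fin 2) F)) →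
      ∃ W : Submodule F ((Fin (d - 1) ⊕ Fin (d - 1)) ⊕ Fin 2 → F), (Module.finrank F ↥W = m ∧ Cfsg.Geo.IsNondegenerateOn (QuadraticMap.polar (Cfsg.quadFormMinus (d - 1) F a b)) W ∧ Cfsg.Geo.AreIsometricFor (Cfsg.quadFormMinus (d - 1) F a b) W W₀) ∧ W.map (Matrix.toLin' (x : Matrix ((Fin (d - 1) ⊕ Fin (d - 1)) ⊕ Fin 2) ((Fin (d - 1) ⊕ Fin (d - 1)) ⊕ Fin 2) F)) ≤ W) ↔
    ((r = 2 ∧ (Even d ∨ q % 8 ≠ 7)) ∨
     (r ≠ p ∧ 2 < r ∧ Odd i ∧ ((2 * d) % c = 0 ∨ (c ≤ m ∧ 0 < m % c ∧ m % c < (2 * d) % c))) ∨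
     (r ≠ p ∧ 2 < r ∧ Even i ∧ (((2 * d) % c = 0 ∧ Even ((2 * d) / i)) ∨ (0 < (2 * d) % c ∧ i ≤ m ∧ 0 < m % c ∧ m % c < (2 * d) % c)))) := by
  classical
  subst hq
  obtain ⟨hp, hp3, h2, hcard2⟩ := OrthPrime.odd_char (F := F) p hodd
  obtain ⟨Q, hQf⟩ : ∃ Q, Q = Orth.quadMinus (d - 1) F a b := ⟨_, rfl⟩
  rw [← Orth.coe_quadMinus, ← hQf] at hrΩ hW₀ ⊢
  have hQ : Q.polarBilin.Nondegenerate := hQf ▸ Orth.quadMinus_nondeg (d - 1) hab
  have hG : Orth.Good Q := Orth.Good.of_two_ne_zero hQ h2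
  have hH : ¬ OrthPrime.Half Q (⊤ : Submodule F ((Fin (d - 1) ⊕ Fin (d - 1)) ⊕ Fin 2 → F)) := hQf ▸ OrthPrime.not_half_quadMinus (d - 1) hab
  have hcard : Fintype.card ((Fin (d - 1) ⊕ Fin (d - 1)) ⊕ Fin 2) = 2 * d := by simp; omega
  simp only [OrthPrime.isNondegOn_iff, Cfsg.Geo.AreIsometricFor] at hrΩ hW₀ ⊢
  obtain ⟨hW₀d, hW₀n⟩ := hW₀
  obtain ⟨h, rfl⟩ := hm
  have hne : ∃ W, OrthPrime.InClass Q W₀ W := ⟨W₀, rfl, hW₀n, LinearEquiv.refl F _, fun _ => rfl⟩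
  have hP : ∀ W : Submodule F ((Fin (d - 1) ⊕ Fin (d - 1)) ⊕ Fin 2 → F), (Module.finrank F W = 2 * h + 1 ∧ OrthPrime.NDeg Q W ∧
      ∃ e : W ≃ₗ[F] W₀, ∀ w : W, Q (e w : (Fin (d - 1) ⊕ Fin (d - 1)) ⊕ Fin 2 → F) = Q (w : (Fin (d - 1) ⊕ Fin (d - 1)) ⊕ Fin 2 → F)) ↔
      OrthPrime.InClass Q W₀ W := fun W => by rw [OrthPrime.InClass, hW₀d]
  simp only [hP] at hrΩ ⊢
  have hex : ∃ v, Q v ≠ 0 := by
    obtain ⟨e, -, he⟩ := OrthPrime.exists_aniso hW₀n (by omega)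
    exact ⟨e, he⟩
  by_cases hr2 : r = 2
  · subst hr2
    rw [OrthPrime.forall_two_odd_iff hG h2 hex hcard _
      (fun W hW => ⟨hW.2.1, by rw [hW.1, hW₀d]; exact odd_two_mul_add_one h⟩)
      (fun y hy hy2 => by
        obtain ⟨W, hWd, hWn, hWe, hWi⟩ :=
          OrthPrime.exists_fixed_involution_odd h2 hQ y hy hy2 hW₀n hW₀d (by omega)
        exact ⟨W, ⟨hWd.trans hW₀d.symm, hWn, hWe⟩, hWi⟩),
      OrthPrime.isSquare_two_iff' hcard2, OrthPrime.isSquare_neg_one_iff' hcard2, iff_false_left hH]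
    simp only [Nat.even_iff, Nat.odd_iff]
    simp only [true_and, lt_irrefl, false_and, and_false, or_false]; omega
  by_cases hrp : r = p
  · subst hrp
    refine iff_of_false (fun hyp => ?_) (by omega)
    obtain ⟨μ, hμ, hev, hsum, -, hbad⟩ :=
      OrthPrime.exists_bad_type (d := d) hp3 hd (odd_two_mul_add_one h)
    haveI : Nonempty ((Fin (d - 1) ⊕ Fin (d - 1)) ⊕ Fin 2) := ⟨Sum.inr 0⟩
    subst hQf
    rcases Nat.even_or_odd d with hde | hdo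
    · exact OrthPrime.p_elusive_minus hp (by omega) hde hab hW₀n hW₀d hyp
    obtain ⟨μ, hμ, hev, hsum, hodd', hbad⟩ :=
      OrthPrime.exists_bad_type (d := d) hp3 hd (odd_two_mul_add_one h)
    exact hbad (Orth.exists_sub_type (Q := Orth.quadMinus (d - 1) F a b) hQ hp (m := 2 * h + 1)
      (P := OrthPrime.InClass (Orth.quadMinus (d - 1) F a b) W₀)
      (by rw [hcard]; omega) (fun W hW => ⟨hW.1.trans hW₀d, (OrthPrime.isNondegOn_iff W).2 hW.2.1⟩)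
      (fun x hx _ => hyp x hx) hμ (by rw [hcard, hsum])
      (Orth.exists_unipotent_minus hp hab μ hμ hev hsum (hodd' hdo))).1
  obtain ⟨hrF, hi', hi0⟩ := OrthPrime.order_params p rfl hrp hi
  rw [show c = OrthPrime.bsize i from hc, OrthPrime.forall_omegaGL_iff hr2 hG hex]
  have hc' : Even i → OrthPrime.bsize i = i := fun h => if_pos h
  obtain ⟨hiff, h1, h2'⟩ := OrthPrime.elusive_main hrF hi' hi0 hr2 hQ (OrthPrime.InClass Q W₀) (fun W hW => hW.2.1)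
    (fun W hW k hk => hW.map k hk) (fun W W' hW hW' => hW.iso hW') hne hrΩ
    (M := OrthPrime.capM i (2 * d)) (M₁ := (2 * h + 1) / OrthPrime.bsize i)
    (M₂ := (2 * d - (2 * h + 1)) / OrthPrime.bsize i)
    (OrthPrime.has_not_half hrF hi' hi0 hr2 (OrthPrime.ndeg_top hQ) (by rw [finrank_top]; simp; omega) hH)
    (fun W hW => OrthPrime.has_odd hrF hi' hi0 hr2 hW.2.1 (hW.1.trans hW₀d))
    (fun W hW B => by
      have hd' := OrthPrime.finrank_perp hQ hW.2.1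
      rw [hW.1, hW₀d, hcard] at hd'
      rw [OrthPrime.has_odd hrF hi' hi0 hr2 (OrthPrime.ndeg_perp hQ hW.2.1) (h := d - h - 1) (by omega),
        show 2 * (d - h - 1) + 1 = 2 * d - (2 * h + 1) by omega])
  refine hiff.trans ?_
  obtain ⟨n₁, k, hak, hk, hadiv, hkmod⟩ := OrthPrime.decomp hi0 (2 * d)
  obtain ⟨m₁, l, hbl, hl, hbdiv, hlmod⟩ := OrthPrime.decomp hi0 (2 * h + 1)
  obtain ⟨a', k', hsub, hk', hba, hcases⟩ := OrthPrime.decomp_sub hk hl (a := n₁) (b := m₁) (by omega)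
  obtain ⟨e, he⟩ := OrthPrime.even_bsize i
  have hkeven : k % 2 = 0 := by
    have h' : OrthPrime.bsize i * n₁ = 2 * (e * n₁) := by rw [he, add_mul, two_mul]
    omega
  have hlodd : l % 2 = 1 := by
    have h' : OrthPrime.bsize i * m₁ = 2 * (e * m₁) := by rw [he, add_mul, two_mul]
    omega
  have hr3 : 2 < r := lt_of_le_of_ne (Fact.out : r.Prime).two_le (Ne.symm hr2)
  simp only [hak, hbl, hsub, OrthPrime.add_div hl, OrthPrime.add_div hk', OrthPrime.capM_add hk] at h1 h2' ⊢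
  simp only [Nat.mul_add_mod, Nat.mod_eq_of_lt hl, Nat.mod_eq_of_lt hk]
  rw [OrthPrime.le_iff_pos hl]
  rcases Nat.even_or_odd i with hie | hio
  · have hia : (OrthPrime.bsize i * n₁ + k) / i = n₁ := by
      conv_lhs => rw [hc' hie]
      rw [hc' hie] at hk
      rw [Nat.mul_add_div hi0, Nat.div_eq_of_lt hk, add_zero]
    have hle : i ≤ OrthPrime.bsize i * m₁ + l ↔ 0 < m₁ := by
      have := OrthPrime.le_iff_pos (b := m₁) hl
      rwa [hc' hie] at this ⊢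
    rw [hia, hle]
    simp only [Nat.even_iff, Nat.odd_iff] at *
    split_ifs at * <;> omega
  · simp only [Nat.even_iff, Nat.odd_iff] at *
    split_ifs at * <;> omega

end Cfsg.Agent.S5991
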