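import Cfsg.Agent.EqLemmas
import Cfsg.Agent.Lib.OrthPrime.InvSplit
import Cfsg.Agent.Lib.OrthPrime.CapArith
import Cfsg.Agent.Lib.OrthPrime.Preds

set_option autoImplicit false
open scoped MatrixGroups
open Cfsg

namespace Cfsg.Agent.S5992

/-- Elements of prime order r ≠ p of Ω_n(q), nq odd, with no fixed hyperbolic `m`-space. Here `T = Ω_n(F)`, `n = 2d+1 ≥ 7`, `q` odd, realised as the commutator subgroup of the isometry group of `Q = x₀² + Σ xᵢyᵢ` over the field `F` with `q` elements (trivial centre, so its elements of prime order `r` are used directly); a nondegenerate `m`-space (even `m`) is a subspace on which the polar form of `Q` is nondegenerate; it is hyperbolic if it contains an `m/2`-dimensional subspace on which `Q` vanishes, elliptic otherwise. Let `m` be even with `2 ≤ m ≤ n − 1` (no restriction `m < n/2`) and let `r ≠ p` be a prime dividing the number of hyperbolic `m`-spaces; for `r ≠ p` let `i` be the multiplicative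 order of `q` modulo `r`, `c = i` for `i` even and `c = 2i` for `i` odd, and write `k = n mod c`, `ℓ' = m mod c`. Then every element of `T` of order `r` fixes some hyperbolic `m`-space if and only if `r = 2`, or `r` is odd and one of: (i) `i` odd, `c ≤ m` and either `k > ℓ' > 0` or `ℓ' = 0`; (ii) `i` even, `i ≤ m`, `k > ℓ'`, and `m/i` even whenever `ℓ' = 0`. (`r = p` is not covered by this statement.) -/
theorem result {F : Type*} [Field F] [Fintype F] {p : ℕ} [Fact p.Prime] [CharP F p] {q : ℕ} (hq : Fintype.card F = q) (hqodd : Odd q)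
    (d m : ℕ) (hd : 3 ≤ d) (hm : 2 ≤ m) (hme : Even m) (hmn : m ≤ 2 * d)
    (r : ℕ) [Fact r.Prime] (hrp : r ≠ p)
    (hrΩ : r ∣ Nat.card {W : Submodule F (Unit ⊕ (Fin d ⊕ Fin d) → F) // Module.finrank F ↥W = m ∧ Cfsg.Geo.IsNondegenerateOn (QuadraticMap.polar (Cfsg.quadFormOdd d F)) W ∧ Cfsg.Geo.IsPlusTypeOn (Cfsg.quadFormOdd d F) W})
    (i c : ℕ) (hi : i = orderOf (q : ZMod r)) (hc : c = if Even i then i else 2 * i) :
    (∀ x : GL (Unit ⊕ (Fin d ⊕ Fin d)) F, x ∈ Cfsg.Geo.omegaGL (Cfsg.quadFormOdd d F) → orderOf x = r →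
      ∃ W : Submodule F (Unit ⊕ (Fin d ⊕ Fin d) → F), (Module.finrank F ↥W = m ∧ Cfsg.Geo.IsNondegenerateOn (QuadraticMap.polar (Cfsg.quadFormOdd d F)) W ∧ Cfsg.Geo.IsPlusTypeOn (Cfsg.quadFormOdd d F) W) ∧ W.map (Matrix.toLin' (x : Matrix (Unit ⊕ (Fin d ⊕ Fin d)) (Unit ⊕ (Fin d ⊕ Fin d)) F)) ≤ W) ↔
    (r = 2 ∨
     (2 < r ∧ Odd i ∧ c ≤ m ∧ (m % c = 0 ∨ (0 < m % c ∧ m % c < (2 * d + 1) % c))) ∨
     (2 < r ∧ Even i ∧ i ≤ m ∧ m % c < (2 * d + 1) % c ∧ (0 < m % c ∨ Even (m / i)))) := by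
  classical
  subst hq
  have h2 : (2 : F) ≠ 0 := fun h => by
    obtain ⟨k, hp, hk⟩ := FiniteField.card F p
    have : p = 2 := (Nat.prime_dvd_prime_iff_eq hp Nat.prime_two).1
      ((CharP.cast_eq_zero_iff F p 2).1 (by exact_mod_cast h))
    subst this
    rw [hk, Nat.odd_pow_iff k.ne_zero] at hqodd
    exact absurd hqodd (by decide)
  obtain ⟨h, rfl⟩ := hme
  obtain ⟨Q, hQf⟩ : ∃ Q, Q = Orth.quadOdd d F := ⟨_, rfl⟩
  rw [← Orth.coe_quadOdd, ← hQf] at hrΩ ⊢
  have hQ : Q.polarBilin.Nondegenerate := hQf ▸ Orth.quadOdd_nondeg d h2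
  have hG : Orth.Good Q := Orth.Good.of_two_ne_zero hQ h2
  have hcard : Fintype.card (Unit ⊕ (Fin d ⊕ Fin d)) = 2 * d + 1 := by simp; omega
  simp only [OrthPrime.isNondegOn_iff, OrthPrime.isPlusOn_iff] at hrΩ ⊢
  let P : Submodule F (Unit ⊕ (Fin d ⊕ Fin d) → F) → Prop := fun W =>
    Module.finrank F W = h + h ∧ OrthPrime.NDeg Q W ∧ OrthPrime.Half Q W
  by_cases hr2 : r = 2
  · subst hr2
    refine iff_of_true (fun x hx ho => ?_) (Or.inl rfl)
    obtain ⟨g, -, rfl⟩ := Orth.mem_omegaGL_iff.1 hx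
    have hg2 : g ^ 2 = 1 := Subtype.ext (by rw [Subgroup.coe_pow, ← ho, pow_orderOf_eq_one]; rfl)
    obtain ⟨W, hWd, hWn, hWh, hWi⟩ := OrthPrime.exists_fixed_involution h2 hQ (Orth.ap g) (fun v => Orth.Q_ap g v)
      (LinearMap.ext fun v => by rw [← Orth.ap_pow, hg2, Orth.ap_one]; rfl) True
      (h := h) (by omega) (by rw [hcard]; omega)
    refine ⟨W, ⟨by omega, hWn, hWh.2 trivial⟩, ?_⟩
    rintro _ ⟨v, hv, rfl⟩
    exact hWi v hv
  obtain ⟨hrF, hi', hi0⟩ := OrthPrime.order_params p rfl hrp hi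
  rw [show c = OrthPrime.bsize i from hc, OrthPrime.forall_orderOf_iff hr2 hG]
  have hc' : Even i → OrthPrime.bsize i = i := fun h => if_pos h
  have hPn : ∀ W, P W → OrthPrime.NDeg Q W := fun W hW => hW.2.1
  obtain ⟨A, hA, B, hB, hAn, hBn, hAB, hH⟩ := OrthPrime.exists_split (Q := Q) h2 True h
    (OrthPrime.ndeg_top hQ) (M := ⊥) (fun x hx _ => (Submodule.mem_bot F).1 hx)
    (fun u _ w hw => by rw [(Submodule.mem_bot F).1 hw, QuadraticMap.polar_zero_right])
    (by simp [hcard]; omega) (Or.inl (by omega))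
  obtain rfl : B = ⊥ := le_bot_iff.1 hB
  rw [finrank_bot, add_zero] at hAB
  rw [sup_bot_eq] at hH
  obtain ⟨hiff, h1, h2'⟩ := OrthPrime.elusive_main hrF hi' hi0 hr2 hQ P hPn
    (fun W hW k hk => ⟨by rw [LinearEquiv.finrank_map_eq]; exact hW.1, hW.2.1.map k hk,
      (OrthPrime.Half.map k hk W).2 hW.2.2⟩)
    (fun W W' hW hW' => OrthPrime.isometric_of_half hW.2.1 hW'.2.1 (h := h) (by rw [hW.1]; omega) (by rw [hW'.1]; omega)
      (iff_of_true hW.2.2 hW'.2.2))
    ⟨A, by omega, hAn, hH.2 trivial⟩ hrΩ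
    (M := (2 * d + 1) / OrthPrime.bsize i) (M₁ := OrthPrime.capP i (2 * h))
    (M₂ := (2 * d + 1 - 2 * h) / OrthPrime.bsize i)
    (OrthPrime.has_odd hrF hi' hi0 hr2 (OrthPrime.ndeg_top hQ) (by rw [finrank_top]; simp; omega))
    (fun W hW => OrthPrime.has_half hrF hi' hi0 hr2 hW.2.1 (by rw [hW.1]; omega) hW.2.2)
    (fun W hW B => by
      have hd' := OrthPrime.finrank_perp hQ hW.2.1
      rw [hW.1, hcard] at hd'
      rw [OrthPrime.has_odd hrF hi' hi0 hr2 (OrthPrime.ndeg_perp hQ hW.2.1) (h := d - h) (by omega),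
        show 2 * (d - h) + 1 = 2 * d + 1 - 2 * h by omega])
  refine hiff.trans ?_
  rw [← two_mul]
  obtain ⟨a, k, hak, hk, hadiv, hkmod⟩ := OrthPrime.decomp hi0 (2 * d + 1)
  obtain ⟨b, l, hbl, hl, hbdiv, hlmod⟩ := OrthPrime.decomp hi0 (2 * h)
  obtain ⟨a', k', hsub, hk', hba, hcases⟩ := OrthPrime.decomp_sub hk hl (a := a) (b := b) (by omega)
  obtain ⟨e, he⟩ := OrthPrime.even_bsize i
  have hkodd : k % 2 = 1 := by
    have h' : OrthPrime.bsize i * a = 2 * (e * a) := by rw [he, add_mul, two_mul]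
    omega
  have hleven : l % 2 = 0 := by
    have h' : OrthPrime.bsize i * b = 2 * (e * b) := by rw [he, add_mul, two_mul]
    omega
  have hr3 : 2 < r := lt_of_le_of_ne (Fact.out : r.Prime).two_le (Ne.symm hr2)
  simp only [hadiv, hak, hbl, hsub, OrthPrime.add_div hk, OrthPrime.add_div hk', OrthPrime.capP_add hl] at h1 h2' ⊢
  rw [Nat.mul_add_mod, Nat.mod_eq_of_lt hl, Nat.mul_add_mod, Nat.mod_eq_of_lt hk]
  rw [OrthPrime.le_iff_pos hl]
  rcases Nat.even_or_odd i with hie | hio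
  · have hib : (OrthPrime.bsize i * b + l) / i = b := by
      conv_lhs => rw [hc' hie]
      rw [hc' hie] at hl
      rw [Nat.mul_add_div hi0, Nat.div_eq_of_lt hl, add_zero]
    have hle : i ≤ OrthPrime.bsize i * b + l ↔ 0 < b := by
      have := OrthPrime.le_iff_pos (b := b) hl
      rwa [hc' hie] at this ⊢
    rw [hib, hle]
    simp only [Nat.even_iff, Nat.odd_iff] at *
    split_ifs at * <;> omega
  · simp only [Nat.even_iff, Nat.odd_iff] at *
    split_ifs at * <;> omega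

end Cfsg.Agent.S5992
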