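import Cfsg.Statements.S5994
import Cfsg.Agent.Lib.Orth.UnipotentCriteria

set_option autoImplicit false
set_option linter.unusedVariables false
set_option linter.unusedSimpArgs false
open scoped MatrixGroups
open Cfsg

namespace Cfsg.Agent.S5994

/-- A necessary condition for every element of order p of PΩ⁻_n(q), q odd, to fix an elliptic `m`-space. Here `T = PΩ⁻_n(F)`, `n = 2d ≥ 8`, realised through `Ω⁻_n(q)`, the commutator subgroup of the isometry group of `Q = Σ_{i<d−1} xᵢyᵢ + z₁² + a z₁z₂ + b z₂²` with `z₁² + a z₁z₂ + b z₂²` anisotropic, over the field `F` with `q` elements; an element of `T` of prime order `r` is an element `x` of `Ω⁻_n(q)` with `x^r` scalar and `x` not scalar; `q` is odd; a nondegenerate `m`-space (even `m`) is a subspace on which the polar form of `Q` is nondegenerate; it is hyperbolic if it contains an `m/2`-dimensional subspace on which `Q` vanishes, elliptic otherwise. Let `m` be even with `2 ≤ m ≤ n − 2` and suppose `p`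 divides the number of elliptic `m`-spaces. If every element of `T` of order `p` fixes some elliptic `m`-space, then `n ≡ m (mod 4)` and every partition of `n` into parts of size at most `p` in which every even part has even multiplicity contains (as a sub-multiset) a partition of `m` in which every even part has even multiplicity. -/
theorem result {F : Type*} [Field F] [Fintype F] {p : ℕ} [Fact p.Prime] [CharP F p] {q : ℕ} (hq : Fintype.card F = q) (hqodd : Odd q)
    (d m : ℕ) (hd : 4 ≤ d) (hm : 2 ≤ m) (hme : Even m) (hmn : m + 2 ≤ 2 * d) (a b : F) (hab : ∀ x y : F, x ^ 2 + a * x * y + b * y ^ 2 = 0 → x = 0 ∧ y = 0)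
    (hpΩ : p ∣ Nat.card {W : Submodule F ((Fin (d - 1) ⊕ Fin (d - 1)) ⊕ Fin 2 → F) // Module.finrank F ↥W = m ∧ Cfsg.Geo.IsNondegenerateOn (QuadraticMap.polar (Cfsg.quadFormMinus (d - 1) F a b)) W ∧ ¬ Cfsg.Geo.IsPlusTypeOn (Cfsg.quadFormMinus (d - 1) F a b) W}) :
    (∀ x : GL ((Fin (d - 1) ⊕ Fin (d - 1)) ⊕ Fin 2) F, x ∈ Cfsg.Geo.omegaGL (Cfsg.quadFormMinus (d - 1) F a b) →
      (∃ z : F, ((x ^ p : GL ((Fin (d - 1) ⊕ Fin (d - 1)) ⊕ Fin 2) F) : Matrix ((Fin (d - 1) ⊕ Fin (d - 1)) ⊕ Fin 2) ((Fin (d - 1) ⊕ Fin (d - 1)) ⊕ Fin 2) F) = z • (1 : Matrix ((Fin (d - 1) ⊕ Fin (d - 1)) ⊕ Fin 2) ((Fin (d - 1) ⊕ Fin (d - 1)) ⊕ Fin 2) F)) →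
      (∀ z : F, (x : Matrix ((Fin (d - 1) ⊕ Fin (d - 1)) ⊕ Fin 2) ((Fin (d - 1) ⊕ Fin (d - 1)) ⊕ Fin 2) F) ≠ z • (1 : Matrix ((Fin (d - 1) ⊕ Fin (d - 1)) ⊕ Fin 2) ((Fin (d - 1) ⊕ Fin (d - 1)) ⊕ Fin 2) F)) →
      ∃ W : Submodule F ((Fin (d - 1) ⊕ Fin (d - 1)) ⊕ Fin 2 → F), (Module.finrank F ↥W = m ∧ Cfsg.Geo.IsNondegenerateOn (QuadraticMap.polar (Cfsg.quadFormMinus (d - 1) F a b)) W ∧ ¬ Cfsg.Geo.IsPlusTypeOn (Cfsg.quadFormMinus (d - 1) F a b) W) ∧ W.map (Matrix.toLin' (x : Matrix ((Fin (d - 1) ⊕ Fin (d - 1)) ⊕ Fin 2) ((Fin (d - 1) ⊕ Fin (d - 1)) ⊕ Fin 2) F)) ≤ W) →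
    ((2 * d) % 4 = m % 4 ∧ (∀ μ : Multiset ℕ, (∀ e ∈ μ, 0 < e ∧ e ≤ p) → (∀ e : ℕ, Even e → Even (μ.count e)) → μ.sum = 2 * d →
        ∃ ν : Multiset ℕ, ν ≤ μ ∧ ν.sum = m ∧ ∀ e : ℕ, Even e → Even (ν.count e))) := by
  intro hyp
  have hp : Odd p := by
    rcases (Fact.out : p.Prime).eq_two_or_odd' with h | h
    · subst h
      subst hq
      exact absurd (FiniteField.even_card_iff_char_two.1 (ringChar.eq F 2) |> Nat.even_iff.2)
        (Nat.not_even_iff_odd.2 hqodd)
    · exact h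
  have hp3 : 3 ≤ p := by
    have := (Fact.out : p.Prime).two_le
    rw [Nat.odd_iff] at hp; omega
  have h2F := Cfsg.Agent.Orth.two_ne_zero_of_odd (F := F) hp
  have hG := Cfsg.Agent.Orth.quadMinus_nondeg (F := F) (d - 1) (a := a) (b := b) hab
  have key := fun (μ : Multiset ℕ) (hμ : ∀ e ∈ μ, 0 < e ∧ e ≤ p)
      (hev : ∀ e : ℕ, Even e → Even (μ.count e)) (hsum : μ.sum = 2 * d) (ho : ∃ c ∈ μ, Odd c) =>
    Cfsg.Agent.Orth.exists_sub_type (Q := Cfsg.Agent.Orth.quadMinus (d - 1) F a b) hG hp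
      (by simp; omega) (fun W hW => ⟨hW.1, hW.2.1⟩) (fun x hx _ => hyp x hx) hμ (by simp; omega)
      (Cfsg.Agent.Orth.exists_unipotent_minus hp hab μ hμ hev hsum ho)
  refine ⟨?_, Cfsg.Agent.Orth.goodSub_of_odd hp (by omega) hme
    fun μ hμ hev hsum ho => (key μ hμ hev hsum ho).1⟩
  have hme' := Nat.even_iff.1 hme
  rcases Nat.even_or_odd d with hde | hdo
  · obtain ⟨ν, hν, hνs, hνe⟩ := (key (Multiset.replicate (d - 2) 2 + {3} + {1})
      (fun e he => by simp only [Multiset.mem_add, Multiset.mem_replicate, Multiset.mem_singleton] at he; rcases he with ⟨-, rfl⟩ | rfl | rfl <;> omega)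
      (fun e he => by
        simp [Multiset.count_replicate, Multiset.count_singleton]
        rw [Nat.even_iff] at he hde ⊢
        split_ifs <;> omega)
      (by simp; omega) ⟨1, by simp, odd_one⟩).1
    have hmem : ∀ b ∈ ν, b = 1 ∨ b = 2 ∨ b = 3 := fun b hb => by
      have := Multiset.mem_of_le hν hb; simp only [Multiset.mem_add, Multiset.mem_replicate, Multiset.mem_singleton] at this; omega
    have hc3 := Multiset.count_le_of_le 3 hν
    have hc1 := Multiset.count_le_of_le 1 hν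
    obtain ⟨c, hc⟩ := hνe 2 even_two
    rw [Cfsg.Agent.Orth.sum_small hmem] at hνs
    simp [Multiset.count_replicate, Multiset.count_singleton, -Multiset.count_eq_zero] at hc1 hc3
    rw [Nat.even_iff] at hde
    obtain h3 | h3 : ν.count 3 = 0 ∨ ν.count 3 = 1 := by omega
    all_goals omega
  · obtain ⟨ν, g, W, hν, hνs, hνe, hW, hinv, hνr⟩ := (key (Multiset.replicate (d - 1) 2 + {1} + {1})
      (fun e he => by simp only [Multiset.mem_add, Multiset.mem_replicate, Multiset.mem_singleton] at he; rcases he with ⟨-, rfl⟩ | rfl <;> omega)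
      (fun e he => by
        simp [Multiset.count_replicate, Multiset.count_singleton]
        rw [Nat.even_iff] at he ⊢
        rw [Nat.odd_iff] at hdo
        split_ifs <;> omega)
      (by simp; omega) ⟨1, by simp, odd_one⟩).2 ⟨2, by rw [Multiset.mem_add, Multiset.mem_add]; exact .inl (.inl (Multiset.mem_replicate.2 ⟨by omega, rfl⟩)), le_rfl⟩
    rw [Nat.odd_iff] at hdo
    by_contra hcon
    have hmem : ∀ b ∈ ν, b = 1 ∨ b = 2 ∨ b = 3 := fun b hb => by
      have := Multiset.mem_of_le hν hb; simp only [Multiset.mem_add, Multiset.mem_replicate, Multiset.mem_singleton] at this; omega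
    have hc3 := Multiset.count_le_of_le 3 hν
    have hc1 := Multiset.count_le_of_le 1 hν
    obtain ⟨c, hc⟩ := hνe 2 even_two
    have hs := Cfsg.Agent.Orth.sum_small hmem
    simp [Multiset.count_replicate, Multiset.count_singleton, -Multiset.count_eq_zero] at hc1 hc3
    have hν2 : ν = Multiset.replicate (ν.count 2) 2 := by
      refine Multiset.ext.2 fun x => ?_
      rw [Multiset.count_replicate]
      split_ifs with hx
      · rw [← hx]
      · by_cases hxν : x ∈ ν
        · rcases hmem x hxν with rfl | rfl | rfl <;> omega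
        · exact Multiset.count_eq_zero.2 hxν
    refine hW.2.2 ⟨W.map (Cfsg.Agent.Orth.ap g - 1 : Module.End F _), ?_, ?_, ?_⟩
    · rintro _ ⟨v, hv, rfl⟩
      exact W.sub_mem (hinv v hv) hv
    · rintro _ ⟨v, hv, rfl⟩
      refine Cfsg.Agent.Orth.sub_one_singular (Cfsg.Agent.Orth.quadMinus (d - 1) F a b) h2F
        (fun x => Cfsg.Agent.Orth.Q_ap g x) ?_
      have h0 := hνr 2
      rw [show Cfsg.Agent.PrimeOrderElt.rk ν 2 = 0 by
        rw [hν2]; simp [Cfsg.Agent.PrimeOrderElt.rk], Submodule.finrank_eq_zero, eq_bot_iff] at h0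
      exact h0 ⟨v, hv, rfl⟩
    · have h1 := hνr 1
      rw [pow_one, show Cfsg.Agent.PrimeOrderElt.rk ν 1 = ν.count 2 by
        conv_lhs => rw [hν2]
        simp [Cfsg.Agent.PrimeOrderElt.rk]] at h1
      rw [h1, hW.1]
      omega

end Cfsg.Agent.S5994
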