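import Cfsg.Statements.S5995
import Cfsg.Agent.Lib.Orth.UnipotentCriteria

set_option autoImplicit false
set_option linter.unusedVariables false
set_option linter.unusedSimpArgs false
open scoped MatrixGroups
open Cfsg

namespace Cfsg.Agent.S5995

/-- A necessary condition for every element of order p of Ω_n(q), nq odd, to fix a hyperbolic `m`-space. Here `T = Ω_n(F)`, `n = 2d+1 ≥ 7`, `q` odd, realised as the commutator subgroup of the isometry group of `Q = x₀² + Σ xᵢyᵢ` over the field `F` with `q` elements (trivial centre, so its elements of prime order `r` are used directly); a nondegenerate `m`-space (even `m`) is a subspace on which the polar form of `Q` is nondegenerate; it is hyperbolic if it contains an `m/2`-dimensional subspace on which `Q` vanishes, elliptic otherwise. Let `m` be even with `2 ≤ m ≤ n − 1` and suppose `p` divides the number of hyperbolic `m`-spaces. If every element of `T` of order `p` fixes some hyperbolic `m`-space, then `m ≡ 0 (mod 4)` and every partition of `n` into parts of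 size at most `p` in which every even part has even multiplicity contains (as a sub-multiset) a partition of `m` in which every even part has even multiplicity. -/
theorem result {F : Type*} [Field F] [Fintype F] {p : ℕ} [Fact p.Prime] [CharP F p] {q : ℕ} (hq : Fintype.card F = q) (hqodd : Odd q)
    (d m : ℕ) (hd : 3 ≤ d) (hm : 2 ≤ m) (hme : Even m) (hmn : m ≤ 2 * d)
    (hpΩ : p ∣ Nat.card {W : Submodule F (Unit ⊕ (Fin d ⊕ Fin d) → F) // Module.finrank F ↥W = m ∧ Cfsg.Geo.IsNondegenerateOn (QuadraticMap.polar (Cfsg.quadFormOdd d F)) W ∧ Cfsg.Geo.IsPlusTypeOn (Cfsg.quadFormOdd d F) W}) :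
    (∀ x : GL (Unit ⊕ (Fin d ⊕ Fin d)) F, x ∈ Cfsg.Geo.omegaGL (Cfsg.quadFormOdd d F) → orderOf x = p →
      ∃ W : Submodule F (Unit ⊕ (Fin d ⊕ Fin d) → F), (Module.finrank F ↥W = m ∧ Cfsg.Geo.IsNondegenerateOn (QuadraticMap.polar (Cfsg.quadFormOdd d F)) W ∧ Cfsg.Geo.IsPlusTypeOn (Cfsg.quadFormOdd d F) W) ∧ W.map (Matrix.toLin' (x : Matrix (Unit ⊕ (Fin d ⊕ Fin d)) (Unit ⊕ (Fin d ⊕ Fin d)) F)) ≤ W) →
    (m % 4 = 0 ∧ (∀ μ : Multiset ℕ, (∀ e ∈ μ, 0 < e ∧ e ≤ p) → (∀ e : ℕ, Even e → Even (μ.count e)) → μ.sum = 2 * d + 1 →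
        ∃ ν : Multiset ℕ, ν ≤ μ ∧ ν.sum = m ∧ ∀ e : ℕ, Even e → Even (ν.count e))) := by
  intro hyp
  have hp : Odd p := by
    rcases (Fact.out : p.Prime).eq_two_or_odd' with h | h
    · subst h
      subst hq
      exact absurd (FiniteField.even_card_iff_char_two.1 (ringChar.eq F 2) |> Nat.even_iff.2)
        (Nat.not_even_iff_odd.2 hqodd)
    · exact h
  have hp3 : 3 ≤ p := by
    have := (Fact.out : p.Prime).two_le
    rw [Nat.odd_iff] at hp; omega
  have hG := Cfsg.Agent.Orth.quadOdd_nondeg (F := F) d (Cfsg.Agent.Orth.two_ne_zero_of_odd hp)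
  have key : ∀ μ : Multiset ℕ, (∀ e ∈ μ, 0 < e ∧ e ≤ p) → (∀ e : ℕ, Even e → Even (μ.count e)) →
      μ.sum = 2 * d + 1 → Cfsg.Agent.Orth.GoodSub m μ := fun μ hμ hev hsum =>
    (Cfsg.Agent.Orth.exists_sub_type (Q := Cfsg.Agent.Orth.quadOdd d F) hG hp
      (by simp; omega) (fun W hW => ⟨hW.1, hW.2.1⟩) (fun x hx ho _ _ => hyp x hx ho) hμ (by simp; omega)
      (Cfsg.Agent.Orth.exists_unipotent_odd hp μ hμ hev hsum)).1
  refine ⟨?_, key⟩
  rw [Nat.even_iff] at hme
  rcases Nat.even_or_odd d with hde | hdo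
  · obtain ⟨ν, hν, hνs, hνe⟩ := key (Multiset.replicate d 2 + {1})
      (fun e he => by simp only [Multiset.mem_add, Multiset.mem_replicate, Multiset.mem_singleton] at he; rcases he with ⟨-, rfl⟩ | rfl <;> omega)
      (fun e he => by
        simp [Multiset.count_replicate, Multiset.count_singleton]
        split_ifs <;> simp_all)
      (by simp; omega)
    have hmem : ∀ b ∈ ν, b = 1 ∨ b = 2 ∨ b = 3 := fun b hb => by
      have := Multiset.mem_of_le hν hb; simp only [Multiset.mem_add, Multiset.mem_replicate, Multiset.mem_singleton] at this; omega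
    have hc3 := Multiset.count_le_of_le 3 hν
    have hc1 := Multiset.count_le_of_le 1 hν
    have h2 := hνe 2 even_two
    rw [Cfsg.Agent.Orth.sum_small hmem] at hνs
    simp [Multiset.count_replicate, Multiset.count_singleton, -Multiset.count_eq_zero] at hc1 hc3
    obtain ⟨c, hc⟩ := h2
    omega
  · obtain ⟨ν, hν, hνs, hνe⟩ := key (Multiset.replicate (d - 1) 2 + {3})
      (fun e he => by simp only [Multiset.mem_add, Multiset.mem_replicate, Multiset.mem_singleton] at he; rcases he with ⟨-, rfl⟩ | rfl <;> omega)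
      (fun e he => by
        simp [Multiset.count_replicate, Multiset.count_singleton]
        rw [Nat.odd_iff] at hdo; rw [Nat.even_iff] at he ⊢
        split_ifs <;> omega)
      (by simp; omega)
    have hmem : ∀ b ∈ ν, b = 1 ∨ b = 2 ∨ b = 3 := fun b hb => by
      have := Multiset.mem_of_le hν hb; simp only [Multiset.mem_add, Multiset.mem_replicate, Multiset.mem_singleton] at this; omega
    have hc3 := Multiset.count_le_of_le 3 hν
    have hc1 := Multiset.count_le_of_le 1 hν
    have h2 := hνe 2 even_two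
    rw [Cfsg.Agent.Orth.sum_small hmem] at hνs
    simp [Multiset.count_replicate, Multiset.count_singleton, -Multiset.count_eq_zero] at hc1 hc3
    obtain ⟨c, hc⟩ := h2
    omega

end Cfsg.Agent.S5995
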