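import Cfsg.Statements.S5998
import Cfsg.Agent.EqLemmas
import Cfsg.Agent.Lib.PrimeOrderElt.HeisenbergNormalizer
import Cfsg.Agent.Lib.GLOrder.Basic

set_option autoImplicit false
open scoped MatrixGroups
open Cfsg

namespace Cfsg.Agent.S5998

open Cfsg.Agent.PrimeOrderElt Module

/-- Elements of prime order of PSL_3(p), p ≡ 1 (mod 3), and the normalizer of an extraspecial subgroup of order 27. Here `T = PSL_3(F)` for the field `F` with `p` elements, `p` a prime with `p ≡ 1 (mod 3)`; `R` is a non-abelian subgroup of GL_3(F) of order 27 and exponent 3 (an extraspecial group 3^{1+2}, acting absolutely irreducibly), and `H` is the subgroup of matrices of determinant 1 normalizing `R` — a subgroup of type 3^{1+2}.Sp₂(3) (maximality is not assumed). Ω is the set of cosets of `H` in `T`, so an element of `T` of prime order `r` (a matrix `x` of determinant 1 with `x^r` scalar, `x` not scalar) fixes a point of Ω exactly when some conjugate of `x` by a matrix of determinant 1 normalizes `R`.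 Let `r` be a prime dividing the index of `H`. Then every element of `T` of order `r` fixes a point of Ω if and only if `r = 2`, or `r = 3` and `p ≡ 1 (mod 9)`. -/
theorem result {F : Type*} [Field F] [Fintype F] {p : ℕ} [Fact p.Prime] [CharP F p] (hF : Fintype.card F = p) (hp3 : p % 3 = 1)
    (R : Subgroup (GL (Fin 3) F)) (hR : Nat.card R = 27) (hRe : Monoid.exponent R = 3) (hRna : ¬ IsMulCommutative R)
    (r : ℕ) [Fact r.Prime]
    (hΩ : r ∣ (Cfsg.Geo.subgroupNormalizer R).relIndex (Cfsg.Geo.specialLinear (Fin 3) F)) :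
    (∀ x ∈ Cfsg.Geo.specialLinear (Fin 3) F, (∃ z : F, ((x ^ r : GL (Fin 3) F) : Matrix (Fin 3) (Fin 3) F) = z • (1 : Matrix (Fin 3) (Fin 3) F)) →
      (∀ z : F, (x : Matrix (Fin 3) (Fin 3) F) ≠ z • (1 : Matrix (Fin 3) (Fin 3) F)) →
      ∃ g ∈ Cfsg.Geo.specialLinear (Fin 3) F, g⁻¹ * x * g ∈ Cfsg.Geo.subgroupNormalizer R) ↔ (r = 2 ∨ (r = 3 ∧ p % 9 = 1)) := by
  classical
  have : Fact (Nat.Prime 3) := ⟨Nat.prime_three⟩
  have hp := (Fact.out : p.Prime).two_le
  have h3 : 3 ∣ Fintype.card F - 1 := by rw [hF]; omega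
  obtain ⟨C, ω, a, b, hω, ha, hb, hle, haC, hbC, hz⟩ := exists_heisenberg h3 R hR hRe hRna
  obtain ⟨z, hzR, hzc⟩ := hz
  set S := Cfsg.Geo.specialLinear (Fin 3) F with hSdef
  set N := Cfsg.Geo.subgroupNormalizer R with hNdef
  have hmemS : ∀ g : GL (Fin 3) F, g ∈ S ↔ (g : Matrix (Fin 3) (Fin 3) F).det = 1 := fun g => by
    rw [hSdef, Cfsg.Geo.specialLinear, MonoidHom.mem_ker, Units.ext_iff]
    rfl
  have hScard : Nat.card S = p ^ 3 * ((p ^ 2 - 1) * (p ^ 3 - 1)) := by
    have h := GLOrder.card_SL (F := F) 3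
    rw [show Finset.Ico 1 3 = {1, 2} by rfl, Finset.prod_pair (by norm_num), Nat.card_eq_fintype_card (α := F), hF] at h
    norm_num at h
    rw [← h, hSdef, Cfsg.Geo.specialLinear, ← GLOrder.range_toGL]
    rw [← Nat.card_eq_fintype_card]
    exact (Nat.card_congr (MonoidHom.ofInjective (f := (Matrix.SpecialLinearGroup.toGL : Matrix.SpecialLinearGroup (Fin 3) F →* GL (Fin 3) F)) Matrix.SpecialLinearGroup.toGL_injective).toEquiv).symm
  have hroot : ∀ (x : GL (Fin 3) F) (c : F), x ∈ S → (r = 2 ∨ r = 3) →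
      ((x ^ r : GL (Fin 3) F) : Matrix (Fin 3) (Fin 3) F) = c • 1 →
      ∃ (ζ : Fˣ) (B : GL (Fin 3) F) (d : Fin 3 → F), (∀ i, d i ^ r = 1) ∧
        (x : Matrix (Fin 3) (Fin 3) F) * (B : Matrix (Fin 3) (Fin 3) F) =
          (B : Matrix (Fin 3) (Fin 3) F) * Matrix.diagonal (fun i => (ζ : F) * d i) := by
    intro x c hx hr23 hc
    have hdx : (x : Matrix (Fin 3) (Fin 3) F).det = 1 := (hmemS x).mp hx
    have hlin : (Matrix.toLin' (x : Matrix (Fin 3) (Fin 3) F) : Module.End F (Fin 3 → F)) ^ r = c • 1 := by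
      rw [← pow_toLin', ← Units.val_pow_eq_pow_val, hc, map_smul, Matrix.toLin'_one]; rfl
    have hc3 : c ^ 3 = 1 := by
      have h := congrArg Matrix.det hc
      rw [Units.val_pow_eq_pow_val, Matrix.det_pow, hdx, one_pow, Matrix.det_smul, Matrix.det_one, mul_one,
        Fintype.card_fin] at h
      exact h.symm
    obtain ⟨ζ, hζ⟩ : ∃ ζ : F, ζ ^ r = c := by
      rcases hr23 with h2 | h3'
      · subst h2
        exact ⟨c ^ 2, by rw [← pow_mul, show 2 * 2 = 3 + 1 from rfl, pow_add, hc3, one_mul, pow_one]⟩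
      · subst h3'
        by_contra hcon
        push Not at hcon
        obtain ⟨-, hd⟩ := det_nonpower hcon hlin
        rw [LinearMap.det_toLin', hdx, Module.finrank_fin_fun] at hd
        norm_num at hd
        exact hcon 1 (by rw [one_pow, hd])
    have hζ0 : ζ ≠ 0 := fun h0 => by
      rw [h0, zero_pow (Fact.out : r.Prime).ne_zero] at hζ
      rw [← hζ] at hc3
      simp at hc3
    have hr1 : r ∣ Fintype.card F - 1 := by
      rcases hr23 with h2 | h3'
      · subst h2; rw [hF]
        have := (Fact.out : p.Prime).odd_of_ne_two (fun h => by subst h; omega)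
        obtain ⟨t, ht⟩ := this
        omega
      · subst h3'; exact h3
    have hr0 : (r : F) ≠ 0 := natCast_ne_zero_of_ne (p := p) (fun h => by subst h; rw [hF] at hr1; obtain ⟨t, ht⟩ := hr1; omega)
    obtain ⟨B, d, hB, hd, hYB⟩ := exists_diag hr1 hr0 (ζ⁻¹ • (x : Matrix (Fin 3) (Fin 3) F)) (by
      rw [map_smul]; exact pow_eq_scalar_lift hζ0 (by rw [hζ]; exact hlin))
    refine ⟨Units.mk0 ζ hζ0, Matrix.GeneralLinearGroup.mkOfDetNeZero B hB, d, hd, ?_⟩
    show (x : Matrix (Fin 3) (Fin 3) F) * B = B * Matrix.diagonal (fun i => ζ * d i)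
    rw [show (fun i => ζ * d i) = ζ • d from rfl, Matrix.diagonal_smul, Matrix.mul_smul, ← hYB, Matrix.smul_mul,
      smul_smul, mul_inv_cancel₀ hζ0, one_smul]
  constructor
  · intro h
    rcases eq_or_ne r 2 with h2 | h2
    · exact Or.inl h2
    rcases eq_or_ne r 3 with h3' | h3'
    · refine Or.inr ⟨h3', ?_⟩
      subst h3'
      by_contra h9
      have hRS : R ≤ S := by
        refine hle.trans ((Subgroup.closure_le S).mpr ?_)
        rintro g (rfl | rfl)
        · refine (hmemS _).mpr ?_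
          have h1 := congrArg Matrix.det haC
          rw [Matrix.det_mul, Matrix.det_mul, Matrix.det_diagonal, Fin.prod_univ_three,
            mul_comm _ (Matrix.det (C : Matrix (Fin 3) (Fin 3) F))] at h1
          rw [mul_left_cancel₀ ((Matrix.isUnit_iff_isUnit_det _).mp C.isUnit).ne_zero h1]
          show 1 * ω * ω ^ 2 = 1
          rw [one_mul, ← pow_succ']
          exact hω.pow_eq_one
        · refine (hmemS _).mpr ?_
          have h1 := congrArg Matrix.det hbC
          rw [Matrix.det_mul, Matrix.det_mul, mul_comm _ (Matrix.det (C : Matrix (Fin 3) (Fin 3) F))] at h1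
          rw [mul_left_cancel₀ ((Matrix.isUnit_iff_isUnit_det _).mp C.isUnit).ne_zero h1, Matrix.det_fin_three]
          simp
      have h27 : 27 ∣ Nat.card (N.subgroupOf S) := by
        rw [← hR, ← Nat.card_congr (Subgroup.subgroupOfEquivOfLe hRS).toEquiv]
        exact Subgroup.card_dvd_of_le fun g hg => Subgroup.le_normalizer hg
      have hdvd : 81 ∣ Nat.card S := by
        rw [← (N.subgroupOf S).card_mul_index]
        exact Nat.mul_dvd_mul h27 hΩ
      rw [hScard] at hdvd
      have hmod : p % 9 = 4 ∨ p % 9 = 7 := by omega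
      have hz81 : ((p ^ 3 * ((p ^ 2 - 1) * (p ^ 3 - 1)) : ℕ) : ZMod 81) = 0 :=
        (ZMod.natCast_eq_zero_iff _ _).mpr hdvd
      push_cast [Nat.cast_sub (Nat.one_le_pow 2 p (by omega)), Nat.cast_sub (Nat.one_le_pow 3 p (by omega))] at hz81
      have hkey : ∀ y : ZMod 81, (y.val % 9 = 4 ∨ y.val % 9 = 7) → y ^ 3 * ((y ^ 2 - 1) * (y ^ 3 - 1)) ≠ 0 := by
        decide +kernel
      exact hkey (p : ZMod 81) (by rw [ZMod.val_natCast, Nat.mod_mod_of_dvd _ (by norm_num)]; exact hmod) hz81
    · exfalso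
      have hr5 : 5 ≤ r := by
        have := (Fact.out : r.Prime).two_le
        have h4 : r ≠ 4 := fun h => by have := (Fact.out : r.Prime); subst h; norm_num at this
        omega
      have hrS : r ∣ Nat.card S := hΩ.trans (by
        rw [← (N.subgroupOf S).card_mul_index]; exact dvd_mul_left _ _)
      obtain ⟨x, hx⟩ := exists_prime_orderOf_dvd_card' r hrS
      have hxr : (((x : GL (Fin 3) F) ^ r : GL (Fin 3) F) : Matrix (Fin 3) (Fin 3) F) = (1 : F) • 1 := by
        rw [show (x : GL (Fin 3) F) ^ r = ((x ^ r : S) : GL (Fin 3) F) from rfl, ← hx, pow_orderOf_eq_one, one_smul]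
        rfl
      have hns : ∀ c : F, ((x : GL (Fin 3) F) : Matrix (Fin 3) (Fin 3) F) ≠ c • 1 := by
        intro c hc
        have hd := (hmemS _).mp x.2
        rw [hc, Matrix.det_smul, Matrix.det_one, mul_one, Fintype.card_fin] at hd
        have h1 := hxr
        rw [Units.val_pow_eq_pow_val, hc, smul_pow, one_pow] at h1
        have h2 : c ^ r = 1 := by simpa using congr_fun (congr_fun h1 0) 0
        have : orderOf c ∣ Nat.gcd 3 r := Nat.dvd_gcd (orderOf_dvd_of_pow_eq_one hd) (orderOf_dvd_of_pow_eq_one h2)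
        rw [(Nat.coprime_primes Nat.prime_three Fact.out).mpr (by omega), Nat.dvd_one, _root_.orderOf_eq_one_iff] at this
        subst this
        have : x = 1 := Subtype.ext (Units.ext (by rw [hc, one_smul]; rfl))
        rw [this, orderOf_one] at hx
        omega
      obtain ⟨g, hg, hgx⟩ := h x x.2 ⟨1, hxr⟩ hns
      obtain ⟨c, hc⟩ := scalar_of_normalizes hω hR ha hb haC hbC ⟨z, hzR, hzc⟩ hr5 hgx ⟨1, by
        rw [show (g⁻¹ * x * g) ^ r = g⁻¹ * (x : GL (Fin 3) F) ^ r * g by
            rw [show g⁻¹ * x * g = g⁻¹ * x * (g⁻¹)⁻¹ by rw [inv_inv], conj_pow, inv_inv],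
          Units.val_mul, Units.val_mul, hxr, one_smul, mul_one, ← Units.val_mul, inv_mul_cancel, Units.val_one]⟩
      refine hns c ?_
      rw [show (x : GL (Fin 3) F) = g * (g⁻¹ * x * g) * g⁻¹ by group, Units.val_mul, Units.val_mul, hc,
        Matrix.mul_smul, mul_one, Matrix.smul_mul, ← Units.val_mul, mul_inv_cancel, Units.val_one]
  · intro hr x hx ⟨c, hc⟩ hns
    obtain ⟨ζ, B, d, hd, hxB⟩ := hroot x c hx (hr.imp_right And.left) hc
    rcases hr with hr2 | ⟨hr3, -⟩
    · subst hr2
      -- involutions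
      let W : Matrix (Fin 3) (Fin 3) F := !![-1, 0, 0; 0, 0, -1; 0, -1, 0]
      have hWdet : W.det ≠ 0 := by rw [Matrix.det_fin_three]; simp [W]
      have h2F : (2 : F) ≠ 0 := by
        rw [show (2 : F) = ((2 : ℕ) : F) by norm_num]
        exact natCast_ne_zero_of_ne (p := p) (fun h => by omega)
      let Q : Matrix (Fin 3) (Fin 3) F := !![1, 0, 0; 0, 1, 1; 0, 1, -1]
      have hQdet : Q.det ≠ 0 := by
        rw [Matrix.det_fin_three]; simp [Q]
        intro h
        exact h2F (by linear_combination -h)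
      have hWQ : W * Q = Q * Matrix.diagonal ![-1, -1, 1] := by
        ext i j; fin_cases i <;> fin_cases j <;> simp [W, Q, Matrix.mul_apply, Fin.sum_univ_three]
      have hd' : ∀ i, d i = 1 ∨ d i = -1 := fun i => sq_eq_one_iff.mp (hd i)
      obtain ⟨σ, t, ht, hσd⟩ : ∃ (σ : Equiv.Perm (Fin 3)) (t : F), t ≠ 0 ∧ ∀ i, d (σ i) = t * ![-1, -1, 1] i := by
        have hne : ∃ i j, d i ≠ d j := by
          by_contra hall
          push Not at hall
          refine hns ((ζ : F) * d 0) ?_
          have h1 : Matrix.diagonal (fun i => (ζ : F) * d i) = ((ζ : F) * d 0) • (1 : Matrix (Fin 3) (Fin 3) F) := by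
            rw [show (fun i => (ζ : F) * d i) = fun _ => (ζ : F) * d 0 from funext fun i => by rw [hall i 0],
              Matrix.smul_one_eq_diagonal]
          rw [h1, Matrix.mul_smul, mul_one] at hxB
          exact B.isUnit.mul_right_cancel (hxB.trans (by rw [Matrix.smul_mul, one_mul]))
        rcases hd' 0 with e0 | e0 <;> rcases hd' 1 with e1 | e1 <;> rcases hd' 2 with e2 | e2
        · obtain ⟨i, j, hij⟩ := hne
          exact absurd (by fin_cases i <;> fin_cases j <;> simp [e0, e1, e2]) hij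
        · exact ⟨1, -1, neg_ne_zero.mpr one_ne_zero, fun i => by fin_cases i <;> simp [e0, e1, e2]⟩
        · exact ⟨Equiv.swap 1 2, -1, neg_ne_zero.mpr one_ne_zero, fun i => by fin_cases i <;> simp [e0, e1, e2, Equiv.swap_apply_def]⟩
        · exact ⟨Equiv.swap 0 2, 1, one_ne_zero, fun i => by fin_cases i <;> simp [e0, e1, e2, Equiv.swap_apply_def]⟩
        · exact ⟨Equiv.swap 0 2, -1, neg_ne_zero.mpr one_ne_zero, fun i => by fin_cases i <;> simp [e0, e1, e2, Equiv.swap_apply_def]⟩
        · exact ⟨Equiv.swap 1 2, 1, one_ne_zero, fun i => by fin_cases i <;> simp [e0, e1, e2, Equiv.swap_apply_def]⟩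
        · exact ⟨1, 1, one_ne_zero, fun i => by fin_cases i <;> simp [e0, e1, e2]⟩
        · obtain ⟨i, j, hij⟩ := hne
          exact absurd (by fin_cases i <;> fin_cases j <;> simp [e0, e1, e2]) hij
      let B₀ : Matrix (Fin 3) (Fin 3) F := (B : Matrix (Fin 3) (Fin 3) F).submatrix id σ
      have hB₀det : B₀.det ≠ 0 := by
        rw [Matrix.det_permute']
        exact mul_ne_zero (by rcases Int.units_eq_one_or (Equiv.Perm.sign σ) with e | e <;> simp [e])
          ((Matrix.isUnit_iff_isUnit_det _).mp B.isUnit).ne_zero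
      let f : Fin 3 → F := fun i => (ζ : F) * t * ![-1, -1, 1] i
      have hxB₀ : (x : Matrix (Fin 3) (Fin 3) F) * B₀ = B₀ * Matrix.diagonal f := by
        ext i j
        have := congr_fun (congr_fun hxB i) (σ j)
        rw [Matrix.mul_diagonal] at this ⊢
        rw [Matrix.mul_apply] at this ⊢
        simp only [B₀, Matrix.submatrix_apply, id, f]
        rw [this, hσd]
        ring
      let s : GL (Fin 3) F := Matrix.GeneralLinearGroup.mkOfDetNeZero (((ζ : F) * t) • (1 : Matrix (Fin 3) (Fin 3) F))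
        (by rw [Matrix.det_smul, Matrix.det_one, mul_one]; exact pow_ne_zero _ (mul_ne_zero ζ.ne_zero ht))
      let w : GL (Fin 3) F := C * Matrix.GeneralLinearGroup.mkOfDetNeZero W hWdet * C⁻¹
      have hw : (w : Matrix (Fin 3) (Fin 3) F) * (C : Matrix (Fin 3) (Fin 3) F) = (C : Matrix (Fin 3) (Fin 3) F) * W := by
        rw [← Units.val_mul, inv_mul_cancel_right]
        exact Units.val_mul C _
      have hwN : s * w ∈ N := N.mul_mem (scalar_mem_normalizer R (c := (ζ : F) * t) rfl)
        (mem_normalizer_invol hω ha hb hle haC hbC hw)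
      obtain ⟨g, hg, hgx⟩ := sl_conj_diag (n := 3) (by norm_num) (X := x) (Y := s * w)
        (P := Matrix.GeneralLinearGroup.mkOfDetNeZero B₀ hB₀det)
        (Q := C * Matrix.GeneralLinearGroup.mkOfDetNeZero Q hQdet) (f := f) hxB₀ (by
          show (((ζ : F) * t) • (1 : Matrix (Fin 3) (Fin 3) F) * (w : Matrix (Fin 3) (Fin 3) F)) * ((C : Matrix (Fin 3) (Fin 3) F) * Q) =
            (C : Matrix (Fin 3) (Fin 3) F) * Q * Matrix.diagonal f
          rw [Matrix.smul_mul, Matrix.one_mul, Matrix.smul_mul, ← Matrix.mul_assoc, hw, Matrix.mul_assoc, hWQ,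
            ← Matrix.mul_assoc, ← Matrix.mul_smul, ← Matrix.diagonal_smul]
          rfl)
      exact ⟨g, hg, hgx ▸ hwN⟩
    · subst hr3
      let s : GL (Fin 3) F := Matrix.GeneralLinearGroup.mkOfDetNeZero ((ζ : F) • (1 : Matrix (Fin 3) (Fin 3) F))
        (by rw [Matrix.det_smul, Matrix.det_one, mul_one]; exact pow_ne_zero _ ζ.ne_zero)
      let D : GL (Fin 3) F := Matrix.GeneralLinearGroup.mkOfDetNeZero (Matrix.diagonal d) (by
        rw [Matrix.det_diagonal]
        exact Finset.prod_ne_zero_iff.mpr fun i _ h0 => by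
          have := hd i
          rw [h0] at this
          norm_num at this)
      let w : GL (Fin 3) F := C * D * C⁻¹
      have hw : (w : Matrix (Fin 3) (Fin 3) F) * (C : Matrix (Fin 3) (Fin 3) F) =
          (C : Matrix (Fin 3) (Fin 3) F) * Matrix.diagonal d := by
        rw [← Units.val_mul, inv_mul_cancel_right]
        exact Units.val_mul C _
      have hwN : s * w ∈ N := N.mul_mem (scalar_mem_normalizer R (c := (ζ : F)) rfl)
        (mem_normalizer_diag hω ha hb hle haC hbC ⟨z, hzR, hzc⟩ hd hw)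
      obtain ⟨g, hg, hgx⟩ := sl_conj_diag (n := 3) (by norm_num) (X := x) (Y := s * w)
        (P := B) (Q := C) (f := fun i => (ζ : F) * d i) hxB (by
          show ((ζ : F) • (1 : Matrix (Fin 3) (Fin 3) F) * (w : Matrix (Fin 3) (Fin 3) F)) * (C : Matrix (Fin 3) (Fin 3) F) = _
          rw [Matrix.smul_mul, Matrix.one_mul, Matrix.smul_mul, hw, ← Matrix.mul_smul, ← Matrix.diagonal_smul]
          rfl)
      exact ⟨g, hg, hgx ▸ hwN⟩

end Cfsg.Agent.S5998
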