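import Cfsg.Statements.S5999
import Cfsg.Agent.EqLemmas
import Cfsg.Agent.S2587
import Cfsg.Agent.Lib.PrimeOrderElt.HeisenbergNormalizer
import Cfsg.Agent.Lib.Unitary.Count

set_option autoImplicit false
open scoped MatrixGroups
open Cfsg

namespace Cfsg.Agent.S5999

open Cfsg.Agent.PrimeOrderElt Module

variable {F : Type*} [Field F] [Fintype F] {p : ℕ}

theorem diag_mem_GU (hF : Fintype.card F = p ^ 2) (D : GL (Fin 3) F) {f : Fin 3 → F}
    (hD : (D : Matrix (Fin 3) (Fin 3) F) = Matrix.diagonal f) (hf : ∀ i, f i ^ (p + 1) = 1) :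
    D ∈ Cfsg.GU 3 F p := by
  rw [Unitary.mem_GU_iff, hD]
  exact Unitary.isUnitary_diagonal hF hf

/-- Unitary elements with the same diagonal form are conjugate under SU_3. -/
theorem su_conj_diag (hF : Fintype.card F = p ^ 2) {X Y P Q : GL (Fin 3) F} {f : Fin 3 → F}
    (hX : X ∈ Cfsg.GU 3 F p) (hY : Y ∈ Cfsg.GU 3 F p) (hf : ∀ i, f i ^ (p + 1) = 1)
    (hXP : (X : Matrix (Fin 3) (Fin 3) F) * (P : Matrix (Fin 3) (Fin 3) F) = (P : Matrix (Fin 3) (Fin 3) F) * Matrix.diagonal f)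
    (hYQ : (Y : Matrix (Fin 3) (Fin 3) F) * (Q : Matrix (Fin 3) (Fin 3) F) = (Q : Matrix (Fin 3) (Fin 3) F) * Matrix.diagonal f) :
    ∃ g : GL (Fin 3) F, g ∈ Cfsg.GU 3 F p ∧ (g : Matrix (Fin 3) (Fin 3) F).det = 1 ∧ g⁻¹ * X * g = Y := by
  classical
  have hf0 : ∀ i, f i ≠ 0 := fun i h0 => by
    have := hf i; rw [h0, zero_pow (Nat.succ_ne_zero p)] at this; exact zero_ne_one this
  let D : GL (Fin 3) F := Matrix.GeneralLinearGroup.mkOfDetNeZero (Matrix.diagonal f) (by
    rw [Matrix.det_diagonal]; exact Finset.prod_ne_zero_iff.mpr fun i _ => hf0 i)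
  have hD : D ∈ Cfsg.GU 3 F p := diag_mem_GU hF D (f := f) rfl hf
  have key : ∀ (X P : GL (Fin 3) F), X ∈ Cfsg.GU 3 F p →
      (X : Matrix (Fin 3) (Fin 3) F) * (P : Matrix (Fin 3) (Fin 3) F) = (P : Matrix (Fin 3) (Fin 3) F) * Matrix.diagonal f →
      ∃ u : GL (Fin 3) F, u ∈ Cfsg.GU 3 F p ∧ u * D * u⁻¹ = X := by
    intro X P hX hXP
    have hc : IsConj ((⟨D, hD⟩ : Cfsg.GU 3 F p) : GL (Fin 3) F) ((⟨X, hX⟩ : Cfsg.GU 3 F p) : GL (Fin 3) F) := by
      refine isConj_iff.mpr ⟨P, mul_inv_eq_iff_eq_mul.mpr (Units.ext ?_)⟩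
      rw [Units.val_mul, Units.val_mul]
      exact hXP.symm
    obtain ⟨u, hu⟩ := isConj_iff.mp ((S2587.result hF _ _).mpr hc)
    exact ⟨u.1, u.2, congrArg Subtype.val hu⟩
  obtain ⟨u, hu, huX⟩ := key X P hX hXP
  obtain ⟨v, hv, hvY⟩ := key Y Q hY hYQ
  have hdu : (u : Matrix (Fin 3) (Fin 3) F).det ≠ 0 := ((Matrix.isUnit_iff_isUnit_det _).mp u.isUnit).ne_zero
  have hdv : (v : Matrix (Fin 3) (Fin 3) F).det ≠ 0 := ((Matrix.isUnit_iff_isUnit_det _).mp v.isUnit).ne_zero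
  have hnu := Unitary.IsUnitary.det_norm hF ((Unitary.mem_GU_iff u).mp hu)
  have hnv := Unitary.IsUnitary.det_norm hF ((Unitary.mem_GU_iff v).mp hv)
  set μ : F := (v : Matrix (Fin 3) (Fin 3) F).det / (u : Matrix (Fin 3) (Fin 3) F).det with hμ
  let Δ : GL (Fin 3) F := Matrix.GeneralLinearGroup.mkOfDetNeZero (Matrix.diagonal ![μ, 1, 1]) (by
    rw [Matrix.det_diagonal, Fin.prod_univ_three]; simp [hμ, hdu, hdv])
  have hΔ : Δ ∈ Cfsg.GU 3 F p := by
    refine diag_mem_GU hF Δ (f := ![μ, 1, 1]) rfl fun i => ?_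
    fin_cases i
    · show μ ^ (p + 1) = 1
      rw [hμ, div_pow, hnu, hnv, div_one]
    · exact one_pow _
    · exact one_pow _
  have hcomm : D * Δ = Δ * D := Units.ext (by
    show Matrix.diagonal f * Matrix.diagonal ![μ, 1, 1] = Matrix.diagonal ![μ, 1, 1] * Matrix.diagonal f
    rw [Matrix.diagonal_mul_diagonal, Matrix.diagonal_mul_diagonal]
    exact congrArg Matrix.diagonal (funext fun i => mul_comm _ _))
  refine ⟨u * Δ * v⁻¹, mul_mem (mul_mem hu hΔ) (inv_mem hv), ?_, ?_⟩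
  · have hvinv : ((v⁻¹ : GL (Fin 3) F) : Matrix (Fin 3) (Fin 3) F).det = ((v : Matrix (Fin 3) (Fin 3) F).det)⁻¹ := by
      refine eq_inv_of_mul_eq_one_left ?_
      rw [← Matrix.det_mul, Units.inv_mul, Matrix.det_one]
    rw [Units.val_mul, Units.val_mul, Matrix.det_mul, Matrix.det_mul, hvinv]
    show (u : Matrix (Fin 3) (Fin 3) F).det * (Matrix.diagonal ![μ, 1, 1]).det * _ = 1
    rw [Matrix.det_diagonal, Fin.prod_univ_three, hμ]
    simp
    field_simp
  · rw [← huX, ← hvY]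
    calc (u * Δ * v⁻¹)⁻¹ * (u * D * u⁻¹) * (u * Δ * v⁻¹) = v * (Δ⁻¹ * (D * Δ)) * v⁻¹ := by group
      _ = v * D * v⁻¹ := by rw [hcomm, inv_mul_cancel_left]

/-- A unitary group of type 3^(1+2) has an orthonormal adapted basis. -/
theorem exists_unitary_frame (hF : Fintype.card F = p ^ 2) (hp3 : p % 3 = 2) {ω : F} (hω : IsPrimitiveRoot ω 3)
    {a b C : GL (Fin 3) F} (haU : a ∈ Cfsg.GU 3 F p) (hbU : b ∈ Cfsg.GU 3 F p)
    (haC : (a : Matrix (Fin 3) (Fin 3) F) * (C : Matrix (Fin 3) (Fin 3) F) = (C : Matrix (Fin 3) (Fin 3) F) * matA ω)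
    (hbC : (b : Matrix (Fin 3) (Fin 3) F) * (C : Matrix (Fin 3) (Fin 3) F) = (C : Matrix (Fin 3) (Fin 3) F) * matB) :
    ∃ C' : GL (Fin 3) F, C' ∈ Cfsg.GU 3 F p ∧
      (a : Matrix (Fin 3) (Fin 3) F) * (C' : Matrix (Fin 3) (Fin 3) F) = (C' : Matrix (Fin 3) (Fin 3) F) * matA ω ∧
      (b : Matrix (Fin 3) (Fin 3) F) * (C' : Matrix (Fin 3) (Fin 3) F) = (C' : Matrix (Fin 3) (Fin 3) F) * matB := by
  classical
  set M : Matrix (Fin 3) (Fin 3) F := UnitaryConj.adj hF (C : Matrix (Fin 3) (Fin 3) F) * (C : Matrix (Fin 3) (Fin 3) F) with hM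
  have key : ∀ (g : GL (Fin 3) F) (A : Matrix (Fin 3) (Fin 3) F), g ∈ Cfsg.GU 3 F p →
      (g : Matrix (Fin 3) (Fin 3) F) * (C : Matrix (Fin 3) (Fin 3) F) = (C : Matrix (Fin 3) (Fin 3) F) * A →
      UnitaryConj.adj hF A * M * A = M := by
    intro g A hg hgA
    calc UnitaryConj.adj hF A * M * A
        = UnitaryConj.adj hF ((C : Matrix (Fin 3) (Fin 3) F) * A) * ((C : Matrix (Fin 3) (Fin 3) F) * A) := by
          rw [UnitaryConj.adj_mul, hM]; simp only [Matrix.mul_assoc]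
      _ = UnitaryConj.adj hF (C : Matrix (Fin 3) (Fin 3) F) *
            (UnitaryConj.adj hF (g : Matrix (Fin 3) (Fin 3) F) * (g : Matrix (Fin 3) (Fin 3) F)) * (C : Matrix (Fin 3) (Fin 3) F) := by
          rw [← hgA, UnitaryConj.adj_mul]; simp only [Matrix.mul_assoc]
      _ = M := by rw [(UnitaryConj.mem_GU_iff_adj hF g).mp hg, Matrix.mul_one]
  have hωp : ω ^ p = ω ^ 2 := by
    rw [← Nat.div_add_mod p 3, hp3, pow_add, pow_mul, hω.pow_eq_one, one_pow, one_mul]
  have hadjA : UnitaryConj.adj hF (matA ω) = Matrix.diagonal (fun i => (![1, ω, ω ^ 2] i) ^ p) := by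
    rw [UnitaryConj.adj, Matrix.diagonal_map (map_zero _), Matrix.diagonal_transpose]
    rfl
  have hA := key a _ haU haC
  rw [hadjA] at hA
  have hoff : ∀ i j, i ≠ j → M i j = 0 := by
    intro i j hij
    have h := congr_fun (congr_fun hA i) j
    rw [Matrix.mul_diagonal, Matrix.diagonal_mul] at h
    by_contra h0
    have h1 : ![1, ω, ω ^ 2] i ^ p * ![1, ω, ω ^ 2] j = 1 :=
      mul_left_cancel₀ h0 (by linear_combination h)
    have h2 : (![1, ω, ω ^ 2] : Fin 3 → F) i = ω ^ (i : ℕ) := by fin_cases i <;> simp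
    have h3 : (![1, ω, ω ^ 2] : Fin 3 → F) j = ω ^ (j : ℕ) := by fin_cases j <;> simp
    rw [h2, h3, ← pow_mul, mul_comm (i : ℕ) p, pow_mul, hωp, ← pow_mul, ← pow_add] at h1
    have h4 := hω.dvd_of_pow_eq_one _ h1
    exact hij (Fin.ext (by omega))
  have hB := key b _ hbU hbC
  have hadjB : UnitaryConj.adj hF (matB : Matrix (Fin 3) (Fin 3) F) = !![0, 1, 0; 0, 0, 1; 1, 0, 0] := by
    ext i j
    fin_cases i <;> fin_cases j <;> simp [UnitaryConj.adj, matB, -Unitary.conjHom_apply]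
  rw [hadjB] at hB
  have e0 := congr_fun (congr_fun hB 0) 0
  have e1 := congr_fun (congr_fun hB 1) 1
  simp [Matrix.mul_apply, Matrix.vecMul, dotProduct, Fin.sum_univ_three, matB] at e0 e1
  have hMdiag : M = M 0 0 • (1 : Matrix (Fin 3) (Fin 3) F) := by
    ext i j
    rw [Matrix.smul_apply, Matrix.one_apply, smul_eq_mul, mul_ite, mul_one, mul_zero]
    by_cases hij : i = j
    · subst hij
      rw [if_pos rfl]
      fin_cases i
      · rfl
      · exact e0
      · exact e1.trans e0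
    · rw [if_neg hij, hoff i j hij]
  set ν := M 0 0 with hν
  have hν0 : ν ≠ 0 := by
    intro h0
    rw [h0, zero_smul] at hMdiag
    have hu : IsUnit M := (UnitaryConj.isUnit_adj hF C.isUnit).mul C.isUnit
    rw [hMdiag] at hu
    exact not_isUnit_zero hu
  have hνp : ν ^ p = ν := by
    have h : UnitaryConj.adj hF M = M := by rw [hM, UnitaryConj.adj_mul, UnitaryConj.adj_adj]
    have := congr_fun (congr_fun h 0) 0
    simpa [UnitaryConj.adj] using this
  obtain ⟨t, ht⟩ := Unitary.exists_norm_eq hF hνp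
  have ht0 : t ≠ 0 := fun h0 => hν0 (by rw [← ht, h0, zero_pow (Nat.succ_ne_zero p)])
  let C' : GL (Fin 3) F := Matrix.GeneralLinearGroup.mkOfDetNeZero (t⁻¹ • (C : Matrix (Fin 3) (Fin 3) F)) (by
    rw [Matrix.det_smul]
    exact mul_ne_zero (pow_ne_zero _ (inv_ne_zero ht0)) ((Matrix.isUnit_iff_isUnit_det _).mp C.isUnit).ne_zero)
  refine ⟨C', ?_, ?_, ?_⟩
  · rw [UnitaryConj.mem_GU_iff_adj hF]
    show UnitaryConj.adj hF (t⁻¹ • (C : Matrix (Fin 3) (Fin 3) F)) * (t⁻¹ • (C : Matrix (Fin 3) (Fin 3) F)) = 1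
    have hs : UnitaryConj.adj hF (t⁻¹ • (C : Matrix (Fin 3) (Fin 3) F)) = (t⁻¹) ^ p • UnitaryConj.adj hF (C : Matrix (Fin 3) (Fin 3) F) := by
      ext i j; simp [UnitaryConj.adj, mul_pow]
    rw [hs, Matrix.smul_mul, Matrix.mul_smul, smul_smul, ← hM, hMdiag, smul_smul, ← pow_succ, ← ht, ← mul_pow,
      inv_mul_cancel₀ ht0, one_pow, one_smul]
  · show _ * (t⁻¹ • (C : Matrix (Fin 3) (Fin 3) F)) = (t⁻¹ • (C : Matrix (Fin 3) (Fin 3) F)) * _
    rw [Matrix.mul_smul, haC, Matrix.smul_mul]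
  · show _ * (t⁻¹ • (C : Matrix (Fin 3) (Fin 3) F)) = (t⁻¹ • (C : Matrix (Fin 3) (Fin 3) F)) * _
    rw [Matrix.mul_smul, hbC, Matrix.smul_mul]

/-- Cube roots of unity are cubes. -/
theorem exists_cube_root (hF : Fintype.card F = p ^ 2) (hp9 : p % 9 = 8) {c : F} (hc : c ^ 3 = 1) :
    ∃ ζ : F, ζ ^ 3 = c ∧ ζ ^ (p + 1) = 1 := by
  classical
  have hc0 : c ≠ 0 := fun h => by simp [h] at hc
  obtain ⟨ν, hν⟩ := IsCyclic.exists_monoid_generator (α := Fˣ)
  obtain ⟨k, hk⟩ := Submonoid.mem_powers_iff _ _ |>.mp (hν (Units.mk0 c hc0))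
  have hord : orderOf ν = Fintype.card F - 1 := by
    rw [← Fintype.card_units, ← Nat.card_eq_fintype_card]
    refine orderOf_eq_card_of_forall_mem_zpowers fun y => ?_
    obtain ⟨m, hm⟩ := Submonoid.mem_powers_iff _ _ |>.mp (hν y)
    exact ⟨m, by simpa using hm⟩
  have h9 : 9 ∣ p + 1 := by omega
  have h9' : 9 ∣ Fintype.card F - 1 := by rw [hF]; exact h9.trans (Unitary.q_succ_dvd p)
  have h1 : Fintype.card F - 1 ∣ k * 3 := by
    rw [← hord]
    refine orderOf_dvd_of_pow_eq_one ?_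
    rw [pow_mul, hk]
    exact Units.ext (by simpa using hc)
  obtain ⟨k', rfl⟩ : 3 ∣ k := by
    have := h9'.trans h1
    omega
  refine ⟨((ν ^ k' : Fˣ) : F), ?_, ?_⟩
  · rw [← Units.val_pow_eq_pow_val, ← pow_mul, mul_comm k' 3, hk, Units.val_mk0]
  · obtain ⟨m, hm⟩ := h9
    rw [hm, pow_mul, ← Units.val_pow_eq_pow_val, ← pow_mul, show k' * 9 = 3 * k' * 3 by ring, pow_mul, hk,
      Units.val_pow_eq_pow_val, Units.val_mk0, hc, one_pow]

/-- Elements of prime order of PSU_3(p), p ≡ 2 (mod 3), and the normalizer of an extraspecial subgroup of order 27. Here `T = PSU_3(p)` for a prime `p ≥ 5` with `p ≡ 2 (mod 3)`, realised through `SU_3(p)`, the matrices of determinant 1 over the field `F` with `p²` elements preserving the hermitian form `Σ uᵢvᵢ^p`; `R` is a non-abelian subgroup of order 27 and exponent 3 of the full unitary group of that form (an extraspecial group 3^{1+2}, acting absolutely irreducibly), and `H` is the subgroup of `SU_3(p)`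 normalizing `R` — a subgroup of type 3^{1+2}.Sp₂(3) (maximality is not assumed). Ω is the set of cosets of `H`, so an element of `T` of prime order `r` (`x ∈ SU_3(p)` with `x^r` scalar, `x` not scalar) fixes a point of Ω exactly when some `SU_3(p)`-conjugate of `x` normalizes `R`. Let `r` be a prime dividing the index of `H`. Then every element of `T` of order `r` fixes a point of Ω if and only if `r = 2`, or `r = 3` and `p ≡ 8 (mod 9)`. -/
theorem result {F : Type*} [Field F] [Fintype F] {p : ℕ} [Fact p.Prime] [CharP F p] (hF : Fintype.card F = p ^ 2) (hp : 5 ≤ p) (hp3 : p % 3 = 2)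
    (R : Subgroup (GL (Fin 3) F)) (hRU : R ≤ Cfsg.GU 3 F p) (hR : Nat.card R = 27) (hRe : Monoid.exponent R = 3) (hRna : ¬ IsMulCommutative R)
    (r : ℕ) [Fact r.Prime]
    (hΩ : r ∣ (Cfsg.Geo.subgroupNormalizer R).relIndex (Cfsg.GU 3 F p ⊓ Cfsg.Geo.specialLinear (Fin 3) F)) :
    (∀ x ∈ Cfsg.GU 3 F p ⊓ Cfsg.Geo.specialLinear (Fin 3) F, (∃ z : F, ((x ^ r : GL (Fin 3) F) : Matrix (Fin 3) (Fin 3) F) = z • (1 : Matrix (Fin 3) (Fin 3) F)) →
      (∀ z : F, (x : Matrix (Fin 3) (Fin 3) F) ≠ z • (1 : Matrix (Fin 3) (Fin 3) F)) →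
      ∃ g ∈ Cfsg.GU 3 F p ⊓ Cfsg.Geo.specialLinear (Fin 3) F, g⁻¹ * x * g ∈ Cfsg.Geo.subgroupNormalizer R) ↔ (r = 2 ∨ (r = 3 ∧ p % 9 = 8)) := by
  classical
  have : Fact (Nat.Prime 3) := ⟨Nat.prime_three⟩
  have h3p : 3 ∣ p + 1 := by omega
  have h3 : 3 ∣ Fintype.card F - 1 := by rw [hF]; exact h3p.trans (Unitary.q_succ_dvd p)
  obtain ⟨C₀, ω, a, b, hω, ha, hb, hle, haC₀, hbC₀, hz⟩ := exists_heisenberg h3 R hR hRe hRna
  obtain ⟨z, hzR, hzc⟩ := hz
  obtain ⟨C, hCU, haC, hbC⟩ := exists_unitary_frame hF hp3 hω (hRU ha) (hRU hb) haC₀ hbC₀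
  set S := Cfsg.GU 3 F p ⊓ Cfsg.Geo.specialLinear (Fin 3) F with hSdef
  set N := Cfsg.Geo.subgroupNormalizer R with hNdef
  have hmemS : ∀ g : GL (Fin 3) F, g ∈ S ↔ g ∈ Cfsg.GU 3 F p ∧ (g : Matrix (Fin 3) (Fin 3) F).det = 1 := fun g => by
    rw [hSdef, Subgroup.mem_inf, Cfsg.Geo.specialLinear, MonoidHom.mem_ker, Units.ext_iff]
    rfl
  have hScard : Nat.card S = p ^ 3 * ((p ^ 2 - 1) * (p ^ 3 + 1)) := by
    have h := Unitary.card_SU (F := F) hF 3 (by norm_num)
    rw [show ∏ i ∈ Finset.range 3, (if Even i then p ^ (i + 1) + 1 else p ^ (i + 1) - 1) =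
      (p + 1) * ((p ^ 2 - 1) * (p ^ 3 + 1)) by simp [Finset.prod_range_succ, Nat.even_iff, mul_assoc]] at h
    have e : Nat.card S = Nat.card (Cfsg.SU 3 F p) := Nat.card_congr
      { toFun := fun g => ⟨⟨((g : GL (Fin 3) F) : Matrix (Fin 3) (Fin 3) F), ((hmemS g).mp g.2).2⟩, ((hmemS g).mp g.2).1⟩
        invFun := fun g => ⟨Matrix.SpecialLinearGroup.toGL g.1, (hmemS _).mpr ⟨g.2, g.1.2⟩⟩
        left_inv := fun g => Subtype.ext (Units.ext rfl)
        right_inv := fun g => rfl }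
    rw [e]
    refine Nat.eq_of_mul_eq_mul_left (Nat.succ_pos p) (h.trans ?_)
    norm_num
    ring
  have hroot : ∀ (x : GL (Fin 3) F) (c : F), x ∈ S → (r = 2 ∨ r = 3 ∧ p % 9 = 8) →
      ((x ^ r : GL (Fin 3) F) : Matrix (Fin 3) (Fin 3) F) = c • 1 →
      ∃ (ζ : Fˣ) (B : GL (Fin 3) F) (d : Fin 3 → F), (ζ : F) ^ (p + 1) = 1 ∧ (∀ i, d i ^ r = 1) ∧ (∀ i, d i ^ (p + 1) = 1) ∧
        (x : Matrix (Fin 3) (Fin 3) F) * (B : Matrix (Fin 3) (Fin 3) F) =
          (B : Matrix (Fin 3) (Fin 3) F) * Matrix.diagonal (fun i => (ζ : F) * d i) := by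
    intro x c hx hr23 hc
    have hdx : (x : Matrix (Fin 3) (Fin 3) F).det = 1 := ((hmemS x).mp hx).2
    have hlin : (Matrix.toLin' (x : Matrix (Fin 3) (Fin 3) F) : Module.End F (Fin 3 → F)) ^ r = c • 1 := by
      rw [← pow_toLin', ← Units.val_pow_eq_pow_val, hc, map_smul, Matrix.toLin'_one]; rfl
    have hc3 : c ^ 3 = 1 := by
      have h := congrArg Matrix.det hc
      rw [Units.val_pow_eq_pow_val, Matrix.det_pow, hdx, one_pow, Matrix.det_smul, Matrix.det_one, mul_one,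
        Fintype.card_fin] at h
      exact h.symm
    obtain ⟨m, hm⟩ := h3p
    obtain ⟨ζ, hζ, hζU⟩ : ∃ ζ : F, ζ ^ r = c ∧ ζ ^ (p + 1) = 1 := by
      rcases hr23 with h2 | ⟨h3', h9⟩
      · subst h2
        refine ⟨c ^ 2, ?_, ?_⟩
        · rw [← pow_mul, show 2 * 2 = 3 + 1 from rfl, pow_add, hc3, one_mul, pow_one]
        · rw [hm, ← pow_mul, show 2 * (3 * m) = 3 * (2 * m) by ring, pow_mul, hc3, one_pow]
      · subst h3'
        exact exists_cube_root hF h9 hc3
    have hζ0 : ζ ≠ 0 := fun h0 => by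
      rw [h0, zero_pow (Nat.succ_ne_zero p)] at hζU; exact zero_ne_one hζU
    have hrp : r ∣ p + 1 := by
      rcases hr23 with h2 | ⟨h3', -⟩
      · subst h2
        obtain ⟨t, ht⟩ := (Fact.out : p.Prime).odd_of_ne_two (by omega)
        omega
      · subst h3'; exact ⟨m, hm⟩
    have hr1 : r ∣ Fintype.card F - 1 := by rw [hF]; exact hrp.trans (Unitary.q_succ_dvd p)
    have hr0 : (r : F) ≠ 0 := natCast_ne_zero_of_ne (p := p) (fun h => by
      subst h
      have := (Nat.dvd_add_right dvd_rfl).mp hrp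
      rw [Nat.dvd_one] at this
      omega)
    obtain ⟨B, d, hB, hd, hYB⟩ := exists_diag hr1 hr0 (ζ⁻¹ • (x : Matrix (Fin 3) (Fin 3) F)) (by
      rw [map_smul]; exact pow_eq_scalar_lift hζ0 (by rw [hζ]; exact hlin))
    refine ⟨Units.mk0 ζ hζ0, Matrix.GeneralLinearGroup.mkOfDetNeZero B hB, d, hζU, hd, fun i => ?_, ?_⟩
    · obtain ⟨k, hk⟩ := hrp
      rw [hk, pow_mul, hd i, one_pow]
    show (x : Matrix (Fin 3) (Fin 3) F) * B = B * Matrix.diagonal (fun i => ζ * d i)
    rw [show (fun i => ζ * d i) = ζ • d from rfl, Matrix.diagonal_smul, Matrix.mul_smul, ← hYB, Matrix.smul_mul,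
      smul_smul, mul_inv_cancel₀ hζ0, one_smul]
  constructor
  · intro h
    rcases eq_or_ne r 2 with h2 | h2
    · exact Or.inl h2
    rcases eq_or_ne r 3 with h3' | h3'
    · refine Or.inr ⟨h3', ?_⟩
      subst h3'
      by_contra h9
      have hRS : R ≤ S := by
        refine hle.trans ((Subgroup.closure_le S).mpr ?_)
        rintro g (rfl | rfl)
        · refine (hmemS _).mpr ⟨hRU ha, ?_⟩
          have h1 := congrArg Matrix.det haC
          rw [Matrix.det_mul, Matrix.det_mul, Matrix.det_diagonal, Fin.prod_univ_three,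
            mul_comm _ (Matrix.det (C : Matrix (Fin 3) (Fin 3) F))] at h1
          rw [mul_left_cancel₀ ((Matrix.isUnit_iff_isUnit_det _).mp C.isUnit).ne_zero h1]
          show 1 * ω * ω ^ 2 = 1
          rw [one_mul, ← pow_succ']
          exact hω.pow_eq_one
        · refine (hmemS _).mpr ⟨hRU hb, ?_⟩
          have h1 := congrArg Matrix.det hbC
          rw [Matrix.det_mul, Matrix.det_mul, mul_comm _ (Matrix.det (C : Matrix (Fin 3) (Fin 3) F))] at h1
          rw [mul_left_cancel₀ ((Matrix.isUnit_iff_isUnit_det _).mp C.isUnit).ne_zero h1, Matrix.det_fin_three]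
          simp
      have h27 : 27 ∣ Nat.card (N.subgroupOf S) := by
        rw [← hR, ← Nat.card_congr (Subgroup.subgroupOfEquivOfLe hRS).toEquiv]
        exact Subgroup.card_dvd_of_le fun g hg => Subgroup.le_normalizer hg
      have hdvd : 81 ∣ Nat.card S := by
        rw [← (N.subgroupOf S).card_mul_index]
        exact Nat.mul_dvd_mul h27 hΩ
      rw [hScard] at hdvd
      have hmod : p % 9 = 2 ∨ p % 9 = 5 := by omega
      have hz81 : ((p ^ 3 * ((p ^ 2 - 1) * (p ^ 3 + 1)) : ℕ) : ZMod 81) = 0 :=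
        (ZMod.natCast_eq_zero_iff _ _).mpr hdvd
      push_cast [Nat.cast_sub (Nat.one_le_pow 2 p (by omega))] at hz81
      have hkey : ∀ y : ZMod 81, (y.val % 9 = 2 ∨ y.val % 9 = 5) → y ^ 3 * ((y ^ 2 - 1) * (y ^ 3 + 1)) ≠ 0 := by
        decide +kernel
      exact hkey (p : ZMod 81) (by rw [ZMod.val_natCast, Nat.mod_mod_of_dvd _ (by norm_num)]; exact hmod) hz81
    · exfalso
      have hr5 : 5 ≤ r := by
        have := (Fact.out : r.Prime).two_le
        have h4 : r ≠ 4 := fun h => by have := (Fact.out : r.Prime); subst h; norm_num at this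
        omega
      have hrS : r ∣ Nat.card S := hΩ.trans (by
        rw [← (N.subgroupOf S).card_mul_index]; exact dvd_mul_left _ _)
      obtain ⟨x, hx⟩ := exists_prime_orderOf_dvd_card' r hrS
      have hxr : (((x : GL (Fin 3) F) ^ r : GL (Fin 3) F) : Matrix (Fin 3) (Fin 3) F) = (1 : F) • 1 := by
        rw [show (x : GL (Fin 3) F) ^ r = ((x ^ r : S) : GL (Fin 3) F) from rfl, ← hx, pow_orderOf_eq_one, one_smul]
        rfl
      have hns : ∀ c : F, ((x : GL (Fin 3) F) : Matrix (Fin 3) (Fin 3) F) ≠ c • 1 := by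
        intro c hc
        have hd := ((hmemS _).mp x.2).2
        rw [hc, Matrix.det_smul, Matrix.det_one, mul_one, Fintype.card_fin] at hd
        have h1 := hxr
        rw [Units.val_pow_eq_pow_val, hc, smul_pow, one_pow] at h1
        have h2 : c ^ r = 1 := by simpa using congr_fun (congr_fun h1 0) 0
        have : orderOf c ∣ Nat.gcd 3 r := Nat.dvd_gcd (orderOf_dvd_of_pow_eq_one hd) (orderOf_dvd_of_pow_eq_one h2)
        rw [(Nat.coprime_primes Nat.prime_three Fact.out).mpr (by omega), Nat.dvd_one, _root_.orderOf_eq_one_iff] at this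
        subst this
        have : x = 1 := Subtype.ext (Units.ext (by rw [hc, one_smul]; rfl))
        rw [this, orderOf_one] at hx
        omega
      obtain ⟨g, hg, hgx⟩ := h x x.2 ⟨1, hxr⟩ hns
      obtain ⟨c, hc⟩ := scalar_of_normalizes hω hR ha hb haC hbC ⟨z, hzR, hzc⟩ hr5 hgx ⟨1, by
        rw [show (g⁻¹ * x * g) ^ r = g⁻¹ * (x : GL (Fin 3) F) ^ r * g by
            rw [show g⁻¹ * x * g = g⁻¹ * x * (g⁻¹)⁻¹ by rw [inv_inv], conj_pow, inv_inv],
          Units.val_mul, Units.val_mul, hxr, one_smul, mul_one, ← Units.val_mul, inv_mul_cancel, Units.val_one]⟩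
      refine hns c ?_
      rw [show (x : GL (Fin 3) F) = g * (g⁻¹ * x * g) * g⁻¹ by group, Units.val_mul, Units.val_mul, hc,
        Matrix.mul_smul, mul_one, Matrix.smul_mul, ← Units.val_mul, mul_inv_cancel, Units.val_one]
  · intro hr x hx ⟨c, hc⟩ hns
    obtain ⟨ζ, B, d, hζU, hd, hdU, hxB⟩ := hroot x c hx hr hc
    have hxU := ((hmemS x).mp hx).1
    have hsU : ∀ (c : F) (s : GL (Fin 3) F), c ^ (p + 1) = 1 → (s : Matrix (Fin 3) (Fin 3) F) = c • 1 →
        s ∈ Cfsg.GU 3 F p := fun c s hc hs => diag_mem_GU hF s (f := fun _ => c) (hs.trans (Matrix.smul_one_eq_diagonal c)) (fun _ => hc)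
    rcases hr with hr2 | ⟨hr3, -⟩
    · subst hr2
      -- involutions
      let W : Matrix (Fin 3) (Fin 3) F := !![-1, 0, 0; 0, 0, -1; 0, -1, 0]
      have hWdet : W.det ≠ 0 := by rw [Matrix.det_fin_three]; simp [W]
      have h2F : (2 : F) ≠ 0 := by
        rw [show (2 : F) = ((2 : ℕ) : F) by norm_num]
        exact natCast_ne_zero_of_ne (p := p) (fun h => by omega)
      have hm1 : (-1 : F) ^ (p + 1) = 1 :=
        ((Fact.out : p.Prime).odd_of_ne_two (by omega)).add_one.neg_one_pow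
      have hWU : Matrix.GeneralLinearGroup.mkOfDetNeZero W hWdet ∈ Cfsg.GU 3 F p := by
        rw [UnitaryConj.mem_GU_iff_adj hF]
        show UnitaryConj.adj hF W * W = 1
        have hmp : (-1 : F) ^ p = -1 := ((Fact.out : p.Prime).odd_of_ne_two (by omega)).neg_one_pow
        ext i j
        fin_cases i <;> fin_cases j <;> simp [UnitaryConj.adj, W, Matrix.mul_apply, Fin.sum_univ_three, hmp, zero_pow (show p ≠ 0 by omega)]
      let Q : Matrix (Fin 3) (Fin 3) F := !![1, 0, 0; 0, 1, 1; 0, 1, -1]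
      have hQdet : Q.det ≠ 0 := by
        rw [Matrix.det_fin_three]; simp [Q]
        intro h
        exact h2F (by linear_combination -h)
      have hWQ : W * Q = Q * Matrix.diagonal ![-1, -1, 1] := by
        ext i j; fin_cases i <;> fin_cases j <;> simp [W, Q, Matrix.mul_apply, Fin.sum_univ_three]
      have hd' : ∀ i, d i = 1 ∨ d i = -1 := fun i => sq_eq_one_iff.mp (hd i)
      obtain ⟨σ, t, ht, hσd⟩ : ∃ (σ : Equiv.Perm (Fin 3)) (t : F), t ≠ 0 ∧ ∀ i, d (σ i) = t * ![-1, -1, 1] i := by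
        have hne : ∃ i j, d i ≠ d j := by
          by_contra hall
          push Not at hall
          refine hns ((ζ : F) * d 0) ?_
          have h1 : Matrix.diagonal (fun i => (ζ : F) * d i) = ((ζ : F) * d 0) • (1 : Matrix (Fin 3) (Fin 3) F) := by
            rw [show (fun i => (ζ : F) * d i) = fun _ => (ζ : F) * d 0 from funext fun i => by rw [hall i 0],
              Matrix.smul_one_eq_diagonal]
          rw [h1, Matrix.mul_smul, mul_one] at hxB
          exact B.isUnit.mul_right_cancel (hxB.trans (by rw [Matrix.smul_mul, one_mul]))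
        rcases hd' 0 with e0 | e0 <;> rcases hd' 1 with e1 | e1 <;> rcases hd' 2 with e2 | e2
        · obtain ⟨i, j, hij⟩ := hne
          exact absurd (by fin_cases i <;> fin_cases j <;> simp [e0, e1, e2]) hij
        · exact ⟨1, -1, neg_ne_zero.mpr one_ne_zero, fun i => by fin_cases i <;> simp [e0, e1, e2]⟩
        · exact ⟨Equiv.swap 1 2, -1, neg_ne_zero.mpr one_ne_zero, fun i => by fin_cases i <;> simp [e0, e1, e2, Equiv.swap_apply_def]⟩
        · exact ⟨Equiv.swap 0 2, 1, one_ne_zero, fun i => by fin_cases i <;> simp [e0, e1, e2, Equiv.swap_apply_def]⟩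
        · exact ⟨Equiv.swap 0 2, -1, neg_ne_zero.mpr one_ne_zero, fun i => by fin_cases i <;> simp [e0, e1, e2, Equiv.swap_apply_def]⟩
        · exact ⟨Equiv.swap 1 2, 1, one_ne_zero, fun i => by fin_cases i <;> simp [e0, e1, e2, Equiv.swap_apply_def]⟩
        · exact ⟨1, 1, one_ne_zero, fun i => by fin_cases i <;> simp [e0, e1, e2]⟩
        · obtain ⟨i, j, hij⟩ := hne
          exact absurd (by fin_cases i <;> fin_cases j <;> simp [e0, e1, e2]) hij
      let B₀ : Matrix (Fin 3) (Fin 3) F := (B : Matrix (Fin 3) (Fin 3) F).submatrix id σ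
      have hB₀det : B₀.det ≠ 0 := by
        rw [Matrix.det_permute']
        exact mul_ne_zero (by rcases Int.units_eq_one_or (Equiv.Perm.sign σ) with e | e <;> simp [e])
          ((Matrix.isUnit_iff_isUnit_det _).mp B.isUnit).ne_zero
      let f : Fin 3 → F := fun i => (ζ : F) * t * ![-1, -1, 1] i
      have hxB₀ : (x : Matrix (Fin 3) (Fin 3) F) * B₀ = B₀ * Matrix.diagonal f := by
        ext i j
        have := congr_fun (congr_fun hxB i) (σ j)
        rw [Matrix.mul_diagonal] at this ⊢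
        rw [Matrix.mul_apply] at this ⊢
        simp only [B₀, Matrix.submatrix_apply, id, f]
        rw [this, hσd]
        ring
      let s : GL (Fin 3) F := Matrix.GeneralLinearGroup.mkOfDetNeZero (((ζ : F) * t) • (1 : Matrix (Fin 3) (Fin 3) F))
        (by rw [Matrix.det_smul, Matrix.det_one, mul_one]; exact pow_ne_zero _ (mul_ne_zero ζ.ne_zero ht))
      let w : GL (Fin 3) F := C * Matrix.GeneralLinearGroup.mkOfDetNeZero W hWdet * C⁻¹
      have hw : (w : Matrix (Fin 3) (Fin 3) F) * (C : Matrix (Fin 3) (Fin 3) F) = (C : Matrix (Fin 3) (Fin 3) F) * W := by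
        rw [← Units.val_mul, inv_mul_cancel_right]
        exact Units.val_mul C _
      have hwN : s * w ∈ N := N.mul_mem (scalar_mem_normalizer R (c := (ζ : F) * t) rfl)
        (mem_normalizer_invol hω ha hb hle haC hbC hw)
      have hfU : ∀ i, f i ^ (p + 1) = 1 := fun i => by
        show ((ζ : F) * t * ![-1, -1, 1] i) ^ (p + 1) = 1
        rw [mul_assoc, ← hσd i, mul_pow, hζU, hdU, one_mul]
      have htU : t ^ (p + 1) = 1 := by
        have h := hdU (σ 2)
        rw [hσd 2] at h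
        simpa using h
      have hYU : s * w ∈ Cfsg.GU 3 F p :=
        mul_mem (hsU ((ζ : F) * t) s (by rw [mul_pow, hζU, htU, one_mul]) rfl) (mul_mem (mul_mem hCU hWU) (inv_mem hCU))
      obtain ⟨g, hgU, hgd, hgx⟩ := su_conj_diag hF (X := x) (Y := s * w)
        (P := Matrix.GeneralLinearGroup.mkOfDetNeZero B₀ hB₀det)
        (Q := C * Matrix.GeneralLinearGroup.mkOfDetNeZero Q hQdet) (f := f) hxU hYU hfU hxB₀ (by
          show (((ζ : F) * t) • (1 : Matrix (Fin 3) (Fin 3) F) * (w : Matrix (Fin 3) (Fin 3) F)) * ((C : Matrix (Fin 3) (Fin 3) F) * Q) =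
            (C : Matrix (Fin 3) (Fin 3) F) * Q * Matrix.diagonal f
          rw [Matrix.smul_mul, Matrix.one_mul, Matrix.smul_mul, ← Matrix.mul_assoc, hw, Matrix.mul_assoc, hWQ,
            ← Matrix.mul_assoc, ← Matrix.mul_smul, ← Matrix.diagonal_smul]
          rfl)
      exact ⟨g, (hmemS g).mpr ⟨hgU, hgd⟩, hgx ▸ hwN⟩
    · subst hr3
      let s : GL (Fin 3) F := Matrix.GeneralLinearGroup.mkOfDetNeZero ((ζ : F) • (1 : Matrix (Fin 3) (Fin 3) F))
        (by rw [Matrix.det_smul, Matrix.det_one, mul_one]; exact pow_ne_zero _ ζ.ne_zero)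
      let D : GL (Fin 3) F := Matrix.GeneralLinearGroup.mkOfDetNeZero (Matrix.diagonal d) (by
        rw [Matrix.det_diagonal]
        exact Finset.prod_ne_zero_iff.mpr fun i _ h0 => by
          have := hd i
          rw [h0] at this
          norm_num at this)
      let w : GL (Fin 3) F := C * D * C⁻¹
      have hw : (w : Matrix (Fin 3) (Fin 3) F) * (C : Matrix (Fin 3) (Fin 3) F) =
          (C : Matrix (Fin 3) (Fin 3) F) * Matrix.diagonal d := by
        rw [← Units.val_mul, inv_mul_cancel_right]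
        exact Units.val_mul C _
      have hwN : s * w ∈ N := N.mul_mem (scalar_mem_normalizer R (c := (ζ : F)) rfl)
        (mem_normalizer_diag hω ha hb hle haC hbC ⟨z, hzR, hzc⟩ hd hw)
      have hYU : s * w ∈ Cfsg.GU 3 F p :=
        mul_mem (hsU (ζ : F) s hζU rfl) (mul_mem (mul_mem hCU (diag_mem_GU hF D (f := d) rfl hdU)) (inv_mem hCU))
      obtain ⟨g, hgU, hgd, hgx⟩ := su_conj_diag hF (X := x) (Y := s * w)
        (P := B) (Q := C) (f := fun i => (ζ : F) * d i) hxU hYU (fun i => by rw [mul_pow, hζU, hdU, one_mul]) hxB (by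
          show ((ζ : F) • (1 : Matrix (Fin 3) (Fin 3) F) * (w : Matrix (Fin 3) (Fin 3) F)) * (C : Matrix (Fin 3) (Fin 3) F) = _
          rw [Matrix.smul_mul, Matrix.one_mul, Matrix.smul_mul, hw, ← Matrix.mul_smul, ← Matrix.diagonal_smul]
          rfl)
      exact ⟨g, (hmemS g).mpr ⟨hgU, hgd⟩, hgx ▸ hwN⟩

end Cfsg.Agent.S5999
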