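import Cfsg.Statements.S6000
import Cfsg.Agent.EqLemmas
import Cfsg.Agent.S5979
import Cfsg.Agent.Lib.PrimeOrderElt.Construct
import Cfsg.Agent.Lib.PrimeOrderElt.SymplecticFourNormalizer

set_option autoImplicit false
open scoped MatrixGroups
open Cfsg

namespace Cfsg.Agent.S6000

open Cfsg.Agent.PrimeOrderElt Module

variable {F : Type*} [Field F] [Fintype F]

/-- Block companion of `t² - z`. -/
abbrev K2 (z : F) : Matrix (Fin 4) (Fin 4) F := !![0, 0, z, 0; 0, 0, 0, z; 1, 0, 0, 0; 0, 1, 0, 0]
/-- Type (1, 1, ω, ω⁻¹). -/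
abbrev K3 : Matrix (Fin 4) (Fin 4) F := !![1, 0, 0, 0; 0, 1, 0, 0; 0, 0, 0, -1; 0, 0, 1, -1]
/-- Companion of the fifth cyclotomic polynomial. -/
abbrev K5 : Matrix (Fin 4) (Fin 4) F := !![0, 0, 0, -1; 1, 0, 0, -1; 0, 1, 0, -1; 0, 0, 1, -1]

/-- Matrices with the same model are conjugate under SL. -/
theorem sl_conj_model {X Y Q P K : Matrix (Fin 4) (Fin 4) F} (hQ : Q.det ≠ 0) (hP : P.det ≠ 0)
    (hX : X * Q = Q * K) (hY : Y * P = P * K)
    (hK : ∀ d : F, d ≠ 0 → ∃ Z : Matrix (Fin 4) (Fin 4) F, Z * K = K * Z ∧ Z.det = d) :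
    ∃ g : GL (Fin 4) F, (g : Matrix (Fin 4) (Fin 4) F).det = 1 ∧
      X * (g : Matrix (Fin 4) (Fin 4) F) = (g : Matrix (Fin 4) (Fin 4) F) * Y := by
  obtain ⟨Z, hZK, hZ⟩ := hK (P.det / Q.det) (div_ne_zero hP hQ)
  have hPu : IsUnit P.det := isUnit_iff_ne_zero.mpr hP
  have hd : (Q * Z * P⁻¹).det = 1 := by
    have hPi : P.det * P⁻¹.det = 1 := by rw [← Matrix.det_mul, Matrix.mul_nonsing_inv _ hPu, Matrix.det_one]
    rw [Matrix.det_mul, Matrix.det_mul, hZ, mul_div_cancel₀ _ hQ, hPi]
  refine ⟨Matrix.GeneralLinearGroup.mkOfDetNeZero (Q * Z * P⁻¹) (by rw [hd]; exact one_ne_zero), hd, ?_⟩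
  show X * (Q * Z * P⁻¹) = Q * Z * P⁻¹ * Y
  have hY' : P⁻¹ * Y = K * P⁻¹ := by
    calc P⁻¹ * Y = P⁻¹ * (Y * P) * P⁻¹ := by
          simp only [Matrix.mul_assoc, Matrix.mul_nonsing_inv _ hPu, Matrix.mul_one]
      _ = K * P⁻¹ := by rw [hY, ← Matrix.mul_assoc P⁻¹, Matrix.nonsing_inv_mul _ hPu, Matrix.one_mul]
  rw [Matrix.mul_assoc (Q * Z) P⁻¹, hY', ← Matrix.mul_assoc X, ← Matrix.mul_assoc X, hX, Matrix.mul_assoc Q K Z, ← hZK]
  simp only [Matrix.mul_assoc]

theorem det_of_cols {col : Fin 4 → (Fin 4 → F)} (h : LinearIndependent F col) :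
    (Matrix.of fun k i => col i k).det ≠ 0 :=
  ((Matrix.isUnit_iff_isUnit_det _).mp
    (Matrix.linearIndependent_cols_iff_isUnit.mp (h : LinearIndependent F (Matrix.of fun k i => col i k).col))).ne_zero

theorem model_of_cols (M K : Matrix (Fin 4) (Fin 4) F) (col : Fin 4 → (Fin 4 → F))
    (h : ∀ i, M.mulVec (col i) = ∑ j, K j i • col j) :
    M * (Matrix.of fun k i => col i k) = (Matrix.of fun k i => col i k) * K :=
  Matrix.ext fun k i => by
    have := congrFun (h i) k
    rw [Finset.sum_apply] at this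
    refine this.trans ?_
    rw [Matrix.mul_apply]
    exact Finset.sum_congr rfl fun j _ => mul_comm _ _

theorem exists_model_sq (h2 : (2 : F) ≠ 0) {z : F} (hz : ∀ c : F, c ^ 2 ≠ z) {M : Matrix (Fin 4) (Fin 4) F}
    (hM : M * M = z • 1) : ∃ Q : Matrix (Fin 4) (Fin 4) F, Q.det ≠ 0 ∧ M * Q = Q * K2 z := by
  have hlin : (Matrix.toLin' M : Module.End F (Fin 4 → F)) ^ 2 = z • 1 := by
    rw [← pow_toLin', pow_two, hM, map_smul, Matrix.toLin'_one]; rfl
  obtain ⟨v, hv⟩ := S5979.exists_pair_family h2 hz hlin 2 le_rfl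
  let e : Fin 4 → Fin 2 × Fin 2 := ![(0, 0), (0, 1), (1, 0), (1, 1)]
  have he : Function.Injective e := by decide
  have hind := hv.comp e he
  refine ⟨_, det_of_cols hind, model_of_cols M (K2 z) _ fun i => ?_⟩
  have hsq : ∀ w : Fin 4 → F, M.mulVec (M.mulVec w) = z • w := fun w => by
    rw [Matrix.mulVec_mulVec, hM, Matrix.smul_mulVec, Matrix.one_mulVec]
  rw [Fin.sum_univ_four]
  fin_cases i <;> simp [e, K2, hsq, -Matrix.mulVec_mulVec]

theorem commutant_det_sq (hq : Fintype.card F % 2 = 1) {z : F} (hz : z ≠ 0) (d : F) :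
    ∃ Z : Matrix (Fin 4) (Fin 4) F, Z * K2 z = K2 z * Z ∧ Z.det = d := by
  obtain ⟨α, β, h⟩ := S5979.exists_quadratic_norm hq hz d
  refine ⟨!![α, 0, z * β, 0; 0, 1, 0, 0; β, 0, α, 0; 0, 0, 0, 1], ?_, ?_⟩
  · ext i j
    fin_cases i <;> fin_cases j <;> simp [K2, Matrix.mul_apply, Fin.sum_univ_four] <;> ring
  · rw [← h, Matrix.det_succ_row_zero, Fin.sum_univ_four]
    simp [Matrix.det_fin_three, Fin.succAbove]
    ring

theorem commutant_det_three (d : F) :
    ∃ Z : Matrix (Fin 4) (Fin 4) F, Z * K3 = K3 * Z ∧ Z.det = d := by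
  refine ⟨Matrix.diagonal ![d, 1, 1, 1], ?_, by simp [Matrix.det_diagonal, Fin.prod_univ_four]⟩
  ext i j
  fin_cases i <;> fin_cases j <;> simp [K3, Matrix.mul_diagonal, Matrix.diagonal_mul]

theorem exists_model_three (h3 : ((3 : ℕ) : F) ≠ 0) (hω : ∀ c : F, c ^ 3 = 1 → c = 1) {y : Matrix (Fin 4) (Fin 4) F}
    (hy : y * y * y = 1) (hfix : finrank F ↥(fix (Matrix.toLin' y : Module.End F (Fin 4 → F))) = 2) :
    ∃ Q : Matrix (Fin 4) (Fin 4) F, Q.det ≠ 0 ∧ y * Q = Q * K3 := by
  have : Fact (Nat.Prime 3) := ⟨Nat.prime_three⟩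
  set Y : Module.End F (Fin 4 → F) := Matrix.toLin' y with hY
  have hY3 : Y ^ 3 = (1 : F) • 1 := by
    rw [hY, ← pow_toLin', pow_succ, pow_two, hy, Matrix.toLin'_one, one_smul]; rfl
  obtain ⟨U, hU, -, hinf, hsup⟩ := exists_invariant_complement (r := 3) h3 one_ne_zero hY3
    (W := ⊤) le_top (inv_fix Y) le_top
  have hUd : finrank F U = 2 := by
    have h := Submodule.finrank_sup_add_finrank_inf_eq (fix Y) U
    rw [hinf, hsup, finrank_bot, finrank_top, Module.finrank_fin_fun, hfix] at h
    omega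
  obtain ⟨w, hw, hw0⟩ := Submodule.exists_mem_ne_zero_of_ne_bot (show U ≠ ⊥ from fun h => by
    rw [h, finrank_bot] at hUd; omega)
  have hnofix : ∀ u ∈ U, Y u = u → u = 0 := fun u hu e => by
    have : u ∈ fix Y ⊓ U := ⟨mem_fix.mpr e, hu⟩
    rwa [hinf, Submodule.mem_bot] at this
  have hrel : Y (Y w) + Y w + w = 0 := by
    refine hnofix _ (U.add_mem (U.add_mem (inv_apply hU (inv_apply hU hw)) (inv_apply hU hw)) hw) ?_
    have := LinearMap.congr_fun hY3 w
    rw [pow_succ, pow_two, one_smul] at this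
    simp only [Module.End.mul_apply, Module.End.one_apply] at this
    rw [map_add, map_add, this]; abel
  let bf := Module.finBasisOfFinrankEq F (fix Y) hfix
  let col : Fin 4 → (Fin 4 → F) := ![(bf 0).1, (bf 1).1, w, Y w]
  have hind : LinearIndependent F col := by
    refine Fintype.linearIndependent_iff.mpr fun x hx => ?_
    rw [Fin.sum_univ_four] at hx
    change x 0 • (bf 0).1 + x 1 • (bf 1).1 + x 2 • w + x 3 • Y w = 0 at hx
    have h1 : x 0 • (bf 0).1 + x 1 • (bf 1).1 ∈ fix Y :=
      Submodule.add_mem _ (Submodule.smul_mem _ _ (bf 0).2) (Submodule.smul_mem _ _ (bf 1).2)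
    have h2 : x 2 • w + x 3 • Y w ∈ U := U.add_mem (U.smul_mem _ hw) (U.smul_mem _ (inv_apply hU hw))
    have h3 : x 2 • w + x 3 • Y w = 0 := by
      have : x 2 • w + x 3 • Y w ∈ fix Y ⊓ U := ⟨by
        rw [show x 2 • w + x 3 • Y w = -(x 0 • (bf 0).1 + x 1 • (bf 1).1) by linear_combination (norm := module) hx]
        exact Submodule.neg_mem _ h1, h2⟩
      rwa [hinf, Submodule.mem_bot] at this
    have h4 : x 0 • bf 0 + x 1 • bf 1 = 0 := Subtype.ext (by
      show x 0 • (bf 0).1 + x 1 • (bf 1).1 = 0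
      linear_combination (norm := module) hx - h3)
    have h5 := Fintype.linearIndependent_iff.mp bf.linearIndependent ![x 0, x 1] (by rw [Fin.sum_univ_two]; simpa using h4)
    have h30 : x 3 = 0 := by
      by_contra h
      set c := -(x 2) / x 3 with hc
      have hYw : Y w = c • w := by
        have := congrArg ((x 3)⁻¹ • ·) h3
        simp only [smul_add, smul_smul, inv_mul_cancel₀ h, one_smul, smul_zero] at this
        rw [eq_neg_of_add_eq_zero_right this, ← neg_smul, hc]
        congr 1
        ring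
      have hc3 : c ^ 3 = 1 := by
        have := LinearMap.congr_fun hY3 w
        rw [pow_succ, pow_two, one_smul] at this
        simp only [Module.End.mul_apply, Module.End.one_apply, hYw, map_smul, smul_smul] at this
        have := smul_left_injective F hw0 (this.trans (one_smul F w).symm)
        rw [pow_succ, pow_two, mul_assoc, this]
      exact hw0 (hnofix w hw (by rw [hYw, hω c hc3, one_smul]))
    rw [h30, zero_smul, add_zero] at h3
    intro i
    fin_cases i
    · exact h5 0
    · exact h5 1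
    · exact (smul_eq_zero.mp h3).resolve_right hw0
    · exact h30
  refine ⟨_, det_of_cols hind, model_of_cols y K3 col fun i => ?_⟩
  rw [← Matrix.toLin'_apply, ← hY, Fin.sum_univ_four]
  fin_cases i
  · simp [col, K3, mem_fix.mp (bf 0).2]
  · simp [col, K3, mem_fix.mp (bf 1).2]
  · simp [col, K3]
  · simp [col, K3]
    linear_combination (norm := module) hrel

theorem exists_cols_five {V : Type*} [AddCommGroup V] [Module F V] [FiniteDimensional F V]
    (h5 : ((5 : ℕ) : F) ≠ 0) (hord : orderOf (Fintype.card F : ZMod 5) = 4) (hV : finrank F V = 4)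
    {Y : Module.End F V} (hY : Y ^ 5 = 1) (hne : Y ≠ 1) :
    ∃ b : Basis (Fin 4) F V, ∀ i, Y (b i) = ∑ j, (K5 : Matrix (Fin 4) (Fin 4) F) j i • b j := by
  have : Fact (Nat.Prime 5) := ⟨by norm_num⟩
  obtain ⟨s, hs, -⟩ := exists_dims (r := 5) h5 hY (W := ⊤) le_top
  rw [finrank_top, top_inf_eq, hV, hord] at hs
  have hs1 : s ≠ 0 := by
    intro h0
    rw [h0, zero_mul, add_zero] at hs
    refine hne (LinearMap.ext fun v => ?_)
    have : v ∈ fix Y := by rw [Submodule.eq_top_of_finrank_eq (hs.symm.trans hV.symm)]; trivial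
    exact mem_fix.mp this
  have hfix : fix Y = ⊥ := Submodule.finrank_eq_zero.mp (by omega)
  have hrel : ∀ v : V, Y (Y (Y (Y v))) = -(Y (Y (Y v)) + Y (Y v) + Y v + v) := by
    intro v
    have h : Y (Y (Y (Y (Y v)))) = v := by
      have := LinearMap.congr_fun hY v
      simpa [pow_succ] using this
    have hm : Y (Y (Y (Y v))) + Y (Y (Y v)) + Y (Y v) + Y v + v ∈ fix Y := by
      rw [mem_fix]; simp only [map_add, h]; abel
    rw [hfix, Submodule.mem_bot] at hm
    linear_combination (norm := module) hm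
  have hnt : Nontrivial V := Module.finrank_pos_iff (R := F).mp (by rw [hV]; norm_num)
  obtain ⟨w, hw0⟩ := exists_ne (0 : V)
  let col : Fin 4 → V := ![w, Y w, Y (Y w), Y (Y (Y w))]
  set U := Submodule.span F (Set.range col) with hU
  have hcol : ∀ i, col i ∈ U := fun i => Submodule.subset_span ⟨i, rfl⟩
  have hUinv : Inv Y U := Submodule.map_le_iff_le_comap.mpr (Submodule.span_le.mpr (by
    rintro _ ⟨i, rfl⟩
    show Y (col i) ∈ U
    fin_cases i
    · exact hcol 1
    · exact hcol 2
    · exact hcol 3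
    · show Y (Y (Y (Y w))) ∈ U
      rw [hrel]
      exact U.neg_mem (U.add_mem (U.add_mem (U.add_mem (hcol 3) (hcol 2)) (hcol 1)) (hcol 0))))
  obtain ⟨t, ht, -⟩ := exists_dims (r := 5) h5 hY hUinv
  rw [hfix, inf_bot_eq, finrank_bot, hord, zero_add] at ht
  have hU0 : finrank F U ≠ 0 := fun h0 => hw0 (by
    have := hcol 0
    rwa [Submodule.finrank_eq_zero.mp h0, Submodule.mem_bot] at this)
  have hU4 : finrank F U = 4 := by
    have := Submodule.finrank_le U
    omega
  have hind : LinearIndependent F col :=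
    linearIndependent_iff_card_eq_finrank_span.mpr (by rw [Fintype.card_fin]; exact hU4.symm)
  refine ⟨basisOfLinearIndependentOfCardEqFinrank hind (by rw [Fintype.card_fin, hV]), fun i => ?_⟩
  simp only [coe_basisOfLinearIndependentOfCardEqFinrank, Fin.sum_univ_four]
  fin_cases i
  · simp [col, K5]
  · simp [col, K5]
  · simp [col, K5]
  · simp [col, K5]
    rw [hrel]
    abel

theorem commutant_det_five {p : ℕ} [Fact p.Prime] [CharP F p] (h5 : ((5 : ℕ) : F) ≠ 0)
    (hord : orderOf (Fintype.card F : ZMod 5) = 4) (d : F) :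
    ∃ Z : Matrix (Fin 4) (Fin 4) F, Z * K5 = K5 * Z ∧ Z.det = d := by
  classical
  have : Fact (Nat.Prime 5) := ⟨by norm_num⟩
  let K := FiniteField.Extension F p 4
  letI : Fintype K := Fintype.ofFinite K
  have hKcard : Fintype.card K = Fintype.card F ^ 4 := by
    rw [← Nat.card_eq_fintype_card, ← Nat.card_eq_fintype_card]; exact FiniteField.natCard_extension F p 4
  obtain ⟨u, hu⟩ := exists_prime_orderOf_dvd_card (G := Kˣ) 5
    (by rw [Fintype.card_units, hKcard]; exact (dvd_pow_sub_one_iff 4).mpr (by rw [hord]))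
  let L : K →ₐ[F] Module.End F K := Algebra.lmul F K
  have hu5 : L (u : K) ^ 5 = 1 := by
    rw [← map_pow, ← Units.val_pow_eq_pow_val, ← hu, pow_orderOf_eq_one, Units.val_one, map_one]
  have hu1 : L (u : K) ≠ 1 := fun h => by
    have h1 := LinearMap.congr_fun h 1
    have h2 : (u : K) = 1 := by simpa [L] using h1
    rw [Units.val_eq_one] at h2
    rw [h2, orderOf_one] at hu
    norm_num at hu
  obtain ⟨b, hb⟩ := exists_cols_five h5 hord (by exact FiniteField.finrank_extension F p 4) hu5 hu1
  have hK5 : LinearMap.toMatrix b b (L (u : K)) = K5 := by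
    ext j i
    rw [LinearMap.toMatrix_apply, hb, map_sum, Finsupp.finsetSum_apply]
    simp [map_smul, Finsupp.single_apply]
  obtain ⟨c, hc⟩ := FiniteField.norm_surjective F K d
  refine ⟨LinearMap.toMatrix b b (L c), ?_, ?_⟩
  · rw [← hK5, ← LinearMap.toMatrix_mul, ← LinearMap.toMatrix_mul, ← map_mul, ← map_mul, mul_comm]
  · rw [LinearMap.det_toMatrix, ← hc]
    rfl

theorem exists_model_five (h5 : ((5 : ℕ) : F) ≠ 0) (hord : orderOf (Fintype.card F : ZMod 5) = 4)
    {y : Matrix (Fin 4) (Fin 4) F} (hy : y ^ 5 = 1) (hne : y ≠ 1) :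
    ∃ Q : Matrix (Fin 4) (Fin 4) F, Q.det ≠ 0 ∧ y * Q = Q * K5 := by
  obtain ⟨b, hb⟩ := exists_cols_five h5 hord (Module.finrank_fin_fun F) (Y := Matrix.toLin' y)
    (by rw [← pow_toLin', hy, Matrix.toLin'_one]; rfl) (fun h => hne (Matrix.toLin'.injective (by
      rw [h, Matrix.toLin'_one]; rfl)))
  refine ⟨_, det_of_cols b.linearIndependent, model_of_cols y K5 _ fun i => ?_⟩
  rw [← Matrix.toLin'_apply]
  exact hb i

theorem singles_le (M : Matrix (Fin 4) (Fin 4) F) (S : Finset (Fin 4 × Fin 4))
    (h : ∀ s ∈ S, Matrix.single s.1 s.2 (1 : F) * M = M * Matrix.single s.1 s.2 (1 : F)) :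
    S.card ≤ finrank F (commutant M) := by
  have hli : LinearIndependent F (fun s : S => Matrix.single s.1.1 s.1.2 (1 : F)) := by
    have := (Matrix.stdBasis F (Fin 4) (Fin 4)).linearIndependent.comp (fun s : S => s.1) Subtype.val_injective
    convert this using 2 with s
    exact (Matrix.stdBasis_eq_single F s.1.1 s.1.2).symm
  have hli' : LinearIndependent F (fun s : S => (⟨_, h s.1 s.2⟩ : commutant M)) :=
    LinearIndependent.of_comp (commutant M).subtype hli
  simpa using hli'.fintype_card_le_finrank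

theorem commutant_of_fix_two {x : Matrix (Fin 4) (Fin 4) F} {r : ℕ} (hr : (r : F) ≠ 0)
    (hx : (Matrix.toLin' x : Module.End F (Fin 4 → F)) ^ r = 1)
    (hfix : finrank F ↥(fix (Matrix.toLin' x : Module.End F (Fin 4 → F))) = 2) :
    5 ≤ finrank F (commutant x) := by
  set X : Module.End F (Fin 4 → F) := Matrix.toLin' x with hX
  obtain ⟨U, hU, -, hinf, hsup⟩ := exists_invariant_complement (r := r) hr one_ne_zero
    (show X ^ r = (1 : F) • 1 by rw [hx, one_smul]) (W := ⊤) le_top (inv_fix X) le_top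
  have hUne : U ≠ ⊥ := fun h => by
    rw [h, sup_bot_eq] at hsup
    rw [hsup, finrank_top, Module.finrank_fin_fun] at hfix
    omega
  let e := (fix X).prodEquivOfIsCompl U ⟨disjoint_iff.mpr hinf, codisjoint_iff.mpr hsup⟩
  let G : (Module.End F (fix X) × F) →ₗ[F] Module.End F (Fin 4 → F) :=
    { toFun := fun t => e.conj (LinearMap.prodMap (t.1 + t.2 • 1) (t.2 • 1))
      map_add' := fun s t => by
        rw [← map_add, ← LinearMap.prodMap_add]
        congr 1
        refine LinearMap.ext fun v => Prod.ext ?_ ?_ <;>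
          simp [add_smul] <;> abel
      map_smul' := fun k t => by
        rw [RingHom.id_apply, ← map_smul, ← LinearMap.prodMap_smul]
        congr 1
        refine LinearMap.ext fun v => Prod.ext ?_ ?_ <;> simp [mul_smul] }
  have hG : ∀ t, G t * X = X * G t := by
    intro t
    refine LinearMap.ext fun v => ?_
    obtain ⟨⟨a, a'⟩, rfl⟩ := e.surjective v
    have hg : X (e (a, a')) = e (a, ⟨X a', inv_apply hU a'.2⟩) := by
      simp [e, mem_fix.mp a.2]
    rw [Module.End.mul_apply, Module.End.mul_apply, hg]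
    show e.conj _ _ = X (e.conj _ _)
    rw [LinearEquiv.conj_apply_apply, LinearEquiv.conj_apply_apply, LinearEquiv.symm_apply_apply,
      LinearEquiv.symm_apply_apply]
    simp [e, mem_fix.mp ((t.1 a) : fix X).2, mem_fix.mp a.2]
  let G' : (Module.End F (fix X) × F) →ₗ[F] commutant x :=
    LinearMap.codRestrict (commutant x) ((LinearMap.toMatrix' : Module.End F (Fin 4 → F) ≃ₗ[F] _).toLinearMap.comp G)
      (fun t => by
        have := congrArg LinearMap.toMatrix' (hG t)
        have hXm : LinearMap.toMatrix' X = x := LinearMap.toMatrix'_toLin' x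
        rw [LinearMap.toMatrix'_mul, LinearMap.toMatrix'_mul, hXm] at this
        exact this)
  have hinj : Function.Injective G' := by
    intro t₁ t₂ h
    have h0 : LinearMap.prodMap (t₁.1 + t₁.2 • 1) (t₁.2 • (1 : Module.End F U)) =
        LinearMap.prodMap (t₂.1 + t₂.2 • 1) (t₂.2 • (1 : Module.End F U)) :=
      e.conj.injective (LinearMap.toMatrix'.injective (congrArg Subtype.val h))
    obtain ⟨u, hu, hu0⟩ := Submodule.exists_mem_ne_zero_of_ne_bot hUne
    have hc : t₁.2 = t₂.2 := by
      have h2 := congrArg Prod.snd (LinearMap.congr_fun h0 (0, ⟨u, hu⟩))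
      have h3 := congrArg Subtype.val h2
      exact smul_left_injective F hu0 (by simpa using h3)
    refine Prod.ext (LinearMap.ext fun a => ?_) hc
    have h2 := congrArg Prod.fst (LinearMap.congr_fun h0 (a, 0))
    simpa [hc] using h2
  have h := LinearMap.finrank_le_finrank_of_injective hinj
  rw [Module.finrank_prod, Module.finrank_linearMap, hfix, Module.finrank_self] at h
  omega

set_option maxHeartbeats 6000000 in
/-- Elements of prime order of PSL_4(p), p ≡ 1 (mod 4), and the normalizer of a 2-group of symplectic type of order 2⁶. Here `T = PSL_4(F)` for the field `F` with `p` elements, `p` a prime with `p ≡ 1 (mod 4)`; `R` is an absolutely irreducible subgroup of GL_4(F) of order 2⁶ that is a 2-group of symplectic type of exponent 4 with centre of order 4 (the central product of the scalars of order 4 with an extraspecial group 2^{1+4}), and `H` is the subgroup of matrices of determinant 1 normalizing `R` — a subgroup of type 2⁴.Sp₄(2) (maximality is not assumed). Ω is the set of cosets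 of `H` in `T`, so an element of `T` of prime order `r` (a matrix `x` of determinant 1 with `x^r` scalar, `x` not scalar) fixes a point of Ω exactly when some conjugate of `x` by a matrix of determinant 1 normalizes `R`. Let `r` be a prime dividing the index of `H`. Then every element of `T` of order `r` fixes a point of Ω if and only if `r = 2`, or `r = 3` and `p ≡ 2 (mod 3)`, or `r = 5` and `p ≡ ±2 (mod 5)` (`p` has multiplicative order 4 modulo 5). -/
theorem result {F : Type*} [Field F] [Fintype F] {p : ℕ} [Fact p.Prime] [CharP F p] (hF : Fintype.card F = p) (hp4 : p % 4 = 1)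
    (R : Subgroup (GL (Fin 4) F)) (hR : Cfsg.Geo.IsLinearSymplecticTypeData 2 R) (hR6 : Nat.card R = 2 ^ 6)
    (r : ℕ) [Fact r.Prime]
    (hΩ : r ∣ (Cfsg.Geo.subgroupNormalizer R).relIndex (Cfsg.Geo.specialLinear (Fin 4) F)) :
    (∀ x ∈ Cfsg.Geo.specialLinear (Fin 4) F, (∃ z : F, ((x ^ r : GL (Fin 4) F) : Matrix (Fin 4) (Fin 4) F) = z • (1 : Matrix (Fin 4) (Fin 4) F)) →
      (∀ z : F, (x : Matrix (Fin 4) (Fin 4) F) ≠ z • (1 : Matrix (Fin 4) (Fin 4) F)) →
      ∃ g ∈ Cfsg.Geo.specialLinear (Fin 4) F, g⁻¹ * x * g ∈ Cfsg.Geo.subgroupNormalizer R) ↔ (r = 2 ∨ (r = 3 ∧ p % 3 = 2) ∨ (r = 5 ∧ orderOf (p : ZMod 5) = 4)) := by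
  classical
  have hp := (Fact.out : p.Prime).two_le
  have hpodd : Odd p := Nat.odd_iff.mpr (by omega)
  have hq2 : Fintype.card F % 2 = 1 := by rw [hF]; omega
  have hP := pauli_of_data hpodd hR hR6
  have h2 := hP.two_ne
  obtain ⟨a, b, c, d, C, hf⟩ := hP.exists_frame
  obtain ⟨ι, hι⟩ := hP.sqrt_neg_one
  set S := Cfsg.Geo.specialLinear (Fin 4) F with hSdef
  set N := Cfsg.Geo.subgroupNormalizer R with hNdef
  have hmemS : ∀ g : GL (Fin 4) F, g ∈ S ↔ (g : Matrix (Fin 4) (Fin 4) F).det = 1 := fun g => by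
    rw [hSdef, Cfsg.Geo.specialLinear, MonoidHom.mem_ker, Units.ext_iff]
    rfl
  have hscalN : ∀ u : Fˣ, scalarUnit u ∈ N := fun u => mem_normalizer_of_conj fun x hx => by
    rw [← scalar_central, mul_inv_cancel_right]; exact hx
  -- elements of the normaliser read in the frame
  have mkN : ∀ (W : Matrix (Fin 4) (Fin 4) F) (hW : W.det ≠ 0) (PA PB PC PD : Matrix (Fin 4) (Fin 4) F),
      InFrame R C PA → W * pA = PA * W → InFrame R C PB → W * pB = PB * W →
      InFrame R C PC → W * pC = PC * W → InFrame R C PD → W * pD = PD * W →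
      ∃ g : GL (Fin 4) F, g ∈ N ∧ (g : Matrix (Fin 4) (Fin 4) F) * (C : Matrix (Fin 4) (Fin 4) F) =
        (C : Matrix (Fin 4) (Fin 4) F) * W := by
    intro W hW PA PB PC PD h1 h2 h3 h4 h5 h6 h7 h8
    have e : ((C * Matrix.GeneralLinearGroup.mkOfDetNeZero W hW * C⁻¹ : GL (Fin 4) F) : Matrix (Fin 4) (Fin 4) F) *
        (C : Matrix (Fin 4) (Fin 4) F) = (C : Matrix (Fin 4) (Fin 4) F) * W := by
      rw [← Units.val_mul, inv_mul_cancel_right]
      exact Units.val_mul C _
    exact ⟨_, mem_normalizer_frame hf e h1 h2 h3 h4 h5 h6 h7 h8, e⟩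
  have iA : InFrame R C pA := ⟨a, hf.ha, hf.haC⟩
  have iB : InFrame R C pB := ⟨b, hf.hb, hf.hbC⟩
  have iC : InFrame R C pC := ⟨c, hf.hc, hf.hcC⟩
  have iD : InFrame R C pD := ⟨d, hf.hd, hf.hdC⟩
  have hι4 : ι ^ 4 = 1 := by rw [show (4 : ℕ) = 2 * 2 from rfl, pow_mul, hι, neg_one_sq]
  have hm14 : (-1 : F) ^ 4 = 1 := by norm_num
  have hii : ι * ι = -1 := by rw [← pow_two, hι]
  have good_of : ∀ (x y : GL (Fin 4) F) (g : GL (Fin 4) F), (g : Matrix (Fin 4) (Fin 4) F).det = 1 → y ∈ N →
      (x : Matrix (Fin 4) (Fin 4) F) * (g : Matrix (Fin 4) (Fin 4) F) = (g : Matrix (Fin 4) (Fin 4) F) * (y : Matrix (Fin 4) (Fin 4) F) →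
      ∃ g ∈ S, g⁻¹ * x * g ∈ N := by
    intro x y g hg hy e
    refine ⟨g, (hmemS g).mpr hg, ?_⟩
    have e' : x * g = g * y := Units.ext (by rw [Units.val_mul, Units.val_mul]; exact e)
    rw [mul_assoc, e', inv_mul_cancel_left]
    exact hy
  have hdetC : (C : Matrix (Fin 4) (Fin 4) F).det ≠ 0 := ((Matrix.isUnit_iff_isUnit_det _).mp C.isUnit).ne_zero
  have hdet_of_pow : ∀ (W : Matrix (Fin 4) (Fin 4) F) (k : ℕ) (e : F), k ≠ 0 → e ≠ 0 → W ^ k = e • 1 → W.det ≠ 0 := by
    intro W k e hk he h h0
    have := congrArg Matrix.det h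
    rw [Matrix.det_pow, h0, zero_pow hk, Matrix.det_smul, Matrix.det_one, mul_one] at this
    exact pow_ne_zero _ he this.symm
  -- the swap of the two factors
  let W2 : Matrix (Fin 4) (Fin 4) F := !![1, 0, 0, 0; 0, 0, 1, 0; 0, 1, 0, 0; 0, 0, 0, 1]
  have hW2sq : W2 * W2 = 1 := by
    ext i j; fin_cases i <;> fin_cases j <;> simp [W2, Matrix.mul_apply, Fin.sum_univ_four]
  obtain ⟨sw, hswN, hswC⟩ := mkN W2 (hdet_of_pow W2 2 1 two_ne_zero one_ne_zero (by rw [pow_two, hW2sq, one_smul]))
    pC pD pA pB iC (by ext i j; fin_cases i <;> fin_cases j <;> simp [W2, Matrix.mul_apply, Fin.sum_univ_four, Matrix.vecMul, dotProduct, Matrix.diagonal])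
    iD (by ext i j; fin_cases i <;> fin_cases j <;> simp [W2, Matrix.mul_apply, Fin.sum_univ_four])
    iA (by ext i j; fin_cases i <;> fin_cases j <;> simp [W2, Matrix.mul_apply, Fin.sum_univ_four, Matrix.vecMul, dotProduct, Matrix.diagonal])
    iB (by ext i j; fin_cases i <;> fin_cases j <;> simp [W2, Matrix.mul_apply, Fin.sum_univ_four])
  constructor
  · intro h
    have key : ∀ x : GL (Fin 4) F, (x : Matrix (Fin 4) (Fin 4) F).det = 1 →
        (∃ z : F, ((x ^ r : GL (Fin 4) F) : Matrix (Fin 4) (Fin 4) F) = z • 1) →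
        (∀ z : F, (x : Matrix (Fin 4) (Fin 4) F) ≠ z • 1) → r ≠ 2 →
        ∃ f : ℕ, f ∣ 16 ∧ f < 16 ∧ f ≡ 16 [MOD r] ∧ (r = 7 → f ≠ 2) ∧
          r * finrank F (commutant (x : Matrix (Fin 4) (Fin 4) F)) ≤ 16 + (r - 1) * f := by
      intro x hxd hxz hns hr2
      obtain ⟨z, hz⟩ := hxz
      obtain ⟨g, -, hgx⟩ := h x ((hmemS x).mpr hxd) ⟨z, hz⟩ hns
      rw [← commutant_conj_finrank x g]
      refine orbit_bound hP hr2 hgx ⟨z, ?_⟩ fun e he => hns e ?_
      · rw [show (g⁻¹ * x * g) ^ r = g⁻¹ * x ^ r * g by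
            rw [show g⁻¹ * x * g = g⁻¹ * x * (g⁻¹)⁻¹ by rw [inv_inv], conj_pow, inv_inv],
          Units.val_mul, Units.val_mul, hz, Matrix.mul_smul, Matrix.smul_mul, mul_one, ← Units.val_mul,
          inv_mul_cancel, Units.val_one]
      · rw [show x = g * (g⁻¹ * x * g) * g⁻¹ by group, Units.val_mul, Units.val_mul, he, Matrix.mul_smul, mul_one,
          Matrix.smul_mul, ← Units.val_mul, mul_inv_cancel, Units.val_one]
    have fdiv : ∀ f : ℕ, f ∣ 16 → f < 16 → f = 1 ∨ f = 2 ∨ f = 4 ∨ f = 8 := fun f h1 h2 => by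
      obtain ⟨k, hk, rfl⟩ := (Nat.dvd_prime_pow Nat.prime_two).mp (show f ∣ 2 ^ 4 from h1)
      interval_cases k <;> simp_all
    have kdiag : ∀ e : Fin 4 → F, r ≠ 2 → ∏ i, e i = 1 → (∀ i, e i ^ r = 1) → e 0 ≠ e 3 → e 0 = e 1 → e 1 = e 2 →
        ∃ f : ℕ, f ∣ 16 ∧ f < 16 ∧ f ≡ 16 [MOD r] ∧ r * 10 ≤ 16 + (r - 1) * f := by
      intro e hr2 hpr hpow hne h01 h12
      have hd : (Matrix.diagonal e).det = 1 := by rw [Matrix.det_diagonal, hpr]
      let x : GL (Fin 4) F := Matrix.GeneralLinearGroup.mkOfDetNeZero (Matrix.diagonal e) (by rw [hd]; exact one_ne_zero)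
      obtain ⟨f, f1, f2, f3, -, f5⟩ := key x hd ⟨1, by
        rw [Units.val_pow_eq_pow_val, show ((x : GL (Fin 4) F) : Matrix (Fin 4) (Fin 4) F) = Matrix.diagonal e from rfl,
          Matrix.diagonal_pow, one_smul, show e ^ r = 1 from funext hpow, Matrix.diagonal_one']⟩ (fun z hz => hne (by
        have e0 := congr_fun (congr_fun hz 0) 0
        have e3 := congr_fun (congr_fun hz 3) 3
        simp [x] at e0 e3
        rw [e0, e3])) hr2
      refine ⟨f, f1, f2, f3, le_trans (Nat.mul_le_mul_left r ?_) f5⟩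
      refine le_trans (b := ({(0, 0), (0, 1), (0, 2), (1, 0), (1, 1), (1, 2), (2, 0), (2, 1), (2, 2), (3, 3)} :
        Finset (Fin 4 × Fin 4)).card) (by decide) (singles_le _ _ fun s hs => ?_)
      show Matrix.single s.1 s.2 (1 : F) * Matrix.diagonal e = Matrix.diagonal e * Matrix.single s.1 s.2 (1 : F)
      have he : e s.1 = e s.2 := by
        simp only [Finset.mem_insert, Finset.mem_singleton] at hs
        rcases hs with h | h | h | h | h | h | h | h | h | h <;> subst h <;> simp [h01, h12]
      ext i j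
      rw [Matrix.mul_diagonal, Matrix.diagonal_mul, Matrix.single_apply]
      split_ifs with hij
      · rw [← hij.1, ← hij.2, he, one_mul, mul_one]
      · rw [zero_mul, mul_zero]
    have hroot1 : r ∣ Fintype.card F - 1 → ∃ ν : F, ν ^ r = 1 ∧ ν ≠ 1 := fun hd => by
      obtain ⟨u, hu⟩ := exists_prime_orderOf_dvd_card (G := Fˣ) r (by rw [Fintype.card_units]; exact hd)
      refine ⟨u, by rw [← Units.val_pow_eq_pow_val, ← hu, pow_orderOf_eq_one, Units.val_one], fun h1 => ?_⟩
      rw [Units.val_eq_one] at h1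
      rw [h1, orderOf_one] at hu
      exact (Fact.out : r.Prime).ne_one hu.symm
    rcases eq_or_ne r 2 with r2 | r2
    · exact Or.inl r2
    refine Or.inr ?_
    rcases eq_or_ne r 3 with r3 | r3
    · refine Or.inl ⟨r3, ?_⟩
      subst r3
      by_contra h3
      have hp3 : p % 3 = 1 := by
        rcases (show p % 3 = 0 ∨ p % 3 = 1 by omega) with h0 | h0
        · have := (Nat.prime_dvd_prime_iff_eq Nat.prime_three (Fact.out : p.Prime)).mp (Nat.dvd_of_mod_eq_zero h0)
          omega
        · exact h0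
      obtain ⟨ν, hν, hν1⟩ := hroot1 (by rw [hF]; omega)
      obtain ⟨f, f1, f2, f3, f5⟩ := kdiag ![ν, ν, ν, 1] r2
        (by rw [Fin.prod_univ_four]; simp; rw [← hν]; ring)
        (fun i => by fin_cases i <;> simp [hν]) (by simpa using hν1) (by simp) (by simp)
      rcases fdiv f f1 f2 with rfl | rfl | rfl | rfl
      all_goals first | omega | exact absurd f3 (by decide)
    rcases eq_or_ne r 5 with r5 | r5
    · refine Or.inr ⟨r5, ?_⟩
      subst r5
      by_contra ho
      have : Fact (Nat.Prime 5) := ⟨by norm_num⟩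
      have hfin : ∀ x : GL (Fin 4) F, (x : Matrix (Fin 4) (Fin 4) F).det = 1 →
          (∃ z : F, ((x ^ 5 : GL (Fin 4) F) : Matrix (Fin 4) (Fin 4) F) = z • 1) →
          (∀ z : F, (x : Matrix (Fin 4) (Fin 4) F) ≠ z • 1) →
          5 ≤ finrank F (commutant (x : Matrix (Fin 4) (Fin 4) F)) → False := by
        intro x h1 h2 h3 h4
        obtain ⟨f, f1, f2, f3, -, f5⟩ := key x h1 h2 h3 r2
        rcases fdiv f f1 f2 with rfl | rfl | rfl | rfl
        all_goals first | omega | exact absurd f3 (by decide)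
      rcases eq_or_ne p 5 with p5 | p5
      · subst p5
        have h5F : ((5 : ℕ) : F) = 0 := CharP.cast_eq_zero F 5
        let E : Matrix (Fin 4) (Fin 4) F := Matrix.single 0 1 1
        have hE2 : E * E = 0 := Matrix.single_mul_single_of_ne _ _ _ _ (by decide) _
        have hpow : ∀ k : ℕ, (1 + E) ^ k = 1 + (k : F) • E := by
          intro k
          induction k with
          | zero => simp
          | succ k ih =>
            rw [pow_succ, ih, Matrix.add_mul, Matrix.one_mul, Matrix.smul_mul, Matrix.mul_add, Matrix.mul_one, hE2,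
              add_zero, Nat.cast_succ, add_smul, one_smul]
            abel
        have hd : (1 + E).det = 1 := Matrix.det_transvection_of_ne 0 1 (by decide) 1
        refine hfin (Matrix.GeneralLinearGroup.mkOfDetNeZero (1 + E) (by rw [hd]; exact one_ne_zero)) hd ⟨1, ?_⟩ ?_ ?_
        · rw [Units.val_pow_eq_pow_val]
          show (1 + E) ^ 5 = _
          rw [hpow, h5F, zero_smul, add_zero, one_smul]
        · intro z hz
          have := congr_fun (congr_fun hz 0) 1
          simp [E] at this
        · refine le_trans (b := ({(0, 1), (2, 2), (2, 3), (3, 2), (3, 3)} : Finset (Fin 4 × Fin 4)).card) (by decide)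
            (singles_le _ _ fun s hs => ?_)
          show Matrix.single s.1 s.2 (1 : F) * (1 + E) = (1 + E) * Matrix.single s.1 s.2 (1 : F)
          simp only [Finset.mem_insert, Finset.mem_singleton] at hs
          rw [Matrix.mul_add, Matrix.add_mul, Matrix.mul_one, Matrix.one_mul]
          congr 1
          rcases hs with h | h | h | h | h <;> subst h <;> simp [E]
      · have hp50 : (p : ZMod 5) ≠ 0 := fun h0 => p5
          ((Nat.prime_dvd_prime_iff_eq (by norm_num) (Fact.out : p.Prime)).mp ((ZMod.natCast_eq_zero_iff _ _).mp h0)).symm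
        have ho4 : orderOf (p : ZMod 5) ∣ 4 := orderOf_dvd_of_pow_eq_one (ZMod.pow_card_sub_one_eq_one hp50)
        obtain ⟨k, hk, hk'⟩ := (Nat.dvd_prime_pow Nat.prime_two).mp (show orderOf (p : ZMod 5) ∣ 2 ^ 2 from ho4)
        interval_cases k
        · obtain ⟨ν, hν, hν1⟩ := hroot1 (orderOf_card_eq_one_iff.mp (by rw [hF]; simpa using hk'))
          have hν0 : ν ≠ 0 := fun h0 => by rw [h0, zero_pow (by norm_num)] at hν; exact zero_ne_one hν
          obtain ⟨f, f1, f2, f3, f5⟩ := kdiag ![ν, ν, ν, ν ^ 2] r2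
            (by rw [Fin.prod_univ_four]; simp; rw [← hν]; ring)
            (fun i => by
              have h25 : (ν ^ 2) ^ 5 = 1 := by rw [← pow_mul, mul_comm, pow_mul, hν, one_pow]
              fin_cases i <;> simp [hν, h25])
            (by
              intro h0
              simp at h0
              exact hν1 (mul_left_cancel₀ hν0 (by rw [mul_one, ← pow_two]; exact h0.symm)))
            (by simp) (by simp)
          rcases fdiv f f1 f2 with rfl | rfl | rfl | rfl
          all_goals first | omega | exact absurd f3 (by decide)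
        · have ho2 : orderOf (Fintype.card F : ZMod 5) = 2 := by rw [hF, hk']; norm_num
          obtain ⟨x, hxr, hxf, hns⟩ := exists_type (F := F) (r := 5) (p := p) (n := 4) 1 Nat.one_pos (by omega) (by omega)
          rw [ho2] at hxf
          refine hfin (Matrix.SpecialLinearGroup.toGL x) x.2 ⟨1, ?_⟩ hns
            (commutant_of_fix_two (r := 5) (natCast_ne_zero_of_ne (p := p) p5.symm) hxr hxf)
          rw [Units.val_pow_eq_pow_val, one_smul]
          refine Matrix.toLin'.injective ?_
          rw [show Matrix.toLin' ((Matrix.SpecialLinearGroup.toGL x : GL (Fin 4) F).val ^ 5) = _ from pow_toLin' _ 5,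
            Matrix.toLin'_one]
          exact hxr
        · exact ho (by rw [hk']; norm_num)
    exfalso
    have hr7 : 7 ≤ r := by
      have := (Fact.out : r.Prime).two_le
      have h4 : r ≠ 4 := fun h => by have := (Fact.out : r.Prime); subst h; norm_num at this
      have h6 : r ≠ 6 := fun h => by have := (Fact.out : r.Prime); subst h; norm_num at this
      omega
    have hrS : r ∣ Nat.card S := hΩ.trans (by
      rw [← (N.subgroupOf S).card_mul_index]; exact dvd_mul_left _ _)
    obtain ⟨x, hx⟩ := exists_prime_orderOf_dvd_card' r hrS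
    have hxr : (((x : GL (Fin 4) F) ^ r : GL (Fin 4) F) : Matrix (Fin 4) (Fin 4) F) = (1 : F) • 1 := by
      rw [show (x : GL (Fin 4) F) ^ r = ((x ^ r : S) : GL (Fin 4) F) from rfl, ← hx, pow_orderOf_eq_one, one_smul]
      rfl
    have hns : ∀ e : F, ((x : GL (Fin 4) F) : Matrix (Fin 4) (Fin 4) F) ≠ e • 1 := by
      intro e he
      have hd := (hmemS _).mp x.2
      rw [he, Matrix.det_smul, Matrix.det_one, mul_one, Fintype.card_fin] at hd
      have h1 := hxr
      rw [Units.val_pow_eq_pow_val, he, smul_pow, one_pow] at h1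
      have : orderOf e ∣ Nat.gcd 4 r :=
        Nat.dvd_gcd (orderOf_dvd_of_pow_eq_one hd) (orderOf_dvd_of_pow_eq_one (smul_one_inj_four h1))
      rw [show Nat.gcd 4 r = 1 from Nat.Coprime.pow_left 2 ((Nat.coprime_primes Nat.prime_two Fact.out).mpr r2.symm),
        Nat.dvd_one, _root_.orderOf_eq_one_iff] at this
      subst this
      have : x = 1 := Subtype.ext (Units.ext (by rw [he, one_smul]; rfl))
      rw [this, orderOf_one] at hx
      omega
    obtain ⟨f, f1, f2, f3, f4, -⟩ := key x ((hmemS _).mp x.2) ⟨1, hxr⟩ hns r2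
    have hd : r ∣ 16 - f := (Nat.modEq_iff_dvd' f2.le).mp f3
    have hmem : r ∈ Nat.divisors (16 - f) := Nat.mem_divisors.mpr ⟨hd, by omega⟩
    have hrp := (Fact.out : r.Prime)
    rcases fdiv f f1 f2 with rfl | rfl | rfl | rfl
    · rw [show Nat.divisors (16 - 1) = {1, 3, 5, 15} by decide] at hmem
      simp only [Finset.mem_insert, Finset.mem_singleton] at hmem
      rcases hmem with h | h | h | h <;> subst h <;> norm_num at *
    · rw [show Nat.divisors (16 - 2) = {1, 2, 7, 14} by decide] at hmem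
      simp only [Finset.mem_insert, Finset.mem_singleton] at hmem
      rcases hmem with h | h | h | h <;> subst h <;> norm_num at *
    · rw [show Nat.divisors (16 - 4) = {1, 2, 3, 4, 6, 12} by decide] at hmem
      simp only [Finset.mem_insert, Finset.mem_singleton] at hmem
      rcases hmem with h | h | h | h | h | h <;> subst h <;> norm_num at *
    · rw [show Nat.divisors (16 - 8) = {1, 2, 4, 8} by decide] at hmem
      simp only [Finset.mem_insert, Finset.mem_singleton] at hmem
      rcases hmem with h | h | h | h <;> subst h <;> norm_num at *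
  · intro hr x hx ⟨z, hz⟩ hns
    have hxd : (x : Matrix (Fin 4) (Fin 4) F).det = 1 := (hmemS x).mp hx
    have hz4 : z ^ 4 = 1 := by
      have h := congrArg Matrix.det hz
      rw [Units.val_pow_eq_pow_val, Matrix.det_pow, hxd, one_pow, Matrix.det_smul, Matrix.det_one, mul_one,
        Fintype.card_fin] at h
      exact h.symm
    have hz0 : z ≠ 0 := fun h0 => by rw [h0, zero_pow (by norm_num)] at hz4; exact zero_ne_one hz4
    rw [Units.val_pow_eq_pow_val] at hz
    -- division by a root
    have divide : ∀ ζ : F, ζ ^ r = z → ∃ (u : Fˣ) (y : Matrix (Fin 4) (Fin 4) F), y ^ r = 1 ∧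
        (∀ e : F, y ≠ e • 1) ∧ (x : Matrix (Fin 4) (Fin 4) F) = (u : F) • y := by
      intro ζ hζ
      have hζ0 : ζ ≠ 0 := fun h0 => hz0 (by rw [← hζ, h0, zero_pow (Fact.out : r.Prime).ne_zero])
      refine ⟨Units.mk0 ζ hζ0, ζ⁻¹ • (x : Matrix (Fin 4) (Fin 4) F), ?_, fun e he => hns (ζ * e) ?_, ?_⟩
      · rw [_root_.smul_pow, hz, smul_smul, ← hζ, ← mul_pow, inv_mul_cancel₀ hζ0, one_pow, one_smul]
      · rw [mul_smul, ← he, smul_smul, mul_inv_cancel₀ hζ0, one_smul]
      · rw [Units.val_mk0, smul_smul, mul_inv_cancel₀ hζ0, one_smul]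
    -- conjugating into C W C⁻¹
    have finish' : ∀ (u : Fˣ) (y W : Matrix (Fin 4) (Fin 4) F) (g w : GL (Fin 4) F),
        (g : Matrix (Fin 4) (Fin 4) F).det = 1 → (x : Matrix (Fin 4) (Fin 4) F) = (u : F) • y → w ∈ N →
        (w : Matrix (Fin 4) (Fin 4) F) = W →
        y * (g : Matrix (Fin 4) (Fin 4) F) = (g : Matrix (Fin 4) (Fin 4) F) * W → ∃ g ∈ S, g⁻¹ * x * g ∈ N := by
      intro u y W g w hg hx hw hwW e
      refine good_of x (scalarUnit u * w) g hg (N.mul_mem (hscalN u) hw) ?_
      rw [hx, Units.val_mul, scalarUnit_val, hwW, Matrix.smul_mul, Matrix.smul_mul, Matrix.one_mul, Matrix.mul_smul, e]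
    have model_tr : ∀ (w : GL (Fin 4) F) (W Q K : Matrix (Fin 4) (Fin 4) F), Q.det ≠ 0 →
        (w : Matrix (Fin 4) (Fin 4) F) * (C : Matrix (Fin 4) (Fin 4) F) = (C : Matrix (Fin 4) (Fin 4) F) * W → W * Q = Q * K →
        ((C : Matrix (Fin 4) (Fin 4) F) * Q).det ≠ 0 ∧
          (w : Matrix (Fin 4) (Fin 4) F) * ((C : Matrix (Fin 4) (Fin 4) F) * Q) = ((C : Matrix (Fin 4) (Fin 4) F) * Q) * K := by
      intro w W Q K hQ hw hWQ
      refine ⟨by rw [Matrix.det_mul]; exact mul_ne_zero hdetC hQ, ?_⟩
      rw [← Matrix.mul_assoc, hw, Matrix.mul_assoc, hWQ, ← Matrix.mul_assoc]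
    rcases hr with hr | ⟨hr, hp3⟩ | ⟨hr, ho⟩
    · subst hr
      by_cases hsq : ∃ ζ : F, ζ ^ 2 = z
      · obtain ⟨ζ, hζ⟩ := hsq
        obtain ⟨u, y, hy, hyns, hxy⟩ := divide ζ hζ
        have hr1 : 2 ∣ Fintype.card F - 1 := by rw [hF]; omega
        obtain ⟨B, e, hB, he, hyB⟩ := exists_diag (r := 2) hr1 (by exact_mod_cast h2) y (by
          rw [← pow_toLin', hy, Matrix.toLin'_one]; rfl)
        have hdetW : (pA : Matrix (Fin 4) (Fin 4) F).det ≠ 0 := by simp [Matrix.det_diagonal, Fin.prod_univ_four]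
        let Qs : Matrix (Fin 4) (Fin 4) F := !![1, 0, 0, 0; 0, 1, 1, 0; 0, 1, -1, 0; 0, 0, 0, 1]
        have hQs : W2 * Qs = Qs * Matrix.diagonal ![1, 1, -1, 1] := by
          ext i j; fin_cases i <;> fin_cases j <;> simp [W2, Qs, Matrix.mul_apply, Fin.sum_univ_four, Matrix.vecMul, dotProduct]
        have hQsd : Qs.det ≠ 0 := by
          intro h0
          have h := congrArg Matrix.det (show Qs * Qs = Matrix.diagonal ![1, 2, 2, 1] by
            ext i j; fin_cases i <;> fin_cases j <;> simp [Qs, Matrix.mul_apply, Fin.sum_univ_four] <;> ring)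
          rw [Matrix.det_mul, h0, mul_zero, Matrix.det_diagonal, Fin.prod_univ_four] at h
          simp at h
          exact h2 h
        have he' : ∀ i, e i = 1 ∨ e i = -1 := fun i => sq_eq_one_iff.mp (he i)
        have hne : ∃ i j, e i ≠ e j := by
          by_contra hall
          push Not at hall
          refine hyns (e 0) ?_
          have h1 : Matrix.diagonal e = e 0 • (1 : Matrix (Fin 4) (Fin 4) F) := by
            rw [show e = fun _ => e 0 from funext fun i => hall i 0, Matrix.smul_one_eq_diagonal]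
          rw [h1, Matrix.mul_smul, mul_one] at hyB
          have hu : IsUnit B := (Matrix.isUnit_iff_isUnit_det B).mpr (isUnit_iff_ne_zero.mpr hB)
          exact hu.mul_right_cancel (hyB.trans (by rw [Matrix.smul_mul, one_mul]))
        obtain ⟨σ, t, ht, hσ⟩ : ∃ (σ : Equiv.Perm (Fin 4)) (t : F), t ≠ 0 ∧
            ((∀ i, e (σ i) = t * ![1, 1, -1, -1] i) ∨ (∀ i, e (σ i) = t * ![1, 1, -1, 1] i)) := by
          have hkey : ∀ f : Fin 4 → Bool, (∃ i j, f i ≠ f j) → ∃ (σ : Equiv.Perm (Fin 4)) (t : Bool),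
              (∀ i, f (σ i) = xor t (![true, true, false, false] i)) ∨ (∀ i, f (σ i) = xor t (![true, true, false, true] i)) := by
            decide +kernel
          let ev : Bool → F := fun b => bif b then 1 else -1
          let f : Fin 4 → Bool := fun i => decide (e i = 1)
          have hne1 : (-1 : F) ≠ 1 := fun h => h2 (by linear_combination -h)
          have hev : ∀ i, e i = ev (f i) := fun i => by
            rcases he' i with h | h <;> simp [f, ev, h, hne1]
          have hxor : ∀ s b : Bool, ev (xor s b) = (bif s then -1 else 1) * ev b := fun s b => by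
            cases s <;> cases b <;> simp [ev]
          obtain ⟨σ, t, h⟩ := hkey f (by
            obtain ⟨i, j, hij⟩ := hne
            exact ⟨i, j, fun h => hij (by rw [hev, hev, h])⟩)
          refine ⟨σ, bif t then -1 else 1, by cases t <;> simp, h.imp (fun h i => ?_) (fun h i => ?_)⟩
          all_goals
            rw [hev, h i, hxor]
            fin_cases i <;> simp [ev]
        have hBσ : ∀ pat : Fin 4 → F, (∀ i, e (σ i) = t * pat i) →
            (B.submatrix id σ).det ≠ 0 ∧ y * B.submatrix id σ = B.submatrix id σ * (t • Matrix.diagonal pat) := by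
          intro pat hpat
          refine ⟨?_, ?_⟩
          · rw [Matrix.det_permute']
            exact mul_ne_zero (by rcases Int.units_eq_one_or (Equiv.Perm.sign σ) with e | e <;> simp [e]) hB
          · rw [← Matrix.diagonal_smul]
            ext i j
            have := congr_fun (congr_fun hyB i) (σ j)
            rw [Matrix.mul_diagonal] at this ⊢
            rw [Matrix.mul_apply] at this ⊢
            simp only [Matrix.submatrix_apply, id]
            rw [this, hpat]
            rfl
        have hZd : ∀ (pat : Fin 4 → F) (d : F), d ≠ 0 → ∃ Z : Matrix (Fin 4) (Fin 4) F,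
            Z * (t • Matrix.diagonal pat) = (t • Matrix.diagonal pat) * Z ∧ Z.det = d := fun pat d _ => by
          refine ⟨Matrix.diagonal ![d, 1, 1, 1], ?_, by simp [Matrix.det_diagonal, Fin.prod_univ_four]⟩
          rw [Matrix.mul_smul, Matrix.smul_mul, Matrix.diagonal_mul_diagonal, Matrix.diagonal_mul_diagonal]
          congr 2
          funext i
          ring
        have hst : scalarUnit (Units.mk0 t ht) ∈ N := hscalN _
        rcases hσ with h | h
        · obtain ⟨hd1, he1⟩ := hBσ _ h
          obtain ⟨hd2, he2⟩ := model_tr a pA 1 pA (by rw [Matrix.det_one]; exact one_ne_zero) hf.haC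
            (by rw [Matrix.mul_one, Matrix.one_mul])
          obtain ⟨g, hg, hgy⟩ := sl_conj_model (Y := t • (a : Matrix (Fin 4) (Fin 4) F)) hd1 hd2 he1
            (by rw [Matrix.smul_mul, he2, Matrix.mul_smul]) (hZd _)
          exact finish' u y _ g (scalarUnit (Units.mk0 t ht) * a) hg hxy
            (N.mul_mem hst (Subgroup.le_normalizer hf.ha))
            (by rw [Units.val_mul, scalarUnit_val, Units.val_mk0, Matrix.smul_mul, Matrix.one_mul]) hgy
        · obtain ⟨hd1, he1⟩ := hBσ _ h
          obtain ⟨hd2, he2⟩ := model_tr sw W2 Qs _ hQsd hswC hQs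
          obtain ⟨g, hg, hgy⟩ := sl_conj_model (Y := t • (sw : Matrix (Fin 4) (Fin 4) F)) hd1 hd2 he1
            (by rw [Matrix.smul_mul, he2, Matrix.mul_smul]) (hZd _)
          exact finish' u y _ g (scalarUnit (Units.mk0 t ht) * sw) hg hxy (N.mul_mem hst hswN)
            (by rw [Units.val_mul, scalarUnit_val, Units.val_mk0, Matrix.smul_mul, Matrix.one_mul]) hgy
      · push Not at hsq
        have hz2 : z ^ 2 = -1 := by
          have h4 : (z ^ 2) ^ 2 = 1 := by rw [← pow_mul]; exact hz4
          refine (sq_eq_one_iff.mp h4).resolve_left fun h1 => ?_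
          rcases sq_eq_one_iff.mp h1 with h | h
          · exact hsq 1 (by rw [h, one_pow])
          · exact hsq ι (by rw [h, hι])
        have hzz : z * z = -1 := by rw [← pow_two, hz2]
        have hK : K2 z * K2 z = z • (1 : Matrix (Fin 4) (Fin 4) F) := by
          ext i j; fin_cases i <;> fin_cases j <;> simp [K2, Matrix.mul_apply, Fin.sum_univ_four]
        obtain ⟨w, hwN, hwC⟩ := mkN (K2 z) (hdet_of_pow _ 2 z two_ne_zero hz0 (by rw [pow_two, hK]))
          ((-1 : F) • pA) (z • (pA * pB)) pC pD (iA.smul hP hm14)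
          (by ext i j; fin_cases i <;> fin_cases j <;> simp [K2, Matrix.mul_apply, Fin.sum_univ_four, Matrix.vecMul, dotProduct, Matrix.diagonal])
          ((iA.mul iB).smul hP hz4)
          (by ext i j; fin_cases i <;> fin_cases j <;> simp [K2, Matrix.mul_apply, Fin.sum_univ_four, Matrix.vecMul, dotProduct, Matrix.diagonal, hzz])
          iC (by ext i j; fin_cases i <;> fin_cases j <;> simp [K2, Matrix.mul_apply, Fin.sum_univ_four, Matrix.vecMul, dotProduct, Matrix.diagonal])
          iD (by ext i j; fin_cases i <;> fin_cases j <;> simp [K2, Matrix.mul_apply, Fin.sum_univ_four])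
        obtain ⟨Q, hQ, hxQ⟩ := exists_model_sq h2 hsq (M := (x : Matrix (Fin 4) (Fin 4) F)) (by rw [← pow_two, hz])
        obtain ⟨hd2, he2⟩ := model_tr w (K2 z) 1 (K2 z) (by rw [Matrix.det_one]; exact one_ne_zero) hwC
          (by rw [Matrix.mul_one, Matrix.one_mul])
        obtain ⟨g, hg, hgy⟩ := sl_conj_model hQ hd2 hxQ he2 (fun d _ => commutant_det_sq hq2 hz0 d)
        exact good_of x w g hg hwN hgy
    · subst hr
      have : Fact (Nat.Prime 3) := ⟨Nat.prime_three⟩
      have h30 : ((3 : ℕ) : F) ≠ 0 := natCast_ne_zero_of_ne (p := p) (by omega)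
      have hnd : ¬ 3 ∣ Fintype.card F - 1 := by rw [hF]; omega
      have hω : ∀ e : F, e ^ 3 = 1 → e = 1 := by
        intro e he
        by_contra hne
        refine hnd ?_
        have he0 : e ≠ 0 := fun h0 => by rw [h0, zero_pow (by norm_num)] at he; exact zero_ne_one he
        rw [← Fintype.card_units, ← orderOf_eq_prime (x := Units.mk0 e he0) (p := 3) (Units.ext (by simpa using he))
          (fun h => hne (by simpa using congrArg Units.val h))]
        exact orderOf_dvd_card
      have ho2 : orderOf (Fintype.card F : ZMod 3) = 2 := by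
        rw [hF, ← ZMod.natCast_mod p 3, hp3]
        exact orderOf_eq_prime (x := ((2 : ℕ) : ZMod 3)) (p := 2) rfl (by intro h; revert h; decide +revert)
      -- T ⊗ 1
      set α : F := -(1 + ι) / 2 with hα
      have hα2 : 2 * α = -(1 + ι) := by rw [hα]; field_simp
      let W1 : Matrix (Fin 4) (Fin 4) F := !![1, 0, ι, 0; 0, 1, 0, ι; 1, 0, -ι, 0; 0, 1, 0, -ι]
      let T1 : Matrix (Fin 4) (Fin 4) F := α • W1
      have hαsq : α * α = ι / 2 := by
        rw [eq_div_iff h2]
        refine mul_left_cancel₀ h2 ?_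
        linear_combination (2 * α - 1 - ι) * hα2 + hii
      have hT1 : T1 * T1 + T1 + 1 = 0 := by
        ext i j
        fin_cases i <;> fin_cases j <;> simp [T1, W1, Matrix.mul_apply, Fin.sum_univ_four] <;>
          (field_simp at hαsq; refine mul_left_cancel₀ h2 ?_; first
            | linear_combination (1 + ι) * hαsq + hα2 + hii
            | linear_combination (1 + ι) * hαsq + ι * hα2
            | linear_combination (1 - ι) * hαsq + hα2 - hii
            | linear_combination (ι - 1) * hαsq - ι * hα2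
            | linear_combination (1 + ι) * hαsq + ι * hα2 - hii
            | linear_combination (1 + ι) * hαsq + ι * hα2 + hii
            | linear_combination (1 - ι) * hαsq + hα2 + hii
            | linear_combination (ι - 1) * hαsq - ι * hα2 + hii
            | linear_combination (ι - 1) * hαsq - ι * hα2 - hii
            | linear_combination ι * (1 - ι) * hαsq + ι * hα2 - ι * hii
            | linear_combination ι * (1 + ι) * hαsq - ι * hα2 + (ι + 2) * hii
            | ring1)
      have hT13 : T1 * T1 * T1 = 1 := by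
        have h : T1 * T1 * T1 - 1 = (T1 - 1) * (T1 * T1 + T1 + 1) := by noncomm_ring
        rw [hT1, mul_zero, sub_eq_zero] at h
        exact h
      obtain ⟨w, hwN, hwC⟩ := mkN T1 (hdet_of_pow _ 3 1 three_ne_zero one_ne_zero
          (by rw [pow_succ, pow_two, hT13, one_smul]))
        pB (ι • (pA * pB)) pC pD iB
        (by ext i j; fin_cases i <;> fin_cases j <;> simp [T1, W1, Matrix.mul_apply, Fin.sum_univ_four, Matrix.vecMul, dotProduct, Matrix.diagonal])
        ((iA.mul iB).smul hP hι4)
        (by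
          show (α • W1) * pB = (ι • (pA * pB)) * (α • W1)
          rw [Matrix.smul_mul, Matrix.mul_smul]
          congr 1
          ext i j; fin_cases i <;> fin_cases j <;> simp [W1, Matrix.mul_apply, Fin.sum_univ_four, Matrix.vecMul, dotProduct, Matrix.diagonal, hii])
        iC (by ext i j; fin_cases i <;> fin_cases j <;> simp [T1, W1, Matrix.mul_apply, Fin.sum_univ_four, Matrix.vecMul, dotProduct, Matrix.diagonal])
        iD (by ext i j; fin_cases i <;> fin_cases j <;> simp [T1, W1, Matrix.mul_apply, Fin.sum_univ_four, Matrix.vecMul, dotProduct])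
      obtain ⟨u, y, hy, hyns, hxy⟩ := divide (z ^ 3) (by
        rw [← pow_mul, show 3 * 3 = 4 * 2 + 1 from rfl, pow_succ, pow_mul, hz4, one_pow, one_mul])
      have hy' : y * y * y = 1 := by rw [← hy, pow_succ, pow_two]
      obtain ⟨s, hs, -⟩ := exists_dims (r := 3) h30 (y := (Matrix.toLin' y : Module.End F (Fin 4 → F)))
        (by rw [← pow_toLin', hy, Matrix.toLin'_one]; rfl) (W := ⊤) le_top
      rw [finrank_top, top_inf_eq, Module.finrank_fin_fun, ho2] at hs
      rcases s with _ | _ | _ | s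
      · refine absurd ?_ (hyns 1)
        rw [one_smul]
        refine Matrix.ext_iff_mulVec.2 fun v => ?_
        have hft : fix (Matrix.toLin' y : Module.End F (Fin 4 → F)) = ⊤ :=
          Submodule.eq_top_of_finrank_eq (by rw [Module.finrank_fin_fun]; omega)
        have hv : v ∈ fix (Matrix.toLin' y : Module.End F (Fin 4 → F)) := by
          rw [hft]
          trivial
        rw [Matrix.one_mulVec, ← Matrix.toLin'_apply]
        exact mem_fix.mp hv
      · -- one block: T ⊗ T
        let T2 : Matrix (Fin 4) (Fin 4) F := W2 * T1 * W2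
        have hcomm : T1 * T2 = T2 * T1 := by
          show α • W1 * (W2 * (α • W1) * W2) = W2 * (α • W1) * W2 * (α • W1)
          simp only [Matrix.mul_smul, Matrix.smul_mul]
          congr 2
          ext i j; fin_cases i <;> fin_cases j <;> simp [W1, W2, Matrix.mul_apply, Fin.sum_univ_four] <;> ring
        have hT2 : T2 * T2 * T2 = 1 := by
          calc T2 * T2 * T2 = W2 * (T1 * (W2 * W2) * T1 * (W2 * W2) * T1) * W2 := by
                simp only [T2, Matrix.mul_assoc]
            _ = 1 := by rw [hW2sq, Matrix.mul_one, Matrix.mul_one, hT13, Matrix.mul_one, hW2sq]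
        set TT := T1 * T2 with hTT
        have hTT3 : TT * TT * TT = 1 := by
          have hcp := (show Commute T1 T2 from hcomm).mul_pow 3
          simp only [pow_succ, pow_zero, one_mul] at hcp
          rw [hTT, hcp, hT13, hT2, Matrix.one_mul]
        have hTTW : TT = (α * α) • (W1 * (W2 * W1 * W2)) := by
          simp only [hTT, T1, T2, Matrix.mul_smul, Matrix.smul_mul, smul_smul]
        obtain ⟨t, ht, -⟩ := exists_dims (r := 3) h30 (y := (Matrix.toLin' TT : Module.End F (Fin 4 → F)))
          (by rw [← pow_toLin', pow_succ, pow_two, hTT3, Matrix.toLin'_one]; rfl) (W := ⊤) le_top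
        rw [finrank_top, top_inf_eq, Module.finrank_fin_fun, ho2] at ht
        have hfix2 : finrank F ↥(fix (Matrix.toLin' TT : Module.End F (Fin 4 → F))) = 2 := by
          have hv : (![0, 1, -1, 0] : Fin 4 → F) ∈ fix (Matrix.toLin' TT : Module.End F (Fin 4 → F)) := by
            rw [mem_fix, Matrix.toLin'_apply, hTTW, Matrix.smul_mulVec, hαsq]
            funext i
            fin_cases i <;> simp [W1, W2, Matrix.mulVec, dotProduct, Matrix.mul_apply, Fin.sum_univ_four] <;>
              (field_simp; first | linear_combination (2 : F) * hii | linear_combination (-2 : F) * hii | linear_combination hii | linear_combination -hii | ring1)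
          have hpos : finrank F ↥(fix (Matrix.toLin' TT : Module.End F (Fin 4 → F))) ≠ 0 := fun h0 => by
            rw [Submodule.finrank_eq_zero.mp h0, Submodule.mem_bot] at hv
            simpa using congrFun hv 1
          have hne4 : finrank F ↥(fix (Matrix.toLin' TT : Module.End F (Fin 4 → F))) ≠ 4 := fun h4 => by
            have h1 : (Pi.single 1 1 : Fin 4 → F) ∈ fix (Matrix.toLin' TT : Module.End F (Fin 4 → F)) := by
              rw [Submodule.eq_top_of_finrank_eq (h4.trans (Module.finrank_fin_fun F).symm)]; trivial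
            have := congrFun (mem_fix.mp h1) 0
            rw [Matrix.toLin'_apply, hTTW, Matrix.smul_mulVec, hαsq] at this
            simp [W1, W2, Matrix.mulVec, dotProduct, Matrix.mul_apply, Fin.sum_univ_four, h2] at this
            rw [this, zero_pow two_ne_zero] at hι
            exact neg_ne_zero.mpr one_ne_zero hι.symm
          omega
        obtain ⟨Q, hQ, hyQ⟩ := exists_model_three h30 hω hy' (by omega)
        obtain ⟨P, hPd, hTP⟩ := exists_model_three h30 hω hTT3 hfix2
        have hwTT : ((w * (sw * w * sw) : GL (Fin 4) F) : Matrix (Fin 4) (Fin 4) F) * (C : Matrix (Fin 4) (Fin 4) F) =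
            (C : Matrix (Fin 4) (Fin 4) F) * TT := by
          simp only [Units.val_mul, Matrix.mul_assoc, hswC]
          simp only [← Matrix.mul_assoc (w : Matrix (Fin 4) (Fin 4) F) (C : Matrix (Fin 4) (Fin 4) F), hwC,
            Matrix.mul_assoc]
          simp only [← Matrix.mul_assoc (sw : Matrix (Fin 4) (Fin 4) F) (C : Matrix (Fin 4) (Fin 4) F), hswC,
            Matrix.mul_assoc]
          simp only [← Matrix.mul_assoc (w : Matrix (Fin 4) (Fin 4) F) (C : Matrix (Fin 4) (Fin 4) F), hwC,
            Matrix.mul_assoc, hTT, T2]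
        obtain ⟨hd2, he2⟩ := model_tr _ TT P K3 hPd hwTT hTP
        obtain ⟨g, hg, hgy⟩ := sl_conj_model hQ hd2 hyQ he2 (fun d _ => commutant_det_three d)
        exact finish' u y _ g _ hg hxy (N.mul_mem hwN (N.mul_mem (N.mul_mem hswN hwN) hswN)) rfl hgy
      · -- two blocks: T ⊗ 1
        have hfix0 : fix (Matrix.toLin' y : Module.End F (Fin 4 → F)) = ⊥ := Submodule.finrank_eq_zero.mp (by omega)
        have hquad : y * y + y + 1 = 0 := by
          refine Matrix.ext_iff_mulVec.2 fun v => ?_
          rw [Matrix.zero_mulVec]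
          have hm : (y * y + y + 1).mulVec v ∈ fix (Matrix.toLin' y : Module.End F (Fin 4 → F)) := by
            rw [mem_fix, Matrix.toLin'_apply, Matrix.mulVec_mulVec, mul_add, mul_add, ← mul_assoc, hy', mul_one]
            congr 1
            abel
          rwa [hfix0, Submodule.mem_bot] at hm
        have hsq3 : ∀ b : F, b ^ 2 ≠ -3 := by
          intro b hb
          set e : F := (-1 + b) / 2 with he
          have he2 : 2 * e = -1 + b := by rw [he]; field_simp
          have hquad' : e ^ 2 + e + 1 = 0 := by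
            refine mul_left_cancel₀ (mul_ne_zero h2 h2) ?_
            linear_combination (2 * e + b + 1) * he2 + hb
          have he3 : e ^ 3 = 1 := by linear_combination (e - 1) * hquad'
          rw [hω e he3] at hquad'
          exact h30 (by push_cast; linear_combination hquad')
        have hsquare : ∀ M : Matrix (Fin 4) (Fin 4) F, M * M + M + 1 = 0 →
            (M + M + 1) * (M + M + 1) = (-3 : F) • (1 : Matrix (Fin 4) (Fin 4) F) := by
          intro M hM
          have : (M + M + 1) * (M + M + 1) = (4 : ℕ) • (M * M + M + 1) - (3 : ℕ) • (1 : Matrix (Fin 4) (Fin 4) F) := by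
            noncomm_ring
          rw [this, hM, smul_zero, zero_sub, ← Nat.cast_smul_eq_nsmul F 3, ← neg_smul]
          norm_num
        obtain ⟨Q, hQ, hyQ⟩ := exists_model_sq h2 hsq3 (hsquare y hquad)
        set w' := (w : Matrix (Fin 4) (Fin 4) F) with hw'
        have hwq : w' * w' + w' + 1 = 0 := by
          have hu : IsUnit (C : Matrix (Fin 4) (Fin 4) F) := C.isUnit
          refine hu.mul_right_cancel ?_
          rw [Matrix.zero_mul, Matrix.add_mul, Matrix.add_mul, Matrix.mul_assoc, hwC, ← Matrix.mul_assoc, hwC,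
            Matrix.one_mul, Matrix.mul_assoc, ← Matrix.mul_add]
          rw [show (C : Matrix (Fin 4) (Fin 4) F) * (T1 * T1 + T1) + (C : Matrix (Fin 4) (Fin 4) F) =
            (C : Matrix (Fin 4) (Fin 4) F) * (T1 * T1 + T1 + 1) by rw [Matrix.mul_add _ (T1 * T1 + T1) 1, Matrix.mul_one],
            hT1, Matrix.mul_zero]
        obtain ⟨P, hPd, hwP⟩ := exists_model_sq h2 hsq3 (hsquare w' hwq)
        obtain ⟨g, hg, hgy⟩ := sl_conj_model hQ hPd hyQ hwP
          (fun d _ => commutant_det_sq hq2 (neg_ne_zero.mpr (by exact_mod_cast h30)) d)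
        refine finish' u y _ g w hg hxy hwN rfl ?_
        rw [Matrix.add_mul, Matrix.mul_add, Matrix.add_mul, Matrix.mul_add, Matrix.one_mul, Matrix.mul_one,
          add_left_inj, ← two_smul F, ← two_smul F] at hgy
        exact smul_right_injective (Matrix (Fin 4) (Fin 4) F) h2 hgy
      · omega
    · subst hr
      have : Fact (Nat.Prime 5) := ⟨by norm_num⟩
      have ho' : orderOf (Fintype.card F : ZMod 5) = 4 := by rw [hF]; exact ho
      have hp5 : (5 : ℕ) ≠ p := fun h => by
        subst h
        rw [show ((5 : ℕ) : ZMod 5) = 0 from ZMod.natCast_self 5, orderOf_eq_zero_iff'.mpr] at ho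
        · norm_num at ho
        · intro n hn; rw [zero_pow (by omega)]; exact zero_ne_one
      have h50 : ((5 : ℕ) : F) ≠ 0 := natCast_ne_zero_of_ne (p := p) hp5
      have hnd : ¬ 5 ∣ Fintype.card F - 1 := fun h => by
        rw [← orderOf_card_eq_one_iff, ho'] at h; norm_num at h
      obtain ⟨u, y, hy, hyns, hxy⟩ := divide z (by rw [show (5 : ℕ) = 4 + 1 from rfl, pow_succ, hz4, one_mul])
      obtain ⟨Q, hQ, hyQ⟩ := exists_model_five h50 ho' hy (fun h => hyns 1 (by rw [h, one_smul]))
      let W5 : Matrix (Fin 4) (Fin 4) F := !![1, 0, 0, ι; 0, ι, -1, 0; 1, 0, 0, -ι; 0, ι, 1, 0]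
      set e5 : F := 4 + 4 * ι with he5
      have he50 : e5 ≠ 0 := by
        intro h0
        have h4 : (4 : F) ≠ 0 := by rw [show (4 : F) = 2 * 2 by norm_num]; exact mul_ne_zero h2 h2
        have hι1 : ι = -1 := by
          refine mul_left_cancel₀ h4 ?_
          linear_combination h0
        rw [hι1, neg_one_sq] at hι
        exact h2 (by linear_combination hι)
      let W52 : Matrix (Fin 4) (Fin 4) F := !![1, -1, ι, ι; -1, -1, -ι, ι; 1, 1, -ι, ι; 1, -1, -ι, -ι]
      let W54 : Matrix (Fin 4) (Fin 4) F :=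
        !![2 + 2 * ι, 0, 2 + 2 * ι, 0; 0, 2 - 2 * ι, 0, 2 - 2 * ι; 0, -2 - 2 * ι, 0, 2 + 2 * ι; 2 - 2 * ι, 0, -2 + 2 * ι, 0]
      have hW52 : W5 * W5 = W52 := by
        ext i j; fin_cases i <;> fin_cases j <;> simp [W5, W52, Matrix.mul_apply, Fin.sum_univ_four, hii]
      have hW54 : W52 * W52 = W54 := by
        ext i j; fin_cases i <;> fin_cases j <;> simp [W52, W54, Matrix.mul_apply, Fin.sum_univ_four, hii] <;>
          first | ring1 | linear_combination (2 : F) * hii | linear_combination (-2 : F) * hii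
      have hW55 : W5 ^ 5 = e5 • 1 := by
        rw [show W5 ^ 5 = (W5 * W5) * (W5 * W5) * W5 by simp only [pow_succ, pow_zero, one_mul, mul_assoc], hW52, hW54]
        ext i j; fin_cases i <;> fin_cases j <;> simp [W5, W54, e5, Matrix.mul_apply, Fin.sum_univ_four] <;>
          first | ring1 | linear_combination (4 : F) * hii | linear_combination (-4 : F) * hii | linear_combination (2 : F) * hii | linear_combination (-2 : F) * hii
      obtain ⟨w, hwN, hwC⟩ := mkN W5 (hdet_of_pow _ 5 e5 (by norm_num) he50 hW55)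
        pB (pA * pB * pC * pD) (pB * pC) ((-ι) • (pC * pD)) iB
        (by ext i j; fin_cases i <;> fin_cases j <;> simp [W5, Matrix.mul_apply, Fin.sum_univ_four, Matrix.vecMul, dotProduct, Matrix.diagonal, Matrix.vecHead, Matrix.vecTail])
        (((iA.mul iB).mul iC).mul iD)
        (by ext i j; fin_cases i <;> fin_cases j <;> simp [W5, Matrix.mul_apply, Fin.sum_univ_four, Matrix.vecMul, dotProduct, Matrix.diagonal, Matrix.vecHead, Matrix.vecTail])
        (iB.mul iC)
        (by ext i j; fin_cases i <;> fin_cases j <;> simp [W5, Matrix.mul_apply, Fin.sum_univ_four, Matrix.vecMul, dotProduct, Matrix.diagonal, Matrix.vecHead, Matrix.vecTail])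
        ((iC.mul iD).smul hP (show (-ι) ^ 4 = 1 by rw [neg_pow, hι4]; norm_num))
        (by ext i j; fin_cases i <;> fin_cases j <;> simp [W5, Matrix.mul_apply, Fin.sum_univ_four, Matrix.vecMul, dotProduct, Matrix.diagonal, Matrix.vecHead, Matrix.vecTail, hii])
      obtain ⟨θ, hθ⟩ := exists_root (r := 5) hnd e5
      have hθ0 : θ ≠ 0 := fun h0 => he50 (by rw [← hθ, h0, zero_pow (by norm_num)])
      set Wn := θ⁻¹ • W5 with hWn
      have hWn5 : Wn ^ 5 = 1 := by
        rw [hWn, _root_.smul_pow, hW55, smul_smul, ← hθ, ← mul_pow, inv_mul_cancel₀ hθ0, one_pow, one_smul]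
      obtain ⟨P, hPd, hWP⟩ := exists_model_five h50 ho' hWn5 (fun h => by
        have := congr_fun (congr_fun h 2) 0
        simp [hWn, W5, hθ0] at this)
      obtain ⟨hd2, he2⟩ := model_tr (scalarUnit (Units.mk0 θ⁻¹ (inv_ne_zero hθ0)) * w) Wn P K5 hPd (by
        rw [Units.val_mul, scalarUnit_val, Units.val_mk0, Matrix.smul_mul, Matrix.one_mul, Matrix.smul_mul, hwC, hWn,
          Matrix.mul_smul]) hWP
      obtain ⟨g, hg, hgy⟩ := sl_conj_model hQ hd2 hyQ he2 (fun d _ => commutant_det_five (p := p) h50 ho' d)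
      exact finish' u y _ g _ hg hxy (N.mul_mem (hscalN _) hwN) rfl hgy

end Cfsg.Agent.S6000
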