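import Cfsg.Statements.S6002
import Cfsg.Agent.EqLemmas
import Cfsg.Agent.Lib.PrimeOrderElt.ExtraspecialMinus
import Cfsg.Agent.Lib.PrimeOrderElt.SpFive
import Cfsg.Agent.Lib.SpTensor.Normal
import Cfsg.Agent.Lib.Linear.SpBlocks
import Mathlib.NumberTheory.LegendreSymbol.QuadraticReciprocity

set_option autoImplicit false
open scoped MatrixGroups
open Cfsg

namespace Cfsg.Agent.S6002

open Matrix Module Cfsg.Agent.PrimeOrderElt

variable {F : Type*} [Field F]

/-- Single-entry matrices in the commutant. -/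
theorem singles_le {ι : Type} [Fintype ι] [DecidableEq ι] (M : Matrix ι ι F) (S : Finset (ι × ι))
    (h : ∀ s ∈ S, Matrix.single s.1 s.2 (1 : F) * M = M * Matrix.single s.1 s.2 (1 : F)) :
    S.card ≤ finrank F (commutantOf M) := by
  have hli : LinearIndependent F (fun s : S => Matrix.single s.1.1 s.1.2 (1 : F)) := by
    have := (Matrix.stdBasis F ι ι).linearIndependent.comp (fun s : S => s.1) Subtype.val_injective
    convert this using 2 with s
    exact (Matrix.stdBasis_eq_single F s.1.1 s.1.2).symm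
  have hli' : LinearIndependent F (fun s : S => (⟨_, h s.1 s.2⟩ : commutantOf M)) :=
    LinearIndependent.of_comp (commutantOf M).subtype hli
  simpa using hli'.fintype_card_le_finrank

theorem commutantOf_conj_finrank {ι : Type} [Fintype ι] [DecidableEq ι] (x g : GL ι F) :
    finrank F (commutantOf (g⁻¹ * x * g).1) = finrank F (commutantOf x.1) := by
  let φ : Matrix ι ι F ≃ₗ[F] Matrix ι ι F :=
    { toFun := fun X => g.1 * X * (g⁻¹).1
      invFun := fun X => (g⁻¹).1 * X * g.1
      map_add' := fun X Y => by rw [Matrix.mul_add, Matrix.add_mul]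
      map_smul' := fun c X => by rw [Matrix.mul_smul, Matrix.smul_mul]; rfl
      left_inv := fun X => by simp [Matrix.mul_assoc]
      right_inv := fun X => by simp [Matrix.mul_assoc] }
  have hmap : (commutantOf (g⁻¹ * x * g).1).map (φ : _ →ₗ[F] _) = commutantOf x.1 := by
    ext Y
    obtain ⟨X, rfl⟩ := φ.surjective Y
    rw [Submodule.mem_map_equiv, LinearEquiv.symm_apply_apply, mem_commutantOf, mem_commutantOf]
    show _ ↔ g.1 * X * (g⁻¹).1 * x.1 = x.1 * (g.1 * X * (g⁻¹).1)
    simp only [Units.val_mul]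
    constructor
    · intro h
      have h' := congrArg (fun Z => g.1 * Z * (g⁻¹).1) h
      simpa [Matrix.mul_assoc] using h'
    · intro h
      have h' := congrArg (fun Z => (g⁻¹).1 * Z * g.1) h
      simpa [Matrix.mul_assoc] using h'
  rw [← hmap, LinearEquiv.finrank_map_eq φ]

/-- A transvection. -/
abbrev tvMat : Matrix (Fin 2 ⊕ Fin 2) (Fin 2 ⊕ Fin 2) F := fromBlocks 1 (diagonal ![1, 0]) 0 1

/-- A plane element of trace `t`, trivial on the orthogonal plane. -/
abbrev plMat (t : F) : Matrix (Fin 2 ⊕ Fin 2) (Fin 2 ⊕ Fin 2) F :=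
  fromBlocks (diagonal ![0, 1]) (diagonal ![-1, 0]) (diagonal ![1, 0]) (diagonal ![t, 1])

/-- The inverse of the plane element. -/
abbrev plInv (t : F) : Matrix (Fin 2 ⊕ Fin 2) (Fin 2 ⊕ Fin 2) F :=
  fromBlocks (diagonal ![t, 1]) (diagonal ![1, 0]) (diagonal ![-1, 0]) (diagonal ![0, 1])

theorem exists_transvection (r : ℕ) (hr : (r : F) = 0) : ∃ x ∈ Cfsg.spGL 2 F, x ^ r = 1 ∧
    (∀ z : F, x.1 ≠ z • 1) ∧ 9 ≤ finrank F (commutantOf x.1) := by
  have hmem : (tvMat : Matrix (Fin 2 ⊕ Fin 2) (Fin 2 ⊕ Fin 2) F) ∈ Matrix.symplecticGroup (Fin 2) F :=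
    Linear.mem_spGL_of_blocks (by simp) (by simp) (by simp)
  set x := (Linear.spEquiv 2 F ⟨_, hmem⟩).1
  have hx : x.1 = tvMat := rfl
  refine ⟨x, (Linear.spEquiv 2 F ⟨_, hmem⟩).2, Units.ext ?_, fun z hz => ?_, ?_⟩
  · have hk : ∀ k : ℕ, (tvMat : Matrix _ _ F) ^ k = fromBlocks 1 ((k : F) • diagonal ![1, 0]) 0 1 := by
      intro k
      induction k with
      | zero => simp
      | succ k ih =>
        rw [pow_succ, ih, fromBlocks_multiply]
        simp only [one_mul, mul_one, zero_mul, mul_zero, add_zero, zero_add, Nat.cast_succ, add_smul, one_smul]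
        rw [add_comm]
    rw [Units.val_pow_eq_pow_val, hx, hk, hr, zero_smul, fromBlocks_one, Units.val_one]
  · have := congr_fun (congr_fun (hx ▸ hz) (Sum.inl 0)) (Sum.inr 0)
    simp at this
  · refine le_trans (b := ((Finset.univ : Finset ((Fin 2 ⊕ Fin 2) × (Fin 2 ⊕ Fin 2))).filter fun s =>
      s.2 ≠ Sum.inl 0 ∧ s.1 ≠ Sum.inr 0).card) (by decide) (singles_le _ _ fun s hs => ?_)
    simp only [Finset.mem_filter, Finset.mem_univ, true_and] at hs
    obtain ⟨s1, s2⟩ := s
    rw [hx]
    ext i j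
    revert hs
    rcases s1 with a | a <;> rcases s2 with b | b <;> rcases i with i | i <;> rcases j with j | j <;>
      fin_cases a <;> fin_cases b <;> fin_cases i <;> fin_cases j <;>
      simp [Matrix.mul_apply, Matrix.single_apply]

theorem exists_plane (t : F) : ∃ x ∈ Cfsg.spGL 2 F, x.1 = plMat t ∧ (x⁻¹).1 = plInv t ∧
    (∀ z : F, x.1 ≠ z • 1) := by
  have hmem : plMat t ∈ Matrix.symplecticGroup (Fin 2) F := by
    refine Linear.mem_spGL_of_blocks ?_ ?_ ?_
    all_goals
      simp only [diagonal_transpose, diagonal_mul_diagonal, diagonal_sub, ← diagonal_one]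
      congr 1
      funext i
      fin_cases i <;> simp
  set x := (Linear.spEquiv 2 F ⟨_, hmem⟩).1
  have hx : x.1 = plMat t := rfl
  refine ⟨x, (Linear.spEquiv 2 F ⟨_, hmem⟩).2, hx, ?_, fun z hz => ?_⟩
  · have h1 : plMat t * plInv t = 1 := by
      ext i j
      rcases i with i | i <;> rcases j with j | j <;> fin_cases i <;> fin_cases j <;>
        simp [Matrix.mul_apply, Fintype.sum_sum_type, Fin.sum_univ_two]
    calc (x⁻¹).1 = (x⁻¹).1 * (plMat t * plInv t) := by rw [h1, mul_one]
      _ = _ := by rw [← mul_assoc, ← hx, Units.inv_mul, one_mul]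
  · have := congr_fun (congr_fun (hx ▸ hz) (Sum.inr 0)) (Sum.inl 0)
    simp at this

theorem trace_plane (t : F) : (plMat t).trace = t + 2 ∧ (plInv t).trace = t + 2 := by
  constructor <;> simp [Matrix.trace, Fintype.sum_sum_type, Fin.sum_univ_two] <;> ring

theorem plane_pow_three (t : F) (ht : t = -1) : plMat t * plMat t * plMat t = 1 := by
  subst ht
  ext i j
  rcases i with i | i <;> rcases j with j | j <;> fin_cases i <;> fin_cases j <;>
    simp [Matrix.mul_apply, Fintype.sum_sum_type, Fin.sum_univ_two]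

theorem plane_pow_five (t : F) (ht : t * t + t - 1 = 0) :
    plMat t * plMat t * (plMat t * plMat t) * plMat t = 1 := by
  ext i j
  rcases i with i | i <;> rcases j with j | j <;> fin_cases i <;> fin_cases j <;>
    simp [Matrix.mul_apply, Fintype.sum_sum_type, Fin.sum_univ_two] <;>
    first
      | linear_combination (t * t * t - t * t - t + 1) * ht
      | linear_combination (t * t - t - 1) * ht
      | linear_combination -(t * t - t - 1) * ht
      | linear_combination (1 - t) * ht
      | linear_combination (t * t * t - t * t - 2 * t + 1) * ht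

/-- For `p ≡ ±1 (mod 5)` the fifth roots of unity have their traces in the prime field. -/
theorem exists_trace_five {p : ℕ} [Fact p.Prime] [CharP F p] (h2 : (2 : F) ≠ 0) (hp2 : p ≠ 2)
    (h : IsSquare (p : ZMod 5)) : ∃ t : F, t * t + t - 1 = 0 := by
  have : Fact (Nat.Prime 5) := ⟨by norm_num⟩
  obtain ⟨s, hs⟩ := (ZMod.exists_sq_eq_prime_iff_of_mod_four_eq_one (p := 5) (q := p) (by norm_num) hp2).mp h
  obtain ⟨s', hs'⟩ : ∃ s' : F, s' * s' = 5 := ⟨ZMod.castHom dvd_rfl F s, by rw [← map_mul, ← hs]; exact map_natCast _ 5⟩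
  refine ⟨(s' - 1) / 2, ?_⟩
  field_simp
  linear_combination hs'

set_option maxHeartbeats 4000000 in
/-- Elements of prime order of PSp_4(p), p odd, and the normalizer of an extraspecial 2-group of order 2⁵ of minus type. Here `T = PSp_4(F)` for the field `F` with `p` elements, `p` an odd prime, realised through the matrices preserving the standard alternating form `f`; `R` is an absolutely irreducible subgroup of `T` (it preserves `f`) that is a 2-group of symplectic type of exponent 4, order 2⁵ and centre of order 2, of minus type (no elementary abelian subgroup of order 2³), and `H` is the subgroup of `T` normalizing `R` — a subgroup of type 2^{1+4}.O₄⁻(2) (maximality is not assumed). Ω is the set of cosets of `H` in `T`, so an element of `T` of prime order `r` (`x ∈ T` with `x^r` scalar, `x` not scalar) fixes a point of Ω exactly when some `T`-conjugate of `x` normalizes `R`. Let `r` be a prime dividing the index of `H`. Then every element of `T` of order `r` fixes a point of Ω if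 and only if `r = 2`, or `r = 5` and `p` has multiplicative order 4 modulo 5. -/
theorem result {F : Type*} [Field F] [Fintype F] {p : ℕ} [Fact p.Prime] [CharP F p] (hF : Fintype.card F = p) (hodd : Odd p)
    (R : Subgroup (GL (Fin 2 ⊕ Fin 2) F)) (hRs : Cfsg.Geo.IsSymplecticTypeGroup 2 R) (hRi : Cfsg.Geo.ActsAbsolutelyIrreducibly (Cfsg.Geo.matrixSet R))
    (hRf : R ≤ Cfsg.spGL 2 F) (hR5 : Nat.card R = 2 ^ 5) (hRZ : Nat.card (Subgroup.center R) = 2) (hRm : Cfsg.Geo.IsOfMinusType 2 R)
    (r : ℕ) [Fact r.Prime]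
    (hΩ : r ∣ (Cfsg.Geo.subgroupNormalizer R).relIndex (Cfsg.spGL 2 F)) :
    (∀ x ∈ Cfsg.spGL 2 F, (∃ z : F, ((x ^ r : GL (Fin 2 ⊕ Fin 2) F) : Matrix (Fin 2 ⊕ Fin 2) (Fin 2 ⊕ Fin 2) F) = z • (1 : Matrix (Fin 2 ⊕ Fin 2) (Fin 2 ⊕ Fin 2) F)) →
      (∀ z : F, (x : Matrix (Fin 2 ⊕ Fin 2) (Fin 2 ⊕ Fin 2) F) ≠ z • (1 : Matrix (Fin 2 ⊕ Fin 2) (Fin 2 ⊕ Fin 2) F)) →
      ∃ g ∈ Cfsg.spGL 2 F, g⁻¹ * x * g ∈ Cfsg.Geo.subgroupNormalizer R) ↔ (r = 2 ∨ (r = 5 ∧ orderOf (p : ZMod 5) = 4)) := by
  classical
  have hp := (Fact.out : p.Prime)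
  have hp2 : p ≠ 2 := fun h => by subst h; exact absurd hodd (by decide)
  have h2 : (2 : F) ≠ 0 := by exact_mod_cast natCast_ne_zero_of_ne (F := F) (p := p) (r := 2) (Ne.symm hp2)
  have hR := minusFour_of h2 hRs hRi hRf hR5 hRZ hRm
  set S := Cfsg.spGL 2 F with hSdef
  set N := Cfsg.Geo.subgroupNormalizer R with hNdef
  have smul_one_inj : ∀ {a b : F}, a • (1 : Matrix (Fin 2 ⊕ Fin 2) (Fin 2 ⊕ Fin 2) F) = b • 1 → a = b :=
    fun h => by simpa using congr_fun (congr_fun h (Sum.inl 0)) (Sum.inl 0)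
  have hscal_pow : ∀ x ∈ S, ∀ z : F, x.1 = z • 1 → z = 1 ∨ z = -1 := by
    intro x hx z hz
    have h := mem_spGL_iff_gram.mp hx
    rw [hz, transpose_smul, transpose_one, Matrix.smul_mul, one_mul, Matrix.smul_mul, Matrix.mul_smul, mul_one,
      smul_smul] at h
    refine mul_self_eq_one_iff.mp ?_
    have := congr_fun (congr_fun h (Sum.inr 0)) (Sum.inl 0)
    simpa [Matrix.J] using this
  constructor
  · intro h
    have key : ∀ x ∈ S, (∃ z : F, (x ^ r).1 = z • 1) → (∀ z : F, x.1 ≠ z • 1) → r ≠ 2 →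
        ∃ f : ℕ, f ∣ 16 ∧ f < 16 ∧ f ≡ 16 [MOD r] ∧ (r = 7 → f ≠ 2) ∧
          x.1.trace * (x⁻¹).1.trace = (f : F) ∧ (r = 3 → f ≠ 1) ∧
          r * finrank F (commutantOf x.1) ≤ 16 + (r - 1) * f := by
      intro x hx hxz hns hr2
      obtain ⟨z, hz⟩ := hxz
      obtain ⟨g, -, hgx⟩ := h x hx ⟨z, hz⟩ hns
      set y := g⁻¹ * x * g with hy
      have hyr : (y ^ r).1 = z • 1 := by
        rw [hy, show (g⁻¹ * x * g) ^ r = g⁻¹ * x ^ r * g by
            rw [show g⁻¹ * x * g = g⁻¹ * x * (g⁻¹)⁻¹ by rw [inv_inv], conj_pow, inv_inv],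
          Units.val_mul, Units.val_mul, hz, Matrix.mul_smul, Matrix.smul_mul, mul_one, ← Units.val_mul,
          inv_mul_cancel, Units.val_one]
      have hyns : ∀ e : F, y.1 ≠ e • 1 := fun e he => hns e (by
        rw [show x = g * y * g⁻¹ by rw [hy]; simp [mul_assoc], Units.val_mul, Units.val_mul, he, Matrix.mul_smul,
          mul_one, Matrix.smul_mul, ← Units.val_mul, mul_inv_cancel, Units.val_one])
      obtain ⟨f, f1, f2, f3, f4, f5, f6, f7⟩ := hR.pauli.orbit_data hr2 hgx ⟨z, hyr⟩ hyns
      refine ⟨f, f1, f2, f3, f4, ?_, fun hr3 hf1 => ?_, ?_⟩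
      · have e1 : y.1.trace = x.1.trace := by
          rw [hy, Units.val_mul, Units.val_mul]; exact Matrix.trace_units_conj' g x.1
        have e2 : (y⁻¹).1.trace = (x⁻¹).1.trace := by
          rw [hy, show (g⁻¹ * x * g)⁻¹ = g⁻¹ * x⁻¹ * g by simp [mul_assoc], Units.val_mul, Units.val_mul]
          exact Matrix.trace_units_conj' g (x⁻¹).1
        rw [← e1, ← e2]; exact f5
      · subst hr3
        obtain ⟨u, hu, hyu, hu1, hu2⟩ := hR.exists_fixed hgx fun v => Units.ext (by
          rw [Units.val_mul, Units.val_mul, hyr, Matrix.smul_mul, Matrix.mul_smul, one_mul, mul_one])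
        obtain ⟨e, he⟩ := f6 hf1 u hu hyu
        rcases hscal_pow u (hR.le hu) e he with rfl | rfl
        · exact hu1 (Units.ext (by rw [he, one_smul, Units.val_one]))
        · exact hu2 (Units.ext (by rw [he, neg_one_smul, Units.val_neg, Units.val_one]))
      · rw [← commutantOf_conj_finrank x g]; exact f7
    have fdiv : ∀ f : ℕ, f ∣ 16 → f < 16 → f = 1 ∨ f = 2 ∨ f = 4 ∨ f = 8 := fun f h1 h2 => by
      obtain ⟨k, hk, rfl⟩ := (Nat.dvd_prime_pow Nat.prime_two).mp (show f ∣ 2 ^ 4 from h1)
      interval_cases k <;> simp_all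
    rcases eq_or_ne r 2 with r2 | r2
    · exact Or.inl r2
    refine Or.inr ?_
    have htrans : r = p → 9 * r ≤ 16 + (r - 1) * 4 ∨ r ≠ 3 ∧ r ≠ 5 := by
      intro hrp
      by_cases h35 : r ≠ 3 ∧ r ≠ 5
      · exact Or.inr h35
      left
      obtain ⟨x, hx, hxr, hxs, hxd⟩ := exists_transvection (F := F) r (by rw [hrp]; exact CharP.cast_eq_zero F p)
      obtain ⟨f, f1, f2, f3, -, -, -, f7⟩ := key x hx ⟨1, by rw [hxr, one_smul, Units.val_one]⟩ hxs r2
      have hf4 : f ≤ 4 := by
        rcases fdiv f f1 f2 with e | e | e | e <;> subst e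
        all_goals first
          | omega
          | (exfalso; rcases (not_and_or.mp h35) with e | e <;> simp only [ne_eq, not_not] at e <;> subst e <;>
              exact absurd f3 (by decide))
      calc 9 * r = r * 9 := mul_comm _ _
        _ ≤ r * finrank F (commutantOf x.1) := Nat.mul_le_mul_left r hxd
        _ ≤ 16 + (r - 1) * f := f7
        _ ≤ _ := Nat.add_le_add_left (Nat.mul_le_mul_left _ hf4) _
    have hrp' : r = 3 ∨ r = 5 → r ≠ p := fun h35 e => by
      have := htrans e
      omega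
    rcases eq_or_ne r 3 with r3 | r3
    · exfalso
      subst r3
      have hp3 := hrp' (Or.inl rfl)
      obtain ⟨x, hx, hxv, hxi, hxs⟩ := exists_plane (F := F) (-1)
      obtain ⟨f, f1, f2, f3, -, f5, f6, -⟩ := key x hx ⟨1, by
        rw [Units.val_pow_eq_pow_val, hxv, pow_succ, pow_two, plane_pow_three _ rfl, one_smul]⟩ hxs r2
      rw [hxv, hxi, (trace_plane _).1, (trace_plane _).2] at f5
      rcases fdiv f f1 f2 with rfl | rfl | rfl | rfl
      · exact f6 rfl rfl
      · exact absurd f3 (by decide)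
      · refine natCast_ne_zero_of_ne (F := F) (p := p) hp3 ?_
        push_cast at f5 ⊢
        linear_combination -f5
      · exact absurd f3 (by decide)
    rcases eq_or_ne r 5 with r5 | r5
    · refine ⟨r5, ?_⟩
      subst r5
      by_contra ho
      have : Fact (Nat.Prime 5) := ⟨by norm_num⟩
      have hp5 := hrp' (Or.inr rfl)
      have hp50 : (p : ZMod 5) ≠ 0 := fun h0 => hp5
        ((Nat.prime_dvd_prime_iff_eq (by norm_num) hp).mp ((ZMod.natCast_eq_zero_iff _ _).mp h0))
      have hsq : IsSquare (p : ZMod 5) := by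
        have : ∀ a : ZMod 5, a ≠ 0 → orderOf a ≠ 4 → IsSquare a := by
          intro a ha hord
          have h4 : a ^ 4 = 1 := ZMod.pow_card_sub_one_eq_one ha
          by_cases h2' : a ^ 2 = 1
          · rcases sq_eq_one_iff.mp h2' with e | e
            · exact ⟨1, by rw [e, mul_one]⟩
            · exact ⟨2, e.trans (show (-1 : ZMod 5) = 2 * 2 from rfl)⟩
          · exact absurd (orderOf_eq_prime_pow (p := 2) (n := 1) h2' h4) hord
        exact this _ hp50 ho
      obtain ⟨t, ht⟩ := exists_trace_five (F := F) h2 hp2 hsq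
      obtain ⟨x, hx, hxv, hxi, hxs⟩ := exists_plane (F := F) t
      obtain ⟨f, f1, f2, f3, -, f5, -, -⟩ := key x hx ⟨1, by
        rw [Units.val_pow_eq_pow_val, hxv, show (plMat t) ^ 5 = plMat t * plMat t * (plMat t * plMat t) * plMat t by
          simp only [pow_succ, pow_zero, one_mul, mul_assoc], plane_pow_five t ht, one_smul]⟩ hxs r2
      rw [hxv, hxi, (trace_plane _).1, (trace_plane _).2] at f5
      rcases fdiv f f1 f2 with rfl | rfl | rfl | rfl
      · refine natCast_ne_zero_of_ne (F := F) (p := p) hp5 ?_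
        push_cast at f5 ⊢
        have h34 : 3 * t + 4 = 0 := by linear_combination f5 - ht
        linear_combination (3 * t - 1) * h34 - 9 * ht
      · exact absurd f3 (by decide)
      · exact absurd f3 (by decide)
      · exact absurd f3 (by decide)
    exfalso
    have hrp := (Fact.out : r.Prime)
    have hr7 : 7 ≤ r := by
      have := hrp.two_le
      have h4 : r ≠ 4 := fun h => by subst h; norm_num at hrp
      have h6 : r ≠ 6 := fun h => by subst h; norm_num at hrp
      omega
    have hrS : r ∣ Nat.card S := hΩ.trans (by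
      rw [← (N.subgroupOf S).card_mul_index]; exact dvd_mul_left _ _)
    obtain ⟨x, hx⟩ := exists_prime_orderOf_dvd_card' r hrS
    have hxr : ((x : GL (Fin 2 ⊕ Fin 2) F) ^ r) = 1 := by
      rw [show (x : GL (Fin 2 ⊕ Fin 2) F) ^ r = ((x ^ r : S) : GL (Fin 2 ⊕ Fin 2) F) from rfl, ← hx,
        pow_orderOf_eq_one]
      rfl
    obtain ⟨f, f1, f2, f3, f4, -⟩ := key x x.2 ⟨1, by rw [hxr, one_smul, Units.val_one]⟩ (fun e he => by
      have hx2 : x ^ 2 = 1 := Subtype.ext (Units.ext (by
        rw [SubmonoidClass.coe_pow, Units.val_pow_eq_pow_val, he, _root_.smul_pow, one_pow, OneMemClass.coe_one,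
          Units.val_one]
        rcases hscal_pow _ x.2 e he with rfl | rfl <;> simp))
      have := orderOf_dvd_of_pow_eq_one hx2
      rw [hx] at this
      have := Nat.le_of_dvd two_pos this
      omega) r2
    have hd : r ∣ 16 - f := (Nat.modEq_iff_dvd' f2.le).mp f3
    have hmem : r ∈ Nat.divisors (16 - f) := Nat.mem_divisors.mpr ⟨hd, by omega⟩
    rcases fdiv f f1 f2 with rfl | rfl | rfl | rfl
    · rw [show Nat.divisors (16 - 1) = {1, 3, 5, 15} by decide] at hmem
      simp only [Finset.mem_insert, Finset.mem_singleton] at hmem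
      rcases hmem with h | h | h | h <;> subst h <;> norm_num at *
    · rw [show Nat.divisors (16 - 2) = {1, 2, 7, 14} by decide] at hmem
      simp only [Finset.mem_insert, Finset.mem_singleton] at hmem
      rcases hmem with h | h | h | h <;> subst h <;> norm_num at *
    · rw [show Nat.divisors (16 - 4) = {1, 2, 3, 4, 6, 12} by decide] at hmem
      simp only [Finset.mem_insert, Finset.mem_singleton] at hmem
      rcases hmem with h | h | h | h | h | h <;> subst h <;> norm_num at *
    · rw [show Nat.divisors (16 - 8) = {1, 2, 4, 8} by decide] at hmem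
      simp only [Finset.mem_insert, Finset.mem_singleton] at hmem
      rcases hmem with h | h | h | h <;> subst h <;> norm_num at *
  · intro hr x hx ⟨z, hz⟩ hns
    have hxrS : x ^ r ∈ S := S.pow_mem hx r
    have hz1 := hscal_pow _ hxrS z hz
    rcases hr with hr | ⟨hr, ho⟩
    · subst hr
      obtain ⟨a, ha, c, hc, -, -, -, -, haa, hcc, -, -, hac, -⟩ := hR.exists_frame
      have hmv : ∀ (g : GL (Fin 2 ⊕ Fin 2) F) (M : Matrix (Fin 2 ⊕ Fin 2) (Fin 2 ⊕ Fin 2) F), g.1 * g.1 = M →
          ∀ v, g.1 *ᵥ (g.1 *ᵥ v) = M *ᵥ v := fun g M e v => by rw [Matrix.mulVec_mulVec, e]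
      have hmove : ∀ (w gw gx : GL (Fin 2 ⊕ Fin 2) F), w ∈ R → gw ∈ S → gx ∈ S →
          (gx⁻¹ * x * gx).1 = (gw⁻¹ * w * gw).1 → ∃ g ∈ S, g⁻¹ * x * g ∈ N := by
        intro w gw gx hw hgw hgx e
        refine ⟨gx * gw⁻¹, S.mul_mem hgx (S.inv_mem hgw), ?_⟩
        have e' : gx⁻¹ * x * gx = gw⁻¹ * w * gw := Units.ext e
        rw [show (gx * gw⁻¹)⁻¹ * x * (gx * gw⁻¹) = gw * (gx⁻¹ * x * gx) * gw⁻¹ by
          simp only [_root_.mul_inv_rev, inv_inv, mul_assoc], e']
        rw [show gw * (gw⁻¹ * w * gw) * gw⁻¹ = w by simp [mul_assoc]]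
        exact Subgroup.le_normalizer hw
      have hxx : x.1 * x.1 = z • 1 := by rw [← Units.val_mul, ← pow_two]; exact hz
      rcases hz1 with rfl | rfl
      · have hpos : ∀ g : GL (Fin 2 ⊕ Fin 2) F, g ∈ S → g.1 * g.1 = 1 → g ≠ 1 → g ≠ -1 →
            ∃ k ∈ S, (k⁻¹ * g * k).1 = SpTensor.dMat 2 1 := by
          intro g hg hgg hg1 hg2
          obtain ⟨m, hm, k, hk, e⟩ := SpTensor.exists_normal_pos h2 hg (fun v => by
            rw [hmv g _ hgg, Matrix.one_mulVec])
          interval_cases m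
          · refine absurd ?_ hg1
            have e' : k⁻¹ * g * k = 1 := Units.ext (by
              rw [e, Units.val_one]; simp [SpTensor.dMat, SpTensor.sgn, ← Matrix.diagonal_one'])
            rw [mul_assoc, inv_mul_eq_one] at e'
            simpa using e'.symm
          · exact ⟨k, hk, e⟩
          · refine absurd ?_ hg2
            have e' : k⁻¹ * g * k = -1 := Units.ext (by
              rw [e, Units.val_neg, Units.val_one, ← Matrix.diagonal_one, Matrix.diagonal_neg]
              simp only [SpTensor.dMat]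
              congr 1
              funext i
              rcases i with i | i <;> simp [SpTensor.sgn, i.isLt])
            rw [mul_assoc, inv_mul_eq_iff_eq_mul, mul_neg_one] at e'
            calc g = g * k * k⁻¹ := (mul_inv_cancel_right g k).symm
              _ = -1 := by rw [e', neg_mul, mul_inv_cancel]
        rw [one_smul] at hxx
        obtain ⟨gx, hgx, ex⟩ := hpos x hx hxx (fun e => hns 1 (by rw [e, Units.val_one, one_smul]))
          (fun e => hns (-1) (by rw [e, Units.val_neg, Units.val_one, neg_one_smul]))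
        obtain ⟨ga, hga, ea⟩ := hpos a (hR.le ha) (by rw [← Units.val_mul, haa, Units.val_one])
          (hR.not_central hac).1 (hR.not_central hac).2
        exact hmove a ga gx ha hga hgx (ex.trans ea.symm)
      · rw [neg_one_smul] at hxx
        obtain ⟨gx, hgx, ex⟩ := SpTensor.exists_normal_neg h2 hx (fun v => by
          rw [hmv x _ hxx, Matrix.neg_mulVec, Matrix.one_mulVec])
        obtain ⟨gc, hgc, ec⟩ := SpTensor.exists_normal_neg h2 (hR.le hc) (fun v => by
          rw [hmv c (-1) (by rw [← Units.val_mul, hcc, Units.val_neg, Units.val_one]), Matrix.neg_mulVec,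
            Matrix.one_mulVec])
        exact hmove c gc gx hc hgc hgx (ex.trans ec.symm)
    · subst hr
      have : Fact (Nat.Prime 5) := ⟨by norm_num⟩
      have hnd : ¬ 5 ∣ Fintype.card F - 1 := fun h => by
        rw [← orderOf_card_eq_one_iff, hF, ho] at h; norm_num at h
      obtain ⟨w, hwS, hwN, hw5, hw1⟩ := hR.exists_five hnd
      have hneg : (-1 : GL (Fin 2 ⊕ Fin 2) F) ∈ S ∧ (-1 : GL (Fin 2 ⊕ Fin 2) F) ∈ N :=
        ⟨hR.le hR.neg_mem, Subgroup.le_normalizer hR.neg_mem⟩
      rcases hz1 with rfl | rfl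
      · have hx5 : x ^ 5 = 1 := Units.ext (by rw [hz, one_smul, Units.val_one])
        obtain ⟨g, hg, e⟩ := exists_conj_five hF ho hx hwS hx5 hw5
          (fun e => hns 1 (by rw [e, Units.val_one, one_smul])) hw1
        exact ⟨g, hg, by rw [e]; exact hwN⟩
      · have hx5 : (-x) ^ 5 = 1 := Units.ext (by
          rw [Units.val_pow_eq_pow_val, Units.val_neg, Odd.neg_pow (show Odd 5 by decide), ← Units.val_pow_eq_pow_val, hz,
            neg_one_smul, neg_neg, Units.val_one])
        have hxS : -x ∈ S := by rw [← neg_one_mul]; exact S.mul_mem hneg.1 hx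
        obtain ⟨g, hg, e⟩ := exists_conj_five hF ho hxS hwS hx5 hw5 (fun e => hns (-1) (by
          rw [show x = -(1 : GL (Fin 2 ⊕ Fin 2) F) by rw [← e, neg_neg], Units.val_neg, Units.val_one, neg_one_smul]))
          hw1
        refine ⟨g, hg, ?_⟩
        rw [show g⁻¹ * x * g = -1 * (g⁻¹ * -x * g) by simp, e]
        exact N.mul_mem hneg.2 hwN

end Cfsg.Agent.S6002
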