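import Cfsg.Statements.S6001
import Cfsg.Agent.EqLemmas
import Cfsg.Agent.S6002
import Cfsg.Agent.Lib.PrimeOrderElt.PauliOrbit
import Cfsg.Agent.Lib.PrimeOrderElt.UnitaryFour
import Mathlib.NumberTheory.LegendreSymbol.QuadraticReciprocity

set_option autoImplicit false
open scoped MatrixGroups
open Cfsg

namespace Cfsg.Agent.S6001

open Matrix Module Cfsg.Agent.PrimeOrderElt Cfsg.Agent.PrimeOrderElt.UFour
open Cfsg.Agent.UnitaryConj (adj)

variable {F : Type*} [Field F] [Fintype F] {p : ℕ}

omit [Fintype F] in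
theorem pauliLike {R : Subgroup (GL (Fin 4) F)} (hP : IsPauliFour R) : IsPauliLike R := by
  refine ⟨Fintype.card_fin 4, ?_, hP.two_ne, hP.scalar_pow, hP.comm, hP.center⟩
  have h := Subgroup.card_eq_card_quotient_mul_card_subgroup (Subgroup.center R)
  rw [hP.card, hP.card_center] at h
  omega

/-- A unitary transvection has a large commutant. -/
theorem exists_transvection [Fact p.Prime] [CharP F p] (hF : Fintype.card F = p ^ 2) :
    ∃ x ∈ Cfsg.GU 4 F p, x.1.det = 1 ∧ x ^ p = 1 ∧ (∀ z : F, x.1 ≠ z • 1) ∧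
      9 ≤ finrank F (commutantOf x.1) := by
  classical
  have hpp := (Fact.out : p.Prime)
  have hn := Unitary.neg_pow_q hF
  obtain ⟨c, hc0, hc⟩ := Unitary.exists_skew hF
  obtain ⟨ε, hε⟩ := Unitary.exists_norm_eq hF (show (-1 : F) ^ p = -1 by rw [hn, one_pow])
  have hεp : (ε ^ p) ^ p = ε := Unitary.pow_q_pow_q hF ε
  have hεε : ε ^ p * ε = -1 := by rw [← pow_succ, hε]
  have hε0 : ε ≠ 0 := fun h0 => by simp [h0] at hεε
  let E : Matrix (Fin 4) (Fin 4) F := !![1, ε ^ p, 0, 0; ε, -1, 0, 0; 0, 0, 0, 0; 0, 0, 0, 0]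
  let X := 1 + c • E
  have hEE : E * E = 0 := by
    ext i j
    fin_cases i <;> fin_cases j <;> simp [E, Matrix.mul_apply, Fin.sum_univ_four] <;>
      linear_combination hεε
  have hadj : adj hF E = E := by
    ext i j
    fin_cases i <;> fin_cases j <;> simp [E, adj_apply, Unitary.zero_pow_q hF, hn, hεp]
  have hX : adj hF X * X = 1 := by
    show adj hF (1 + c • E) * (1 + c • E) = 1
    rw [UnitaryConj.adj_add, UnitaryConj.adj_one, adj_smul, hadj, hc, add_mul, mul_add, mul_add, one_mul, one_mul,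
      Matrix.smul_mul, Matrix.mul_smul, mul_one, Matrix.smul_mul, hEE]
    simp
  obtain ⟨x, hx, hxX⟩ := exists_gu hF hX
  refine ⟨x, hx, ?_, Units.ext ?_, fun z hz => ?_, ?_⟩
  · rw [hxX, Matrix.det_succ_row_zero, Fin.sum_univ_four]
    simp [X, E, Matrix.det_fin_three, Fin.succAbove]
    linear_combination (-c * c) * hεε
  · have hk : ∀ k : ℕ, X ^ k = 1 + (k : F) • (c • E) := by
      intro k
      induction k with
      | zero => simp
      | succ k ih =>
        rw [pow_succ, ih, add_mul, one_mul, Matrix.smul_mul, mul_add, mul_one, Matrix.smul_mul, Matrix.mul_smul,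
          hEE, smul_zero, smul_zero, add_zero, Nat.cast_succ, add_smul, one_smul, add_comm ((k : F) • _), add_assoc]
    rw [Units.val_pow_eq_pow_val, hxX, hk, CharP.cast_eq_zero, zero_smul, add_zero, Units.val_one]
  · have := congr_fun (congr_fun (hxX ▸ hz) 1) 0
    simp [X, E, hc0, hε0] at this
  · let S : Matrix (Fin 4) (Fin 4) F := !![1, 1, 0, 0; ε, 0, 0, 0; 0, 0, 1, 0; 0, 0, 0, 1]
    have hS : S.det ≠ 0 := by
      rw [Matrix.det_succ_row_zero, Fin.sum_univ_four]
      simpa [S, Matrix.det_fin_three, Fin.succAbove] using hε0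
    let g : GL (Fin 4) F := Matrix.GeneralLinearGroup.mkOfDetNeZero S hS
    let T : Matrix (Fin 4) (Fin 4) F := 1 + c • Matrix.single 0 1 1
    have hxS : X * S = S * T := by
      have e : E * S = S * Matrix.single 0 1 1 := by
        ext i j
        fin_cases i <;> fin_cases j <;> simp [E, S, Matrix.mul_apply, Fin.sum_univ_four]
        linear_combination hεε
      show (1 + c • E) * S = S * (1 + c • Matrix.single 0 1 1)
      rw [add_mul, mul_add, one_mul, mul_one, Matrix.smul_mul, Matrix.mul_smul, e]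
    have hg : (g⁻¹ * x * g).1 = T := by
      rw [Units.val_mul, Units.val_mul, hxX, mul_assoc]
      show (g⁻¹).1 * (X * S) = T
      rw [hxS, ← mul_assoc, show (g⁻¹).1 * S = 1 from Units.inv_mul g, one_mul]
    rw [← S6002.commutantOf_conj_finrank x g, hg]
    refine le_trans (b := ((Finset.univ : Finset (Fin 4 × Fin 4)).filter fun s => s.2 ≠ 0 ∧ s.1 ≠ 1).card)
      (by decide) (S6002.singles_le _ _ fun s hs => ?_)
    simp only [Finset.mem_filter, Finset.mem_univ, true_and] at hs
    show Matrix.single s.1 s.2 (1 : F) * (1 + c • _) = (1 + c • _) * Matrix.single s.1 s.2 (1 : F)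
    rw [mul_add, add_mul, one_mul, mul_one, Matrix.mul_smul, Matrix.smul_mul,
      Matrix.single_mul_single_of_ne _ _ _ _ hs.1, Matrix.single_mul_single_of_ne _ _ _ _ hs.2.symm]

/-- A unitary element of order five with two fixed vectors and trace in the prime field. -/
theorem exists_plane (hF : Fintype.card F = p ^ 2) (h2 : (2 : F) ≠ 0) (h5 : (5 : F) ≠ 0) {t : F} (ht : t * t + t - 1 = 0) (htp : t ^ p = t) :
    ∃ x ∈ Cfsg.GU 4 F p, x.1.det = 1 ∧ x ^ 5 = 1 ∧ x.1.trace = t + 2 ∧ (x⁻¹).1.trace = t + 2 ∧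
      (∀ z : F, x.1 ≠ z • 1) := by
  obtain ⟨s, hs⟩ : ∃ s, s = t / 2 := ⟨_, rfl⟩
  have hst : 2 * s = t := by rw [hs]; field_simp
  have h2p : (2 : F) ^ p = 2 := by
    rw [show (2 : F) = 1 + 1 by norm_num, Unitary.add_pow_q hF, one_pow]
  have hsp : s ^ p = s := by rw [hs, div_pow, htp, h2p]
  obtain ⟨b, hb⟩ := Unitary.exists_norm_eq hF (show (1 - s * s) ^ p = 1 - s * s by
    rw [Unitary.sub_pow_q hF, one_pow, mul_pow, hsp])
  have hbb : b ^ p * b = 1 - s * s := by rw [← pow_succ, hb]
  have hbp : (b ^ p) ^ p = b := Unitary.pow_q_pow_q hF b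
  let M : Matrix (Fin 4) (Fin 4) F := !![s, -b ^ p, 0, 0; b, s, 0, 0; 0, 0, 1, 0; 0, 0, 0, 1]
  have hM : adj hF M * M = 1 := by
    ext i j
    fin_cases i <;> fin_cases j <;>
      simp [M, Matrix.mul_apply, Fin.sum_univ_four, adj_apply, Unitary.zero_pow_q hF, Unitary.neg_pow_q hF, hsp, hbp] <;>
      first | linear_combination hbb | ring1
  obtain ⟨x, hx, hxM⟩ := exists_gu hF hM
  have hquad : M * M * M = (t + 1) • (M * M) - (t + 1) • M + 1 := by
    ext i j
    fin_cases i <;> fin_cases j <;> simp [M, Matrix.mul_apply, Fin.sum_univ_four, ← hst] <;>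
      first
        | linear_combination (1 - s) * hbb
        | linear_combination (s - 1) * hbb
        | linear_combination b * hbb
        | linear_combination -b * hbb
        | linear_combination b ^ p * hbb
  refine ⟨x, hx, ?_, Units.ext ?_, ?_, ?_, fun z hz => ?_⟩
  · rw [hxM, Matrix.det_succ_row_zero, Fin.sum_univ_four]
    simp [M, Matrix.det_fin_three, Fin.succAbove]
    linear_combination hbb
  · have h4 : M * M * M * M = M * M + (-1 - t) • M + (t + 1) • 1 := by
      calc M * M * M * M = ((t + 1) • (M * M) - (t + 1) • M + 1) * M := by rw [hquad]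
        _ = (t + 1) • (M * M * M) - (t + 1) • (M * M) + M := by
          rw [add_mul, sub_mul, Matrix.smul_mul, Matrix.smul_mul, one_mul]
        _ = _ := by
          rw [hquad]
          match_scalars <;> first | linear_combination ht | linear_combination -ht | ring1
    rw [Units.val_pow_eq_pow_val, hxM, Units.val_one]
    calc M ^ 5 = (M * M * M * M) * M := by simp only [pow_succ, pow_zero, one_mul]
      _ = M * M * M + (-1 - t) • (M * M) + (t + 1) • M := by
        rw [h4, add_mul, add_mul, Matrix.smul_mul, Matrix.smul_mul, one_mul]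
      _ = 1 := by rw [hquad]; module
  · rw [hxM]; simp [M, Matrix.trace, Fin.sum_univ_four]; linear_combination hst
  · have e : (x⁻¹).1 = adj hF M := by
      calc (x⁻¹).1 = adj hF M * x.1 * (x⁻¹).1 := by rw [hxM, hM, one_mul]
        _ = adj hF M := by rw [mul_assoc, Units.mul_inv, mul_one]
    rw [e]; simp [M, Matrix.trace, Fin.sum_univ_four, adj_apply, hsp]; linear_combination hst
  · have h0 := congr_fun (congr_fun (hxM ▸ hz) 0) 0
    have h3 := congr_fun (congr_fun (hxM ▸ hz) 2) 2
    simp [M] at h0 h3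
    rw [← h3] at h0
    rw [h0] at hst
    exact h5 (by linear_combination ht + (t + 3) * hst)

set_option maxHeartbeats 6000000 in
/-- Elements of prime order of PSU_4(p), p ≡ 3 (mod 4), and the normalizer of a 2-group of symplectic type of order 2⁶. Here `T = PSU_4(p)` for a prime `p ≡ 3 (mod 4)`, realised through `SU_4(p)`, the matrices of determinant 1 over the field `F` with `p²` elements preserving the hermitian form `f = Σ uᵢvᵢ^p`; `R` is an absolutely irreducible subgroup of the full unitary group of `f` of order 2⁶ that is a 2-group of symplectic type of exponent 4 with centre of order 4, and `H` is the subgroup of `SU_4(p)` normalizing `R` — a subgroup of type 2⁴.Sp₄(2) (maximality is not assumed). Ω is the set of cosets of `H`, so an element of `T` of prime order `r` (`x ∈ SU_4(p)` with `x^r` scalar, `x` not scalar) fixes a point of Ω exactly when some `SU_4(p)`-conjugate of `x` normalizes `R`. Let `r` be a prime dividing the index of `H`. Then every element of `T` of order `r` fixes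 a point of Ω if and only if `r = 2`, or `r = 3` and `p ≡ 1 (mod 3)`, or `r = 5` and `p ≡ ±2 (mod 5)` (`p` has multiplicative order 4 modulo 5). -/
theorem result {F : Type*} [Field F] [Fintype F] {p : ℕ} [Fact p.Prime] [CharP F p] (hF : Fintype.card F = p ^ 2) (hp4 : p % 4 = 3)
    (R : Subgroup (GL (Fin 4) F)) (hRs : Cfsg.Geo.IsSymplecticTypeGroup 2 R) (hRi : Cfsg.Geo.ActsAbsolutelyIrreducibly (Cfsg.Geo.matrixSet R))
    (hRU : R ≤ Cfsg.GU 4 F p) (hR6 : Nat.card R = 2 ^ 6) (hRZ : Nat.card (Subgroup.center R) = 4)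
    (r : ℕ) [Fact r.Prime]
    (hΩ : r ∣ (Cfsg.Geo.subgroupNormalizer R).relIndex (Cfsg.GU 4 F p ⊓ Cfsg.Geo.specialLinear (Fin 4) F)) :
    (∀ x ∈ Cfsg.GU 4 F p ⊓ Cfsg.Geo.specialLinear (Fin 4) F, (∃ z : F, ((x ^ r : GL (Fin 4) F) : Matrix (Fin 4) (Fin 4) F) = z • (1 : Matrix (Fin 4) (Fin 4) F)) →
      (∀ z : F, (x : Matrix (Fin 4) (Fin 4) F) ≠ z • (1 : Matrix (Fin 4) (Fin 4) F)) →
      ∃ g ∈ Cfsg.GU 4 F p ⊓ Cfsg.Geo.specialLinear (Fin 4) F, g⁻¹ * x * g ∈ Cfsg.Geo.subgroupNormalizer R) ↔ (r = 2 ∨ (r = 3 ∧ p % 3 = 1) ∨ (r = 5 ∧ orderOf (p : ZMod 5) = 4)) := by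
  classical
  have hp := (Fact.out : p.Prime)
  have hp3le : 3 ≤ p := by omega
  have hp2 : p ≠ 2 := by omega
  have hpodd : Odd p := Nat.odd_iff.mpr (by omega)
  have hp5ne : p ≠ 5 := by omega
  have h2 : (2 : F) ≠ 0 := by exact_mod_cast natCast_ne_zero_of_ne (F := F) (p := p) (r := 2) (Ne.symm hp2)
  have : Fact (Nat.Prime 5) := ⟨by norm_num⟩
  have h5 : (5 : F) ≠ 0 := by exact_mod_cast natCast_ne_zero_of_ne (F := F) (p := p) (r := 5) (Ne.symm hp5ne)
  have hP := pauli_of_type hpodd hRs hRi hRZ hR6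
  have hPL := pauliLike hP
  set S := Cfsg.GU 4 F p ⊓ Cfsg.Geo.specialLinear (Fin 4) F with hSdef
  set N := Cfsg.Geo.subgroupNormalizer R with hNdef
  have hmemS : ∀ g : GL (Fin 4) F, g ∈ S ↔ g ∈ Cfsg.GU 4 F p ∧ g.1.det = 1 := fun g => by
    rw [hSdef, Subgroup.mem_inf, Cfsg.Geo.specialLinear, MonoidHom.mem_ker, Units.ext_iff]
    rfl
  have hq2 : Fintype.card F % 2 = 1 := by rw [hF, Nat.pow_mod, Nat.odd_iff.mp hpodd]
  have hsqcard : p ^ 2 - 1 = (p + 1) * (p - 1) := by simpa using Nat.sq_sub_sq p 1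
  constructor
  · intro h
    have key : ∀ x ∈ Cfsg.GU 4 F p, x.1.det = 1 → (∃ z : F, (x ^ r).1 = z • 1) → (∀ z : F, x.1 ≠ z • 1) → r ≠ 2 →
        ∃ f : ℕ, f ∣ 16 ∧ f < 16 ∧ f ≡ 16 [MOD r] ∧ (r = 7 → f ≠ 2) ∧
          x.1.trace * (x⁻¹).1.trace = (f : F) ∧ r * finrank F (commutantOf x.1) ≤ 16 + (r - 1) * f := by
      intro x hx hxd hxz hns hr2
      obtain ⟨z, hz⟩ := hxz
      obtain ⟨g, -, hgx⟩ := h x ((hmemS x).mpr ⟨hx, hxd⟩) ⟨z, hz⟩ hns
      set y := g⁻¹ * x * g with hy
      have hyr : (y ^ r).1 = z • 1 := by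
        rw [hy, show (g⁻¹ * x * g) ^ r = g⁻¹ * x ^ r * g by
            rw [show g⁻¹ * x * g = g⁻¹ * x * (g⁻¹)⁻¹ by rw [inv_inv], conj_pow, inv_inv],
          Units.val_mul, Units.val_mul, hz, Matrix.mul_smul, Matrix.smul_mul, mul_one, ← Units.val_mul,
          inv_mul_cancel, Units.val_one]
      have hyns : ∀ e : F, y.1 ≠ e • 1 := fun e he => hns e (by
        rw [show x = g * y * g⁻¹ by rw [hy]; simp [mul_assoc], Units.val_mul, Units.val_mul, he, Matrix.mul_smul,
          mul_one, Matrix.smul_mul, ← Units.val_mul, mul_inv_cancel, Units.val_one])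
      obtain ⟨f, f1, f2, f3, f4, f5, -, f7⟩ := hPL.orbit_data hr2 hgx ⟨z, hyr⟩ hyns
      refine ⟨f, f1, f2, f3, f4, ?_, ?_⟩
      · have e1 : y.1.trace = x.1.trace := by
          rw [hy, Units.val_mul, Units.val_mul]; exact Matrix.trace_units_conj' g x.1
        have e2 : (y⁻¹).1.trace = (x⁻¹).1.trace := by
          rw [hy, show (g⁻¹ * x * g)⁻¹ = g⁻¹ * x⁻¹ * g by simp [mul_assoc], Units.val_mul, Units.val_mul]
          exact Matrix.trace_units_conj' g (x⁻¹).1
        rw [← e1, ← e2]; exact f5
      · rw [← S6002.commutantOf_conj_finrank x g]; exact f7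
    have fdiv : ∀ f : ℕ, f ∣ 16 → f < 16 → f = 1 ∨ f = 2 ∨ f = 4 ∨ f = 8 := fun f h1 h2 => by
      obtain ⟨k, hk, rfl⟩ := (Nat.dvd_prime_pow Nat.prime_two).mp (show f ∣ 2 ^ 4 from h1)
      interval_cases k <;> simp_all
    rcases eq_or_ne r 2 with r2 | r2
    · exact Or.inl r2
    refine Or.inr ?_
    rcases eq_or_ne r 3 with r3 | r3
    · refine Or.inl ⟨r3, ?_⟩
      subst r3
      by_contra h13
      obtain ⟨x, hx, hxd, hxr, hxs, hxc⟩ : ∃ x ∈ Cfsg.GU 4 F p, x.1.det = 1 ∧ x ^ 3 = 1 ∧ (∀ z : F, x.1 ≠ z • 1) ∧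
          9 ≤ finrank F (commutantOf x.1) := by
        rcases eq_or_ne p 3 with p3 | p3
        · subst p3
          exact S6001.exists_transvection hF
        · have hp30 : p % 3 ≠ 0 := fun h0 => p3
            ((Nat.prime_dvd_prime_iff_eq Nat.prime_three hp).mp (Nat.dvd_of_mod_eq_zero h0)).symm
          have hdvd : 3 ∣ p + 1 := by omega
          obtain ⟨u, hu⟩ := exists_prime_orderOf_dvd_card (G := Fˣ) 3 (by
            rw [Fintype.card_units, hF, hsqcard]
            exact dvd_mul_of_dvd_left hdvd _)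
          have hν : (u : F) ^ 3 = 1 := by rw [← Units.val_pow_eq_pow_val, ← hu, pow_orderOf_eq_one, Units.val_one]
          have hν1 : (u : F) ≠ 1 := fun h1 => by
            rw [Units.val_eq_one] at h1; rw [h1, orderOf_one] at hu; norm_num at hu
          have hνp : (u : F) ^ p * u = 1 := by
            obtain ⟨k, hk⟩ := hdvd
            rw [← pow_succ, hk, pow_mul, hν, one_pow]
          let D : Matrix (Fin 4) (Fin 4) F := Matrix.diagonal ![(u : F), u, u, 1]
          have hD : adj hF D * D = 1 := by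
            ext i j
            fin_cases i <;> fin_cases j <;>
              simp [D, Matrix.mul_apply, Fin.sum_univ_four, adj_apply, Unitary.zero_pow_q hF, hνp]
          obtain ⟨x, hx, hxD⟩ := exists_gu hF hD
          refine ⟨x, hx, ?_, Units.ext ?_, fun z hz => hν1 ?_, ?_⟩
          · rw [hxD, Matrix.det_diagonal, Fin.prod_univ_four]
            simp
            linear_combination hν
          · rw [Units.val_pow_eq_pow_val, hxD, Matrix.diagonal_pow, Units.val_one, ← Matrix.diagonal_one']
            congr 1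
            funext i
            fin_cases i <;> simp [hν]
          · have e0 := congr_fun (congr_fun (hxD ▸ hz) 0) 0
            have e3 := congr_fun (congr_fun (hxD ▸ hz) 3) 3
            simp [D] at e0 e3
            rw [e0, e3]
          · refine le_trans (b := ((Finset.univ : Finset (Fin 4 × Fin 4)).filter fun s => (s.1 = 3 ↔ s.2 = 3)).card)
              (by decide) (S6002.singles_le _ _ fun s hs => ?_)
            simp only [Finset.mem_filter, Finset.mem_univ, true_and] at hs
            rw [hxD]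
            obtain ⟨a, b⟩ := s
            revert hs
            fin_cases a <;> fin_cases b <;> simp <;>
              (ext i j; fin_cases i <;> fin_cases j <;> simp [D])
      obtain ⟨f, f1, f2, f3, -, -, f7⟩ := key x hx hxd ⟨1, by rw [hxr, one_smul, Units.val_one]⟩ hxs r2
      rcases fdiv f f1 f2 with rfl | rfl | rfl | rfl
      all_goals first | omega | exact absurd f3 (by decide)
    rcases eq_or_ne r 5 with r5 | r5
    · refine Or.inr ⟨r5, ?_⟩
      subst r5
      by_contra ho
      have hp50 : (p : ZMod 5) ≠ 0 := fun h0 => hp5ne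
        ((Nat.prime_dvd_prime_iff_eq (by norm_num) hp).mp ((ZMod.natCast_eq_zero_iff _ _).mp h0)).symm
      have hsq : IsSquare (p : ZMod 5) := by
        have h4 : (p : ZMod 5) ^ 4 = 1 := ZMod.pow_card_sub_one_eq_one hp50
        by_cases h2' : (p : ZMod 5) ^ 2 = 1
        · rcases sq_eq_one_iff.mp h2' with e | e
          · exact ⟨1, by rw [e, mul_one]⟩
          · exact ⟨2, e.trans (show (-1 : ZMod 5) = 2 * 2 from rfl)⟩
        · exact absurd (orderOf_eq_prime_pow (p := 2) (n := 1) h2' h4) ho
      have h2z : (2 : ZMod p) ≠ 0 := by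
        exact_mod_cast natCast_ne_zero_of_ne (F := ZMod p) (p := p) (r := 2) (Ne.symm hp2)
      obtain ⟨t0, ht0⟩ := S6002.exists_trace_five (F := ZMod p) (p := p) h2z hp2 hsq
      set t := ZMod.castHom dvd_rfl F t0 with ht
      have htt : t * t + t - 1 = 0 := by
        rw [ht, ← map_mul, ← map_add, ← map_one (ZMod.castHom dvd_rfl F), ← map_sub, ht0, map_zero]
      have htp : t ^ p = t := by rw [ht, ← map_pow, ZMod.pow_card]
      obtain ⟨x, hx, hxd, hx5, htr, htri, hxs⟩ := exists_plane hF h2 h5 htt htp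
      obtain ⟨f, f1, f2, f3, -, f5, -⟩ := key x hx hxd ⟨1, by rw [hx5, one_smul, Units.val_one]⟩ hxs r2
      rw [htr, htri] at f5
      rcases fdiv f f1 f2 with rfl | rfl | rfl | rfl
      · refine h5 ?_
        push_cast at f5
        have h34 : 3 * t + 4 = 0 := by linear_combination f5 - htt
        linear_combination (3 * t - 1) * h34 - 9 * htt
      · exact absurd f3 (by decide)
      · exact absurd f3 (by decide)
      · exact absurd f3 (by decide)
    exfalso
    have hrp := (Fact.out : r.Prime)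
    have hr7 : 7 ≤ r := by
      have := hrp.two_le
      have h4 : r ≠ 4 := fun h => by subst h; norm_num at hrp
      have h6 : r ≠ 6 := fun h => by subst h; norm_num at hrp
      omega
    have hrS : r ∣ Nat.card S := hΩ.trans (by
      rw [← (N.subgroupOf S).card_mul_index]; exact dvd_mul_left _ _)
    obtain ⟨x, hx⟩ := exists_prime_orderOf_dvd_card' r hrS
    have hxr : ((x : GL (Fin 4) F) ^ r) = 1 := by
      rw [show (x : GL (Fin 4) F) ^ r = ((x ^ r : S) : GL (Fin 4) F) from rfl, ← hx, pow_orderOf_eq_one]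
      rfl
    obtain ⟨hxU, hxd⟩ := (hmemS x.1).mp x.2
    obtain ⟨f, f1, f2, f3, f4, -⟩ := key x.1 hxU hxd ⟨1, by rw [hxr, one_smul, Units.val_one]⟩ (fun e he => by
      have hd := hxd
      rw [he, Matrix.det_smul, Matrix.det_one, mul_one, Fintype.card_fin] at hd
      have h1 := congrArg Units.val hxr
      rw [Units.val_pow_eq_pow_val, he, _root_.smul_pow, one_pow, Units.val_one] at h1
      have h1' : e ^ r = 1 := by simpa using congr_fun (congr_fun h1 0) 0
      have : orderOf e ∣ Nat.gcd 4 r :=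
        Nat.dvd_gcd (orderOf_dvd_of_pow_eq_one hd) (orderOf_dvd_of_pow_eq_one h1')
      rw [show Nat.gcd 4 r = 1 from Nat.Coprime.pow_left 2 ((Nat.coprime_primes Nat.prime_two hrp).mpr r2.symm),
        Nat.dvd_one, _root_.orderOf_eq_one_iff] at this
      subst this
      have : x = 1 := Subtype.ext (Units.ext (by rw [he, one_smul]; rfl))
      rw [this, orderOf_one] at hx
      omega) r2
    have hd : r ∣ 16 - f := (Nat.modEq_iff_dvd' f2.le).mp f3
    have hmem : r ∈ Nat.divisors (16 - f) := Nat.mem_divisors.mpr ⟨hd, by omega⟩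
    rcases fdiv f f1 f2 with rfl | rfl | rfl | rfl
    · rw [show Nat.divisors (16 - 1) = {1, 3, 5, 15} by decide] at hmem
      simp only [Finset.mem_insert, Finset.mem_singleton] at hmem
      rcases hmem with h | h | h | h <;> subst h <;> norm_num at *
    · rw [show Nat.divisors (16 - 2) = {1, 2, 7, 14} by decide] at hmem
      simp only [Finset.mem_insert, Finset.mem_singleton] at hmem
      rcases hmem with h | h | h | h <;> subst h <;> norm_num at *
    · rw [show Nat.divisors (16 - 4) = {1, 2, 3, 4, 6, 12} by decide] at hmem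
      simp only [Finset.mem_insert, Finset.mem_singleton] at hmem
      rcases hmem with h | h | h | h | h | h <;> subst h <;> norm_num at *
    · rw [show Nat.divisors (16 - 8) = {1, 2, 4, 8} by decide] at hmem
      simp only [Finset.mem_insert, Finset.mem_singleton] at hmem
      rcases hmem with h | h | h | h <;> subst h <;> norm_num at *
  · intro hr x hxS ⟨z, hz⟩ hns
    obtain ⟨hxU, hxd⟩ := (hmemS x).mp hxS
    obtain ⟨a, b, c, d, C₀, hf₀⟩ := hP.exists_frame
    obtain ⟨C, hCU, hf⟩ := exists_unitary_frame hF h2 hRU hf₀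
    obtain ⟨ι, hι⟩ := hP.sqrt_neg_one
    have hii : ι * ι = -1 := by rw [← pow_two, hι]
    have hι0 : ι ≠ 0 := fun h0 => by simp [h0] at hii
    have hc : ι ^ p = -ι := pow_i hii hp4
    have hι4 : ι ^ 4 = 1 := by rw [show (4 : ℕ) = 2 * 2 from rfl, pow_mul, hι, neg_one_sq]
    have hm14 : (-1 : F) ^ 4 = 1 := by norm_num
    have mkN : ∀ (w : GL (Fin 4) F) (PA PB PC PD : Matrix (Fin 4) (Fin 4) F),
        InFrame R C PA → w.1 * pA = PA * w.1 → InFrame R C PB → w.1 * pB = PB * w.1 →
        InFrame R C PC → w.1 * pC = PC * w.1 → InFrame R C PD → w.1 * pD = PD * w.1 → C * w * C⁻¹ ∈ N := by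
      intro w PA PB PC PD h1 h2 h3 h4 h5 h6 h7 h8
      refine mem_normalizer_frame hf (W := w.1) ?_ h1 h2 h3 h4 h5 h6 h7 h8
      rw [← Units.val_mul, inv_mul_cancel_right, Units.val_mul]
    have iA : InFrame R C pA := ⟨a, hf.ha, hf.haC⟩
    have iB : InFrame R C pB := ⟨b, hf.hb, hf.hbC⟩
    have iC : InFrame R C pC := ⟨c, hf.hc, hf.hcC⟩
    have iD : InFrame R C pD := ⟨d, hf.hd, hf.hdC⟩
    have hscalN : ∀ u : Fˣ, scalarUnit u ∈ N := fun u => mem_normalizer_of_conj fun x hx => by
      rw [← scalar_central, mul_inv_cancel_right]; exact hx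
    have finish' : ∀ (ζ : Fˣ) (y w : GL (Fin 4) F), x = scalarUnit ζ * y → y ∈ Cfsg.GU 4 F p → w ∈ Cfsg.GU 4 F p →
        C * w * C⁻¹ ∈ N → (∃ Q : Matrix (Fin 4) (Fin 4) F, Q.det ≠ 0 ∧ y.1 * Q = Q * w.1) →
        (∀ μ : F, μ ^ (p + 1) = 1 → ∃ z ∈ Cfsg.GU 4 F p, z.1 * w.1 = w.1 * z.1 ∧ z.1.det = μ) →
        ∃ g ∈ S, g⁻¹ * x * g ∈ N := by
      intro ζ y w hx hy hw hwN hQ hz
      obtain ⟨g, hg, hgd, e⟩ := conj_su hF hy hw hCU hQ hz
      refine ⟨g, (hmemS g).mpr ⟨hg, hgd⟩, ?_⟩
      rw [hx, show g⁻¹ * (scalarUnit ζ * y) * g = scalarUnit ζ * (g⁻¹ * y * g) by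
        rw [← mul_assoc g⁻¹, scalar_central]; simp only [mul_assoc], e]
      exact N.mul_mem (hscalN ζ) hwN
    have hxadj := (mem_GU hF).mp hxU
    rw [Units.val_pow_eq_pow_val] at hz
    have hz4 : z ^ 4 = 1 := by
      have h := congrArg Matrix.det hz
      rw [Matrix.det_pow, hxd, one_pow, Matrix.det_smul, Matrix.det_one, mul_one, Fintype.card_fin] at h
      exact h.symm
    have hz0 : z ≠ 0 := fun h0 => by rw [h0, zero_pow (by norm_num)] at hz4; exact zero_ne_one hz4
    have hzp : z ^ (p + 1) = 1 := by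
      obtain ⟨k, hk⟩ : 4 ∣ p + 1 := by omega
      rw [hk, pow_mul, hz4, one_pow]
    -- division by a root
    have divide : ∀ ζ : F, ζ ^ r = z → ∃ (u : Fˣ) (y : GL (Fin 4) F), (u : F) = ζ ∧ x = scalarUnit u * y ∧
        y.1 ^ r = 1 ∧ (∀ e : F, y.1 ≠ e • 1) ∧ adj hF y.1 * y.1 = (ζ ^ (p + 1))⁻¹ • 1 ∧ y.1.det = (ζ ^ 4)⁻¹ := by
      intro ζ hζ
      have hζ0 : ζ ≠ 0 := fun h0 => hz0 (by rw [← hζ, h0, zero_pow (Fact.out : r.Prime).ne_zero])
      set u := Units.mk0 ζ hζ0
      refine ⟨u, (scalarUnit u)⁻¹ * x, rfl, (mul_inv_cancel_left _ _).symm, ?_⟩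
      have hy : ((scalarUnit u)⁻¹ * x).1 = ζ⁻¹ • x.1 := by
        rw [Units.val_mul, show (scalarUnit u)⁻¹ = scalarUnit u⁻¹ from (map_inv (Aschbacher.sc (Fin 4)) u).symm,
          scalarUnit_val, Units.val_inv_eq_inv_val, Units.val_mk0, Matrix.smul_mul, one_mul]
      refine ⟨?_, fun e he => hns (ζ * e) ?_, ?_, ?_⟩
      · rw [hy, _root_.smul_pow, hz, smul_smul, ← hζ, ← mul_pow, inv_mul_cancel₀ hζ0, one_pow, one_smul]
      · rw [hy] at he
        rw [mul_smul, ← he, smul_smul, mul_inv_cancel₀ hζ0, one_smul]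
      · rw [hy, adj_smul, Matrix.smul_mul, Matrix.mul_smul, hxadj, smul_smul, ← pow_succ, inv_pow]
      · rw [hy, Matrix.det_smul, hxd, mul_one, Fintype.card_fin, inv_pow]
    have odd_root : Odd r → ∃ ζ : F, ζ ^ r = z ∧ ζ ^ (p + 1) = 1 := fun hodd => by
      refine ⟨z ^ r, ?_, by rw [← pow_mul, mul_comm, pow_mul, hzp, one_pow]⟩
      rw [← pow_mul]
      obtain ⟨k, hk⟩ := hodd
      rw [hk, show (2 * k + 1) * (2 * k + 1) = 4 * (k * k + k) + 1 by ring, pow_succ, pow_mul, hz4, one_pow, one_mul]
    have hTU : ∀ (c : F) (M : Matrix (Fin 4) (Fin 4) F), adj hF M * M = (2 : F) • 1 → c ^ p * c * 2 = 1 →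
        ∃ g ∈ Cfsg.GU 4 F p, g.1 = c • M := fun c M hM hc => exists_gu hF (adj_smul_mul hF hM hc)
    rcases hr with hr | ⟨hr, hp3⟩ | ⟨hr, ho⟩
    · subst hr
      obtain ⟨ζ, hζ⟩ : IsSquare z := by
        refine (FiniteField.isSquare_iff (fun h => h2 (by have := ringChar.eq_iff.mp h; exact_mod_cast CharP.cast_eq_zero F 2)) hz0).mpr ?_
        have h4 : 4 ∣ Fintype.card F / 2 := by
          obtain ⟨m, hm⟩ : ∃ m, p = 4 * m + 3 := ⟨p / 4, by omega⟩
          have : p ^ 2 = 2 * (4 * (2 * m * m + 3 * m + 1)) + 1 := by rw [hm]; ring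
          rw [hF, this]
          omega
        obtain ⟨k, hk⟩ := h4
        rw [hk, pow_mul, hz4, one_pow]
      have hζ2 : ζ ^ 2 = z := by rw [pow_two, ← hζ]
      obtain ⟨u, y, hu, hxy, hy, hyns, hyadj, hyd⟩ := divide ζ hζ2
      have hr1 : 2 ∣ Fintype.card F - 1 := by omega
      obtain ⟨B, e, hB, he, hyB⟩ := exists_diag (r := 2) hr1 (by exact_mod_cast h2) y.1 (by
        rw [← pow_toLin', hy, Matrix.toLin'_one]; rfl)
      have he' : ∀ i, e i = 1 ∨ e i = -1 := fun i => sq_eq_one_iff.mp (he i)
      have hζ1 : ζ ^ (p + 1) = 1 := by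
        have h : (ζ ^ (p + 1)) * (ζ ^ (p + 1)) = 1 := by
          rw [← pow_add, ← two_mul, pow_mul, hζ2, hzp]
        refine (mul_self_eq_one_iff.mp h).resolve_right fun hm => ?_
        rw [hm, inv_neg, inv_one, neg_one_smul] at hyadj
        have hadjy : adj hF y.1 = -y.1 := by
          calc adj hF y.1 = adj hF y.1 * y.1 * y.1 := by rw [mul_assoc, ← pow_two, hy, mul_one]
            _ = -y.1 := by rw [hyadj, neg_one_mul]
        have hdet : y.1.det = -1 := by
          have hz2 : z * z = -1 := by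
            refine (mul_self_eq_one_iff.mp (show z * z * (z * z) = 1 by linear_combination hz4)).resolve_left fun h1 => ?_
            refine h2 ?_
            obtain ⟨k, hk⟩ : 4 ∣ p + 1 := by omega
            have : ζ ^ (p + 1) = 1 := by
              rw [hk, show 4 * k = 2 * (2 * k) by ring, pow_mul, hζ2, pow_mul, pow_two, h1, one_pow]
            rw [hm] at this
            linear_combination -this
          rw [hyd, show ζ ^ 4 = z * z by rw [← hζ2]; ring, hz2, inv_neg, inv_one]
        have htr : ∑ i, e i = 0 := by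
          have h1 : (adj hF y.1).trace = (y.1.trace) ^ p := by
            show (∑ i, (adj hF y.1) i i) = (∑ i, y.1 i i) ^ p
            rw [Unitary.sum_pow_q hF]
            rfl
          rw [hadjy, Matrix.trace_neg, trace_eq_of_model hB hyB, Matrix.trace_diagonal, Unitary.sum_pow_q hF] at h1
          have h2' : ∑ i, e i ^ p = ∑ i, e i := Finset.sum_congr rfl fun i _ => by
            rcases he' i with h | h <;> rw [h]
            · exact one_pow _
            · rw [Unitary.neg_pow_q hF, one_pow]
          rw [h2'] at h1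
          exact (mul_eq_zero.mp (show (2 : F) * ∑ i, e i = 0 by linear_combination -h1)).resolve_left h2
        have hprod : ∏ i, e i = -1 := by
          have h := congrArg Matrix.det hyB
          rw [Matrix.det_mul, Matrix.det_mul, Matrix.det_diagonal, hdet, mul_comm] at h
          exact (mul_left_cancel₀ hB h).symm
        rw [Fin.sum_univ_four] at htr
        rw [Fin.prod_univ_four] at hprod
        have h4' : (4 : F) ≠ 0 := by rw [show (4 : F) = 2 * 2 by norm_num]; exact mul_ne_zero h2 h2
        rcases he' 0 with a0 | a0 <;> rcases he' 1 with a1 | a1 <;> rcases he' 2 with a2 | a2 <;>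
          rcases he' 3 with a3 | a3 <;> rw [a0, a1, a2, a3] at htr hprod <;>
          first
            | exact h2 (by linear_combination htr)
            | exact h2 (by linear_combination -htr)
            | exact h2 (by linear_combination hprod)
      rw [hζ1, inv_one, one_smul] at hyadj
      have hyU : y ∈ Cfsg.GU 4 F p := (mem_GU hF).mpr hyadj
      have hne : ∃ i j, e i ≠ e j := by
        by_contra hall
        push Not at hall
        refine hyns (e 0) ?_
        have h1 : Matrix.diagonal e = e 0 • (1 : Matrix (Fin 4) (Fin 4) F) := by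
          rw [show e = fun _ => e 0 from funext fun i => hall i 0, Matrix.smul_one_eq_diagonal]
        rw [h1, Matrix.mul_smul, mul_one] at hyB
        have hu : IsUnit B := (Matrix.isUnit_iff_isUnit_det B).mpr (isUnit_iff_ne_zero.mpr hB)
        exact hu.mul_right_cancel (hyB.trans (by rw [Matrix.smul_mul, one_mul]))
      obtain ⟨σ, t, ht, hσ⟩ : ∃ (σ : Equiv.Perm (Fin 4)) (t : F), (t = 1 ∨ t = -1) ∧
          ((∀ i, e (σ i) = t * ![1, 1, -1, -1] i) ∨ (∀ i, e (σ i) = t * ![1, 1, -1, 1] i)) := by
        have hkey : ∀ f : Fin 4 → Bool, (∃ i j, f i ≠ f j) → ∃ (σ : Equiv.Perm (Fin 4)) (t : Bool),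
            (∀ i, f (σ i) = xor t (![true, true, false, false] i)) ∨ (∀ i, f (σ i) = xor t (![true, true, false, true] i)) := by
          decide +kernel
        let ev : Bool → F := fun b => bif b then 1 else -1
        let f : Fin 4 → Bool := fun i => decide (e i = 1)
        have hne1 : (-1 : F) ≠ 1 := fun h => h2 (by linear_combination -h)
        have hev : ∀ i, e i = ev (f i) := fun i => by
          rcases he' i with h | h <;> simp [f, ev, h, hne1]
        have hxor : ∀ s b : Bool, ev (xor s b) = (bif s then -1 else 1) * ev b := fun s b => by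
          cases s <;> cases b <;> simp [ev]
        obtain ⟨σ, t, h⟩ := hkey f (by
          obtain ⟨i, j, hij⟩ := hne
          exact ⟨i, j, fun h => hij (by rw [hev, hev, h])⟩)
        refine ⟨σ, bif t then -1 else 1, by cases t <;> simp, h.imp (fun h i => ?_) (fun h i => ?_)⟩
        all_goals
          rw [hev, h i, hxor]
          fin_cases i <;> simp [ev]
      have htp : t ^ p * t = 1 := by
        rcases ht with rfl | rfl
        · simp
        · rw [Unitary.neg_pow_q hF, one_pow, neg_mul_neg, one_mul]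
      have ht4 : t ^ 4 = 1 := by rcases ht with rfl | rfl <;> norm_num
      rcases hσ with h | h
      · obtain ⟨w, hw, hwv⟩ := exists_gu hF (show adj hF (t • pA) * (t • pA) = 1 by
          rw [adj_smul, Matrix.smul_mul, Matrix.mul_smul, smul_smul, htp, one_smul]
          ext i j
          fin_cases i <;> fin_cases j <;>
            simp [adj_apply, Unitary.zero_pow_q hF, Unitary.neg_pow_q hF, Matrix.mul_apply, Fin.sum_univ_four])
        obtain ⟨Q, hQ, hyQ⟩ := exists_perm_model hB hyB σ h
        refine finish' u y w hxy hyU hw (mkN w _ _ _ _ iA ?_ (iB.smul hP hm14) ?_ iC ?_ iD ?_)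
          ⟨Q, hQ, ?_⟩ ?_
        · rw [hwv, Matrix.smul_mul, Matrix.mul_smul]
        · rw [hwv, Matrix.smul_mul, Matrix.mul_smul, Matrix.smul_mul]
          congr 1
          ext i j
          fin_cases i <;> fin_cases j <;> simp [Matrix.diagonal_mul, Matrix.vecMul_diagonal]
        · rw [hwv, Matrix.smul_mul, Matrix.mul_smul, Matrix.diagonal_mul_diagonal, Matrix.diagonal_mul_diagonal]
          congr 2
          funext i
          ring
        · rw [hwv, Matrix.smul_mul, Matrix.mul_smul]
          congr 1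
          ext i j
          fin_cases i <;> fin_cases j <;> simp [Matrix.mul_diagonal, Matrix.diagonal_mul]
        · rw [hwv, hyQ, ← Matrix.diagonal_smul]
          rfl
        · refine centraliser_det_corner hF fun μ => ?_
          rw [hwv, Matrix.mul_smul, Matrix.smul_mul, Matrix.diagonal_mul_diagonal, Matrix.diagonal_mul_diagonal]
          congr 2
          funext i
          ring
      · obtain ⟨w, hw, hwv⟩ := exists_gu hF (show adj hF (t • W2) * (t • W2) = 1 by
          rw [adj_smul, Matrix.smul_mul, Matrix.mul_smul, smul_smul, htp, one_smul]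
          exact (adj_W1 hF hii hc).2.2.1)
        obtain ⟨Q, hQ, hyQ⟩ := exists_perm_model hB hyB σ h
        let Qs : Matrix (Fin 4) (Fin 4) F := !![1, 0, 0, 0; 0, 1, 1, 0; 0, 1, -1, 0; 0, 0, 0, 1]
        have hQs : (t • (W2 : Matrix (Fin 4) (Fin 4) F)) * Qs = Qs * Matrix.diagonal (fun i => t * ![1, 1, -1, 1] i) := by
          ext i j
          fin_cases i <;> fin_cases j <;> simp [W2, Qs, Matrix.mul_apply, Fin.sum_univ_four]
        have hQsd : Qs.det ≠ 0 := by
          rw [Matrix.det_succ_row_zero, Fin.sum_univ_four]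
          simp [Qs, Matrix.det_fin_three, Fin.succAbove]
          intro h0
          exact h2 (by linear_combination -h0)
        refine finish' u y w hxy hyU hw (mkN w _ _ _ _ iC ?_ iD ?_ iA ?_ iB ?_)
          (conj_of_models hQ hQsd hyQ (hwv ▸ hQs)) ?_
        iterate 4
          · rw [hwv, Matrix.smul_mul, Matrix.mul_smul]
            congr 1
            ext i j
            fin_cases i <;> fin_cases j <;> simp [W2, Matrix.mul_apply, Fin.sum_univ_four, Matrix.diagonal]
        · refine centraliser_det_corner hF fun μ => ?_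
          rw [hwv, Matrix.mul_smul, Matrix.smul_mul]
          congr 1
          ext i j
          fin_cases i <;> fin_cases j <;> simp [W2, Matrix.mul_apply, Matrix.diagonal]
    · subst hr
      have hp7 : 7 ≤ p := by omega
      obtain ⟨ζ, hζ, hζ1⟩ := odd_root (by decide)
      obtain ⟨u, y, hu, hxy, hy, hyns, hyadj, -⟩ := divide ζ hζ
      rw [hζ1, inv_one, one_smul] at hyadj
      have hyU : y ∈ Cfsg.GU 4 F p := (mem_GU hF).mpr hyadj
      have hy3 : y.1 * y.1 * y.1 = 1 := by rw [← pow_two, ← pow_succ]; exact hy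
      obtain ⟨v, hv⟩ := exists_prime_orderOf_dvd_card (G := Fˣ) 3 (by
        rw [Fintype.card_units, hF, hsqcard]
        exact dvd_mul_of_dvd_right (by omega) _)
      obtain ⟨ω, hωdef⟩ : ∃ ω : F, ω = (v : F) := ⟨_, rfl⟩
      have hω3 : ω ^ 3 = 1 := by rw [hωdef, ← Units.val_pow_eq_pow_val, ← hv, pow_orderOf_eq_one, Units.val_one]
      have hω1 : ω ≠ 1 := fun h1 => by
        rw [hωdef, Units.val_eq_one] at h1; rw [h1, orderOf_one] at hv; norm_num at hv
      have hω : ω * ω + ω + 1 = 0 :=
        (mul_eq_zero.mp (show (ω - 1) * (ω * ω + ω + 1) = 0 by linear_combination hω3)).resolve_left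
          (sub_ne_zero.mpr hω1)
      have hωp : ω ^ p = ω := by
        conv_lhs => rw [← Nat.div_add_mod p 3, hp3, pow_add, pow_mul, hω3, one_pow, one_mul, pow_one]
      have h3F : (3 : F) ≠ 0 := by exact_mod_cast natCast_ne_zero_of_ne (F := F) (p := p) (r := 3) (by omega)
      obtain ⟨α, hα⟩ : ∃ α : F, α = -(1 + ι) / 2 := ⟨_, rfl⟩
      have hα2 : 2 * α = -(1 + ι) := by rw [hα]; field_simp
      have hαp2 : 2 * α ^ p = -(1 - ι) := by
        have h := congrArg (· ^ p) hα2
        rw [mul_pow, Unitary.neg_pow_q hF, Unitary.add_pow_q hF, one_pow, hc,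
          show (2 : F) = 1 + 1 by norm_num, Unitary.add_pow_q hF, one_pow] at h
        linear_combination h
      have hαα : α ^ p * α * 2 = 1 := by
        refine mul_left_cancel₀ h2 ?_
        linear_combination (2 * α) * hαp2 - (1 - ι) * hα2 - hii
      obtain ⟨hW1, hW1', -, -⟩ := adj_W1 hF hii hc
      obtain ⟨T, hT, hTv⟩ := hTU α _ hW1 hαα
      obtain ⟨T', hT', hTv'⟩ := hTU α _ hW1' hαα
      obtain ⟨hc1, hc1'⟩ := cube_T h2 hii
      rw [← hα] at hc1 hc1'
      have hTN : C * T * C⁻¹ ∈ N := by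
        refine mkN T pB (ι • (pA * pB)) pC pD iB ?_ ((iA.mul iB).smul hP hι4) ?_ iC ?_ iD ?_
        · rw [hTv, Matrix.smul_mul, Matrix.mul_smul]
          congr 1
          ext i j
          fin_cases i <;> fin_cases j <;> simp [Matrix.mul_apply, Fin.sum_univ_four, Matrix.diagonal]
        · rw [hTv, Matrix.smul_mul, Matrix.mul_smul]
          congr 1
          ext i j
          fin_cases i <;> fin_cases j <;> simp [Matrix.mul_apply, Fin.sum_univ_four, Matrix.diagonal, hii]
        all_goals
          rw [hTv, Matrix.smul_mul, Matrix.mul_smul]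
          congr 1
          ext i j
          fin_cases i <;> fin_cases j <;> simp [Matrix.mul_apply, Fin.sum_univ_four, Matrix.diagonal]
      have hTN' : C * T' * C⁻¹ ∈ N := by
        refine mkN T' pA pB pD (ι • (pC * pD)) iA ?_ iB ?_ iD ?_ ((iC.mul iD).smul hP hι4) ?_
        iterate 3
          · rw [hTv', Matrix.smul_mul, Matrix.mul_smul]
            congr 1
            ext i j
            fin_cases i <;> fin_cases j <;> simp [Matrix.mul_apply, Fin.sum_univ_four, Matrix.diagonal]
        · rw [hTv', Matrix.smul_mul, Matrix.mul_smul]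
          congr 1
          ext i j
          fin_cases i <;> fin_cases j <;> simp [Matrix.mul_apply, Fin.sum_univ_four, Matrix.diagonal, hii]
      have htrT : T.1.trace = -2 := by
        rw [hTv, Matrix.trace_smul]
        simp [Matrix.trace, Fin.sum_univ_four]
        linear_combination (1 - ι) * hα2 + hii
      have hTT : (T * T').1 = (α * α) • (W1 ι * W1' ι) := by
        rw [Units.val_mul, hTv, hTv', Matrix.smul_mul, Matrix.mul_smul, smul_smul]
      have htrTT : (T * T').1.trace = 1 := by
        rw [hTT, Matrix.trace_smul]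
        simp [Matrix.trace, Fin.sum_univ_four]
        refine mul_left_cancel₀ (mul_ne_zero h2 h2) ?_
        linear_combination ((1 - ι) * (1 - ι) * (2 * α - (1 + ι))) * hα2 + (ι * ι - 3) * hii
      have hcubTT : (T * T').1 * (T * T').1 * (T * T').1 = 1 := by
        have hcm : Commute (W1 ι) (W1' ι) := by
          show W1 ι * W1' ι = W1' ι * W1 ι
          ext i j
          fin_cases i <;> fin_cases j <;> simp [Matrix.mul_apply, Fin.sum_univ_four]
        have hTc : Commute T.1 T'.1 := by rw [hTv, hTv']; exact (hcm.smul_left α).smul_right α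
        rw [Units.val_mul, ← pow_two, ← pow_succ, hTc.mul_pow, pow_succ, pow_two, pow_succ, pow_two, hTv, hTv', hc1,
          hc1', one_mul]
      have hα0 : α ≠ 0 := fun h0 => by
        rw [h0, mul_zero] at hα2
        exact h2 (by linear_combination hii + (1 - ι) * hα2)
      have hnsT : ∀ e : F, T.1 ≠ e • 1 := fun e he => hα0 (by
        have := congr_fun (congr_fun (hTv.symm.trans he) 2) 0
        simpa using this)
      have hnsTT : ∀ e : F, (T * T').1 ≠ e • 1 := fun e he => mul_ne_zero hα0 hα0 (by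
        have := congr_fun (congr_fun (hTT.symm.trans he) 1) 0
        simpa [Matrix.mul_apply, Fin.sum_univ_four] using this)
      obtain ⟨Q, hQ, hmodel⟩ := exists_model_three hF hp3 hp7 hω hyadj hy3 hyns
      have h12 : (1 : F) ≠ -2 := fun h => h3F (by linear_combination h)
      have hmT := exists_model_three hF hp3 hp7 hω ((mem_GU hF).mp hT) (by rw [hTv]; exact hc1) hnsT
      have hTTU : T * T' ∈ Cfsg.GU 4 F p := mul_mem hT hT'
      have hmTT := exists_model_three hF hp3 hp7 hω ((mem_GU hF).mp hTTU) hcubTT hnsTT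
      rcases hmodel with ⟨hyQ, -⟩ | ⟨hyQ, -⟩
      · obtain ⟨P, hPd, ⟨hP', -⟩ | ⟨-, htr'⟩⟩ := hmTT
        · refine finish' u y (T * T') hxy hyU hTTU ?_ (conj_of_models hQ hPd hyQ hP') ?_
          · rw [show C * (T * T') * C⁻¹ = C * T * C⁻¹ * (C * T' * C⁻¹) by simp [mul_assoc]]
            exact N.mul_mem hTN hTN'
          · rw [hTT]
            exact centraliser_det_TT hF h2 (α * α)
        · exact absurd (htrTT.symm.trans htr') h12
      · obtain ⟨P, hPd, ⟨-, htr'⟩ | ⟨hP', -⟩⟩ := hmT
        · exact absurd (htr'.symm.trans htrT) h12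
        · refine finish' u y T hxy hyU hT hTN (conj_of_models hQ hPd hyQ hP') ?_
          rw [hTv, hα]
          exact centraliser_det_T hF h2 hii hω hωp h3F hc
    · subst hr
      obtain ⟨ζ, hζ, hζ1⟩ := odd_root (by decide)
      obtain ⟨u, y, hu, hxy, hy, hyns, hyadj, -⟩ := divide ζ hζ
      rw [hζ1, inv_one, one_smul] at hyadj
      have hyU : y ∈ Cfsg.GU 4 F p := (mem_GU hF).mpr hyadj
      have hnd : ¬ 5 ∣ Fintype.card F - 1 := by
        intro hd
        rw [← orderOf_card_eq_one_iff, hF, Nat.cast_pow, _root_.orderOf_eq_one_iff] at hd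
        have := orderOf_dvd_of_pow_eq_one hd
        rw [ho] at this
        norm_num at this
      -- a square root of five
      let φ := ZMod.castHom dvd_rfl F (n := p)
      have h5z : (5 : ZMod p) ≠ 0 := fun h0 => h5 (by
        have := congrArg φ h0
        rwa [map_ofNat, map_zero] at this)
      have hp2d : p / 2 * 2 = p - 1 := by omega
      obtain ⟨s, hs⟩ : IsSquare (5 : F) := by
        refine (FiniteField.isSquare_iff (fun h => h2 (by have := ringChar.eq_iff.mp h; exact_mod_cast CharP.cast_eq_zero F 2)) h5).mpr ?_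
        have h51 : (5 : F) ^ (p - 1) = 1 := by
          have := congrArg φ (ZMod.pow_card_sub_one_eq_one h5z)
          rwa [map_pow, map_ofNat, map_one] at this
        have : Fintype.card F / 2 = (p - 1) * (p / 2 + 1) := by
          obtain ⟨m, hm⟩ : ∃ m, p = 2 * m + 1 := ⟨p / 2, by omega⟩
          have e : p ^ 2 = 2 * (2 * m * (m + 1)) + 1 := by rw [hm]; ring
          rw [hF, e, show p - 1 = 2 * m by omega, show p / 2 = m by omega]
          omega
        rw [this, pow_mul, h51, one_pow]
      set t := (-1 + s) / 2 with htdef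
      have ht : 2 * t = -1 + s := by rw [htdef]; field_simp
      have htt : t * t + t - 1 = 0 := by
        refine (mul_eq_zero.mp (show (4 : F) * (t * t + t - 1) = 0 by
          linear_combination (2 * t + 1 + s) * ht - hs)).resolve_left ?_
        rw [show (4 : F) = 2 * 2 by norm_num]; exact mul_ne_zero h2 h2
      have hs0 : s ≠ 0 := fun h0 => h5 (by rw [hs, h0, mul_zero])
      have hne : t ≠ -1 - t := fun h => hs0 (by linear_combination h - ht)
      have htroot : t ^ p * t ^ p + t ^ p - 1 = 0 := by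
        have h := congrArg (· ^ p) htt
        simp only [Unitary.sub_pow_q hF, Unitary.add_pow_q hF, mul_pow, one_pow, Unitary.zero_pow_q hF] at h
        exact h
      have htp : t ^ p = -1 - t := by
        have h : (t ^ p - t) * (t ^ p - (-1 - t)) = 0 := by linear_combination htroot - htt
        refine sub_eq_zero.mp ((mul_eq_zero.mp h).resolve_left fun h0 => ?_)
        have htpt : t ^ p = t := sub_eq_zero.mp h0
        have hsp : s ^ p = s := by
          have := congrArg (· ^ p) ht
          simp only [mul_pow, Unitary.add_pow_q hF, Unitary.neg_pow_q hF, one_pow, htpt,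
            show (2 : F) ^ p = 2 by rw [show (2 : F) = 1 + 1 by norm_num, Unitary.add_pow_q hF, one_pow]] at this
          linear_combination ht - this
        have h51 : (5 : ZMod p) ^ (p / 2) = 1 := by
          refine φ.injective ?_
          rw [map_pow, map_ofNat, map_one, hs, ← pow_two, ← pow_mul, mul_comm, hp2d]
          exact (Unitary.fixed_iff hF hs0).mp hsp
        have hsq5 : IsSquare ((5 : ℕ) : ZMod p) := by
          exact_mod_cast (ZMod.euler_criterion p h5z).mpr h51
        have hsqp : IsSquare (p : ZMod 5) :=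
          (ZMod.exists_sq_eq_prime_iff_of_mod_four_eq_one (p := 5) (q := p) (by norm_num) hp2).mpr hsq5
        have hp50 : (p : ZMod 5) ≠ 0 := fun h0 => hp5ne
          ((Nat.prime_dvd_prime_iff_eq (by norm_num) hp).mp ((ZMod.natCast_eq_zero_iff _ _).mp h0)).symm
        have h := (ZMod.euler_criterion 5 hp50).mp hsqp
        have := orderOf_dvd_of_pow_eq_one h
        rw [ho] at this
        norm_num at this
      have ht2 : t ≠ 2 ∧ -1 - t ≠ 2 :=
        ⟨fun h => h5 (by linear_combination htt - (t + 3) * h), fun h => h5 (by linear_combination htt + (t - 2) * h)⟩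
      have hdisc : t * t - 4 ≠ 0 := by
        intro h
        rcases mul_eq_zero.mp (show (t - 2) * (t + 2) = 0 by linear_combination h) with h' | h'
        · exact ht2.1 (sub_eq_zero.mp h')
        · exact one_ne_zero (show (1 : F) = 0 by linear_combination htt - (t - 1) * h')
      -- the element of the normaliser
      set e5 : F := 4 + 4 * ι with he5
      have h4F : (4 : F) ≠ 0 := by rw [show (4 : F) = 2 * 2 by norm_num]; exact mul_ne_zero h2 h2
      have he50 : e5 ≠ 0 := by
        intro h0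
        have hι1 : ι = -1 := mul_left_cancel₀ h4F (by linear_combination h0)
        rw [hι1] at hii
        exact h2 (by linear_combination hii)
      let W52 : Matrix (Fin 4) (Fin 4) F := !![1, -1, ι, ι; -1, -1, -ι, ι; 1, 1, -ι, ι; 1, -1, -ι, -ι]
      let W54 : Matrix (Fin 4) (Fin 4) F :=
        !![2 + 2 * ι, 0, 2 + 2 * ι, 0; 0, 2 - 2 * ι, 0, 2 - 2 * ι; 0, -2 - 2 * ι, 0, 2 + 2 * ι; 2 - 2 * ι, 0, -2 + 2 * ι, 0]
      have hW52 : W5 ι * W5 ι = W52 := by
        ext i j; fin_cases i <;> fin_cases j <;> simp [W5, W52, Matrix.mul_apply, Fin.sum_univ_four, hii]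
      have hW54 : W52 * W52 = W54 := by
        ext i j; fin_cases i <;> fin_cases j <;> simp [W52, W54, Matrix.mul_apply, Fin.sum_univ_four, hii] <;>
          ring1
      have hW55 : W5 ι ^ 5 = e5 • 1 := by
        rw [show W5 ι ^ 5 = (W5 ι * W5 ι) * (W5 ι * W5 ι) * W5 ι by simp only [pow_succ, pow_zero, one_mul, mul_assoc],
          hW52, hW54]
        ext i j; fin_cases i <;> fin_cases j <;> simp [W5, W54, e5, Matrix.mul_apply, Fin.sum_univ_four] <;>
          first | ring1 | linear_combination (4 : F) * hii | linear_combination (-4 : F) * hii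
      obtain ⟨θ, hθ⟩ := exists_root (r := 5) hnd e5
      have hθ0 : θ ≠ 0 := fun h0 => he50 (by rw [← hθ, h0, zero_pow (by norm_num)])
      have hθn : θ⁻¹ ^ p * θ⁻¹ * 2 = 1 := by
        have he5p : e5 ^ p = 4 - 4 * ι := by
          have h4p : (4 : F) ^ p = 4 := by
            rw [show (4 : F) = (1 + 1) + (1 + 1) by norm_num, Unitary.add_pow_q hF, Unitary.add_pow_q hF, one_pow]
          rw [he5, Unitary.add_pow_q hF, mul_pow, hc, h4p]
          ring
        have h5' : (θ⁻¹ ^ p * θ⁻¹ * 2) ^ 5 = 1 := by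
          rw [mul_pow, mul_pow, inv_pow, inv_pow, ← pow_mul, mul_comm p 5, pow_mul, hθ, inv_pow, he5p, hθ,
            ← mul_inv, inv_mul_eq_iff_eq_mul₀ (mul_ne_zero (by rw [← he5p]; exact pow_ne_zero _ he50) he50), he5]
          linear_combination (16 : F) * hii
        by_contra hne1
        refine hnd ?_
        have h0 : θ⁻¹ ^ p * θ⁻¹ * 2 ≠ 0 := mul_ne_zero (mul_ne_zero (pow_ne_zero _ (inv_ne_zero hθ0)) (inv_ne_zero hθ0)) h2
        rw [← Fintype.card_units, ← orderOf_eq_prime (x := Units.mk0 _ h0) (p := 5) (Units.ext (by simpa using h5'))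
          (fun h => hne1 (by simpa using congrArg Units.val h))]
        exact orderOf_dvd_card
      obtain ⟨w, hw, hwv⟩ := hTU θ⁻¹ _ (adj_W1 hF hii hc).2.2.2 hθn
      have hw5 : w.1 ^ 5 = 1 := by
        rw [hwv, _root_.smul_pow, hW55, smul_smul, ← hθ, ← mul_pow, inv_mul_cancel₀ hθ0, one_pow, one_smul]
      have hw1 : w.1 ≠ 1 := fun h => by
        have := congr_fun (congr_fun h 2) 0
        simp [hwv, W5, hθ0] at this
      have hwN : C * w * C⁻¹ ∈ N := by
        refine mkN w pB (pA * pB * pC * pD) (pB * pC) ((-ι) • (pC * pD)) iB ?_ (((iA.mul iB).mul iC).mul iD) ?_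
          (iB.mul iC) ?_ ((iC.mul iD).smul hP (by rw [neg_pow, hι4]; norm_num)) ?_
        iterate 3
          · rw [hwv, Matrix.smul_mul, Matrix.mul_smul]
            congr 1
            ext i j
            fin_cases i <;> fin_cases j <;> simp [W5, Matrix.mul_apply, Fin.sum_univ_four, Matrix.diagonal, Matrix.vecHead, Matrix.vecTail]
        · rw [hwv, Matrix.smul_mul, Matrix.mul_smul]
          congr 1
          ext i j
          fin_cases i <;> fin_cases j <;> simp [W5, Matrix.mul_apply, Fin.sum_univ_four, Matrix.diagonal, hii]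
      obtain ⟨Q, hQ, hyQ⟩ := exists_model_five hF hnd htt htp hne ht2 hyadj hy (fun h => hyns 1 (by rw [h, one_smul]))
      obtain ⟨P, hPd, hwP⟩ := exists_model_five hF hnd htt htp hne ht2 ((mem_GU hF).mp hw) hw5 hw1
      exact finish' u y w hxy hyU hw hwN (conj_of_models hQ hPd hyQ hwP)
        (centraliser_det_five hF hq2 h2 htp hne hdisc ((mem_GU hF).mp hw) hPd hwP)

end Cfsg.Agent.S6001
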